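import Cfsg.Agent.H110.Fpr.FamL_m3
import Cfsg.Agent.H259.NatMod
import Cfsg.Agent.S2378
import Cfsg.Agent.S1054
import Cfsg.Agent.S1055
import Cfsg.Agent.S1059
import Cfsg.Agent.S1062
import Cfsg.Agent.S1063
import Cfsg.Agent.S1064
import Cfsg.Agent.S1065
import Cfsg.Agent.H398.FPR.Rad_m3
import Cfsg.Agent.H110.Fpr.Small
import Cfsg.Agent.H162.GaussExcMain
import Cfsg.Agent.FastGrp
import Cfsg.Agent.Prune
set_option linter.all false

section
prune_inst 0x7f00000000000000000000000000000000000000000000000000000000000000000000000000000000000000000000000000000000000000000000000000000000000000000000000000000000000000003fffffffffffffffffffffffffffaeffbdffffffff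

-- part: H441/FPR/Row
section
prune_inst 0x10000000000000
set_option linter.all false
open scoped Cfsg.Agent.FastGrp

-- part: H441/FPR/ETabC
section
/-!
# Table: `SL_8` in `E₈`
-/

set_option autoImplicit false
set_option maxRecDepth 100000

namespace Cfsg.Agent.H441.FPR

open Cfsg.Lie Cfsg.Agent.ChevalleyStructure Cfsg.Agent.ChevalleyStructure.Elts Cfsg.Agent.H79.SimpleGen Matrix
open Cfsg.Agent.H398.FPR Cfsg.Agent.TitsThree.KExcRT

/-! ### `E₈` -/

def R8d : List (List ℕ) := [[0, 120, 122, 125, 129, 134, 140, 168], [119, 0, 121, 124, 128, 133, 139, 167],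
  [117, 118, 0, 123, 127, 132, 138, 166], [114, 115, 116, 0, 126, 131, 137, 165],
  [110, 111, 112, 113, 0, 130, 136, 164], [105, 106, 107, 108, 109, 0, 135, 163],
  [99, 100, 101, 102, 103, 104, 0, 162], [71, 72, 73, 74, 75, 76, 77, 0]]
def r8d : Fin 8 → Fin 8 → ℕ := ![![0, 120, 122, 125, 129, 134, 140, 168], ![119, 0, 121, 124, 128, 133, 139, 167],
  ![117, 118, 0, 123, 127, 132, 138, 166], ![114, 115, 116, 0, 126, 131, 137, 165],
  ![110, 111, 112, 113, 0, 130, 136, 164], ![105, 106, 107, 108, 109, 0, 135, 163],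
  ![99, 100, 101, 102, 103, 104, 0, 162], ![71, 72, 73, 74, 75, 76, 77, 0]]
def g8d : Fin 1 → Fin 8 → ℕ := ![![239, 238, 237, 236, 235, 234, 233, 225]]
def h8d : Fin 0 → Fin 8 → ℕ := ![]
def Γ8d : List ℕ := List.range' 141 21 ++ List.range' 169 71
def st8d : List (ℕ × ℕ) := [239, 238, 237, 236, 235, 234, 233, 225].flatMap fun a =>
  [239, 238, 237, 236, 235, 234, 233, 225].map fun b => (a, 239 - b)

theorem nat8d : ∀ i, NatOK chevE8 r8d 1 (g8d i) (fun _ => 1) := Fc.nat_of (u := fun _ _ => 1) (by decide +kernel)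
theorem dual8d : ∀ i, NatOK chevE8 (fun a b => r8d b a) (-1) (fun a => chevE8.neg (g8d i a)) (fun _ => 1) :=
  Fc.nat_of (u := fun _ _ => 1) (g := fun i a => chevE8.neg (g8d i a)) (by rw [Fc.ng_eq]; decide +kernel)
theorem inv8d : ∀ k ∈ mkL R8d 8, Inv chevE8 Γ8d k := by
  unfold Inv; rw [Fc.ct_eq, Fc.ng_eq]; decide +kernel
theorem inv8d' : ∀ k ∈ mkL R8d 8, Inv chevE8 (Γ8d.map chevE8.neg) k := by
  unfold Inv; rw [Fc.ct_eq, Fc.ng_eq]; decide +kernel

theorem t8d : CB chevE8 r8d 1 g8d (fun _ _ => 1) (fun _ _ => 1) h8d (fun _ _ => 1) (fun _ _ => 1) Γ8d (fun _ => true)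
    (mkL R8d 8) (mkst R8d 8) st8d [(109, 142), (130, 97)] where
  rlt := by decide +kernel
  nat := nat8d
  dual := dual8d
  nat' := Fc.nat_of (by decide +kernel)
  dual' := Fc.nat_of (by rw [Fc.ng_eq]; decide +kernel)
  gmem := by decide +kernel
  hmem := by decide +kernel
  pos := fun k hk => Fc.pos_of (by revert k; decide +kernel)
  inv := inv8d
  inv' := inv8d'
  lg := by unfold gal gst; rw [Fc.ct_eq, Fc.ng_eq]; decide +kernel
  chain := by unfold gal gst S0; rw [Fc.ct_eq, Fc.ng_eq]; decide +kernel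
  gen := by unfold AllS gal gst; rw [Fc.ct_eq, Fc.ng_eq]; decide +kernel

theorem rt8d : RTa chevE8 r8d ∧ (RTb chevE8 r8d fun _ _ => 1) ∧ RTc chevE8 r8d ∧
    ∀ i j, i ≠ j → r8d j i = chevE8.neg (r8d i j) :=
  ⟨by decide +kernel, Fc.rtb_of (by decide +kernel), Fc.rtc_of (by decide +kernel), by rw [Fc.ng_eq]; decide +kernel⟩

end Cfsg.Agent.H441.FPR
end

-- part: H441/FPR/TorTab
section
/-!
# Torus elements: `F₄`, `G₂`
-/

set_option autoImplicit false
set_option maxRecDepth 100000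

namespace Cfsg.Agent.H441.FPR

open Cfsg.Lie Cfsg.Agent.ChevalleyStructure

theorem tor4 : TorOK chevF4 3 [25, 26, 28, 29, 30, 31, 35, 36, 37, 38, 41, 42, 46, 47]
    [(26, 22), (21, 25), (28, 22), (19, 25), (35, 19), (12, 28)] where
  rk := by decide +kernel
  pos := by decide +kernel
  lt := by decide +kernel
  refl := by decide +kernel
  refl' := by decide +kernel
  gen := by decide +kernel

theorem tor2 : TorOK chevG2 1 [7, 8, 10, 11] [(11, 1), (0, 10)] where
  rk := by decide +kernel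
  pos := by decide +kernel
  lt := by decide +kernel
  refl := by decide +kernel
  refl' := by decide +kernel
  gen := by decide +kernel

end Cfsg.Agent.H441.FPR
end

-- part: H441/FPR/GTwo
section
/-!
# `G₂(q)`, `p ∣ q + 1`
-/

set_option autoImplicit false
set_option maxRecDepth 100000

namespace Cfsg.Agent.H441.FPR

open Cfsg.Lie Cfsg.Agent.ChevalleyStructure Cfsg.Agent.ChevalleyStructure.Elts Cfsg.Agent.H79.SimpleGen Matrix
open Cfsg.Agent.H398.FPR Cfsg.Agent.TitsThree.KExcRT Cfsg.Agent.ChevalleyStructure.RootVec Cfsg.Agent.Nodes.RGDChev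
open Cfsg.Agent.KFacts.RgdChevCoord
open Cfsg.Agent.FixBN.FieldRGD (uu vv dd ww)

universe u

variable {K : Type u} [Field K] {D : ChevalleyDatum}

/-- a normal subgroup of `SL_2(q)`, `q > 3`, containing a noncentral element -/
theorem nc_top_two [Fintype K] (hq : 3 < Fintype.card K) {A : _root_.Matrix.SpecialLinearGroup (Fin 2) K}
    (hA : A ∉ Subgroup.center (_root_.Matrix.SpecialLinearGroup (Fin 2) K)) :
    ∀ N : Subgroup (_root_.Matrix.SpecialLinearGroup (Fin 2) K), N.Normal → A ∈ N → N = ⊤ := by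
  intro N hN hAN
  have hperf := Cfsg.Agent.H259.NatMod.commutator_eq_top (F := K) hq
  rcases Cfsg.Agent.S2540.normal_dichotomy hperf
    (Cfsg.Agent.LieClassical.SLGen.psl_isSimpleGroup_of_perfect hperf) N with h | h
  · exact absurd (h hAN) hA
  · exact h

/-- the special step of `G₂` -/
theorem g2_step (hD : InList D) [Fintype K] (hq : 2 < Fintype.card K) {M : Subgroup ↥(D.group K)} {r s k1 k2 k3 k4 : ℕ}
    {N1 N2 N3 N4 : ℤ} (hr : r < D.nroots) (hs : s < D.nroots) (hrs : s ≠ r) (hneg : s ≠ D.neg r)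
    (hl : D.commTerms r s = [(k1, N1, 1, 1), (k2, N2, 1, 2), (k3, N3, 1, 3), (k4, N4, 2, 3)])
    (hN1 : N1 * N1 = 1) (hN2 : N2 * N2 = 1)
    (h3 : ∀ t : K, xS hD k3 t ∈ M) (h4 : ∀ t : K, xS hD k4 t ∈ M)
    (h : ∀ t u : K, xS hD s u * xS hD r t * (xS hD s u)⁻¹ * (xS hD r t)⁻¹ ∈ M) :
    (∀ t : K, xS hD k1 t ∈ M) ∧ ∀ t : K, xS hD k2 t ∈ M := by
  classical
  have hw := wd_of_comm hD hr hs hrs hneg h
  have hNK1 : (N1 : K) * (N1 : K) = 1 := by rw [← Int.cast_mul, hN1, Int.cast_one]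
  have hNK2 : (N2 : K) * (N2 : K) = 1 := by rw [← Int.cast_mul, hN2, Int.cast_one]
  have hw2 : ∀ t u : K, xS hD k1 ((N1 : K) * (-t) ^ 1 * u ^ 1) * xS hD k2 ((N2 : K) * (-t) ^ 1 * u ^ 2) ∈ M := by
    intro t u
    have h1 := hw t u
    rw [hl, wd_cons, wd_cons, ← mul_assoc] at h1
    refine (Subgroup.mul_mem_cancel_right M ?_).1 h1
    refine wd_mem hD ?_ t u
    intro c hc t
    rcases List.mem_cons.1 hc with rfl | hc
    · exact h3 t
    · rw [List.mem_singleton.1 hc]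
      exact h4 t
  obtain ⟨b, hb⟩ : ∃ b : K, b ∉ ({0, 1} : Finset K) := by
    by_contra hcon
    push Not at hcon
    have h5 : (Finset.univ : Finset K) ⊆ {0, 1} := fun x _ => hcon x
    have h6 := Finset.card_le_card h5
    rw [Finset.card_univ] at h6
    have h7 : ({0, 1} : Finset K).card ≤ 2 := Finset.card_le_two
    omega
  rw [Finset.mem_insert, Finset.mem_singleton, not_or] at hb
  have hk2 : ∀ t : K, xS hD k2 t ∈ M := by
    intro t
    have hb1 : b - 1 ≠ 0 := sub_ne_zero.2 hb.2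
    have e1 := hw2 (-((N2 : K) * t / (b - 1))) 1
    have e2 := hw2 (-((N2 : K) * t / (b - 1) / b)) b
    have e3 := mul_mem (inv_mem e1) e2
    rw [_root_.neg_neg, _root_.neg_neg] at e3
    have f1 : (N1 : K) * ((N2 : K) * t / (b - 1) / b) ^ 1 * b ^ 1 = (N1 : K) * ((N2 : K) * t / (b - 1)) ^ 1 * 1 ^ 1 := by
      have := hb.1
      field_simp
    rw [f1] at e3
    have f2 : (xS hD k1 ((N1 : K) * ((N2 : K) * t / (b - 1)) ^ 1 * 1 ^ 1) *
        xS hD k2 ((N2 : K) * ((N2 : K) * t / (b - 1)) ^ 1 * 1 ^ 2))⁻¹ *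
        (xS hD k1 ((N1 : K) * ((N2 : K) * t / (b - 1)) ^ 1 * 1 ^ 1) *
          xS hD k2 ((N2 : K) * ((N2 : K) * t / (b - 1) / b) ^ 1 * b ^ 2)) =
        (xS hD k2 ((N2 : K) * ((N2 : K) * t / (b - 1)) ^ 1 * 1 ^ 2))⁻¹ *
          xS hD k2 ((N2 : K) * ((N2 : K) * t / (b - 1) / b) ^ 1 * b ^ 2) := by group
    rw [f2, xS_inv, xS_mul] at e3
    have f3 : -((N2 : K) * ((N2 : K) * t / (b - 1)) ^ 1 * 1 ^ 2) + (N2 : K) * ((N2 : K) * t / (b - 1) / b) ^ 1 * b ^ 2 =
        t := by
      have hb0 := hb.1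
      have f4 : (N2 : K) * ((N2 : K) * t / (b - 1) / b) ^ 1 * b ^ 2 = (N2 : K) * ((N2 : K) * t / (b - 1)) * b := by
        field_simp
      rw [f4]
      have f5 : -((N2 : K) * ((N2 : K) * t / (b - 1)) ^ 1 * 1 ^ 2) + (N2 : K) * ((N2 : K) * t / (b - 1)) * b =
          ((N2 : K) * (N2 : K)) * (t / (b - 1) * (b - 1)) := by ring
      rw [f5, hNK2, one_mul, div_mul_cancel₀ t hb1]
    rwa [f3] at e3
  refine ⟨fun t => ?_, hk2⟩
  have e1 := hw2 (-((N1 : K) * t)) 1
  have e2 := (Subgroup.mul_mem_cancel_right M (hk2 _)).1 e1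
  rwa [_root_.neg_neg, pow_one, one_pow, mul_one, ← mul_assoc, hNK1, one_mul] at e2

/-- the roots of `SL_2` -/
def r2 : Fin 2 → Fin 2 → ℕ := ![![0, 6], ![5, 0]]

theorem nat2 : NatOK chevG2 r2 1 ![11, 10] ![1, 1] := by decide +kernel

theorem dual2 : NatOK chevG2 (fun a b => r2 b a) (-1) (fun a => chevG2.neg ((![11, 10] : Fin 2 → ℕ) a)) ![1, 1] := by
  decide +kernel

theorem g2_type : IsType chevG2 2 CoxeterMatrix.G₂ := by simp [IsType, typeList]

theorem r2_lt : ∀ a b, a ≠ b → r2 a b < chevG2.nroots := by decide +kernel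

theorem g2_hom : ∃ φ : _root_.Matrix.SpecialLinearGroup (Fin 2) K →* ↥(chevG2.group K), ∀ a b (hab : a ≠ b) c,
    φ (SpecialLinearGroup.transvection hab c) = xS g2_type.inList (r2 a b) (((1 : ℤ) : K) * c) := by
  obtain ⟨φ, hu, hv, -⟩ := Cfsg.Agent.OddHalf.NI.ModelChev.exists_sl g2_type (K := K) (r := 6) (by decide +kernel)
  refine ⟨φ, fun a b hab c => ?_⟩
  rw [Int.cast_one, one_mul]
  fin_cases a <;> fin_cases b
  · exact absurd rfl hab
  · have h1 : SpecialLinearGroup.transvection hab c = uu c := by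
      apply Subtype.ext
      change Matrix.transvection _ _ c = !![1, c; 0, 1]
      ext i j
      (revert i j; simp only [Matrix.transvection, _root_.Fin.forall_fin_succ, _root_.Fin.zero_eta, Fin.isValue, _root_.Fin.mk_one, _root_.Matrix.add_apply, _root_.Matrix.of_apply, _root_.Matrix.cons_val', _root_.Matrix.cons_val_fin_one, _root_.one_ne_zero, _root_.and_false, _root_.not_false_eq_true, _root_.Matrix.single_apply_of_ne, _root_.add_zero, _root_.Matrix.cons_val_zero, _root_.Matrix.cons_val_succ, _root_.Fin.succ_zero_eq_one, _root_.IsEmpty.forall_iff, _root_.and_true, _root_.Matrix.one_apply_eq, Nat.reduceAdd, _root_.ne_eq, _root_.zero_ne_one, _root_.Matrix.one_apply_ne, _root_.Matrix.single_apply_same, _root_.zero_add, _root_.and_self, _root_.Fin.succ_ne_zero, _root_.true_and])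
    rw [h1, hu]
    apply Subtype.ext
    rw [coe_xc g2_type (by decide +kernel)]
    rfl
  · have h1 : SpecialLinearGroup.transvection hab c = vv c := by
      apply Subtype.ext
      change Matrix.transvection _ _ c = !![1, 0; c, 1]
      ext i j
      (revert i j; simp only [Matrix.transvection, _root_.Fin.forall_fin_succ, _root_.Fin.mk_one, Fin.isValue, _root_.Fin.zero_eta, _root_.Matrix.add_apply, _root_.Matrix.of_apply, _root_.Matrix.cons_val', _root_.Matrix.cons_val_fin_one, _root_.Matrix.cons_val_zero, _root_.Matrix.cons_val_succ, _root_.Fin.succ_zero_eq_one, _root_.zero_ne_one, _root_.and_false, _root_.not_false_eq_true, _root_.Matrix.single_apply_of_ne, _root_.add_zero, _root_.IsEmpty.forall_iff, _root_.and_true, _root_.Matrix.one_apply_eq, _root_.one_ne_zero, Nat.reduceAdd, _root_.ne_eq, _root_.Matrix.one_apply_ne, _root_.and_self, _root_.Fin.succ_ne_zero, _root_.zero_add, _root_.Matrix.single_apply_same])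
    rw [h1, hv, ← _root_.Cfsg.Agent.Nodes.RGDChev.vec_neg g2_type (by decide +kernel)]
    apply Subtype.ext
    rw [coe_xc g2_type (by decide +kernel)]
    rfl
  · exact absurd rfl hab

theorem g2_pos : ∀ k ∈ [7, 8, 9, 10, 11], chevG2.IsPosRoot k ∧ chevG2.IsNegRoot (chevG2.neg k) := by decide +kernel

theorem g2_inv : ∀ k ∈ [6, 5], Inv chevG2 [7, 8, 9, 10, 11] k ∧
    Inv chevG2 ([7, 8, 9, 10, 11].map chevG2.neg) k := by decide +kernel

theorem r2_mem : ∀ a b, a ≠ b → r2 a b ∈ gal chevG2 [] [] [6, 5] [] := by decide +kernel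

/-- `G₂(q)`, `q > 3`, `p` odd dividing `q + 1` -/
theorem g2_two [Fintype K] {r0 : ℕ} [Fact r0.Prime] [CharP K r0] (hq : 3 < Fintype.card K) {p : ℕ} (hp : p.Prime)
    (hpK : (p : K) ≠ 0) (h1 : orderOf (Fintype.card K : ZMod p) ≠ 1) (hn : orderOf (Fintype.card K : ZMod p) ∣ 2) :
    TR r0 p ↥(chevG2.group K) := by
  have hD := g2_type.inList
  have hfin : Finite ↥(chevG2.group K) := inferInstance
  obtain ⟨φ, hφ⟩ := g2_hom (K := K)
  obtain ⟨A, hA1, hA2⟩ := exists_sl_free hp hpK h1 hn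
  have hnc := nc_top_two hq (not_center_of_free hp (not_dvd_of_ord h1) hA1 hA2)
  have hx : φ A ^ p ^ 1 = 1 := by rw [← map_pow, hA1, map_one]
  have hr0 : r0.Prime := Fact.out
  let φ' : _root_.Matrix.SpecialLinearGroup (Fin 2) K →* ↥(chevG2.group K) := φ.comp (itr 2 K)
  have hφ' : ∀ a b (hab : a ≠ b) c, φ' (SpecialLinearGroup.transvection hab c) =
      xS hD (r2 b a) (((-1 : ℤ) : K) * c) := by
    intro a b hab c
    change φ (itr 2 K _) = _
    rw [itr_transvection, hφ, Int.cast_neg]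
    congr 1
    ring
  have hxA : φ A = φ' (itr 2 K A) := by
    change _ = φ (itr 2 K (itr 2 K A))
    rw [itr_itr]
  have hr' : ∀ a b, a ≠ b → r2 b a < chevG2.nroots := fun a b hab => r2_lt b a hab.symm
  obtain ⟨U1, hU1⟩ : ∃ U1, U1 = UG hD K [7, 8, 9, 10, 11] := ⟨_, rfl⟩
  obtain ⟨U2, hU2⟩ : ∃ U2, U2 = UG hD K ([7, 8, 9, 10, 11].map chevG2.neg) := ⟨_, rfl⟩
  have hc1 : ∀ z, ∀ y ∈ U1, φ z * y * (φ z)⁻¹ ∈ U1 := by
    intro z
    rw [hU1]
    exact conj_UG hD hφ (fun k hk => (g2_inv k hk).1) r2_mem z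
  have hc2 : ∀ z, ∀ y ∈ U2, φ z * y * (φ z)⁻¹ ∈ U2 := by
    intro z
    rw [hU2]
    exact conj_UG hD hφ (fun k hk => (g2_inv k hk).2) r2_mem z
  have hp1 : IsPGroup r0 U1 := by
    rw [hU1]
    exact UG_pos hD r0 fun k hk => (g2_pos k hk).1
  have hp2' : IsPGroup r0 U2 := by
    rw [hU2]
    refine UG_neg hD r0 fun k hk => ?_
    obtain ⟨k', hk', rfl⟩ := List.mem_map.1 hk
    exact (g2_pos k' hk').2
  obtain ⟨P1, Q1⟩ := pair_comm hp hr0 (ne_char hpK) hx hp1 (hc1 A)
  obtain ⟨P2, Q2⟩ := pair_comm hp hr0 (ne_char hpK) hx hp2' (hc2 A)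
  refine ⟨0, 1, φ A, _, _, hx, fun h => absurd h (ne_two_of_ord hp hpK h1), P1, P2, Q1, Q2, ?_⟩
  obtain ⟨M, hM⟩ : ∃ M, M = Subgroup.closure (({φ A} ∪
    ((⁅U1, Subgroup.zpowers (φ A)⁆ : Subgroup ↥(chevG2.group K)) : Set ↥(chevG2.group K))) ∪
    ((⁅U2, Subgroup.zpowers (φ A)⁆ : Subgroup ↥(chevG2.group K)) : Set ↥(chevG2.group K))) := ⟨_, rfl⟩
  rw [← hM]
  have hM1 : ∀ y ∈ U1, φ A * y * (φ A)⁻¹ * y⁻¹ ∈ M := by
    intro y hy
    rw [hM]
    exact Subgroup.subset_closure (Or.inl (Or.inr (mem_comm_zpowers hy)))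
  have hM2 : ∀ y ∈ U2, φ A * y * (φ A)⁻¹ * y⁻¹ ∈ M := by
    intro y hy
    rw [hM]
    exact Subgroup.subset_closure (Or.inr (mem_comm_zpowers hy))
  have hg1 : ∀ a, ∀ t : K, xS hD ((![11, 10] : Fin 2 → ℕ) a) t ∈ U1 := by
    intro a t
    rw [hU1]
    refine xS_mem_UG hD ?_ t
    (revert a; decide +kernel)
  have hg2 : ∀ a, ∀ t : K, xS hD (chevG2.neg ((![11, 10] : Fin 2 → ℕ) a)) t ∈ U2 := by
    intro a t
    rw [hU2]
    refine xS_mem_UG hD (List.mem_map_of_mem ?_) t
    (revert a; decide +kernel)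
  have hS1 : ∀ a, ∀ t : K, xS hD ((![11, 10] : Fin 2 → ℕ) a) t ∈ M := by
    intro a t
    obtain ⟨y, hy, hyt⟩ := natpart hD nat2 r2_lt hφ (a := a) (fun t => exists_sub hA2 _) hg1 t
    rw [← hyt]
    exact hM1 y hy
  have hS2 : ∀ a, ∀ t : K, xS hD (chevG2.neg ((![11, 10] : Fin 2 → ℕ) a)) t ∈ M := by
    intro a t
    obtain ⟨y, hy, hyt⟩ := natpart hD dual2 hr' hφ' (a := a) (fun t => exists_sub (itr_free hA2) _) hg2 t
    rw [← hyt, ← hxA]
    exact hM2 y hy
  have hneg : chevG2.neg 11 = 0 ∧ chevG2.neg 10 = 1 := by decide +kernel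
  have hS : ∀ k ∈ [11, 10, 1, 0], ∀ t : K, xS hD k t ∈ M := by
    intro k hk t
    simp only [List.mem_cons, List.not_mem_nil, or_false] at hk
    rcases hk with rfl | rfl | rfl | rfl
    · exact hS1 0 t
    · exact hS1 1 t
    · have h3 := hS2 1 t
      change xS hD (chevG2.neg 10) t ∈ M at h3
      rwa [hneg.2] at h3
    · have h3 := hS2 0 t
      change xS hD (chevG2.neg 11) t ∈ M at h3
      rwa [hneg.1] at h3
  have hS' := gal_sound hD (M := M) (L := []) (Γ := []) (fun r hr => absurd hr List.not_mem_nil) [(11, 1), (0, 10)] hS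
  have hgal : ∀ k ∈ [6, 5, 11, 10, 1, 0], k ∈ gal chevG2 [] [] [11, 10, 1, 0] [(11, 1), (0, 10)] := by decide +kernel
  have hS'' : ∀ k ∈ [6, 5, 11, 10, 1, 0], ∀ t : K, xS hD k t ∈ M := fun k hk t => hS' k (hgal k hk) t
  have hφM : ∀ z, φ z ∈ M := by
    intro z
    have h1 : (⊤ : Subgroup (_root_.Matrix.SpecialLinearGroup (Fin 2) K)) ≤ M.comap φ := by
      rw [← Cfsg.Agent.LieClassical.SLGen.closure_transvections, Subgroup.closure_le]
      rintro _ ⟨a, b, hab, c, rfl⟩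
      change φ _ ∈ M
      rw [hφ]
      refine hS'' _ ?_ _
      revert hab
      revert a b
      decide +kernel
    exact h1 (Subgroup.mem_top z)
  have hn1 := nc_mem hc1 hφM hM1 hnc
  have hn2 := nc_mem hc2 hφM hM2 hnc
  have hone : ∀ a b, a ≠ b → ∀ t : K, ∃ z, xS hD (r2 a b) t = φ z := by
    intro a b hab t
    refine ⟨SpecialLinearGroup.transvection hab t, ?_⟩
    rw [hφ, Int.cast_one, one_mul]
  have hcm : ∀ {r s : ℕ} {t v : K}, (xS hD r t * xS hD s v * (xS hD r t)⁻¹ * (xS hD s v)⁻¹ ∈ M) →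
      xS hD s v * xS hD r t * (xS hD s v)⁻¹ * (xS hD r t)⁻¹ ∈ M := by
    intro r s t v h
    have h2 : xS hD s v * xS hD r t * (xS hD s v)⁻¹ * (xS hD r t)⁻¹ =
        (xS hD r t * xS hD s v * (xS hD r t)⁻¹ * (xS hD s v)⁻¹)⁻¹ := by group
    rw [h2]
    exact inv_mem h
  have h67 : ∀ t u : K, xS hD 7 u * xS hD 6 t * (xS hD 7 u)⁻¹ * (xS hD 6 t)⁻¹ ∈ M := by
    intro t u
    apply hcm
    obtain ⟨z, hz⟩ := hone 0 1 (by decide) t
    change xS hD 6 t = φ z at hz
    rw [hz]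
    exact hn1 z _ (by rw [hU1]; exact xS_mem_UG hD (by decide) u)
  have h54 : ∀ t u : K, xS hD 4 u * xS hD 5 t * (xS hD 4 u)⁻¹ * (xS hD 5 t)⁻¹ ∈ M := by
    intro t u
    apply hcm
    obtain ⟨z, hz⟩ := hone 1 0 (by decide) t
    change xS hD 5 t = φ z at hz
    rw [hz]
    exact hn2 z _ (by rw [hU2]; exact xS_mem_UG hD (by decide +kernel) u)
  have hq2 : 2 < Fintype.card K := by omega
  obtain ⟨m8, m9⟩ := g2_step hD hq2 (M := M) (r := 6) (s := 7) (k1 := 8) (k2 := 9) (k3 := 10) (k4 := 11)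
    (N1 := 1) (N2 := 1) (N3 := -1) (N4 := -2) (by decide +kernel) (by decide +kernel) (by decide) (by decide +kernel)
    (by decide +kernel) (by decide) (by decide) (hS'' 10 (by decide)) (hS'' 11 (by decide)) h67
  obtain ⟨m3, m2⟩ := g2_step hD hq2 (M := M) (r := 5) (s := 4) (k1 := 3) (k2 := 2) (k3 := 1) (k4 := 0)
    (N1 := -1) (N2 := 1) (N3 := 1) (N4 := -2) (by decide +kernel) (by decide +kernel) (by decide) (by decide +kernel)
    (by decide +kernel) (by decide) (by decide) (hS'' 1 (by decide)) (hS'' 0 (by decide)) h54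
  have hT : ∀ k ∈ [6, 5, 11, 10, 9, 8, 3, 2, 1, 0], ∀ t : K, xS hD k t ∈ M := by
    intro k hk t
    simp only [List.mem_cons, List.not_mem_nil, or_false] at hk
    rcases hk with rfl | rfl | rfl | rfl | rfl | rfl | rfl | rfl | rfl | rfl
    · exact hS'' 6 (by decide) t
    · exact hS'' 5 (by decide) t
    · exact hS'' 11 (by decide) t
    · exact hS'' 10 (by decide) t
    · exact m9 t
    · exact m8 t
    · exact m3 t
    · exact m2 t
    · exact hS'' 1 (by decide) t
    · exact hS'' 0 (by decide) t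
  have hT' := gal_sound hD (M := M) (L := []) (Γ := []) (fun r hr => absurd hr List.not_mem_nil) [(5, 8), (6, 3)] hT
  have hfin : AllS chevG2 (gal chevG2 [] [] [6, 5, 11, 10, 9, 8, 3, 2, 1, 0] [(5, 8), (6, 3)]) := by decide +kernel
  exact eq_top_of_simple hD M (fun i hi => hT' _ (hfin i hi).1) (fun i hi => hT' _ (hfin i hi).2)

end Cfsg.Agent.H441.FPR
end

-- part: H441/FPR/Trans
section
/-!
# A noncentral `p`-element of the Levi subgroup
-/

set_option autoImplicit false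
set_option maxRecDepth 100000

namespace Cfsg.Agent.H441.FPR

open Subgroup

/-- a group generated by `p'`-elements with order divisible by `p` has a noncentral `p`-element -/
theorem exists_noncentral {L : Type*} [Group L] [Finite L] {p : ℕ} [Fact p.Prime] (hdvd : p ∣ Nat.card L)
    {S : Set L} (hS : Subgroup.closure S = ⊤) (hS' : ∀ s ∈ S, ∃ m : ℕ, s ^ m = 1 ∧ p.Coprime m) :
    ∃ x : L, (∃ k : ℕ, x ^ p ^ k = 1) ∧ x ∉ Subgroup.center L := by
  by_contra hcon
  push Not at hcon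
  obtain ⟨P⟩ : Nonempty (Sylow p L) := inferInstance
  have hcen : (P : Subgroup L) ≤ Subgroup.center L := by
    intro x hx
    obtain ⟨k, hk⟩ := P.2 ⟨x, hx⟩
    exact hcon x ⟨k, congrArg Subtype.val hk⟩
  have hle : Subgroup.normalizer ((P : Subgroup L) : Set L) ≤ Subgroup.centralizer ((P : Subgroup L) : Set L) := by
    intro y _
    rw [Subgroup.mem_centralizer_iff]
    intro x hx
    exact (Subgroup.mem_center_iff.1 (hcen hx) y).symm
  have hker := MonoidHom.ker_transferSylow_isComplement' P hle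
  have htop : (MonoidHom.transferSylow P hle).ker = ⊤ := by
    rw [eq_top_iff, ← hS, Subgroup.closure_le]
    intro s hs
    obtain ⟨m, hm, hpm⟩ := hS' s hs
    change MonoidHom.transferSylow P hle s = 1
    obtain ⟨k, hk⟩ := P.2 (MonoidHom.transferSylow P hle s)
    have h1 : (MonoidHom.transferSylow P hle s) ^ m = 1 := by rw [← map_pow, hm, map_one]
    have h2 : orderOf (MonoidHom.transferSylow P hle s) ∣ Nat.gcd (p ^ k) m :=
      Nat.dvd_gcd (orderOf_dvd_of_pow_eq_one hk) (orderOf_dvd_of_pow_eq_one h1)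
    rw [(hpm.pow_left k), Nat.dvd_one, orderOf_eq_one_iff] at h2
    exact h2
  rw [htop] at hker
  have h3 := hker.card_mul_card
  rw [Subgroup.card_top] at h3
  have h4 : Nat.card (P : Subgroup L) = 1 := by
    have h5 : 0 < Nat.card L := Nat.card_pos
    exact Nat.eq_of_mul_eq_mul_left h5 (by rw [h3, mul_one])
  have h6 := P.dvd_card_of_dvd_card hdvd
  have h7 : p ∣ 1 := by rw [← h4]; exact h6
  exact (Fact.out : p.Prime).one_lt.ne' (Nat.dvd_one.1 h7)

/-! ### Transitivity on the nonzero vectors -/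

section Reach

variable {K : Type*} [Field K]

def mv27 (t : K) (v : Fin 4 → K) : Fin 4 → K := ![v 0, v 1 + t * v 0, v 2, v 3 + t * v 2]
def mv20 (t : K) (v : Fin 4 → K) : Fin 4 → K := ![v 0 + t * v 1, v 1, v 2 + t * v 3, v 3]
def mv25 (t : K) (v : Fin 4 → K) : Fin 4 → K := ![v 0, v 1, v 2 + t * v 1, v 3]
def mv22 (t : K) (v : Fin 4 → K) : Fin 4 → K := ![v 0, v 1 + t * v 2, v 2, v 3]

theorem reach {P : (Fin 4 → K) → Prop} (h0 : P ![1, 0, 0, 0]) (h27 : ∀ t v, P (mv27 t v) → P v)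
    (h20 : ∀ t v, P (mv20 t v) → P v) (h25 : ∀ t v, P (mv25 t v) → P v) (h22 : ∀ t v, P (mv22 t v) → P v) :
    ∀ v, v ≠ 0 → P v := by
  have a27 : ∀ t a b c d : K, P ![a, b + t * a, c, d + t * c] → P ![a, b, c, d] := fun t a b c d h => h27 t _ h
  have a20 : ∀ t a b c d : K, P ![a + t * b, b, c + t * d, d] → P ![a, b, c, d] := fun t a b c d h => h20 t _ h
  have a25 : ∀ t a b c d : K, P ![a, b, c + t * b, d] → P ![a, b, c, d] := fun t a b c d h => h25 t _ h
  have a22 : ∀ t a b c d : K, P ![a, b + t * c, c, d] → P ![a, b, c, d] := fun t a b c d h => h22 t _ h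
  -- step 2
  have s1 : ∀ t : K, P ![1, t, 0, 0] := by
    intro t
    apply a27 (-t)
    have e1 : t + -t * 1 = 0 := by ring
    have e2 : (0 : K) + -t * 0 = 0 := by ring
    rw [e1, e2]
    exact h0
  have s2 : ∀ t c : K, t ≠ 0 → P ![1, t, c, 0] := by
    intro t c ht
    apply a25 (-c / t)
    have e1 : c + -c / t * t = 0 := by field_simp; ring
    rw [e1]
    exact s1 t
  have s3 : ∀ c d : K, c ≠ 0 → P ![1, 0, c, d] := by
    intro c d hc
    by_cases hd : d = 0
    · subst hd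
      apply a22 (1 / c)
      have e1 : 0 + 1 / c * c = 1 := by field_simp; ring
      rw [e1]
      exact s2 1 c one_ne_zero
    · apply a27 (-d / c)
      have e1 : d + -d / c * c = 0 := by field_simp; ring
      rw [e1]
      refine s2 _ _ ?_
      rw [zero_add, mul_one]
      exact div_ne_zero (neg_ne_zero.2 hd) hc
  have s4 : ∀ c d : K, P ![1, 0, c, d] := by
    intro c d
    by_cases hc : c = 0
    · subst hc
      by_cases hd : d = 0
      · subst hd
        exact h0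
      · apply a20 1
        have e1 : (1 : K) + 1 * 0 = 1 := by ring
        have e2 : (0 : K) + 1 * d = d := by ring
        rw [e1, e2]
        exact s3 d d hd
    · exact s3 c d hc
  have s5 : ∀ a b c d : K, b ≠ 0 → P ![a, b, c, d] := by
    intro a b c d hb
    apply a20 ((1 - a) / b)
    have e1 : a + (1 - a) / b * b = 1 := by field_simp; ring
    rw [e1]
    apply a27 (-b)
    have e2 : b + -b * 1 = 0 := by ring
    rw [e2]
    exact s4 _ _
  have s6 : ∀ a c d : K, a ≠ 0 → P ![a, 0, c, d] := by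
    intro a c d ha
    apply a27 (1 / a)
    refine s5 _ _ _ _ ?_
    have e1 : 0 + 1 / a * a = 1 := by field_simp; ring
    rw [e1]
    exact one_ne_zero
  intro v hv
  have hv4 : v = ![v 0, v 1, v 2, v 3] := by
    funext i
    fin_cases i <;> rfl
  rw [hv4]
  by_cases h1 : v 1 = 0
  · by_cases h2 : v 0 = 0
    · by_cases h3 : v 2 = 0
      · have h4 : v 3 ≠ 0 := by
          intro h4
          apply hv
          rw [hv4, h1, h2, h3, h4]
          funext i
          fin_cases i <;> rfl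
        apply a20 1
        apply a22 1
        refine s5 _ _ _ _ ?_
        rw [h1, h3, zero_add, zero_add, one_mul, one_mul]
        exact h4
      · apply a22 1
        refine s5 _ _ _ _ ?_
        rw [h1, zero_add, one_mul]
        exact h3
    · rw [h1]
      exact s6 _ _ _ h2
  · exact s5 _ _ _ _ h1

end Reach

end Cfsg.Agent.H441.FPR
end

-- part: H441/FPR/FFour
section
/-!
# `F₄(q)`, `q` even, `p` dividing `q² + 1`
-/

set_option autoImplicit false
set_option maxRecDepth 100000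

namespace Cfsg.Agent.H441.FPR

open Cfsg.Lie Cfsg.Agent.ChevalleyStructure Cfsg.Agent.ChevalleyStructure.Elts Cfsg.Agent.H79.SimpleGen Matrix
open Cfsg.Agent.H398.FPR Cfsg.Agent.TitsThree.KExcRT Cfsg.Agent.ChevalleyStructure.RootVec Cfsg.Agent.Nodes.RGDChev
open Cfsg.Agent.KFacts.RgdChevCoord

universe u

variable {K : Type u} [Field K]

/-! ### The sections -/

def L4 : List ℕ := [25, 27, 22, 20]
def χ0 : List (ℕ × ℤ) := [(0, 2), (1, 3), (2, 4), (3, 2)]
def χ3 : List (ℕ × ℤ) := [(0, 1), (1, 2), (2, 3), (3, 2)]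
def χ0' : List (ℕ × ℤ) := [(0, -2), (1, -3), (2, -4), (3, -2)]
def χ3' : List (ℕ × ℤ) := [(0, -1), (1, -2), (2, -3), (3, -2)]

def sA : Fin 4 → ℕ := ![33, 34, 35, 37]
def sC : Fin 4 → ℕ := ![36, 38, 39, 40]
def sB : Fin 4 → ℕ := ![24, 26, 31, 32]
def sD : Fin 4 → ℕ := ![42, 43, 45, 46]
def sA' : Fin 4 → ℕ := ![14, 13, 12, 10]
def sC' : Fin 4 → ℕ := ![11, 9, 8, 7]
def sB' : Fin 4 → ℕ := ![23, 21, 16, 15]
def sD' : Fin 4 → ℕ := ![5, 4, 2, 1]

theorem tA : SecOK chevF4 sA 41 L4 χ0 := by constructor <;> decide +kernel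
theorem tC : SecOK chevF4 sC 47 L4 χ0 := by constructor <;> decide +kernel
theorem tB : SecOK chevF4 sB 29 L4 χ3 := by constructor <;> decide +kernel
theorem tD : SecOK chevF4 sD 44 L4 χ3 := by constructor <;> decide +kernel
theorem tA' : SecOK chevF4 sA' 6 L4 χ0' := by constructor <;> decide +kernel
theorem tC' : SecOK chevF4 sC' 0 L4 χ0' := by constructor <;> decide +kernel
theorem tB' : SecOK chevF4 sB' 18 L4 χ3' := by constructor <;> decide +kernel
theorem tD' : SecOK chevF4 sD' 3 L4 χ3' := by constructor <;> decide +kernel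

/-! ### The order of the Levi subgroup -/

section Mv

variable (hD : InList chevF4) (h2 : (2 : K) = 0)

theorem conj_one {r k j : ℕ} (hr : r < chevF4.nroots) (hk : k < chevF4.nroots) (hrk : k ≠ r)
    (hneg : k ≠ chevF4.neg r) (h : chevF4.commTerms r k = [(j, 1, 1, 1)]) (t u : K) :
    xS hD r t * xS hD k u * (xS hD r t)⁻¹ = xS hD k u * xS hD j (t * u) := by
  rw [conj_word hD hr hk hrk hneg, h, wd_cons]
  have h1 : wd hD ([] : List (ℕ × ℤ × ℕ × ℕ)) (-t) u = (1 : ↥(chevF4.group K)) := rfl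
  rw [h1, mul_one]
  congr 2
  push_cast
  ring

theorem conj_nil {r k : ℕ} (hr : r < chevF4.nroots) (hk : k < chevF4.nroots) (hrk : k ≠ r)
    (hneg : k ≠ chevF4.neg r) (h : chevF4.commTerms r k = []) (t u : K) :
    xS hD r t * xS hD k u * (xS hD r t)⁻¹ = xS hD k u := by
  rw [conj_word hD hr hk hrk hneg, h]
  have h1 : wd hD ([] : List (ℕ × ℤ × ℕ × ℕ)) (-t) u = (1 : ↥(chevF4.group K)) := rfl
  rw [h1, mul_one]

theorem conj_two {r k j i : ℕ} {N : ℤ} (hr : r < chevF4.nroots) (hk : k < chevF4.nroots) (hrk : k ≠ r)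
    (hneg : k ≠ chevF4.neg r) (h : chevF4.commTerms r k = [(j, 1, 1, 1), (i, N, 1, 2)]) (t u : K) :
    ∃ s : K, xS hD r t * xS hD k u * (xS hD r t)⁻¹ = xS hD k u * xS hD j (t * u) * xS hD i s := by
  refine ⟨(N : K) * (-(-t)) ^ 1 * u ^ 2, ?_⟩
  rw [conj_word hD hr hk hrk hneg, h, wd_cons, wd_cons]
  have h1 : wd hD ([] : List (ℕ × ℤ × ℕ × ℕ)) (-t) u = (1 : ↥(chevF4.group K)) := rfl
  rw [h1, mul_one, ← mul_assoc]
  congr 3
  push_cast
  ring

/-- the elements of the section `A` -/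
noncomputable def PA (v : Fin 4 → K) (s : K) : ↥(chevF4.group K) := spsi hD tA h2 (Multiplicative.ofAdd (v, s))

theorem PA_add (v w : Fin 4 → K) (s t : K) : PA hD h2 (v + w) (s + t) = PA hD h2 v s * PA hD h2 w t := by
  unfold PA
  rw [← map_mul]
  rfl

theorem PA_single (i : Fin 4) (t : K) : PA hD h2 (Pi.single i t) 0 = xS hD (sA i) t := spsi_single hD tA h2 i t

theorem PA_zero (s : K) : PA hD h2 0 s = xS hD 41 s := spsi_zero hD tA h2 s

theorem mv_gen {g : ↥(chevF4.group K)} (hg : ∀ s : K, Commute g (xS hD 41 s)) {σ : (Fin 4 → K) → (Fin 4 → K)}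
    (hσ : ∀ v w, σ (v + w) = σ v + σ w)
    (h : ∀ i u, ∃ s, g * xS hD (sA i) u * g⁻¹ = PA hD h2 (σ (Pi.single i u)) s) (v : Fin 4 → K) (s : K) :
    ∃ s', g * PA hD h2 v s * g⁻¹ = PA hD h2 (σ v) s' := by
  have h0 : σ 0 = 0 := by
    have h1 := hσ 0 0
    rw [add_zero] at h1
    exact (add_eq_left.1 h1.symm)
  have key : ∀ v, ∃ s', g * PA hD h2 v 0 * g⁻¹ = PA hD h2 (σ v) s' := by
    intro v
    refine vec_induction (P := fun v => ∃ s', g * PA hD h2 v 0 * g⁻¹ = PA hD h2 (σ v) s') ?_ ?_ ?_ v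
    · refine ⟨0, ?_⟩
      rw [h0, PA_zero, xS_zero]
      group
    · rintro v w ⟨s1, e1⟩ ⟨s2, e2⟩
      refine ⟨s1 + s2, ?_⟩
      rw [hσ, PA_add, ← e1, ← e2]
      have h3 := PA_add hD h2 v w 0 0
      rw [add_zero] at h3
      rw [h3]
      group
    · intro i u
      rw [PA_single]
      exact h i u
  obtain ⟨s1, e1⟩ := key v
  refine ⟨s1 + s, ?_⟩
  have h3 := PA_add hD h2 v 0 0 s
  rw [add_zero, zero_add] at h3
  have h4 := PA_add hD h2 (σ v) 0 s1 s
  rw [add_zero] at h4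
  rw [h3, h4, ← e1, PA_zero]
  have h5 := (hg s).eq
  calc g * (PA hD h2 v 0 * xS hD 41 s) * g⁻¹ = g * PA hD h2 v 0 * g⁻¹ * (g * xS hD 41 s) * g⁻¹ := by group
    _ = _ := by rw [h5]; group

theorem PA_two (i j : Fin 4) (u w s : K) : PA hD h2 (Pi.single i u + Pi.single j w) s =
    xS hD (sA i) u * xS hD (sA j) w * xS hD 41 s := by
  have h1 := PA_add hD h2 (Pi.single i u + Pi.single j w) 0 0 s
  rw [add_zero, zero_add] at h1
  have h3 := PA_add hD h2 (Pi.single i u) (Pi.single j w) 0 0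
  rw [add_zero] at h3
  rw [h1, h3, PA_single, PA_single, PA_zero]

include h2 in
theorem hg41 {k : ℕ} (hk : k ∈ L4) (t s : K) : Commute (xS hD k t) (xS hD 41 s) := (tA.cz k hk).comm hD h2 t s

theorem mv_27 (t : K) (v : Fin 4 → K) (s : K) :
    ∃ s', xS hD 27 t * PA hD h2 v s * (xS hD 27 t)⁻¹ = PA hD h2 (mv27 t v) s' := by
  refine mv_gen hD h2 (hg41 hD h2 (by decide) t) (σ := mv27 t) ?_ ?_ v s
  · intro v w
    funext i
    (revert i; simp only [mv27, _root_.Fin.forall_fin_succ, Fin.isValue, _root_.Pi.add_apply, _root_.Matrix.cons_val_zero, _root_.Matrix.cons_val_succ, _root_.Matrix.cons_val_fin_one, _root_.forall_const, _root_.true_and]) <;> (repeat' with_reducible apply And.intro) <;> ring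
  · intro i u
    fin_cases i
    · have e1 : mv27 t (Pi.single 0 u) = Pi.single 0 u + Pi.single 1 (t * u) := by
        funext i
        (revert i; simp only [mv27, _root_.Fin.forall_fin_succ, Fin.isValue, _root_.Pi.single_eq_same, _root_.ne_eq, _root_.one_ne_zero, _root_.not_false_eq_true, _root_.Pi.single_eq_of_ne, _root_.zero_add, Fin.reduceEq, _root_.MulZeroClass.mul_zero, _root_.add_zero, _root_.Pi.add_apply, _root_.Matrix.cons_val_zero, _root_.zero_ne_one, _root_.Matrix.cons_val_succ, _root_.Fin.succ_ne_zero, _root_.Fin.succ_zero_eq_one, _root_.Fin.succ_one_eq_two, _root_.Matrix.cons_val_fin_one, Fin.reduceSucc, _root_.IsEmpty.forall_iff, _root_.and_self])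
      refine ⟨0, ?_⟩
      change _ = PA hD h2 (mv27 t (Pi.single 0 u)) 0
      rw [e1, PA_two, xS_zero, mul_one]
      exact conj_one hD (by decide +kernel) (by decide +kernel) (by decide +kernel) (by decide +kernel)
        (by decide +kernel) t u
    · have e1 : mv27 t (Pi.single 1 u) = Pi.single 1 u := by
        funext i
        (revert i; simp only [mv27, _root_.Fin.forall_fin_succ, Fin.isValue, _root_.ne_eq, _root_.zero_ne_one, _root_.not_false_eq_true, _root_.Pi.single_eq_of_ne, _root_.Pi.single_eq_same, _root_.MulZeroClass.mul_zero, _root_.add_zero, Fin.reduceEq, _root_.Matrix.cons_val_zero, _root_.Matrix.cons_val_succ, _root_.Fin.succ_zero_eq_one, _root_.Fin.succ_one_eq_two, _root_.Matrix.cons_val_fin_one, Fin.reduceSucc, _root_.IsEmpty.forall_iff, _root_.and_self])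
      refine ⟨0, ?_⟩
      change _ = PA hD h2 (mv27 t (Pi.single 1 u)) 0
      rw [e1, PA_single]
      exact conj_nil hD (by decide +kernel) (by decide +kernel) (by decide +kernel) (by decide +kernel)
        (by decide +kernel) t u
    · have e1 : mv27 t (Pi.single 2 u) = Pi.single 2 u + Pi.single 3 (t * u) := by
        funext i
        (revert i; simp only [mv27, _root_.Fin.forall_fin_succ, Fin.isValue, _root_.ne_eq, Fin.reduceEq, _root_.not_false_eq_true, _root_.Pi.single_eq_of_ne, _root_.MulZeroClass.mul_zero, _root_.add_zero, _root_.Pi.single_eq_same, _root_.zero_add, _root_.Pi.add_apply, _root_.Matrix.cons_val_zero, _root_.Matrix.cons_val_succ, _root_.Fin.succ_zero_eq_one, _root_.Fin.succ_one_eq_two, _root_.Matrix.cons_val_fin_one, Fin.reduceSucc, _root_.IsEmpty.forall_iff, _root_.and_self])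
      refine ⟨0, ?_⟩
      change _ = PA hD h2 (mv27 t (Pi.single 2 u)) 0
      rw [e1, PA_two, xS_zero, mul_one]
      exact conj_one hD (by decide +kernel) (by decide +kernel) (by decide +kernel) (by decide +kernel)
        (by decide +kernel) t u
    · have e1 : mv27 t (Pi.single 3 u) = Pi.single 3 u := by
        funext i
        (revert i; simp only [mv27, _root_.Fin.forall_fin_succ, Fin.isValue, _root_.ne_eq, Fin.reduceEq, _root_.not_false_eq_true, _root_.Pi.single_eq_of_ne, _root_.MulZeroClass.mul_zero, _root_.add_zero, _root_.Pi.single_eq_same, _root_.Matrix.cons_val_zero, _root_.Matrix.cons_val_succ, _root_.Fin.succ_zero_eq_one, _root_.Fin.succ_one_eq_two, _root_.Matrix.cons_val_fin_one, Fin.reduceSucc, _root_.IsEmpty.forall_iff, _root_.and_self])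
      refine ⟨0, ?_⟩
      change _ = PA hD h2 (mv27 t (Pi.single 3 u)) 0
      rw [e1, PA_single]
      exact conj_nil hD (by decide +kernel) (by decide +kernel) (by decide +kernel) (by decide +kernel)
        (by decide +kernel) t u

theorem mv_20 (t : K) (v : Fin 4 → K) (s : K) :
    ∃ s', xS hD 20 t * PA hD h2 v s * (xS hD 20 t)⁻¹ = PA hD h2 (mv20 t v) s' := by
  refine mv_gen hD h2 (hg41 hD h2 (by decide) t) (σ := mv20 t) ?_ ?_ v s
  · intro v w
    funext i
    (revert i; simp only [mv20, _root_.Fin.forall_fin_succ, Fin.isValue, _root_.Pi.add_apply, _root_.Matrix.cons_val_zero, _root_.Matrix.cons_val_succ, _root_.Matrix.cons_val_fin_one, _root_.implies_true, _root_.and_true, _root_.true_and]) <;> (repeat' with_reducible apply And.intro) <;> ring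
  · intro i u
    fin_cases i
    · have e1 : mv20 t (Pi.single 0 u) = Pi.single 0 u := by
        funext i
        (revert i; simp only [mv20, _root_.Fin.forall_fin_succ, Fin.isValue, _root_.Pi.single_eq_same, _root_.ne_eq, _root_.one_ne_zero, _root_.not_false_eq_true, _root_.Pi.single_eq_of_ne, _root_.MulZeroClass.mul_zero, _root_.add_zero, Fin.reduceEq, _root_.Matrix.cons_val_zero, _root_.Matrix.cons_val_succ, _root_.Fin.succ_ne_zero, _root_.Matrix.cons_val_fin_one, _root_.implies_true, _root_.and_self])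
      refine ⟨0, ?_⟩
      change _ = PA hD h2 (mv20 t (Pi.single 0 u)) 0
      rw [e1, PA_single]
      exact conj_nil hD (by decide +kernel) (by decide +kernel) (by decide +kernel) (by decide +kernel)
        (by decide +kernel) t u
    · have e1 : mv20 t (Pi.single 1 u) = Pi.single 1 u + Pi.single 0 (t * u) := by
        funext i
        (revert i; simp only [mv20, _root_.Fin.forall_fin_succ, Fin.isValue, _root_.ne_eq, _root_.zero_ne_one, _root_.not_false_eq_true, _root_.Pi.single_eq_of_ne, _root_.Pi.single_eq_same, _root_.zero_add, Fin.reduceEq, _root_.MulZeroClass.mul_zero, _root_.add_zero, _root_.Pi.add_apply, _root_.Matrix.cons_val_zero, _root_.Matrix.cons_val_succ, _root_.Fin.succ_ne_zero, _root_.Fin.succ_zero_eq_one, _root_.Fin.succ_one_eq_two, _root_.Matrix.cons_val_fin_one, Fin.reduceSucc, _root_.IsEmpty.forall_iff, _root_.and_self])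
      refine ⟨0, ?_⟩
      change _ = PA hD h2 (mv20 t (Pi.single 1 u)) 0
      rw [e1, PA_two, xS_zero, mul_one]
      exact conj_one hD (by decide +kernel) (by decide +kernel) (by decide +kernel) (by decide +kernel)
        (by decide +kernel) t u
    · have e1 : mv20 t (Pi.single 2 u) = Pi.single 2 u := by
        funext i
        (revert i; simp only [mv20, _root_.Fin.forall_fin_succ, Fin.isValue, _root_.ne_eq, Fin.reduceEq, _root_.not_false_eq_true, _root_.Pi.single_eq_of_ne, _root_.MulZeroClass.mul_zero, _root_.add_zero, _root_.Pi.single_eq_same, _root_.Matrix.cons_val_zero, _root_.Matrix.cons_val_succ, _root_.Fin.succ_zero_eq_one, _root_.Fin.succ_one_eq_two, _root_.Matrix.cons_val_fin_one, Fin.reduceSucc, _root_.IsEmpty.forall_iff, _root_.and_self])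
      refine ⟨0, ?_⟩
      change _ = PA hD h2 (mv20 t (Pi.single 2 u)) 0
      rw [e1, PA_single]
      exact conj_nil hD (by decide +kernel) (by decide +kernel) (by decide +kernel) (by decide +kernel)
        (by decide +kernel) t u
    · have e1 : mv20 t (Pi.single 3 u) = Pi.single 3 u + Pi.single 2 (t * u) := by
        funext i
        (revert i; simp only [mv20, _root_.Fin.forall_fin_succ, Fin.isValue, _root_.ne_eq, Fin.reduceEq, _root_.not_false_eq_true, _root_.Pi.single_eq_of_ne, _root_.MulZeroClass.mul_zero, _root_.add_zero, _root_.Pi.single_eq_same, _root_.zero_add, _root_.Pi.add_apply, _root_.Matrix.cons_val_zero, _root_.Matrix.cons_val_succ, _root_.Fin.succ_zero_eq_one, _root_.Fin.succ_one_eq_two, _root_.Matrix.cons_val_fin_one, Fin.reduceSucc, _root_.IsEmpty.forall_iff, _root_.and_self])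
      refine ⟨0, ?_⟩
      change _ = PA hD h2 (mv20 t (Pi.single 3 u)) 0
      rw [e1, PA_two, xS_zero, mul_one]
      exact conj_one hD (by decide +kernel) (by decide +kernel) (by decide +kernel) (by decide +kernel)
        (by decide +kernel) t u

theorem mv_25 (t : K) (v : Fin 4 → K) (s : K) :
    ∃ s', xS hD 25 t * PA hD h2 v s * (xS hD 25 t)⁻¹ = PA hD h2 (mv25 t v) s' := by
  refine mv_gen hD h2 (hg41 hD h2 (by decide) t) (σ := mv25 t) ?_ ?_ v s
  · intro v w
    funext i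
    (revert i; simp only [mv25, _root_.Fin.forall_fin_succ, Fin.isValue, _root_.Pi.add_apply, _root_.Matrix.cons_val_zero, _root_.Matrix.cons_val_succ, _root_.Matrix.cons_val_fin_one, _root_.implies_true, _root_.and_true, _root_.true_and]) <;> (repeat' with_reducible apply And.intro) <;> ring
  · intro i u
    fin_cases i
    · have e1 : mv25 t (Pi.single 0 u) = Pi.single 0 u := by
        funext i
        (revert i; simp only [mv25, _root_.Fin.forall_fin_succ, Fin.isValue, _root_.Pi.single_eq_same, _root_.ne_eq, _root_.one_ne_zero, _root_.not_false_eq_true, _root_.Pi.single_eq_of_ne, Fin.reduceEq, _root_.MulZeroClass.mul_zero, _root_.add_zero, _root_.Matrix.cons_val_zero, _root_.Matrix.cons_val_succ, _root_.Fin.succ_ne_zero, _root_.Matrix.cons_val_fin_one, _root_.implies_true, _root_.and_self])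
      refine ⟨0, ?_⟩
      change _ = PA hD h2 (mv25 t (Pi.single 0 u)) 0
      rw [e1, PA_single]
      exact conj_nil hD (by decide +kernel) (by decide +kernel) (by decide +kernel) (by decide +kernel)
        (by decide +kernel) t u
    · have e1 : mv25 t (Pi.single 1 u) = Pi.single 1 u + Pi.single 2 (t * u) := by
        funext i
        (revert i; simp only [mv25, _root_.Fin.forall_fin_succ, Fin.isValue, _root_.ne_eq, _root_.zero_ne_one, _root_.not_false_eq_true, _root_.Pi.single_eq_of_ne, _root_.Pi.single_eq_same, Fin.reduceEq, _root_.zero_add, _root_.Pi.add_apply, _root_.Matrix.cons_val_zero, _root_.add_zero, _root_.Matrix.cons_val_succ, _root_.Fin.succ_zero_eq_one, _root_.Fin.succ_one_eq_two, _root_.Matrix.cons_val_fin_one, Fin.reduceSucc, _root_.IsEmpty.forall_iff, _root_.and_self])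
      change ∃ s, _ = PA hD h2 (mv25 t (Pi.single 1 u)) s
      rw [e1]
      simp only [PA_two]
      exact conj_two hD (N := 1) (by decide +kernel) (by decide +kernel) (by decide +kernel) (by decide +kernel)
        (by decide +kernel) t u
    · have e1 : mv25 t (Pi.single 2 u) = Pi.single 2 u := by
        funext i
        (revert i; simp only [mv25, _root_.Fin.forall_fin_succ, Fin.isValue, _root_.ne_eq, Fin.reduceEq, _root_.not_false_eq_true, _root_.Pi.single_eq_of_ne, _root_.Pi.single_eq_same, _root_.MulZeroClass.mul_zero, _root_.add_zero, _root_.Matrix.cons_val_zero, _root_.Matrix.cons_val_succ, _root_.Fin.succ_zero_eq_one, _root_.Fin.succ_one_eq_two, _root_.Matrix.cons_val_fin_one, Fin.reduceSucc, _root_.IsEmpty.forall_iff, _root_.and_self])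
      refine ⟨0, ?_⟩
      change _ = PA hD h2 (mv25 t (Pi.single 2 u)) 0
      rw [e1, PA_single]
      exact conj_nil hD (by decide +kernel) (by decide +kernel) (by decide +kernel) (by decide +kernel)
        (by decide +kernel) t u
    · have e1 : mv25 t (Pi.single 3 u) = Pi.single 3 u := by
        funext i
        (revert i; simp only [mv25, _root_.Fin.forall_fin_succ, Fin.isValue, _root_.ne_eq, Fin.reduceEq, _root_.not_false_eq_true, _root_.Pi.single_eq_of_ne, _root_.MulZeroClass.mul_zero, _root_.add_zero, _root_.Pi.single_eq_same, _root_.Matrix.cons_val_zero, _root_.Matrix.cons_val_succ, _root_.Fin.succ_zero_eq_one, _root_.Fin.succ_one_eq_two, _root_.Matrix.cons_val_fin_one, Fin.reduceSucc, _root_.IsEmpty.forall_iff, _root_.and_self])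
      refine ⟨0, ?_⟩
      change _ = PA hD h2 (mv25 t (Pi.single 3 u)) 0
      rw [e1, PA_single]
      exact conj_nil hD (by decide +kernel) (by decide +kernel) (by decide +kernel) (by decide +kernel)
        (by decide +kernel) t u

theorem mv_22 (t : K) (v : Fin 4 → K) (s : K) :
    ∃ s', xS hD 22 t * PA hD h2 v s * (xS hD 22 t)⁻¹ = PA hD h2 (mv22 t v) s' := by
  refine mv_gen hD h2 (hg41 hD h2 (by decide) t) (σ := mv22 t) ?_ ?_ v s
  · intro v w
    funext i
    (revert i; simp only [mv22, _root_.Fin.forall_fin_succ, Fin.isValue, _root_.Pi.add_apply, _root_.Matrix.cons_val_zero, _root_.Matrix.cons_val_succ, _root_.Matrix.cons_val_fin_one, _root_.implies_true, _root_.and_self, _root_.and_true, _root_.true_and]) <;> (repeat' with_reducible apply And.intro) <;> ring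
  · intro i u
    fin_cases i
    · have e1 : mv22 t (Pi.single 0 u) = Pi.single 0 u := by
        funext i
        (revert i; simp only [mv22, _root_.Fin.forall_fin_succ, Fin.isValue, _root_.Pi.single_eq_same, _root_.ne_eq, _root_.one_ne_zero, _root_.not_false_eq_true, _root_.Pi.single_eq_of_ne, Fin.reduceEq, _root_.MulZeroClass.mul_zero, _root_.add_zero, _root_.Matrix.cons_val_zero, _root_.Matrix.cons_val_succ, _root_.Fin.succ_ne_zero, _root_.Matrix.cons_val_fin_one, _root_.implies_true, _root_.and_self])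
      refine ⟨0, ?_⟩
      change _ = PA hD h2 (mv22 t (Pi.single 0 u)) 0
      rw [e1, PA_single]
      exact conj_nil hD (by decide +kernel) (by decide +kernel) (by decide +kernel) (by decide +kernel)
        (by decide +kernel) t u
    · have e1 : mv22 t (Pi.single 1 u) = Pi.single 1 u := by
        funext i
        (revert i; simp only [mv22, _root_.Fin.forall_fin_succ, Fin.isValue, _root_.ne_eq, _root_.zero_ne_one, _root_.not_false_eq_true, _root_.Pi.single_eq_of_ne, _root_.Pi.single_eq_same, Fin.reduceEq, _root_.MulZeroClass.mul_zero, _root_.add_zero, _root_.Matrix.cons_val_zero, _root_.Matrix.cons_val_succ, _root_.Fin.succ_zero_eq_one, _root_.Fin.succ_one_eq_two, _root_.Matrix.cons_val_fin_one, Fin.reduceSucc, _root_.IsEmpty.forall_iff, _root_.and_self])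
      refine ⟨0, ?_⟩
      change _ = PA hD h2 (mv22 t (Pi.single 1 u)) 0
      rw [e1, PA_single]
      exact conj_nil hD (by decide +kernel) (by decide +kernel) (by decide +kernel) (by decide +kernel)
        (by decide +kernel) t u
    · have e1 : mv22 t (Pi.single 2 u) = Pi.single 2 u + Pi.single 1 (t * u) := by
        funext i
        (revert i; simp only [mv22, _root_.Fin.forall_fin_succ, Fin.isValue, _root_.ne_eq, Fin.reduceEq, _root_.not_false_eq_true, _root_.Pi.single_eq_of_ne, _root_.Pi.single_eq_same, _root_.zero_add, _root_.Pi.add_apply, _root_.Matrix.cons_val_zero, _root_.zero_ne_one, _root_.add_zero, _root_.Matrix.cons_val_succ, _root_.Fin.succ_zero_eq_one, _root_.Fin.succ_one_eq_two, _root_.Matrix.cons_val_fin_one, Fin.reduceSucc, _root_.IsEmpty.forall_iff, _root_.and_self])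
      change ∃ s, _ = PA hD h2 (mv22 t (Pi.single 2 u)) s
      rw [e1]
      simp only [PA_two]
      exact conj_two hD (N := -1) (by decide +kernel) (by decide +kernel) (by decide +kernel) (by decide +kernel)
        (by decide +kernel) t u
    · have e1 : mv22 t (Pi.single 3 u) = Pi.single 3 u := by
        funext i
        (revert i; simp only [mv22, _root_.Fin.forall_fin_succ, Fin.isValue, _root_.ne_eq, Fin.reduceEq, _root_.not_false_eq_true, _root_.Pi.single_eq_of_ne, _root_.MulZeroClass.mul_zero, _root_.add_zero, _root_.Pi.single_eq_same, _root_.Matrix.cons_val_zero, _root_.Matrix.cons_val_succ, _root_.Fin.succ_zero_eq_one, _root_.Fin.succ_one_eq_two, _root_.Matrix.cons_val_fin_one, Fin.reduceSucc, _root_.IsEmpty.forall_iff, _root_.and_self])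
      refine ⟨0, ?_⟩
      change _ = PA hD h2 (mv22 t (Pi.single 3 u)) 0
      rw [e1, PA_single]
      exact conj_nil hD (by decide +kernel) (by decide +kernel) (by decide +kernel) (by decide +kernel)
        (by decide +kernel) t u

theorem PA_ker {v : Fin 4 → K} {s : K} (h : PA hD h2 v 0 = xS hD 41 s) : v = 0 := by
  by_contra hv
  have hcl : ∀ (g : ↥(chevF4.group K)) (w w' : Fin 4 → K), (∀ s : K, Commute g (xS hD 41 s)) →
      (∃ s', g * PA hD h2 w 0 * g⁻¹ = PA hD h2 w' s') → (∃ s, PA hD h2 w 0 = xS hD 41 s) →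
      ∃ s, PA hD h2 w' 0 = xS hD 41 s := by
    rintro g w w' hg ⟨s', e1⟩ ⟨s, e2⟩
    refine ⟨s - s', ?_⟩
    rw [e2, (hg s).eq, mul_inv_cancel_right] at e1
    have h3 := PA_add hD h2 w' 0 0 s'
    rw [add_zero, zero_add, PA_zero] at h3
    rw [h3] at e1
    rw [sub_eq_add_neg, ← xS_mul, e1, ← xS_inv, mul_inv_cancel_right]
  have h1 := reach (P := fun w => (∃ s, PA hD h2 w 0 = xS hD 41 s) → ∃ s, PA hD h2 ![1, 0, 0, 0] 0 = xS hD 41 s)
    id (fun t w h3 h4 => h3 (hcl _ _ _ (hg41 hD h2 (by decide) t) (mv_27 hD h2 t w 0) h4))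
    (fun t w h3 h4 => h3 (hcl _ _ _ (hg41 hD h2 (by decide) t) (mv_20 hD h2 t w 0) h4))
    (fun t w h3 h4 => h3 (hcl _ _ _ (hg41 hD h2 (by decide) t) (mv_25 hD h2 t w 0) h4))
    (fun t w h3 h4 => h3 (hcl _ _ _ (hg41 hD h2 (by decide) t) (mv_22 hD h2 t w 0) h4)) v hv ⟨s, h⟩
  obtain ⟨s, hs⟩ := h1
  have e0 : (![1, 0, 0, 0] : Fin 4 → K) = Pi.single 0 1 := by
    funext i
    (revert i; simp only [_root_.Fin.forall_fin_succ, _root_.Nat.succ_eq_add_one, Nat.reduceAdd, Fin.isValue, _root_.Matrix.cons_val_zero, _root_.Pi.single_eq_same, _root_.Matrix.cons_val_succ, _root_.ne_eq, _root_.Fin.succ_ne_zero, _root_.not_false_eq_true, _root_.Pi.single_eq_of_ne, _root_.Matrix.cons_val_fin_one, _root_.implies_true, _root_.and_self])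
  rw [e0, PA_single] at hs
  change xS hD 33 1 = _ at hs
  have h3 := conj_one hD (K := K) (r := 27) (k := 33) (j := 34) (by decide +kernel) (by decide +kernel)
    (by decide +kernel) (by decide +kernel) (by decide +kernel) 1 1
  have h4 := hg41 hD h2 (k := 27) (by decide) 1 s
  have h5 : xS hD 27 1 * xS hD 33 1 * (xS hD 27 1)⁻¹ = xS hD 33 (1 : K) := by
    rw [hs, h4.eq, mul_inv_cancel_right]
  rw [h5, mul_one] at h3
  have h6 : xS hD 34 (1 : K) = 1 := mul_eq_left.1 h3.symm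
  exact one_ne_zero (xS_eq_one hD (by decide +kernel) h6)

theorem PA_inj {v w : Fin 4 → K} {s t : K} (h : PA hD h2 v s = PA hD h2 w t) : v = w := by
  have h1 := PA_add hD h2 (v - w) w (s - t) t
  rw [sub_add_cancel, sub_add_cancel, h] at h1
  have h3 : PA hD h2 (v - w) (s - t) = 1 := mul_eq_right.1 h1.symm
  have h4 := PA_add hD h2 (v - w) 0 0 (s - t)
  rw [add_zero, zero_add, h3, PA_zero] at h4
  have h5 : PA hD h2 (v - w) 0 = xS hD 41 (-(s - t)) := by
    rw [← xS_inv]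
    exact (eq_inv_of_mul_eq_one_left h4.symm :)
  exact sub_eq_zero.1 (PA_ker hD h2 h5)

variable [Fintype K]

theorem exists_conjA (g : ↥(UG hD K L4)) (v : Fin 4 → K) :
    ∃ w, ∃ s, (g : ↥(chevF4.group K)) * PA hD h2 v 0 * (g : ↥(chevF4.group K))⁻¹ = PA hD h2 w s := by
  have hrange := spsi_range hD tA h2 (K := K)
  have h1 := UG_conj hD g.2 tA.inv (PA hD h2 v 0) (by rw [← hrange]; exact ⟨_, rfl⟩)
  rw [← hrange] at h1
  obtain ⟨w, hw⟩ := h1
  exact ⟨w.toAdd.1, w.toAdd.2, hw.symm⟩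

/-- the action on the section -/
noncomputable def smA (g : ↥(UG hD K L4)) (v : Fin 4 → K) : Fin 4 → K := (exists_conjA hD h2 g v).choose

theorem smA_spec (g : ↥(UG hD K L4)) (v : Fin 4 → K) :
    ∃ s, (g : ↥(chevF4.group K)) * PA hD h2 v 0 * (g : ↥(chevF4.group K))⁻¹ = PA hD h2 (smA hD h2 g v) s :=
  (exists_conjA hD h2 g v).choose_spec

theorem smA_eq {g : ↥(UG hD K L4)} {v w : Fin 4 → K} {s : K}
    (h : (g : ↥(chevF4.group K)) * PA hD h2 v 0 * (g : ↥(chevF4.group K))⁻¹ = PA hD h2 w s) : smA hD h2 g v = w := by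
  obtain ⟨s', h'⟩ := smA_spec hD h2 g v
  exact PA_inj hD h2 (h'.symm.trans h)

include h2 in
theorem comm41 (g : ↥(UG hD K L4)) (s : K) : Commute (g : ↥(chevF4.group K)) (xS hD 41 s) :=
  UG_comm hD g.2 fun _ hk t => hg41 hD h2 hk t s

/-- the action -/
@[instance_reducible]
noncomputable def actA : MulAction ↥(UG hD K L4) (Fin 4 → K) where
  smul g v := smA hD h2 g v
  one_smul v := by
    apply smA_eq hD h2 (s := 0)
    change 1 * PA hD h2 v 0 * 1⁻¹ = _
    group
  mul_smul g g' v := by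
    obtain ⟨s1, e1⟩ := smA_spec hD h2 g' v
    obtain ⟨s2, e2⟩ := smA_spec hD h2 g (smA hD h2 g' v)
    apply smA_eq hD h2 (s := s2 + s1)
    change (g : ↥(chevF4.group K)) * (g' : ↥(chevF4.group K)) * PA hD h2 v 0 * ((g : ↥(chevF4.group K)) * g')⁻¹ = _
    have h3 : ∀ (w : Fin 4 → K) (s : K), PA hD h2 w s = PA hD h2 w 0 * xS hD 41 s := by
      intro w s
      have h4 := PA_add hD h2 w 0 0 s
      rwa [add_zero, zero_add, PA_zero] at h4
    have h5 := (comm41 hD h2 g s1).eq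
    calc (g : ↥(chevF4.group K)) * (g' : ↥(chevF4.group K)) * PA hD h2 v 0 * ((g : ↥(chevF4.group K)) * g')⁻¹ =
        (g : ↥(chevF4.group K)) * (g' * PA hD h2 v 0 * (g' : ↥(chevF4.group K))⁻¹) * (g : ↥(chevF4.group K))⁻¹ := by group
      _ = (g : ↥(chevF4.group K)) * PA hD h2 (smA hD h2 g' v) 0 * (xS hD 41 s1 * (g : ↥(chevF4.group K))⁻¹) := by
          rw [e1, h3 _ s1]; group
      _ = (g * PA hD h2 (smA hD h2 g' v) 0 * (g : ↥(chevF4.group K))⁻¹) * xS hD 41 s1 := by
          have h6 : xS hD 41 s1 * (g : ↥(chevF4.group K))⁻¹ = (g : ↥(chevF4.group K))⁻¹ * xS hD 41 s1 := by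
            rw [eq_inv_mul_iff_mul_eq, ← mul_assoc, h5, mul_inv_cancel_right]
          rw [h6]; group
      _ = PA hD h2 (smA hD h2 g (smA hD h2 g' v)) (s2 + s1) := by
          rw [e2, h3 _ s2, h3 _ (s2 + s1), mul_assoc, xS_mul]

include h2 in
seal _root_.Finset.sum _root_.dotProduct in
/-- the order of the Levi subgroup is divisible by `q⁴ - 1` -/
theorem card_levi : Fintype.card K ^ 4 - 1 ∣ Nat.card ↥(UG hD K L4) := by
  classical
  letI := actA hD h2 (K := K)
  have hsm : ∀ (g : ↥(UG hD K L4)) (v : Fin 4 → K), g • v = smA hD h2 g v := fun g v => rfl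
  have e0 : (![1, 0, 0, 0] : Fin 4 → K) ≠ 0 := by
    intro h
    have h1 := congrFun h 0
    exact one_ne_zero h1
  have hcl : ∀ (k : ℕ) (hk : k ∈ L4) (t : K) (v w : Fin 4 → K),
      (∃ s', xS hD k t * PA hD h2 v 0 * (xS hD k t)⁻¹ = PA hD h2 w s') →
      w ∈ MulAction.orbit ↥(UG hD K L4) (![1, 0, 0, 0] : Fin 4 → K) →
      v ∈ MulAction.orbit ↥(UG hD K L4) (![1, 0, 0, 0] : Fin 4 → K) := by
    rintro k hk t v w ⟨s, hs⟩ hw
    have h1 : (⟨xS hD k t, xS_mem_UG hD hk t⟩ : ↥(UG hD K L4)) • v = w := smA_eq hD h2 hs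
    have h3 : v = (⟨xS hD k t, xS_mem_UG hD hk t⟩ : ↥(UG hD K L4))⁻¹ • w := by rw [← h1, inv_smul_smul]
    rw [h3]
    obtain ⟨a, ha⟩ := hw
    exact ⟨(⟨xS hD k t, xS_mem_UG hD hk t⟩ : ↥(UG hD K L4))⁻¹ * a, by rw [← ha]; exact mul_smul _ _ _⟩
  have horb : MulAction.orbit ↥(UG hD K L4) (![1, 0, 0, 0] : Fin 4 → K) = {v | v ≠ 0} := by
    ext v
    constructor
    · rintro ⟨g, rfl⟩ h0
      change g • (![1, 0, 0, 0] : Fin 4 → K) = 0 at h0
      rw [hsm] at h0
      obtain ⟨s, hs⟩ := smA_spec hD h2 g ![1, 0, 0, 0]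
      rw [h0, PA_zero, mul_inv_eq_iff_eq_mul, ← (comm41 hD h2 g s).eq] at hs
      exact e0 (PA_ker hD h2 (mul_left_cancel hs))
    · intro hv
      exact reach (P := fun v => v ∈ MulAction.orbit ↥(UG hD K L4) (![1, 0, 0, 0] : Fin 4 → K))
        (MulAction.mem_orbit_self _) (fun t w h => hcl 27 (by decide) t w _ (mv_27 hD h2 t w 0) h)
        (fun t w h => hcl 20 (by decide) t w _ (mv_20 hD h2 t w 0) h)
        (fun t w h => hcl 25 (by decide) t w _ (mv_25 hD h2 t w 0) h)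
        (fun t w h => hcl 22 (by decide) t w _ (mv_22 hD h2 t w 0) h) v hv
  have h1 : Nat.card ↥(MulAction.orbit ↥(UG hD K L4) (![1, 0, 0, 0] : Fin 4 → K)) = Fintype.card K ^ 4 - 1 := by
    rw [horb]
    have h3 : Nat.card {v : Fin 4 → K | v ≠ 0} = Fintype.card {v : Fin 4 → K // v ≠ 0} := Nat.card_eq_fintype_card
    rw [h3, Fintype.card_subtype_compl, Fintype.card_fun, Fintype.card_fin, Fintype.card_subtype_eq]
  rw [← h1, Nat.card_congr (MulAction.orbitEquivQuotientStabilizer _ _)]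
  exact Subgroup.card_quotient_dvd_card _

end Mv

end Cfsg.Agent.H441.FPR
end

-- part: H441/FPR/FFourB
section
/-!
# `F₄(q)`, `q` even, `p` dividing `q² + 1` : two radicals
-/

set_option autoImplicit false
set_option maxRecDepth 100000

namespace Cfsg.Agent.H441.FPR

open Cfsg.Lie Cfsg.Agent.ChevalleyStructure Cfsg.Agent.ChevalleyStructure.Elts Cfsg.Agent.H79.SimpleGen Matrix
open Cfsg.Agent.H398.FPR Cfsg.Agent.TitsThree.KExcRT Cfsg.Agent.ChevalleyStructure.RootVec Cfsg.Agent.Nodes.RGDChev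
open Cfsg.Agent.KFacts.RgdChevCoord

universe u

variable {K : Type u} [Field K] {D : ChevalleyDatum}

/-- one term -/
theorem single_mem (hD : InList D) {M : Subgroup ↥(D.group K)} {r s k : ℕ} {N : ℤ} (hr : r < D.nroots)
    (hs : s < D.nroots) (hrs : s ≠ r) (hneg : s ≠ D.neg r) (h : D.commTerms r s = [(k, N, 1, 1)]) (hN : N * N = 1)
    (hc : ∀ t u : K, xS hD s u * xS hD r t * (xS hD s u)⁻¹ * (xS hD r t)⁻¹ ∈ M) (t : K) : xS hD k t ∈ M := by
  have hw := wd_of_comm hD hr hs hrs hneg hc (-((N : K) * t)) 1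
  have hNK : (N : K) * (N : K) = 1 := by rw [← Int.cast_mul, hN, Int.cast_one]
  have h1 : wd hD ([] : List (ℕ × ℤ × ℕ × ℕ)) (-((N : K) * t)) 1 = (1 : ↥(D.group K)) := rfl
  rw [h, wd_cons, h1, mul_one] at hw
  have h2 : (N : K) * (-(-((N : K) * t))) ^ 1 * 1 ^ 1 = t := by
    rw [_root_.neg_neg, pow_one, one_pow, mul_one, ← mul_assoc, hNK, one_mul]
  change xS hD k ((N : K) * (-(-((N : K) * t))) ^ 1 * 1 ^ 1) ∈ M at hw
  rwa [h2] at hw

/-- commutators of two live sections -/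
theorem lift_pair (hD : InList D) (h2 : (2 : K) = 0) {M : Subgroup ↥(D.group K)} {x : ↥(D.group K)}
    {Γ1 Γ2 : List ℕ} {z1 z2 : ℕ}
    (al1 : Alive hD x Γ1 z1) (al2 : Alive hD x Γ2 z2)
    (hM1 : ⁅UG hD K Γ1, Subgroup.zpowers x⁆ ≤ M) (hM2 : ⁅UG hD K Γ2, Subgroup.zpowers x⁆ ≤ M)
    (hn1 : ⁅UG hD K Γ1, Subgroup.zpowers x⁆ ≤ UG hD K Γ1)
    (c1 : ∀ k ∈ Γ2, EvC D z1 k) (c2 : ∀ k ∈ Γ1, EvC D z2 k) {a c : ℕ} (ha : a ∈ Γ1) (hc : c ∈ Γ2) (t u : K) :
    xS hD a t * xS hD c u * (xS hD a t)⁻¹ * (xS hD c u)⁻¹ ∈ M := by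
  obtain ⟨m1, hm1, s1, e1⟩ := al1 _ (xS_mem_UG hD ha t)
  obtain ⟨m2, hm2, s2, e2⟩ := al2 _ (xS_mem_UG hD hc u)
  have k1 : ∀ y ∈ UG hD K Γ2, Commute y (xS hD z1 s1) := fun y hy =>
    UG_comm hD hy fun k hk t => ((c1 k hk).comm hD h2 s1 t).symm
  have k2 : ∀ y ∈ UG hD K Γ1, Commute y (xS hD z2 s2) := fun y hy =>
    UG_comm hD hy fun k hk t => ((c2 k hk).comm hD h2 s2 t).symm
  have j1 := (k1 _ (xS_mem_UG hD hc u)).eq
  have j2 := (k2 _ (hn1 hm1)).eq
  have e3 : xS hD a t * xS hD c u * (xS hD a t)⁻¹ * (xS hD c u)⁻¹ = m1 * m2 * m1⁻¹ * m2⁻¹ := by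
    calc xS hD a t * xS hD c u * (xS hD a t)⁻¹ * (xS hD c u)⁻¹ =
        m1 * (xS hD z1 s1 * xS hD c u) * (xS hD z1 s1)⁻¹ * m1⁻¹ * (xS hD c u)⁻¹ := by rw [e1]; group
      _ = m1 * xS hD c u * m1⁻¹ * (xS hD c u)⁻¹ := by rw [← j1]; group
      _ = m1 * m2 * (xS hD z2 s2 * m1⁻¹) * (xS hD z2 s2)⁻¹ * m2⁻¹ := by rw [e2]; group
      _ = _ := by
          have j3 : xS hD z2 s2 * m1⁻¹ = m1⁻¹ * xS hD z2 s2 := by
            rw [eq_inv_mul_iff_mul_eq, ← mul_assoc, j2, mul_inv_cancel_right]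
          rw [j3]; group
  rw [e3]
  exact mul_mem (mul_mem (mul_mem (hM1 hm1) (hM2 hm2)) (inv_mem (hM1 hm1))) (inv_mem (hM2 hm2))

/-- a live section whose centre is known -/
theorem alive_mem (hD : InList D) {M : Subgroup ↥(D.group K)} {x : ↥(D.group K)} {Γ : List ℕ} {z : ℕ}
    (al : Alive hD x Γ z) (hM : ⁅UG hD K Γ, Subgroup.zpowers x⁆ ≤ M) (hz : ∀ t : K, xS hD z t ∈ M) {k : ℕ}
    (hk : k ∈ Γ) (t : K) : xS hD k t ∈ M := by
  obtain ⟨m, hm, s, e⟩ := al _ (xS_mem_UG hD hk t)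
  rw [e]
  exact mul_mem (hM hm) (hz s)

/-- a dead section and a live section with a nontrivial pairing -/
theorem pair_false (hD : InList D) (h2 : (2 : K) = 0) [Finite K] {a ζ z c : ℕ} {Γ : List ℕ} {N : ℤ} (hP : PairOK D a Γ ζ)
    (hz : EvC D a z) {x : ↥(D.group K)} (hζ : ∀ s : K, Commute x (xS hD ζ s)) (hdead : ∀ t : K, Commute x (xS hD a t))
    (hnorm : ∀ y ∈ UG hD K Γ, x * y * x⁻¹ ∈ UG hD K Γ) (halive : Alive hD x Γ z) (hc : c ∈ Γ)
    (h : D.commTerms a c = [(ζ, N, 1, 1)]) (hN : N * N = 1) : False := by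
  have hcomm := fun t u => (pair_dead hD h2 hP hz hζ hdead hnorm halive hc t u).eq
  obtain ⟨⟨h3, h4, h5, -⟩, -⟩ := hP.2.2 c hc
  have h6 := single_mem hD (K := K) (M := ⊥) hP.1 h3 h4 h5 h hN (fun t u => by
    rw [Subgroup.mem_bot, ← hcomm t u]
    group) (1 : K)
  rw [Subgroup.mem_bot] at h6
  exact one_ne_zero (xS_eq_one hD hP.2.1 h6)

/-! ### The radicals -/

/-- the roots of the unipotent radical -/
def G4 : List ℕ := [24, 26, 29, 31, 32, 33, 34, 35, 36, 37, 38, 39, 40, 41, 42, 43, 44, 45, 46, 47]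

theorem g4_pos : ∀ k ∈ G4, chevF4.IsPosRoot k ∧ chevF4.IsNegRoot (chevF4.neg k) := by decide +kernel
theorem g4_inv : ∀ k ∈ L4, Inv chevF4 G4 k := by decide +kernel
theorem g4_inv' : ∀ k ∈ L4, Inv chevF4 (G4.map chevF4.neg) k := by decide +kernel

theorem sec_sub {g : Fin 4 → ℕ} {z : ℕ} {Γ : List ℕ} (h : ∀ k ∈ List.ofFn g ++ [z], k ∈ Γ) (hD : InList D) :
    UG hD K (List.ofFn g ++ [z]) ≤ UG hD K Γ := UG_le hD fun k hk t => xS_mem_UG hD (h k hk) t

theorem sub_A : ∀ k ∈ List.ofFn sA ++ [41], k ∈ G4 := by decide +kernel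
theorem sub_C : ∀ k ∈ List.ofFn sC ++ [47], k ∈ G4 := by decide +kernel
theorem sub_B : ∀ k ∈ List.ofFn sB ++ [29], k ∈ G4 := by decide +kernel
theorem sub_D : ∀ k ∈ List.ofFn sD ++ [44], k ∈ G4 := by decide +kernel
theorem sub_A' : ∀ k ∈ List.ofFn sA' ++ [6], k ∈ G4.map chevF4.neg := by decide +kernel
theorem sub_C' : ∀ k ∈ List.ofFn sC' ++ [0], k ∈ G4.map chevF4.neg := by decide +kernel
theorem sub_B' : ∀ k ∈ List.ofFn sB' ++ [18], k ∈ G4.map chevF4.neg := by decide +kernel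
theorem sub_D' : ∀ k ∈ List.ofFn sD' ++ [3], k ∈ G4.map chevF4.neg := by decide +kernel

theorem p1 : PairOK chevF4 37 (List.ofFn sC ++ [47]) 44 ∧ EvC chevF4 37 47 := by decide +kernel
theorem p2 : PairOK chevF4 36 (List.ofFn sA' ++ [6]) 29 ∧ EvC chevF4 36 6 := by decide +kernel
theorem p3 : PairOK chevF4 10 (List.ofFn sC' ++ [0]) 3 ∧ EvC chevF4 10 0 := by decide +kernel
theorem p4 : PairOK chevF4 11 (List.ofFn sA ++ [41]) 18 ∧ EvC chevF4 11 41 := by decide +kernel
theorem p5 : PairOK chevF4 24 (List.ofFn sD ++ [44]) 47 ∧ EvC chevF4 24 44 := by decide +kernel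
theorem p6 : PairOK chevF4 42 (List.ofFn sB' ++ [18]) 41 ∧ EvC chevF4 42 18 := by decide +kernel
theorem p7 : PairOK chevF4 23 (List.ofFn sD' ++ [3]) 0 ∧ EvC chevF4 23 3 := by decide +kernel
theorem p8 : PairOK chevF4 5 (List.ofFn sB ++ [29]) 6 ∧ EvC chevF4 5 29 := by decide +kernel

theorem ct : chevF4.commTerms 37 36 = [(44, -1, 1, 1)] ∧ chevF4.commTerms 36 14 = [(29, 1, 1, 1)] ∧
    chevF4.commTerms 10 11 = [(3, 1, 1, 1)] ∧ chevF4.commTerms 11 33 = [(18, -1, 1, 1)] ∧
    chevF4.commTerms 24 46 = [(47, 1, 1, 1)] ∧ chevF4.commTerms 42 23 = [(41, -1, 1, 1)] ∧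
    chevF4.commTerms 23 1 = [(0, -1, 1, 1)] ∧ chevF4.commTerms 5 24 = [(6, 1, 1, 1)] := by
  refine ⟨?_, ?_, ?_, ?_, ?_, ?_, ?_, ?_⟩ <;> decide +kernel

def lS : List ℕ := (List.ofFn sA ++ [41]) ++ (List.ofFn sC ++ [47]) ++ (List.ofFn sA' ++ [6]) ++ (List.ofFn sC' ++ [0])
def lL : List ℕ := (List.ofFn sB ++ [29]) ++ (List.ofFn sD ++ [44]) ++ (List.ofFn sB' ++ [18]) ++ (List.ofFn sD' ++ [3])

theorem gS : ∀ k ∈ L4, k ∈ gal chevF4 [] [] lS [(34, 14), (13, 33), (6, 34), (6, 35)] := by decide +kernel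
theorem gL : ∀ k ∈ L4, k ∈ gal chevF4 [] [] lL [(26, 23), (21, 24), (29, 21), (18, 26)] := by decide +kernel
theorem gM : ∀ k ∈ [27, 20, 29, 18, 44, 3], k ∈ gal chevF4 [] [] lS [(34, 14), (13, 33), (36, 14), (11, 33), (36, 37), (11, 10)] := by
  decide +kernel
def lF : List ℕ := [27, 20, 29, 18, 44, 3] ++ (List.ofFn sB ++ [29]) ++ (List.ofFn sB' ++ [18]) ++ lS
theorem gF : AllS chevF4 (gal chevF4 [] [] lF [(26, 23), (21, 24)]) := by decide +kernel

theorem ev4 : ∀ ζ ∈ [44, 29, 3, 18, 47, 41, 0, 6], ∀ k ∈ L4, EvC chevF4 k ζ := by decide +kernel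

/-- if the roots of `L4` commute with `x` then `x` is central -/
theorem not_all_dead (hD : InList chevF4) {x : ↥(UG hD K L4)} (hx : x ∉ Subgroup.center ↥(UG hD K L4)) {S : List ℕ}
    {st : List (ℕ × ℕ)} (hg : ∀ k ∈ L4, k ∈ gal chevF4 [] [] S st)
    (h : ∀ k ∈ S, ∀ t : K, Commute (x : ↥(chevF4.group K)) (xS hD k t)) : False := by
  have h1 := gal_sound hD (M := Subgroup.centralizer {(x : ↥(chevF4.group K))}) (L := []) (Γ := [])
    (fun r hr => absurd hr List.not_mem_nil) st (S := S)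
    (fun k hk t => Subgroup.mem_centralizer_singleton_iff.2 (h k hk t).eq.symm)
  have h2 : UG hD K L4 ≤ Subgroup.centralizer {(x : ↥(chevF4.group K))} := UG_le hD fun k hk t => h1 k (hg k hk) t
  apply hx
  rw [Subgroup.mem_center_iff]
  intro g
  apply Subtype.ext
  exact Subgroup.mem_centralizer_singleton_iff.1 (h2 g.2)


/-- **`F₄(q)`, `q` even, `p` dividing `q² + 1`.** -/
theorem f4_four [Fintype K] {r0 : ℕ} [Fact r0.Prime] [CharP K r0] (h2 : (2 : K) = 0) {p : ℕ} (hp : p.Prime)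
    (hpK : (p : K) ≠ 0) (ho : orderOf (Fintype.card K : ZMod p) = 4) : TR r0 p ↥(chevF4.group K) := by
  have hT := Cfsg.Agent.Nodes.KindF.isType
  have hD := hT.inList
  have hfin : Finite ↥(chevF4.group K) := inferInstance
  have : Fact p.Prime := ⟨hp⟩
  have hr0 : r0.Prime := Fact.out
  have hpq : ¬ p ∣ Fintype.card K := fun h => hpK (cast_eq_zero_of_dvd hp h)
  have hp2 : p ≠ 2 := ne_two_of_ord hp hpK (by rw [ho]; norm_num)
  -- the element
  have hdvd : p ∣ Nat.card ↥(UG hD K L4) := by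
    refine Dvd.dvd.trans ?_ (card_levi hD h2)
    have h1 : (Fintype.card K : ZMod p) ^ 4 = 1 := by rw [← ho]; exact pow_orderOf_eq_one _
    rw [← ZMod.natCast_eq_zero_iff, Nat.cast_sub (Nat.one_le_pow _ _ Fintype.card_pos), Nat.cast_one, sub_eq_zero,
      Nat.cast_pow]
    exact h1
  obtain ⟨x, ⟨k, hxk⟩, hxc⟩ := exists_noncentral hdvd
    (S := ((↑) : ↥(UG hD K L4) → ↥(chevF4.group K)) ⁻¹' {g | ∃ k ∈ L4, ∃ t : K, g = xS hD k t})
    (Subgroup.closure_closure_coe_preimage) (by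
      rintro ⟨s, hs⟩ ⟨k, hk, t, hst⟩
      refine ⟨2, ?_, (Nat.coprime_primes hp Nat.prime_two).2 hp2⟩
      apply Subtype.ext
      change s ^ 2 = 1
      change s = xS hD k t at hst
      rw [hst, pow_two, xS_mul, ← two_mul, h2, zero_mul, xS_zero])
  obtain ⟨X, hX⟩ : ∃ X : ↥(chevF4.group K), X = (x : ↥(chevF4.group K)) := ⟨_, rfl⟩
  have hXL : X ∈ UG hD K L4 := by rw [hX]; exact x.2
  have hXk : X ^ p ^ k = 1 := by rw [hX]; exact congrArg Subtype.val hxk
  have hζ : ∀ ζ ∈ [44, 29, 3, 18, 47, 41, 0, 6], ∀ s : K, Commute X (xS hD ζ s) := fun ζ hz s =>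
    UG_comm hD hXL fun k hk t => (ev4 ζ hz k hk).comm hD h2 t s
  have hn : ¬ 4 < orderOf (Fintype.card K : ZMod p) → 4 = orderOf (Fintype.card K : ZMod p) := fun _ => ho.symm
  -- the sections
  have dA := tA.dichotomy hT h2 hp hpq hn hXk hXL
  have dC := tC.dichotomy hT h2 hp hpq hn hXk hXL
  have dA' := tA'.dichotomy hT h2 hp hpq hn hXk hXL
  have dC' := tC'.dichotomy hT h2 hp hpq hn hXk hXL
  have dB := tB.dichotomy hT h2 hp hpq hn hXk hXL
  have dD := tD.dichotomy hT h2 hp hpq hn hXk hXL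
  have dB' := tB'.dichotomy hT h2 hp hpq hn hXk hXL
  have dD' := tD'.dichotomy hT h2 hp hpq hn hXk hXL
  obtain ⟨c1, c2, c3, c4, c5, c6, c7, c8⟩ := ct
  have q1 : Dead hD X (List.ofFn sA ++ [41]) → Dead hD X (List.ofFn sC ++ [47]) := fun h =>
    dC.resolve_right fun al => pair_false hD h2 p1.1 p1.2 (hζ 44 (by decide)) (h 37 (by decide))
      (UG_conj hD hXL tC.inv) al (c := 36) (by decide) c1 (by norm_num)
  have q2 : Dead hD X (List.ofFn sC ++ [47]) → Dead hD X (List.ofFn sA' ++ [6]) := fun h =>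
    dA'.resolve_right fun al => pair_false hD h2 p2.1 p2.2 (hζ 29 (by decide)) (h 36 (by decide))
      (UG_conj hD hXL tA'.inv) al (c := 14) (by decide) c2 (by norm_num)
  have q3 : Dead hD X (List.ofFn sA' ++ [6]) → Dead hD X (List.ofFn sC' ++ [0]) := fun h =>
    dC'.resolve_right fun al => pair_false hD h2 p3.1 p3.2 (hζ 3 (by decide)) (h 10 (by decide))
      (UG_conj hD hXL tC'.inv) al (c := 11) (by decide) c3 (by norm_num)
  have q4 : Dead hD X (List.ofFn sC' ++ [0]) → Dead hD X (List.ofFn sA ++ [41]) := fun h =>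
    dA.resolve_right fun al => pair_false hD h2 p4.1 p4.2 (hζ 18 (by decide)) (h 11 (by decide))
      (UG_conj hD hXL tA.inv) al (c := 33) (by decide) c4 (by norm_num)
  have q5 : Dead hD X (List.ofFn sB ++ [29]) → Dead hD X (List.ofFn sD ++ [44]) := fun h =>
    dD.resolve_right fun al => pair_false hD h2 p5.1 p5.2 (hζ 47 (by decide)) (h 24 (by decide))
      (UG_conj hD hXL tD.inv) al (c := 46) (by decide) c5 (by norm_num)
  have q6 : Dead hD X (List.ofFn sD ++ [44]) → Dead hD X (List.ofFn sB' ++ [18]) := fun h =>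
    dB'.resolve_right fun al => pair_false hD h2 p6.1 p6.2 (hζ 41 (by decide)) (h 42 (by decide))
      (UG_conj hD hXL tB'.inv) al (c := 23) (by decide) c6 (by norm_num)
  have q7 : Dead hD X (List.ofFn sB' ++ [18]) → Dead hD X (List.ofFn sD' ++ [3]) := fun h =>
    dD'.resolve_right fun al => pair_false hD h2 p7.1 p7.2 (hζ 0 (by decide)) (h 23 (by decide))
      (UG_conj hD hXL tD'.inv) al (c := 1) (by decide) c7 (by norm_num)
  have q8 : Dead hD X (List.ofFn sD' ++ [3]) → Dead hD X (List.ofFn sB ++ [29]) := fun h =>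
    dB.resolve_right fun al => pair_false hD h2 p8.1 p8.2 (hζ 6 (by decide)) (h 5 (by decide))
      (UG_conj hD hXL tB.inv) al (c := 24) (by decide) c8 (by norm_num)
  have nA : ¬ Dead hD X (List.ofFn sA ++ [41]) := by
    intro h
    rw [hX] at h q1 q2 q3
    refine not_all_dead hD hxc gS fun k hk t => ?_
    unfold lS at hk
    rw [List.mem_append, List.mem_append, List.mem_append] at hk
    rcases hk with ((hk | hk) | hk) | hk
    · exact h k hk t
    · exact q1 h k hk t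
    · exact q2 (q1 h) k hk t
    · exact q3 (q2 (q1 h)) k hk t
  have nB : ¬ Dead hD X (List.ofFn sB ++ [29]) := by
    intro h
    rw [hX] at h q5 q6 q7
    refine not_all_dead hD hxc gL fun k hk t => ?_
    unfold lL at hk
    rw [List.mem_append, List.mem_append, List.mem_append] at hk
    rcases hk with ((hk | hk) | hk) | hk
    · exact h k hk t
    · exact q5 h k hk t
    · exact q6 (q5 h) k hk t
    · exact q7 (q6 (q5 h)) k hk t
  have aA := dA.resolve_left nA
  have aC' := dC'.resolve_left fun h => nA (q4 h)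
  have aA' := dA'.resolve_left fun h => nA (q4 (q3 h))
  have aC := dC.resolve_left fun h => nA (q4 (q3 (q2 h)))
  have aB := dB.resolve_left nB
  have aD' := dD'.resolve_left fun h => nB (q8 h)
  have aB' := dB'.resolve_left fun h => nB (q8 (q7 h))
  have aD := dD.resolve_left fun h => nB (q8 (q7 (q6 h)))
  -- the radicals
  obtain ⟨U1, hU1⟩ : ∃ U1, U1 = UG hD K G4 := ⟨_, rfl⟩
  obtain ⟨U2, hU2⟩ : ∃ U2, U2 = UG hD K (G4.map chevF4.neg) := ⟨_, rfl⟩
  have hc1 : ∀ y ∈ U1, X * y * X⁻¹ ∈ U1 := by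
    rw [hU1]
    exact UG_conj hD hXL g4_inv
  have hc2 : ∀ y ∈ U2, X * y * X⁻¹ ∈ U2 := by
    rw [hU2]
    exact UG_conj hD hXL g4_inv'
  have hp1 : IsPGroup r0 U1 := by
    rw [hU1]
    exact UG_pos hD r0 fun k hk => (g4_pos k hk).1
  have hp2' : IsPGroup r0 U2 := by
    rw [hU2]
    refine UG_neg hD r0 fun k hk => ?_
    obtain ⟨k', hk', rfl⟩ := List.mem_map.1 hk
    exact (g4_pos k' hk').2
  obtain ⟨P1, Q1⟩ := pair_comm hp hr0 (ne_char hpK) hXk hp1 hc1
  obtain ⟨P2, Q2⟩ := pair_comm hp hr0 (ne_char hpK) hXk hp2' hc2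
  refine ⟨0, k, X, _, _, hXk, fun h => absurd h hp2, P1, P2, Q1, Q2, ?_⟩
  obtain ⟨M, hM⟩ : ∃ M, M = Subgroup.closure (({X} ∪
    ((⁅U1, Subgroup.zpowers X⁆ : Subgroup ↥(chevF4.group K)) : Set ↥(chevF4.group K))) ∪
    ((⁅U2, Subgroup.zpowers X⁆ : Subgroup ↥(chevF4.group K)) : Set ↥(chevF4.group K))) := ⟨_, rfl⟩
  rw [← hM]
  have hM1 : ⁅U1, Subgroup.zpowers X⁆ ≤ M := by
    intro y hy
    rw [hM]
    exact Subgroup.subset_closure (Or.inl (Or.inr hy))
  have hM2 : ⁅U2, Subgroup.zpowers X⁆ ≤ M := by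
    intro y hy
    rw [hM]
    exact Subgroup.subset_closure (Or.inr hy)
  have hsub : ∀ {Γ : List ℕ}, (UG hD K Γ ≤ U1 ∨ UG hD K Γ ≤ U2) → ⁅UG hD K Γ, Subgroup.zpowers X⁆ ≤ M := by
    rintro Γ (h | h)
    · exact (Subgroup.commutator_mono h le_rfl).trans hM1
    · exact (Subgroup.commutator_mono h le_rfl).trans hM2
  have mA := hsub (Γ := List.ofFn sA ++ [41]) (Or.inl (by rw [hU1]; exact sec_sub sub_A hD))
  have mB := hsub (Γ := List.ofFn sB ++ [29]) (Or.inl (by rw [hU1]; exact sec_sub sub_B hD))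
  have mC := hsub (Γ := List.ofFn sC ++ [47]) (Or.inl (by rw [hU1]; exact sec_sub sub_C hD))
  have mD := hsub (Γ := List.ofFn sD ++ [44]) (Or.inl (by rw [hU1]; exact sec_sub sub_D hD))
  have mA' := hsub (Γ := List.ofFn sA' ++ [6]) (Or.inr (by rw [hU2]; exact sec_sub sub_A' hD))
  have mB' := hsub (Γ := List.ofFn sB' ++ [18]) (Or.inr (by rw [hU2]; exact sec_sub sub_B' hD))
  have mC' := hsub (Γ := List.ofFn sC' ++ [0]) (Or.inr (by rw [hU2]; exact sec_sub sub_C' hD))
  have mD' := hsub (Γ := List.ofFn sD' ++ [3]) (Or.inr (by rw [hU2]; exact sec_sub sub_D' hD))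
  have hself : ∀ {Γ : List ℕ}, (∀ k ∈ L4, Inv chevF4 Γ k) → ⁅UG hD K Γ, Subgroup.zpowers X⁆ ≤ UG hD K Γ := by
    intro Γ hΓ
    refine comm_le_of (UG_conj hD hXL hΓ) fun y hy => mul_mem (UG_conj hD hXL hΓ y hy) (inv_mem hy)
  -- the four long root subgroups
  have m47 : ∀ t : K, xS hD 47 t ∈ M := single_mem hD (by decide +kernel) (by decide +kernel) (by decide)
    (by decide +kernel) c5 (by norm_num) fun t u => lift_pair hD h2 aD aB mD mB (hself tD.inv) (by decide +kernel)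
      (by decide +kernel) (by decide) (by decide) u t
  have m41 : ∀ t : K, xS hD 41 t ∈ M := single_mem hD (by decide +kernel) (by decide +kernel) (by decide)
    (by decide +kernel) c6 (by norm_num) fun t u => lift_pair hD h2 aB' aD mB' mD (hself tB'.inv) (by decide +kernel)
      (by decide +kernel) (by decide) (by decide) u t
  have m0 : ∀ t : K, xS hD 0 t ∈ M := single_mem hD (by decide +kernel) (by decide +kernel) (by decide)
    (by decide +kernel) c7 (by norm_num) fun t u => lift_pair hD h2 aD' aB' mD' mB' (hself tD'.inv) (by decide +kernel)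
      (by decide +kernel) (by decide) (by decide) u t
  have m6 : ∀ t : K, xS hD 6 t ∈ M := single_mem hD (by decide +kernel) (by decide +kernel) (by decide)
    (by decide +kernel) c8 (by norm_num) fun t u => lift_pair hD h2 aB aD' mB mD' (hself tB.inv) (by decide +kernel)
      (by decide +kernel) (by decide) (by decide) u t
  have hS : ∀ k ∈ lS, ∀ t : K, xS hD k t ∈ M := by
    intro k hk t
    unfold lS at hk
    rw [List.mem_append, List.mem_append, List.mem_append] at hk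
    rcases hk with ((hk | hk) | hk) | hk
    · exact alive_mem hD aA mA m41 hk t
    · exact alive_mem hD aC mC m47 hk t
    · exact alive_mem hD aA' mA' m6 hk t
    · exact alive_mem hD aC' mC' m0 hk t
  have hg := gal_sound hD (M := M) (L := []) (Γ := []) (fun r hr => absurd hr List.not_mem_nil)
    [(34, 14), (13, 33), (36, 14), (11, 33), (36, 37), (11, 10)] hS
  have hF : ∀ k ∈ lF, ∀ t : K, xS hD k t ∈ M := by
    intro k hk t
    unfold lF at hk
    rw [List.mem_append, List.mem_append, List.mem_append] at hk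
    rcases hk with ((hk | hk) | hk) | hk
    · exact hg k (gM k hk) t
    · exact alive_mem hD aB mB (hg 29 (gM 29 (by decide))) hk t
    · exact alive_mem hD aB' mB' (hg 18 (gM 18 (by decide))) hk t
    · exact hS k hk t
  have hfinal := gal_sound hD (M := M) (L := []) (Γ := []) (fun r hr => absurd hr List.not_mem_nil)
    [(26, 23), (21, 24)] hF
  exact eq_top_of_simple hD M (fun i hi => hfinal _ (gF i hi).1) (fun i hi => hfinal _ (gF i hi).2)

end Cfsg.Agent.H441.FPR
end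

-- part: H441/FPR/Row
section
/-!
# Exceptional Chevalley groups: the rows
-/

set_option autoImplicit false
set_option maxRecDepth 100000

namespace Cfsg.Agent.H441.FPR

open Cfsg.Lie Cfsg.Agent.ChevalleyStructure
open Cfsg.Agent.H398.FPR
open Cfsg.Agent.H409 (FprRow)

universe u

variable {K : Type u} [Field K]

/-! ### The order of `q` modulo `p` -/

theorem ord_dvd {q p m : ℕ} (hq : 0 < q) (h : p ∣ q ^ m - 1) : orderOf (q : ZMod p) ∣ m := by
  rw [orderOf_dvd_iff_pow_eq_one]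
  have h2 : ((q ^ m - 1 : ℕ) : ZMod p) = 0 := (ZMod.natCast_eq_zero_iff _ _).2 h
  rw [Nat.cast_sub (Nat.one_le_pow _ _ hq), Nat.cast_one, sub_eq_zero, Nat.cast_pow] at h2
  exact h2

theorem dvd_of_ord {q p m : ℕ} (hq : 0 < q) (h : orderOf (q : ZMod p) ∣ m) : p ∣ q ^ m - 1 := by
  rw [orderOf_dvd_iff_pow_eq_one] at h
  rw [← ZMod.natCast_eq_zero_iff, Nat.cast_sub (Nat.one_le_pow _ _ hq), Nat.cast_one, sub_eq_zero, Nat.cast_pow]
  exact h

/-- the order of `q` divides `p - 1` -/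
theorem ord_dvd_sub {q p : ℕ} [hp : Fact p.Prime] (h : ¬ p ∣ q) : orderOf (q : ZMod p) ∣ p - 1 := by
  rw [orderOf_dvd_iff_pow_eq_one]
  apply ZMod.pow_card_sub_one_eq_one
  intro h1
  exact h ((ZMod.natCast_eq_zero_iff _ _).1 h1)

/-- cyclic Sylow subgroups -/
theorem row_cyc [Fintype K] {c : ChevalleyDatum × List ℕ}
    (hc : c ∈ [(Cfsg.Lie.chevG2, [2, 6]), (Cfsg.Lie.chevB2, [2, 4]), (Cfsg.Lie.chevD4, [2, 4, 4, 6]), (Cfsg.Lie.chevF4, [2, 6, 8, 12]),
      (Cfsg.Lie.chevE6, [2, 5, 6, 8, 9, 12]), (Cfsg.Lie.chevE7, [2, 6, 8, 10, 12, 14, 18]), (Cfsg.Lie.chevE8, [2, 8, 12, 14, 18, 20, 24, 30])])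
    {p e : ℕ} [Fact p.Prime] [IsSimpleGroup ↥(c.1.group K)] [Finite ↥(c.1.group K)]
    (hpq : ¬ p ∣ Fintype.card K) (hpW : ¬ p ∣ c.2.prod) (hd : p ∣ Nat.card ↥(c.1.group K))
    (he : orderOf (Fintype.card K : ZMod p) = e)
    (hf : (c.2.filter (fun x => e ∣ x)).length = 1) : FprRow (2 * p - 1) (p - 1) p ↥(c.1.group K) := by
  obtain ⟨P⟩ : Nonempty (Sylow p ↥(c.1.group K)) := inferInstance
  have h1 := Cfsg.Agent.S2378.result rfl c hc p hpq hpW hd P
  rw [he] at h1
  have h2 : (IsCyclic (P : Subgroup ↥(c.1.group K)) :) := by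
    generalize (c.2.filter (fun x => e ∣ x)).length = k at hf h1
    subst hf
    obtain ⟨f⟩ := h1
    exact isCyclic_of_injective (f.trans (MulEquiv.funUnique (Fin 1) _)).toMonoidHom (MulEquiv.injective _)
  exact Cfsg.Agent.H444.Fpr.row_of_cyclic (Cfsg.Agent.H444.Fpr.pGen_of_simple hd) P h2

/-! ### Two radicals -/

section TR

variable [Fintype K] {r0 : ℕ} [Fact r0.Prime] [CharP K r0] {p : ℕ} (hp : p.Prime) (hpK : (p : K) ≠ 0)

include hp hpK

/-- `E₆` -/
theorem e6_tr (ho : orderOf (Fintype.card K : ZMod p) ∈ [1, 2, 3, 4]) : TR r0 p ↥(chevE6.group K) := by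
  by_cases h1 : orderOf (Fintype.card K : ZMod p) = 1
  · by_cases h2 : p = 2
    · subst h2
      exact TabOK.tr_two Cfsg.Agent.Nodes.KindE.isType6 (n := 0) t6a (by exact_mod_cast hpK)
    · have h3 := dvd_of_ord (m := 1) (Fintype.card_pos (α := K)) (p := p) (by rw [h1])
      rw [pow_one] at h3
      exact TabOK.tr_one Cfsg.Agent.Nodes.KindE.isType6 (n := 0) t6a hp h2 h3
  · simp only [List.mem_cons, List.not_mem_nil, or_false] at ho
    rcases ho with ho | ho | ho | ho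
    · exact absurd ho h1
    · exact TabOK.tr_ord Cfsg.Agent.Nodes.KindE.isType6 (n := 1) t6a hp hpK h1 (by rw [ho]; norm_num)
    · exact TabOK.tr_ord Cfsg.Agent.Nodes.KindE.isType6 (n := 0) t6b hp hpK h1 (by rw [ho])
    · exact TabOK.tr_ord Cfsg.Agent.Nodes.KindE.isType6 (n := 1) t6a hp hpK h1 (by rw [ho])

/-- `E₇` -/
theorem e7_tr (ho : orderOf (Fintype.card K : ZMod p) ∈ [1, 2, 3, 4, 6]) : TR r0 p ↥(chevE7.group K) := by
  by_cases h1 : orderOf (Fintype.card K : ZMod p) = 1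
  · by_cases h2 : p = 2
    · subst h2
      exact TabOK.tr_two Cfsg.Agent.Nodes.KindE.isType7 (n := 0) t7a (by exact_mod_cast hpK)
    · have h3 := dvd_of_ord (m := 1) (Fintype.card_pos (α := K)) (p := p) (by rw [h1])
      rw [pow_one] at h3
      exact TabOK.tr_one Cfsg.Agent.Nodes.KindE.isType7 (n := 0) t7a hp h2 h3
  · simp only [List.mem_cons, List.not_mem_nil, or_false] at ho
    rcases ho with ho | ho | ho | ho | ho
    · exact absurd ho h1
    · exact TabOK.tr_ord Cfsg.Agent.Nodes.KindE.isType7 (n := 1) t7a hp hpK h1 (by rw [ho]; norm_num)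
    · exact TabOK.tr_ord Cfsg.Agent.Nodes.KindE.isType7 (n := 0) t7b hp hpK h1 (by rw [ho])
    · exact TabOK.tr_ord Cfsg.Agent.Nodes.KindE.isType7 (n := 1) t7a hp hpK h1 (by rw [ho])
    · exact CB.tr_ord Cfsg.Agent.Nodes.KindE.isType7 (n := 3) (by norm_num) rt7c.1 rt7c.2.1 rt7c.2.2.1 rt7c.2.2.2 t7c
        hp hpK h1 (by rw [ho])

/-- `E₈` -/
theorem e8_tr (ho : orderOf (Fintype.card K : ZMod p) ∈ [1, 2, 3, 4, 5, 6, 8]) : TR r0 p ↥(chevE8.group K) := by
  by_cases h1 : orderOf (Fintype.card K : ZMod p) = 1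
  · by_cases h2 : p = 2
    · subst h2
      exact TabOK.tr_two Cfsg.Agent.Nodes.KindE.isType8 (n := 1) t8a (by exact_mod_cast hpK)
    · have h3 := dvd_of_ord (m := 1) (Fintype.card_pos (α := K)) (p := p) (by rw [h1])
      rw [pow_one] at h3
      exact TabOK.tr_one Cfsg.Agent.Nodes.KindE.isType8 (n := 1) t8a hp h2 h3
  · simp only [List.mem_cons, List.not_mem_nil, or_false] at ho
    rcases ho with ho | ho | ho | ho | ho | ho | ho
    · exact absurd ho h1
    · exact TabOK.tr_ord Cfsg.Agent.Nodes.KindE.isType8 (n := 3) t8a hp hpK h1 (by rw [ho]; norm_num)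
    · exact TabOK.tr_ord Cfsg.Agent.Nodes.KindE.isType8 (n := 3) t8a hp hpK h1 (by rw [ho]; norm_num)
    · exact TabOK.tr_ord Cfsg.Agent.Nodes.KindE.isType8 (n := 1) t8c hp hpK h1 (by rw [ho])
    · exact TabOK.tr_ord Cfsg.Agent.Nodes.KindE.isType8 (n := 2) t8b hp hpK h1 (by rw [ho])
    · exact TabOK.tr_ord Cfsg.Agent.Nodes.KindE.isType8 (n := 3) t8a hp hpK h1 (by rw [ho])
    · exact CB.tr_ord Cfsg.Agent.Nodes.KindE.isType8 (n := 5) (by norm_num) rt8d.1 rt8d.2.1 rt8d.2.2.1 rt8d.2.2.2 t8d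
        hp hpK h1 (by rw [ho])

/-- `F₄` -/
theorem f4_tr (ho : orderOf (Fintype.card K : ZMod p) ∈ [1, 2, 3]) : TR r0 p ↥(chevF4.group K) := by
  by_cases h1 : orderOf (Fintype.card K : ZMod p) = 1
  · by_cases h2 : p = 2
    · subst h2
      exact TorOK.tr_two Cfsg.Agent.Nodes.KindF.isType tor4 (by exact_mod_cast hpK)
    · have h3 := dvd_of_ord (m := 1) (Fintype.card_pos (α := K)) (p := p) (by rw [h1])
      rw [pow_one] at h3
      exact TorOK.tr_one Cfsg.Agent.Nodes.KindF.isType tor4 hp h2 h3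
  · simp only [List.mem_cons, List.not_mem_nil, or_false] at ho
    rcases ho with ho | ho | ho
    · exact absurd ho h1
    · exact CB.tr_emb Cfsg.Agent.Nodes.KindF.isType (by norm_num) rt4.1 rt4.2.1 rt4.2.2.1 rt4.2.2.2 t4b
        hp hpK h1 (by rw [ho])
    · exact CB.tr_ord Cfsg.Agent.Nodes.KindF.isType (n := 0) (by norm_num) rt4.1 rt4.2.1 rt4.2.2.1 rt4.2.2.2 t4a
        hp hpK h1 (by rw [ho])

/-- `G₂` -/
theorem g2_tr (h3 : 3 ≤ Fintype.card K) (ho : orderOf (Fintype.card K : ZMod p) ∈ [1, 2]) :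
    TR r0 p ↥(chevG2.group K) := by
  by_cases h1 : orderOf (Fintype.card K : ZMod p) = 1
  · by_cases h2 : p = 2
    · subst h2
      exact TorOK.tr_two g2_type tor2 (by exact_mod_cast hpK)
    · have h3 := dvd_of_ord (m := 1) (Fintype.card_pos (α := K)) (p := p) (by rw [h1])
      rw [pow_one] at h3
      exact TorOK.tr_one g2_type tor2 hp h2 h3
  · simp only [List.mem_cons, List.not_mem_nil, or_false] at ho
    rcases ho with ho | ho
    · exact absurd ho h1
    · refine g2_two ?_ hp hpK h1 (by rw [ho])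
      by_contra hcon
      have h4 : Fintype.card K = 3 := by omega
      have h5 := dvd_of_ord (m := 2) (Fintype.card_pos (α := K)) (p := p) (by rw [ho])
      rw [h4] at h5
      have h6 : p ∣ 2 ^ 3 := h5
      exact ne_two_of_ord hp hpK h1 ((Nat.prime_dvd_prime_iff_eq hp Nat.prime_two).1 (hp.dvd_of_dvd_pow h6))

end TR

/-! ### The rows of S3569 -/

theorem small_prime {p a b c d : ℕ} (hp : p.Prime) (h : p ∣ 2 ^ a * 3 ^ b * 5 ^ c * 7 ^ d) :
    p = 2 ∨ p = 3 ∨ p = 5 ∨ p = 7 := by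
  rcases (hp.dvd_mul).1 h with h | h
  · rcases (hp.dvd_mul).1 h with h | h
    · rcases (hp.dvd_mul).1 h with h | h
      · exact Or.inl ((Nat.prime_dvd_prime_iff_eq hp Nat.prime_two).1 (hp.dvd_of_dvd_pow h))
      · exact Or.inr (Or.inl ((Nat.prime_dvd_prime_iff_eq hp Nat.prime_three).1 (hp.dvd_of_dvd_pow h)))
    · exact Or.inr (Or.inr (Or.inl ((Nat.prime_dvd_prime_iff_eq hp Nat.prime_five).1 (hp.dvd_of_dvd_pow h))))
  · exact Or.inr (Or.inr (Or.inr ((Nat.prime_dvd_prime_iff_eq hp (by norm_num)).1 (hp.dvd_of_dvd_pow h))))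

/-- a prime with a large order does not divide the order of the Weyl group -/
theorem not_dvd_weyl {p q e N a b c d : ℕ} (hp : p.Prime) (hpq : ¬ p ∣ q) (he : orderOf (q : ZMod p) = e)
    (h3 : e = 3 ∨ 5 ≤ e) (h6 : e ≠ 6 ∨ d = 0) (hN : N = 2 ^ a * 3 ^ b * 5 ^ c * 7 ^ d) (hcd : e ≠ 3 ∨ d = 0) : ¬ p ∣ N := by
  intro h
  have : Fact p.Prime := ⟨hp⟩
  have h1 := ord_dvd_sub (q := q) (p := p) hpq
  rw [he] at h1
  rw [hN] at h
  rcases small_prime hp h with rfl | rfl | rfl | rfl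
  · have := Nat.le_of_dvd (by norm_num) h1
    omega
  · have := Nat.le_of_dvd (by norm_num) h1
    omega
  · have h2 := Nat.le_of_dvd (by norm_num) h1
    have h4 : e = 3 := by (clear * - h3 h2; omega)
    rw [h4] at h1
    revert h1
    norm_num
  · have h2 := Nat.le_of_dvd (by norm_num) h1
    norm_num at h1 h2
    have h5 : e ≠ 5 := by rintro rfl; revert h1; norm_num
    have h7 : d = 0 := by omega
    subst h7
    rw [pow_zero, mul_one] at h
    rcases (hp.dvd_mul).1 h with h | h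
    · rcases (hp.dvd_mul).1 h with h | h
      · exact absurd ((Nat.prime_dvd_prime_iff_eq hp Nat.prime_two).1 (hp.dvd_of_dvd_pow h)) (by norm_num)
      · exact absurd ((Nat.prime_dvd_prime_iff_eq hp Nat.prime_three).1 (hp.dvd_of_dvd_pow h)) (by norm_num)
    · exact absurd ((Nat.prime_dvd_prime_iff_eq hp Nat.prime_five).1 (hp.dvd_of_dvd_pow h)) (by norm_num)

section Rows

variable [Fintype K] {p : ℕ} (hp : p.Prime) (hpK : (p : K) ≠ 0)

theorem not_dvd_card (hpK : (p : K) ≠ 0) (hp : p.Prime) : ¬ p ∣ Fintype.card K :=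
  fun h => hpK (cast_eq_zero_of_dvd hp h)

theorem exists_deg {q p N : ℕ} (hq : 0 < q) (hp : p.Prime) (hpq : ¬ p ∣ q) {l : List ℕ}
    (h : p ∣ q ^ N * (l.map fun m => q ^ m - 1).prod) : ∃ m ∈ l, orderOf (q : ZMod p) ∣ m := by
  rcases (hp.dvd_mul).1 h with h | h
  · exact absurd (hp.dvd_of_dvd_pow h) hpq
  · obtain ⟨a, ha, h1⟩ := (Prime.dvd_prod_iff hp.prime).1 h
    obtain ⟨m, hm, rfl⟩ := List.mem_map.1 ha
    exact ⟨m, hm, ord_dvd hq h1⟩

theorem mem_of_dvd {l l' : List ℕ} {B e : ℕ} (hl : ∀ m ∈ l, 0 < m ∧ m ≤ B)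
    (h : ∀ m ∈ l, ∀ e < B + 1, e ∣ m → e ∈ l') (h1 : ∃ m ∈ l, e ∣ m) : e ∈ l' := by
  obtain ⟨m, hm, h2⟩ := h1
  have h3 := Nat.le_of_dvd (hl m hm).1 h2
  have h4 := (hl m hm).2
  exact h m hm e (by omega) h2

include hp hpK

/-- the possible orders for `E₆` -/
theorem e6_ord (hd : p ∣ Nat.card ↥(chevE6.group K)) :
    orderOf (Fintype.card K : ZMod p) ∈ [1, 2, 3, 4, 5, 6, 8, 9, 12] := by
  have h1 := Cfsg.Agent.S1063.result (F := K) rfl
  have h2 : p ∣ Nat.gcd 3 (Fintype.card K - 1) * Nat.card ↥(chevE6.group K) := Dvd.dvd.mul_left hd _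
  rw [h1] at h2
  refine mem_of_dvd (l := [2, 5, 6, 8, 9, 12]) (B := 12) (by decide) (by decide)
    (exists_deg Fintype.card_pos hp (not_dvd_card hpK hp) (N := 36) ?_)
  simpa only [mul_assoc, _root_.List.map_cons, _root_.List.map_nil, _root_.List.prod_cons, _root_.List.prod_nil, _root_.mul_one] using h2

/-- the possible orders for `E₇` -/
theorem e7_ord (hd : p ∣ Nat.card ↥(chevE7.group K)) :
    orderOf (Fintype.card K : ZMod p) ∈ [1, 2, 3, 4, 5, 6, 7, 8, 9, 10, 12, 14, 18] := by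
  have h1 := Cfsg.Agent.S1064.result (F := K) rfl
  have h2 : p ∣ Nat.gcd 2 (Fintype.card K - 1) * Nat.card ↥(chevE7.group K) := Dvd.dvd.mul_left hd _
  rw [h1] at h2
  refine mem_of_dvd (l := [2, 6, 8, 10, 12, 14, 18]) (B := 18) (by decide) (by decide +kernel)
    (exists_deg Fintype.card_pos hp (not_dvd_card hpK hp) (N := 63) ?_)
  simpa only [mul_assoc, _root_.List.map_cons, _root_.List.map_nil, _root_.List.prod_cons, _root_.List.prod_nil, _root_.mul_one] using h2

/-- the possible orders for `E₈` -/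
theorem e8_ord (hd : p ∣ Nat.card ↥(chevE8.group K)) :
    orderOf (Fintype.card K : ZMod p) ∈ [1, 2, 3, 4, 5, 6, 7, 8, 9, 10, 12, 14, 15, 18, 20, 24, 30] := by
  have h1 := Cfsg.Agent.S1065.result (F := K) rfl
  rw [h1] at hd
  refine mem_of_dvd (l := [2, 8, 12, 14, 18, 20, 24, 30]) (B := 30) (by decide) (by decide +kernel)
    (exists_deg Fintype.card_pos hp (not_dvd_card hpK hp) (N := 120) ?_)
  simpa only [mul_assoc, _root_.List.map_cons, _root_.List.map_nil, _root_.List.prod_cons, _root_.List.prod_nil, _root_.mul_one] using hd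

/-- the possible orders for `F₄` -/
theorem f4_ord (hd : p ∣ Nat.card ↥(chevF4.group K)) :
    orderOf (Fintype.card K : ZMod p) ∈ [1, 2, 3, 4, 6, 8, 12] := by
  have h1 := Cfsg.Agent.S1062.result (F := K) rfl
  rw [h1] at hd
  refine mem_of_dvd (l := [2, 6, 8, 12]) (B := 12) (by decide) (by decide)
    (exists_deg Fintype.card_pos hp (not_dvd_card hpK hp) (N := 24) ?_)
  simpa only [mul_assoc, _root_.List.map_cons, _root_.List.map_nil, _root_.List.prod_cons, _root_.List.prod_nil, _root_.mul_one] using hd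

/-- the possible orders for `G₂` -/
theorem g2_ord (hd : p ∣ Nat.card ↥(chevG2.group K)) :
    orderOf (Fintype.card K : ZMod p) ∈ [1, 2, 3, 6] := by
  have h1 := Cfsg.Agent.S1059.result (F := K) rfl
  rw [h1] at hd
  refine mem_of_dvd (l := [2, 6]) (B := 6) (by decide) (by decide)
    (exists_deg Fintype.card_pos hp (not_dvd_card hpK hp) (N := 6) ?_)
  simpa only [mul_assoc, _root_.List.map_cons, _root_.List.map_nil, _root_.List.prod_cons, _root_.List.prod_nil, _root_.mul_one] using hd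

/-- `E₆` -/
theorem e6_row (hd : p ∣ Nat.card ↥(chevE6.group K)) (h6 : orderOf (Fintype.card K : ZMod p) ≠ 6) :
    FprRow (2 * p - 1) (p - 1) p ↥(chevE6.group K) := by
  have : Fact p.Prime := ⟨hp⟩
  obtain ⟨r0, hr0⟩ := CharP.exists K
  have : Fact r0.Prime := ⟨CharP.char_is_prime K r0⟩
  have : IsSimpleGroup ↥(chevE6.group K) := (Cfsg.Agent.S1054.result chevE6 (by simp)).1
  have hq := not_dvd_card hpK hp
  by_cases ho : orderOf (Fintype.card K : ZMod p) ∈ [1, 2, 3, 4]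
  · exact (e6_tr (r0 := r0) hp hpK ho).row hp
  · have h1 := e6_ord hp hpK hd
    simp only [List.mem_cons, List.not_mem_nil, or_false] at ho h1
    have h2 : orderOf (Fintype.card K : ZMod p) = 5 ∨ orderOf (Fintype.card K : ZMod p) = 8 ∨
      orderOf (Fintype.card K : ZMod p) = 9 ∨ orderOf (Fintype.card K : ZMod p) = 12 := by (clear * - h6 ho h1; solve | lia | omega)
    have hW : ¬ p ∣ [2, 5, 6, 8, 9, 12].prod :=
      not_dvd_weyl (a := 7) (b := 4) (c := 1) (d := 0) hp hq rfl (by omega) (by omega) (by norm_num) (by omega)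
    rcases h2 with h2 | h2 | h2 | h2
    all_goals exact row_cyc (c := (chevE6, [2, 5, 6, 8, 9, 12])) (by simp only [_root_.List.mem_cons, _root_.Prod.mk.injEq, _root_.List.cons.injEq, _root_.Nat.reduceEqDiff, _root_.reduceCtorEq, _root_.and_self, _root_.and_false, _root_.Nat.succ_ne_self, _root_.List.ne_cons_self, _root_.List.nil_eq, _root_.List.not_mem_nil, _root_.or_self, _root_.or_false, _root_.or_true]) hq hW hd h2 (by decide)

/-- `E₇` -/
theorem e7_row (hd : p ∣ Nat.card ↥(chevE7.group K)) : FprRow (2 * p - 1) (p - 1) p ↥(chevE7.group K) := by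
  have : Fact p.Prime := ⟨hp⟩
  obtain ⟨r0, hr0⟩ := CharP.exists K
  have : Fact r0.Prime := ⟨CharP.char_is_prime K r0⟩
  have : IsSimpleGroup ↥(chevE7.group K) := (Cfsg.Agent.S1054.result chevE7 (by simp)).1
  have hq := not_dvd_card hpK hp
  by_cases ho : orderOf (Fintype.card K : ZMod p) ∈ [1, 2, 3, 4, 6]
  · exact (e7_tr (r0 := r0) hp hpK ho).row hp
  · have h1 := e7_ord hp hpK hd
    simp only [List.mem_cons, List.not_mem_nil, or_false] at ho h1
    have h2 : orderOf (Fintype.card K : ZMod p) = 5 ∨ orderOf (Fintype.card K : ZMod p) = 7 ∨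
      orderOf (Fintype.card K : ZMod p) = 8 ∨ orderOf (Fintype.card K : ZMod p) = 9 ∨
      orderOf (Fintype.card K : ZMod p) = 10 ∨ orderOf (Fintype.card K : ZMod p) = 12 ∨
      orderOf (Fintype.card K : ZMod p) = 14 ∨ orderOf (Fintype.card K : ZMod p) = 18 := by (clear * - ho h1; solve | lia | omega)
    have hW : ¬ p ∣ [2, 6, 8, 10, 12, 14, 18].prod :=
      not_dvd_weyl (a := 10) (b := 4) (c := 1) (d := 1) hp hq rfl (by omega) (by omega) (by norm_num) (by omega)
    rcases h2 with h2 | h2 | h2 | h2 | h2 | h2 | h2 | h2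
    all_goals exact row_cyc (c := (chevE7, [2, 6, 8, 10, 12, 14, 18])) (by simp) hq hW hd h2 (by decide)

/-- `E₈` -/
theorem e8_row (hd : p ∣ Nat.card ↥(chevE8.group K)) (h10 : orderOf (Fintype.card K : ZMod p) ≠ 10)
    (h12 : orderOf (Fintype.card K : ZMod p) ≠ 12) : FprRow (2 * p - 1) (p - 1) p ↥(chevE8.group K) := by
  have : Fact p.Prime := ⟨hp⟩
  obtain ⟨r0, hr0⟩ := CharP.exists K
  have : Fact r0.Prime := ⟨CharP.char_is_prime K r0⟩
  have : IsSimpleGroup ↥(chevE8.group K) := (Cfsg.Agent.S1054.result chevE8 (by simp)).1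
  have hq := not_dvd_card hpK hp
  by_cases ho : orderOf (Fintype.card K : ZMod p) ∈ [1, 2, 3, 4, 5, 6, 8]
  · exact (e8_tr (r0 := r0) hp hpK ho).row hp
  · have h1 := e8_ord hp hpK hd
    simp only [List.mem_cons, List.not_mem_nil, or_false] at ho h1
    have h2 : orderOf (Fintype.card K : ZMod p) = 7 ∨ orderOf (Fintype.card K : ZMod p) = 9 ∨
      orderOf (Fintype.card K : ZMod p) = 14 ∨ orderOf (Fintype.card K : ZMod p) = 15 ∨
      orderOf (Fintype.card K : ZMod p) = 18 ∨ orderOf (Fintype.card K : ZMod p) = 20 ∨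
      orderOf (Fintype.card K : ZMod p) = 24 ∨ orderOf (Fintype.card K : ZMod p) = 30 := by (clear * - h10 h12 ho h1; solve | lia | omega)
    have hW : ¬ p ∣ [2, 8, 12, 14, 18, 20, 24, 30].prod :=
      not_dvd_weyl (a := 14) (b := 5) (c := 2) (d := 1) hp hq rfl (by omega) (by omega) (by norm_num) (by omega)
    rcases h2 with h2 | h2 | h2 | h2 | h2 | h2 | h2 | h2
    all_goals exact row_cyc (c := (chevE8, [2, 8, 12, 14, 18, 20, 24, 30])) (by simp only [_root_.List.mem_cons, _root_.Prod.mk.injEq, _root_.List.cons.injEq, _root_.Nat.reduceEqDiff, _root_.reduceCtorEq, _root_.and_self, _root_.and_false, _root_.List.cons_ne_self, _root_.List.not_mem_nil, _root_.or_false, _root_.or_true]) hq hW hd h2 (by decide)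

/-- `F₄` -/
theorem f4_row (hd : p ∣ Nat.card ↥(chevF4.group K)) (h4 : orderOf (Fintype.card K : ZMod p) ≠ 4)
    (h6 : orderOf (Fintype.card K : ZMod p) ≠ 6) : FprRow (2 * p - 1) (p - 1) p ↥(chevF4.group K) := by
  have : Fact p.Prime := ⟨hp⟩
  obtain ⟨r0, hr0⟩ := CharP.exists K
  have : Fact r0.Prime := ⟨CharP.char_is_prime K r0⟩
  have : IsSimpleGroup ↥(chevF4.group K) := (Cfsg.Agent.S1054.result chevF4 (by simp)).1
  have hq := not_dvd_card hpK hp
  by_cases ho : orderOf (Fintype.card K : ZMod p) ∈ [1, 2, 3]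
  · exact (f4_tr (r0 := r0) hp hpK ho).row hp
  · have h1 := f4_ord hp hpK hd
    simp only [List.mem_cons, List.not_mem_nil, or_false] at ho h1
    have h2 : orderOf (Fintype.card K : ZMod p) = 8 ∨ orderOf (Fintype.card K : ZMod p) = 12 := by omega
    have hW : ¬ p ∣ [2, 6, 8, 12].prod :=
      not_dvd_weyl (a := 7) (b := 2) (c := 0) (d := 0) hp hq rfl (by omega) (by omega) (by norm_num) (by omega)
    rcases h2 with h2 | h2
    all_goals exact row_cyc (c := (chevF4, [2, 6, 8, 12])) (by simp only [_root_.List.mem_cons, _root_.Prod.mk.injEq, _root_.List.cons.injEq, _root_.reduceCtorEq, _root_.and_false, _root_.Nat.reduceEqDiff, _root_.and_self, _root_.and_true, _root_.Nat.succ_ne_self, _root_.List.nil_eq, _root_.List.not_mem_nil, _root_.or_self, _root_.or_false, _root_.or_true]) hq hW hd h2 (by decide)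

/-- `F₄(q)`, `q` even -/
theorem f4_row_even (h2 : (2 : K) = 0) (hd : p ∣ Nat.card ↥(chevF4.group K))
    (h6 : orderOf (Fintype.card K : ZMod p) ≠ 6) : FprRow (2 * p - 1) (p - 1) p ↥(chevF4.group K) := by
  by_cases h4 : orderOf (Fintype.card K : ZMod p) = 4
  · obtain ⟨r0, hr0⟩ := CharP.exists K
    have : Fact r0.Prime := ⟨CharP.char_is_prime K r0⟩
    exact (f4_four (r0 := r0) h2 hp hpK h4).row hp
  · exact f4_row hp hpK hd h4 h6

/-- `G₂` -/
theorem g2_row (h3 : 3 ≤ Fintype.card K) (hd : p ∣ Nat.card ↥(chevG2.group K)) :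
    FprRow (2 * p - 1) (p - 1) p ↥(chevG2.group K) := by
  have : Fact p.Prime := ⟨hp⟩
  obtain ⟨r0, hr0⟩ := CharP.exists K
  have : Fact r0.Prime := ⟨CharP.char_is_prime K r0⟩
  have hex : ∃ a : K, a ≠ 0 ∧ a ≠ 1 := by
    classical
    by_contra hcon
    push Not at hcon
    have h5 : (Finset.univ : Finset K) ⊆ {0, 1} := by
      intro x _
      by_cases hx : x = 0
      · simp only [hx, _root_.Finset.mem_insert, _root_.Finset.mem_singleton, _root_.zero_ne_one, _root_.or_false]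
      · simp only [hcon x hx, _root_.Finset.mem_insert, _root_.one_ne_zero, _root_.Finset.mem_singleton, _root_.or_true]
    have h6 := Finset.card_le_card h5
    rw [Finset.card_univ] at h6
    have h7 : ({0, 1} : Finset K).card ≤ 2 := Finset.card_le_two
    omega
  have : IsSimpleGroup ↥(chevG2.group K) := (Cfsg.Agent.S1055.result hex).1
  have hq := not_dvd_card hpK hp
  by_cases ho : orderOf (Fintype.card K : ZMod p) ∈ [1, 2]
  · exact (g2_tr (r0 := r0) hp hpK h3 ho).row hp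
  · have h1 := g2_ord hp hpK hd
    simp only [List.mem_cons, List.not_mem_nil, or_false] at ho h1
    have h2 : orderOf (Fintype.card K : ZMod p) = 3 ∨ orderOf (Fintype.card K : ZMod p) = 6 := by omega
    have hW : ¬ p ∣ [2, 6].prod :=
      not_dvd_weyl (a := 2) (b := 1) (c := 0) (d := 0) hp hq rfl (by omega) (by omega) (by norm_num) (by omega)
    rcases h2 with h2 | h2
    all_goals exact row_cyc (c := (chevG2, [2, 6])) (by simp) hq hW hd h2 (by decide)

end Rows

end Cfsg.Agent.H441.FPR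
end

private theorem dce_4ed14657d368 : _root_.True := by
  try have : _root_.True := by simp only [_root_.Cfsg.Agent.H441.FPR.PA.congr_simp]
  try have : _root_.True := by simp only [_root_.Cfsg.Agent.H441.FPR.mv25.eq_1]
  try have : _root_.True := by simp only [_root_.Cfsg.Agent.H441.FPR.mv20.eq_1]
  try have : _root_.True := by simp only [_root_.Cfsg.Agent.H441.FPR.mv22.eq_1]
  try have : _root_.True := by simp only [_root_.Cfsg.Agent.H441.FPR.smA.congr_simp]
  try have : _root_.True := by simp only [_root_.Cfsg.Agent.H441.FPR.mv27.eq_1]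
  exact _root_.True.intro
end

-- part: H398/FPR/FamEOne
section
prune_inst 0x10000000000000
set_option linter.all false
open scoped Cfsg.Agent.FastGrp

-- part: H398/FPR/Over
section
/-!
# Overgroups of the radicals

If a proper subgroup `D` of `SG P` contains all Siegel elements at the points of `T`, then the
`D`-images of `T` are pairwise orthogonal, hence `D` meets the opposite radical in a small subgroup.
-/

set_option autoImplicit false
open Subgroup MulAction

namespace Cfsg.Agent.H398.FPR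

open Cfsg.Agent.TitsThree.Siegel Cfsg.Agent.TitsThree.SiegelGen Cfsg.Agent.H110.Fpr
open Cfsg.Agent.H435.Fpr (PairM)

section Abs

variable {G : Type*} [Group G]

/-- The index of `H ∩ Q` in `Q` if `H` does not meet the central subgroup `Z` and `(H ∩ Q) Z ≠ Q`. -/
theorem central_relIndex [Finite G] {Q Z H : Subgroup G} (hZ : Z ≤ Q)
    (hc : ∀ z ∈ Z, ∀ g ∈ Q, z * g = g * z) (hH : ∀ z ∈ Z, z ∈ H → z = 1)
    (hne : ∃ q ∈ Q, ∀ a ∈ H ⊓ Q, ∀ z ∈ Z, q ≠ a * z) : 2 * Nat.card Z ≤ H.relIndex Q := by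
  classical
  have h1 := relIndex_mul_card H Q
  let B : Subgroup G :=
    { carrier := {g | ∃ a ∈ H ⊓ Q, ∃ z ∈ Z, g = a * z}
      one_mem' := ⟨1, one_mem _, 1, one_mem _, (one_mul 1).symm⟩
      mul_mem' := by
        rintro _ _ ⟨a, ha, z, hz, rfl⟩ ⟨b, hb, w, hw, rfl⟩
        refine ⟨a * b, mul_mem ha hb, z * w, mul_mem hz hw, ?_⟩
        have h2 := hc z hz b hb.2
        calc a * z * (b * w) = a * (z * b) * w := by group
          _ = a * (b * z) * w := by rw [h2]
          _ = a * b * (z * w) := by group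
      inv_mem' := by
        rintro _ ⟨a, ha, z, hz, rfl⟩
        refine ⟨a⁻¹, inv_mem ha, z⁻¹, inv_mem hz, ?_⟩
        rw [mul_inv_rev]
        exact hc _ (inv_mem hz) _ (inv_mem ha).2 }
  have hBQ : B ≤ Q := by
    rintro _ ⟨a, ha, z, hz, rfl⟩
    exact mul_mem ha.2 (hZ hz)
  have hBc : Nat.card B = Nat.card (H ⊓ Q : Subgroup G) * Nat.card Z := by
    rw [← Nat.card_prod]
    apply Nat.card_congr
    symm
    refine Equiv.ofBijective (fun a => (⟨a.1 * a.2, a.1, a.1.2, a.2, a.2.2, rfl⟩ : B)) ⟨?_, ?_⟩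
    · rintro ⟨a, z⟩ ⟨b, w⟩ hab
      have h2 : (a : G) * z = b * w := congrArg Subtype.val hab
      have h3 : (b : G)⁻¹ * a = w * (z : G)⁻¹ := by
        rw [inv_mul_eq_iff_eq_mul, ← mul_assoc, ← h2, mul_inv_cancel_right]
      have h4 : (w : G) * (z : G)⁻¹ = 1 := by
        apply hH _ (mul_mem w.2 (inv_mem z.2))
        rw [← h3]
        exact mul_mem (inv_mem b.2.1) a.2.1
      have h5 : (w : G) = z := mul_inv_eq_one.1 h4
      rw [h4, inv_mul_eq_one] at h3
      rw [Prod.mk.injEq]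
      exact ⟨Subtype.ext h3.symm, Subtype.ext h5.symm⟩
    · rintro ⟨_, a, ha, z, hz, rfl⟩
      exact ⟨(⟨a, ha⟩, ⟨z, hz⟩), rfl⟩
  have hBlt : B ≠ Q := by
    intro h
    obtain ⟨q, hq, hq'⟩ := hne
    rw [← h] at hq
    obtain ⟨a, ha, z, hz, h2⟩ := hq
    exact hq' a ha z hz h2
  have hdvd : Nat.card B ∣ Nat.card Q := card_dvd_of_le hBQ
  obtain ⟨c, hc'⟩ := hdvd
  have hc2 : 2 ≤ c := by
    by_contra hlt
    have hc0 : c ≠ 0 := by
      rintro rfl
      rw [mul_zero] at hc'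
      exact absurd hc' Nat.card_pos.ne'
    have hc1 : c = 1 := by omega
    apply hBlt
    apply Subgroup.eq_of_le_of_card_ge hBQ
    rw [hc', hc1, mul_one]
  have h3 : (H.relIndex Q) * Nat.card (H ⊓ Q : Subgroup G) =
      (c * Nat.card Z) * Nat.card (H ⊓ Q : Subgroup G) := by
    rw [h1, hc', hBc]
    ring
  have h4 : H.relIndex Q = c * Nat.card Z := Nat.eq_of_mul_eq_mul_right Nat.card_pos h3
  rw [h4]
  exact Nat.mul_le_mul_right _ hc2

theorem relIndex_eq_card_of_disjoint [Finite G] {Q H : Subgroup G} (h : H ⊓ Q = ⊥) :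
    H.relIndex Q = Nat.card Q := by
  have h1 := relIndex_mul_card H Q
  rw [h, Subgroup.card_bot, mul_one] at h1
  exact h1

/-- a group on which `x` acts freely has order at least `M` -/
theorem FreeOn.le_card [Finite G] {p k r m : ℕ} (hp : p.Prime) (hr : r.Prime) {x : G}
    {R : Subgroup G} (h : FreeOn x R) (hx : x ^ p ^ k = 1) (hR : IsPGroup r R)
    (hM : ∀ t : ℕ, t ≠ 0 → r ^ t ≡ 1 [MOD p] → m ≤ r ^ t) (hR1 : ∃ g ∈ R, g ≠ 1) :
    m ≤ Nat.card R := by
  have h1 : ∀ g ∈ R, g ∈ zpowers x → g = 1 := by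
    intro g hg hgx
    apply h.free g hg
    obtain ⟨i, rfl⟩ := mem_zpowers_iff.1 hgx
    group
  have h2 := le_relIndex_of_pairM (h.pairM hp hr hx hR hM) (mem_zpowers x) (by
    intro hle
    obtain ⟨g, hg, hg1⟩ := hR1
    exact hg1 (h1 g hg (hle hg)))
  refine h2.trans ?_
  have h3 := relIndex_mul_card (zpowers x) R
  rw [← h3]
  exact Nat.le_mul_of_pos_right _ Nat.card_pos

/-- two different kinds of nontrivial elements: the order is at least `2 p + 1` -/
theorem FreeOn.le_card_two [Finite G] {p k : ℕ} (hp : p.Prime) {x : G}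
    {R : Subgroup G} (h : FreeOn x R) (hx : x ^ p ^ k = 1) (Q : G → Prop)
    (hQ : ∀ g, Q g ↔ Q (x * g * x⁻¹)) {g1 g2 : G} (h1 : g1 ∈ R) (h1' : g1 ≠ 1) (h1Q : Q g1)
    (h2 : g2 ∈ R) (h2' : g2 ≠ 1) (h2Q : ¬ Q g2) : 2 * p + 1 ≤ Nat.card R := by
  classical
  have : Fact p.Prime := ⟨hp⟩
  -- `⟨x⟩` acts on the elements of `R`
  have hpow : ∀ n : ℕ, ∀ g, g ∈ R → x ^ n * g * (x ^ n)⁻¹ ∈ R := by
    intro n
    induction n with
    | zero => intro g hg; simpa using hg
    | succ n ih =>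
      intro g hg
      have h3 := (mem_normalizer_iff.1 h.norm _).1 (ih g hg)
      have e : x ^ (n + 1) * g * (x ^ (n + 1))⁻¹ = x * (x ^ n * g * (x ^ n)⁻¹) * x⁻¹ := by
        rw [pow_succ']; group
      rwa [e]
  have hpowQ : ∀ n : ℕ, ∀ g, Q g ↔ Q (x ^ n * g * (x ^ n)⁻¹) := by
    intro n
    induction n with
    | zero => intro g; simp
    | succ n ih =>
      intro g
      have e : x ^ (n + 1) * g * (x ^ (n + 1))⁻¹ = x * (x ^ n * g * (x ^ n)⁻¹) * x⁻¹ := by
        rw [pow_succ']; group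
      rw [e, ← hQ, ← ih]
  -- orbits
  have hinj : ∀ g ∈ R, g ≠ 1 → Function.Injective
      (fun i : Fin p => x ^ (i : ℕ) * g * (x ^ (i : ℕ))⁻¹) := by
    intro g hg hg1
    have key : ∀ i j : ℕ, i < j → j < p → x ^ i * g * (x ^ i)⁻¹ = x ^ j * g * (x ^ j)⁻¹ →
        False := by
      intro i j hij hj hc
      have h3 : x ^ (j - i) * g * (x ^ (j - i))⁻¹ = g := by
        have e : x ^ j = x ^ i * x ^ (j - i) := by rw [← pow_add]; congr 1; omega
        rw [e] at hc
        have h4 : (x ^ i)⁻¹ * (x ^ i * g * (x ^ i)⁻¹) * x ^ i =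
            (x ^ i)⁻¹ * (x ^ i * x ^ (j - i) * g * (x ^ i * x ^ (j - i))⁻¹) * x ^ i := by
          rw [hc]
        have h5 : (x ^ i)⁻¹ * (x ^ i * g * (x ^ i)⁻¹) * x ^ i = g := by group
        rw [h5] at h4
        have h6 : x ^ (j - i) * g * (x ^ (j - i))⁻¹ =
            (x ^ i)⁻¹ * (x ^ i * x ^ (j - i) * g * (x ^ i * x ^ (j - i))⁻¹) * x ^ i := by
          group
        rw [h6]
        exact h4.symm
      have hcop : Nat.Coprime (j - i) (p ^ k) := by
        apply Nat.Coprime.pow_right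
        rw [Nat.coprime_comm]
        apply (Nat.Prime.coprime_iff_not_dvd hp).2
        intro hd
        have := Nat.le_of_dvd (by omega) hd
        omega
      -- `x` is a power of `x ^ (j - i)`
      have hgen : x ∈ zpowers (x ^ (j - i)) := by
        have h6 : (orderOf x).Coprime (j - i) :=
          Nat.Coprime.coprime_dvd_left (orderOf_dvd_of_pow_eq_one hx) hcop.symm
        have h7 := Nat.Coprime.symm h6
        rw [mem_zpowers_iff]
        obtain ⟨m, hm⟩ := exists_pow_eq_self_of_coprime (n := j - i) (x := x) h7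
        exact ⟨m, by rw [zpow_natCast]; exact hm⟩
      have hcent : ∀ y ∈ zpowers (x ^ (j - i)), y * g = g * y := by
        intro y hy
        have h8 : zpowers (x ^ (j - i)) ≤ centralizer {g} := by
          rw [zpowers_le, mem_centralizer_singleton_iff]
          exact mul_inv_eq_iff_eq_mul.1 h3
        exact mem_centralizer_singleton_iff.1 (h8 hy)
      apply hg1
      apply h.free g hg
      rw [mul_inv_eq_iff_eq_mul]
      exact hcent x hgen
    intro i j hij
    apply Fin.ext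
    by_contra hne
    rcases Nat.lt_or_gt_of_ne hne with h4 | h4
    · exact key i j h4 j.2 hij
    · exact key j i h4 i.2 hij.symm
  let S : Finset G := {1} ∪ (Finset.univ.image fun i : Fin p => x ^ (i : ℕ) * g1 * (x ^ (i : ℕ))⁻¹) ∪
    (Finset.univ.image fun i : Fin p => x ^ (i : ℕ) * g2 * (x ^ (i : ℕ))⁻¹)
  have hS : (S : Set G) ⊆ R := by
    intro g hg
    simp only [S, Finset.coe_union, Finset.coe_singleton, Finset.coe_image, Finset.coe_univ,
      Set.image_univ, Set.mem_union, Set.mem_singleton_iff, Set.mem_range] at hg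
    rcases hg with (rfl | ⟨i, rfl⟩) | ⟨i, rfl⟩
    · exact one_mem _
    · exact hpow _ _ h1
    · exact hpow _ _ h2
  have hne1 : ∀ g, g ≠ 1 → ∀ n : ℕ, x ^ n * g * (x ^ n)⁻¹ ≠ 1 := by
    intro g hg n hc
    apply hg
    rw [mul_inv_eq_one] at hc
    exact mul_left_cancel (a := x ^ n) (by rw [hc, mul_one])
  have hcard : S.card = 1 + p + p := by
    simp only [S]
    rw [Finset.card_union_of_disjoint, Finset.card_union_of_disjoint,
      Finset.card_image_of_injective _ (hinj g1 h1 h1'),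
      Finset.card_image_of_injective _ (hinj g2 h2 h2'), Finset.card_singleton, Finset.card_univ,
      Fintype.card_fin]
    · rw [Finset.disjoint_left]
      intro a ha hb
      rw [Finset.mem_singleton] at ha
      rw [Finset.mem_image] at hb
      obtain ⟨i, -, hi⟩ := hb
      exact hne1 g1 h1' _ (hi.trans ha)
    · rw [Finset.disjoint_left]
      intro a ha hb
      rw [Finset.mem_image] at hb
      obtain ⟨i, -, rfl⟩ := hb
      rw [Finset.mem_union, Finset.mem_singleton, Finset.mem_image] at ha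
      rcases ha with ha | ⟨j, -, hj⟩
      · exact hne1 g2 h2' _ ha
      · apply h2Q
        rw [hpowQ i g2, ← hj, ← hpowQ j g1]
        exact h1Q
  have h3 : S.card ≤ Nat.card R := by
    have h4 := Set.ncard_le_ncard hS (Set.toFinite _)
    rw [Set.ncard_coe_finset] at h4
    exact h4
  rw [hcard] at h3
  omega

end Abs

variable {F : Type*} [Field F] {V : Type*} [AddCommGroup V] [Module F V]
variable {H : HForm F V} {P : PQ H} {T M T' : Submodule F V}

theorem Zt.conj {D : Subgroup (V ≃ₗ[F] V)} {u : V} (hz : Zt P D Set.univ u) {g : V ≃ₗ[F] V}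
    (hg : g ∈ D) (hgi : H.IsIso g) (hok : ∀ w c, P.ok w c → P.ok (g⁻¹ w) c) :
    Zt P D Set.univ (g u) := by
  intro w c hx hw _ hwc
  have e : g (g⁻¹ w) = w := g.apply_symm_apply w
  have h1 : H.h u (g⁻¹ w) = 0 := by rw [← hgi, e, hw]
  have h2 : H.h u u = 0 := by rw [← hgi]; exact hx
  have h3 := D.mul_mem (D.mul_mem hg (hz (g⁻¹ w) c h2 h1 (Set.mem_univ _) (hok _ _ hwc)))
    (D.inv_mem hg)
  rw [H.conj_sie hgi] at h3
  rwa [H.sie_congr _ _ hx hw rfl e rfl] at h3

/-- **The images of `T` are orthogonal.** -/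
theorem over_orth {D : Subgroup (V ≃ₗ[F] V)} (hD : D ≤ SG P) (hD' : ¬ SG P ≤ D)
    (hT : ∀ u ∈ T, P.ok u 0) (hz : ∀ u ∈ T, Zt P D Set.univ u)
    (hnd : ∀ v : V, v ≠ 0 → ∃ w, H.h v w ≠ 0) {g : V ≃ₗ[F] V} (hg : g ∈ D) {u v : V} (hu : u ∈ T)
    (hv : v ∈ T) : H.h (g u) v = 0 := by
  obtain ⟨hgi, hok, hok'⟩ := SG_iso (hD hg)
  by_contra hne
  exact hD' (all_of_pair (hz v hv) (Zt.conj (hz u hu) hg hgi hok') (hT v hv) (hok _ _ (hT u hu))
    hne (fun w _ hw => hnd w hw))

/-- the elements of the opposite radical acting trivially on `M` -/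
def zrad (P : PQ H) (T M : Submodule F V) : Subgroup (V ≃ₗ[F] V) :=
  rad P T (T ⊔ M) ⊓
    { carrier := {g | ∀ m ∈ M, g m = m}
      one_mem' := fun _ _ => rfl
      mul_mem' := fun {a b} ha hb m hm => by
        show a (b m) = m
        rw [hb m hm, ha m hm]
      inv_mem' := fun {a} ha m hm => by
        have h := ha m hm
        show a.symm m = m
        rw [LinearEquiv.symm_apply_eq, h] }

theorem mem_zrad {g : V ≃ₗ[F] V} : g ∈ zrad P T M ↔ g ∈ rad P T (T ⊔ M) ∧ ∀ m ∈ M, g m = m :=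
  Iff.rfl

/-- elements of `zrad` are `1 + (T' → T)` -/
theorem Dec.zrad_mid (d : Dec P T M T') {g : V ≃ₗ[F] V} (hg : g ∈ zrad P T M) (v : V) :
    g v - v ∈ T := by
  have hr := d.inRad hg.1
  apply d.mem_of_orth2 (hr.orth v)
  intro m hm
  have h1 := hr.iso v m
  rw [hg.2 m hm] at h1
  rw [H.sub_left, h1, sub_self]

/-- `zrad` is central in the radical. -/
theorem Dec.zrad_central (d : Dec P T M T') : ∀ z ∈ zrad P T M, ∀ g ∈ rad P T (T ⊔ M),
    z * g = g * z := by
  intro z hz g hg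
  have hg' := d.inRad hg
  have hz' := d.inRad hz.1
  ext v
  show z (g v) = g (z v)
  have h1 : z (g v) - g v = z v - v := by
    have e : z (g v) - g v = (z v - v) + (z (g v - v) - (g v - v)) := by
      rw [map_sub]; abel
    obtain ⟨t, ht, m, hm, h2⟩ := d.mem_of_orth (hg'.orth v)
    rw [e, h2, map_add, hz'.fix t ht, hz.2 m hm, sub_self, add_zero]
  have h2 : g (z v) - g v = z v - v := by
    rw [← map_sub, hg'.fix _ (d.zrad_mid hz v)]
  rw [← sub_eq_zero]
  have e : z (g v) - g (z v) = (z (g v) - g v) - (g (z v) - g v) := by abel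
  rw [e, h1, h2, sub_self]

/-- `D` does not meet `zrad` on the other side -/
theorem over_zrad (d : Dec P T M T') {D : Subgroup (V ≃ₗ[F] V)} (hD : D ≤ SG P)
    (hD' : ¬ SG P ≤ D) (hz : ∀ u ∈ T, Zt P D Set.univ u) : ∀ z ∈ zrad P T' M, z ∈ D → z = 1 := by
  intro z hz' hzD
  have h1 : ∀ v, z v - v ∈ T' := d.symm.zrad_mid hz'
  have hr := d.symm.inRad hz'.1
  have h2 : ∀ u ∈ T, z u = u := by
    intro u hu
    rw [← sub_eq_zero]
    apply d.eq_zero
    · intro t ht
      rw [H.sub_left, over_orth hD hD' d.s1 hz d.nd hzD hu ht, d.o1 u hu t ht, sub_zero]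
    · exact fun m hm => d.m2 _ (h1 u) m hm
    · exact fun t ht => d.o2 _ (h1 u) t ht
  ext v
  obtain ⟨t, ht, m, hm, t', ht', rfl⟩ := d.exists_eq v
  show z (t + m + t') = t + m + t'
  rw [map_add, map_add, h2 t ht, hz'.2 m hm, hr.fix t' ht']

/-- **The index of `D` in the opposite radical, `M ≠ 0`.** -/
theorem over_relIndex [Finite V] (d : Dec P T M T') {D : Subgroup (V ≃ₗ[F] V)} (hD : D ≤ SG P)
    (hD' : ¬ SG P ≤ D) (hz : ∀ u ∈ T, Zt P D Set.univ u) {u u' : V} (hu : u ∈ T) (hu' : u' ∈ T')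
    (huu' : H.h u u' ≠ 0) {m m' : V} (hm : m ∈ M) (hm' : m' ∈ M) (hmm' : H.h m m' ≠ 0) :
    2 * Nat.card (zrad P T' M) ≤ D.relIndex (rad P T' (T' ⊔ M)) := by
  have hs1 := d.s2 u' hu'
  have hh1 := P.iso hs1
  -- the elements `S(u', w, c)`
  have hel : ∀ w ∈ M, ∃ g ∈ rad P T' (T' ⊔ M), g u = u + H.h u u' • w + (g u - u - H.h u u' • w) ∧
      g u - u - H.h u u' • w ∈ T' := by
    intro w hw
    obtain ⟨c, hc⟩ := P.ex w
    have h1 : H.h u' w = 0 := d.m2 u' hu' w hw
    refine ⟨H.sie u' w c hh1 h1, sie_mem_rad _ _ hu' (Submodule.mem_sup_right hw) hc, by abel, ?_⟩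
    rw [H.sie_apply]
    have e : u + H.h u u' • w - (H.ε⁻¹ * H.h u w) • u' + (c * H.h u u') • u' - u - H.h u u' • w =
        (-(H.ε⁻¹ * H.h u w) + c * H.h u u') • u' := by module
    rw [e]
    exact T'.smul_mem _ hu'
  apply central_relIndex inf_le_left d.symm.zrad_central (over_zrad d hD hD' hz)
  by_contra hcon
  push Not at hcon
  -- then for each `w` there is an element of `D` moving `u` to `u + h u u' • w`
  have key : ∀ w ∈ M, ∃ g ∈ D, g u = u + H.h u u' • w := by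
    intro w hw
    obtain ⟨q, hq, hq1, hq2⟩ := hel w hw
    obtain ⟨a, ha, z, hz', hqa⟩ := hcon q hq
    have haR := d.symm.inRad ha.2
    refine ⟨a, ha.1, ?_⟩
    -- `a u = u + h • w + t'`
    have hz1 : z u - u ∈ T' := d.symm.zrad_mid hz' u
    have h1 : q u = a u + (z u - u) := by
      rw [hqa]
      show a (z u) = _
      have e : z u = u + (z u - u) := by abel
      conv_lhs => rw [e, map_add, haR.fix _ hz1]
    have h2 : a u - u - H.h u u' • w ∈ T' := by
      have e : a u - u - H.h u u' • w = (q u - u - H.h u u' • w) - (z u - u) := by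
        rw [h1]; abel
      rw [e]
      exact T'.sub_mem hq2 hz1
    have h3 : a u - u - H.h u u' • w = 0 := by
      apply d.eq_zero
      · intro t ht
        rw [H.sub_left, H.sub_left, over_orth hD hD' d.s1 hz d.nd ha.1 hu ht, d.o1 u hu t ht,
          H.smul_left, H.orth_symm (d.m1 t ht w hw)]
        simp
      · exact fun m hm => d.m2 _ h2 m hm
      · exact fun t ht => d.o2 _ h2 t ht
    have e : a u = u + H.h u u' • w + (a u - u - H.h u u' • w) := by abel
    rw [e, h3, add_zero]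
  obtain ⟨g, hg, hgu⟩ := key m hm
  obtain ⟨g', hg', hgu'⟩ := key m' hm'
  have h1 : H.h (g u) (g' u) = 0 := by
    obtain ⟨hgi, -, -⟩ := SG_iso (hD hg')
    have h2 := over_orth hD hD' d.s1 hz d.nd (D.mul_mem (D.inv_mem hg') hg) hu hu
    rw [← hgi] at h2
    have e : g' ((g'⁻¹ * g) u) = g u := g'.apply_symm_apply (g u)
    rwa [e] at h2
  rw [hgu, hgu', H.add_left, H.add_right, H.add_right, H.smul_left, H.smul_right, H.smul_left,
    H.smul_right, d.o1 u hu u hu, d.m1 u hu m' hm', H.orth_symm (d.m1 u hu m hm)] at h1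
  simp only [mul_zero, zero_add, mul_eq_zero, huu', hmm', or_false,
    EmbeddingLike.map_eq_zero_iff] at h1

/-- Siegel elements at the points of `T`: from the radical and the root elements `T × T'`. -/
theorem over_zt (d : Dec P T M T') {D : Subgroup (V ≃ₗ[F] V)} (hR : rad P T (T ⊔ M) ≤ D)
    (hK : ∀ u ∈ T, ∀ t ∈ T', H.h u t = 0 → Rt H D u t) : ∀ u ∈ T, Zt P D Set.univ u := by
  intro u hu w c huu huw _ hwc
  have hus := d.s1 u hu
  have z1 : ∀ w ∈ T ⊔ M, Zt P D {w} u := by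
    intro w hw x c hx hux hxw hxc
    rw [Set.mem_singleton_iff] at hxw
    subst hxw
    exact hR (sie_mem_rad _ _ hu hw hxc)
  have z0 : Zt P D {0} u := z1 0 (Submodule.zero_mem _)
  obtain ⟨t, ht, m, hm, t', ht', rfl⟩ := d.exists_eq w
  have h1 : H.h u (t + m) = 0 := by rw [H.add_right, d.o1 u hu t ht, d.m1 u hu m hm, add_zero]
  have h2 : H.h u t' = 0 := by
    rw [H.add_right, h1, zero_add] at huw
    exact huw
  have h3 := Zt.of_rt P hus (d.s2 t' ht') h2 z0 (hK u hu t' ht' h2) 1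
  rw [one_smul] at h3
  exact Zt.add P hus z0 (z1 (t + m) (Submodule.add_mem_sup ht hm)) h3 h1 h2 (t + m + t') c huu huw
    rfl hwc

end Cfsg.Agent.H398.FPR
end

-- part: H398/FPR/Frame
section
/-!
# Hyperbolic frames

`e i`, `f i` hyperbolic pairs, `T = ⟨e i⟩`, `T' = ⟨f i⟩`, `M = T^⊥ ∩ T'^⊥`.
-/

set_option autoImplicit false
open Subgroup MulAction

namespace Cfsg.Agent.H398.FPR

open Cfsg.Agent.TitsThree.Siegel Cfsg.Agent.TitsThree.SiegelGen Cfsg.Agent.H110.Fpr
open Cfsg.Agent.H435.Fpr (PairM)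

variable {F : Type*} [Field F] {V : Type*} [AddCommGroup V] [Module F V]
variable {H : HForm F V} {P : PQ H}

/-- A hyperbolic frame. -/
structure HFr {ι : Type*} [DecidableEq ι] (P : PQ H) (e f : ι → V) : Prop where
  es : ∀ i, P.ok (e i) 0
  fs : ∀ i, P.ok (f i) 0
  ee : ∀ i j, H.h (e i) (e j) = 0
  ff : ∀ i j, H.h (f i) (f j) = 0
  ef : ∀ i j, H.h (e i) (f j) = if i = j then 1 else 0

/-- the complement -/
def mid (H : HForm F V) {ι : Type*} (e f : ι → V) : Submodule F V :=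
  perp H (Set.range e ∪ Set.range f)

section

variable {ι : Type*} [DecidableEq ι] {e f : ι → V}

omit [DecidableEq ι] in
theorem mem_mid {v : V} : v ∈ mid H e f ↔ (∀ i, H.h v (e i) = 0) ∧ ∀ i, H.h v (f i) = 0 := by
  constructor
  · intro h
    exact ⟨fun i => h _ (Or.inl ⟨i, rfl⟩), fun i => h _ (Or.inr ⟨i, rfl⟩)⟩
  · rintro ⟨h1, h2⟩ u (⟨i, rfl⟩ | ⟨i, rfl⟩)
    · exact h1 i
    · exact h2 i

theorem HFr.fe (h : HFr P e f) (i j : ι) : H.h (f i) (e j) = if i = j then H.ε else 0 := by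
  rw [H.swap (e j) (f i), h.ef]
  by_cases hij : i = j
  · rw [if_pos hij, if_pos hij.symm, map_one, mul_one]
  · rw [if_neg hij, if_neg (Ne.symm hij), map_zero, mul_zero]

theorem sum_left {ι' : Type*} (s : Finset ι') (a : ι' → F) (x : ι' → V) (y : V) :
    H.h (∑ j ∈ s, a j • x j) y = ∑ j ∈ s, a j * H.h (x j) y := by
  classical
  induction s using Finset.induction_on with
  | empty => simp [H.zero_left]
  | insert j s hj ih => rw [Finset.sum_insert hj, Finset.sum_insert hj, H.add_left, H.smul_left, ih]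

theorem HFr.dec [Fintype ι] (h : HFr P e f) (hnd : ∀ v : V, v ≠ 0 → ∃ w, H.h v w ≠ 0) :
    Dec P (Submodule.span F (Set.range e)) (mid H e f) (Submodule.span F (Set.range f)) where
  top := by
    rw [eq_top_iff]
    intro v _
    have hv : v = ∑ j, H.h v (f j) • e j +
        (v - ∑ j, H.h v (f j) • e j - ∑ j, (H.ε⁻¹ * H.h v (e j)) • f j) +
        ∑ j, (H.ε⁻¹ * H.h v (e j)) • f j := by abel
    rw [hv]
    refine Submodule.add_mem_sup (Submodule.add_mem_sup ?_ ?_) ?_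
    · exact Submodule.sum_mem _ fun j _ =>
        Submodule.smul_mem _ _ (Submodule.subset_span ⟨j, rfl⟩)
    · rw [mem_mid]
      constructor
      · intro i
        rw [H.sub_left, H.sub_left, sum_left, sum_left]
        simp only [h.ee, h.fe, mul_zero, Finset.sum_const_zero, sub_zero, mul_ite,
          Finset.sum_ite_eq', Finset.mem_univ, if_true]
        field_simp [H.ε_ne]
        ring
      · intro i
        rw [H.sub_left, H.sub_left, sum_left, sum_left]
        simp only [h.ff, h.ef, mul_zero, Finset.sum_const_zero, sub_zero, mul_ite, mul_one,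
          Finset.sum_ite_eq', Finset.mem_univ, if_true]
        ring
    · exact Submodule.sum_mem _ fun j _ =>
        Submodule.smul_mem _ _ (Submodule.subset_span ⟨j, rfl⟩)
  s1 := span_sing (by rintro _ ⟨i, rfl⟩ _ ⟨j, rfl⟩; exact h.ee i j)
    (by rintro _ ⟨i, rfl⟩; exact h.es i)
  s2 := span_sing (by rintro _ ⟨i, rfl⟩ _ ⟨j, rfl⟩; exact h.ff i j)
    (by rintro _ ⟨i, rfl⟩; exact h.fs i)
  o1 := span_orth (by rintro _ ⟨i, rfl⟩ _ ⟨j, rfl⟩; exact h.ee i j)
  o2 := span_orth (by rintro _ ⟨i, rfl⟩ _ ⟨j, rfl⟩; exact h.ff i j)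
  m1 := fun u hu w hw => perp_orth u hu w (perp_anti Set.subset_union_left hw)
  m2 := fun u hu w hw => perp_orth u hu w (perp_anti Set.subset_union_right hw)
  nd := hnd

omit [DecidableEq ι] in
/-- an element fixing `M`: what is needed for `XAct` -/
theorem xact_of {x : V ≃ₗ[F] V} (hxS : x ∈ SG P) (he : ∀ i, x (e i) ∈ Submodule.span F (Set.range e))
    (hf : ∀ i, x (f i) ∈ Submodule.span F (Set.range f)) (hm : ∀ w ∈ mid H e f, x w = w) :
    XAct P (Submodule.span F (Set.range e)) (mid H e f) (Submodule.span F (Set.range f)) x := by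
  obtain ⟨h1, h2, -⟩ := SG_iso hxS
  refine ⟨h1, h2, ?_, ?_, hm⟩
  · intro u hu
    have : Submodule.span F (Set.range e) ≤
        (Submodule.span F (Set.range e)).comap (x : V →ₗ[F] V) := by
      rw [Submodule.span_le]
      rintro _ ⟨i, rfl⟩
      exact he i
    exact this hu
  · intro u hu
    have : Submodule.span F (Set.range f) ≤
        (Submodule.span F (Set.range f)).comap (x : V →ₗ[F] V) := by
      rw [Submodule.span_le]
      rintro _ ⟨i, rfl⟩
      exact hf i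
    exact this hu

end

/-- scalars on the two totally singular subspaces -/
theorem freeOn_scal [Finite V] {T M T' : Submodule F V} (d : Dec P T M T') {x : V ≃ₗ[F] V}
    (a : XAct P T M T' x) {lam mu : F} (h1 : ∀ t ∈ T, x t = lam • t) (h2 : ∀ t ∈ T', x t = mu • t)
    (hl : lam ≠ 1) (hlm : lam ≠ mu) : FreeOn x (rad P T (T ⊔ M)) := by
  apply freeOn_rad d a
  · intro t ht hx
    rw [h1 t ht] at hx
    have h3 : (lam - 1) • t = 0 := by rw [sub_smul, one_smul, hx, sub_self]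
    exact (smul_eq_zero.1 h3).resolve_left (sub_ne_zero.2 hl)
  · intro τ hτ1 hτ2 v hv
    have h3 := hτ2 v hv
    rw [h1 _ (hτ1 v hv), h2 v hv, map_smul] at h3
    have h4 : (lam - mu) • τ v = 0 := by rw [sub_smul, h3, sub_self]
    exact (smul_eq_zero.1 h4).resolve_left (sub_ne_zero.2 hlm)

/-- The product of four transvections in characteristic two. -/
theorem diag_apply (h2 : (2 : F) = 0) (A B : F → V ≃ₗ[F] V) {u u' : V}
    (a1 : ∀ s, A s u = u) (a2 : ∀ s, A s u' = u' + s • u) (b1 : ∀ s, B s u' = u')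
    (b2 : ∀ s, B s u = u + s • u') {lam : F} (hl : lam ≠ 0) :
    (A lam * B ((lam + 1) / lam) * A 1 * B (lam + 1)) u = lam • u ∧
    (A lam * B ((lam + 1) / lam) * A 1 * B (lam + 1)) u' = lam⁻¹ • u' := by
  constructor
  · show A lam (B ((lam + 1) / lam) (A 1 (B (lam + 1) u))) = lam • u
    simp only [b2, b1, a1, a2, map_add, map_smul]
    match_scalars
    · field_simp
      linear_combination (1 + lam + lam ^ 2 + (1 + lam)) * h2
    · field_simp
      linear_combination (1 + lam + lam ^ 2 + lam) * h2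
  · show A lam (B ((lam + 1) / lam) (A 1 (B (lam + 1) u'))) = lam⁻¹ • u'
    simp only [b2, b1, a1, a2, map_add, map_smul]
    match_scalars
    · field_simp
      linear_combination (1 + lam + lam ^ 2 - (1 + lam ^ 2)) * h2
    · field_simp
      linear_combination (1 + lam + lam ^ 2 - lam ^ 2) * h2

end Cfsg.Agent.H398.FPR
end

-- part: H398/FPR/COne
section
/-!
# `p ∣ q - 1` in characteristic two: long root elements exist (`Λ ≠ 0`)
-/

set_option autoImplicit false
open Subgroup MulAction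

namespace Cfsg.Agent.H398.FPR

open Cfsg.Agent.TitsThree.Siegel Cfsg.Agent.TitsThree.SiegelGen Cfsg.Agent.H110.Fpr
open Cfsg.Agent.H435.Fpr (PairM)

variable {F : Type*} [Field F] {V : Type*} [AddCommGroup V] [Module F V]
variable {H : HForm F V} {P : PQ H}

theorem charP_two (h2 : (2 : F) = 0) : CharP F 2 :=
  CharTwo.of_one_ne_zero_of_two_eq_zero one_ne_zero h2

theorem Dec.rad_le_SG {T M T' : Submodule F V} (d : Dec P T M T') :
    rad P T (T ⊔ M) ≤ SG P := by
  apply rad_le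
  intro u w c hu hw huT _ hwc
  exact sie_mem_SG P hu hw (d.s1 u huT) hwc

/-- `x` acts freely on `zrad` -/
theorem FreeOn.zrad {T M T' : Submodule F V} (_d : Dec P T M T') {x : V ≃ₗ[F] V}
    (a : XAct P T M T' x) (h : FreeOn x (rad P T (T ⊔ M))) : FreeOn x (zrad P T M) := by
  refine ⟨?_, fun r hr => h.free r hr.1⟩
  have hxM : ∀ m ∈ M, x⁻¹ m = m := by
    intro m hm
    have h1 : x.symm m = m := by rw [LinearEquiv.symm_apply_eq, a.m m hm]
    exact h1
  rw [mem_normalizer_iff]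
  intro g
  rw [mem_zrad, mem_zrad]
  constructor
  · rintro ⟨h1, h2⟩
    refine ⟨(mem_normalizer_iff.1 h.norm g).1 h1, fun m hm => ?_⟩
    show x (g (x⁻¹ m)) = m
    rw [hxM m hm, h2 m hm, a.m m hm]
  · rintro ⟨h1, h2⟩
    refine ⟨(mem_normalizer_iff.1 h.norm g).2 h1, fun m hm => ?_⟩
    have h3 : x (g (x⁻¹ m)) = m := h2 m hm
    rw [hxM m hm] at h3
    rw [← hxM m hm]
    have h4 : x⁻¹ (x (g m)) = x⁻¹ m := by rw [h3]
    rw [show x⁻¹ (x (g m)) = g m from x.symm_apply_apply (g m)] at h4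
    rw [hxM m hm] at h4 ⊢
    exact h4

theorem FreeOn.pow_ne {G : Type*} [Group G] {x : G} {R : Subgroup G} (h : FreeOn x R)
    (hR : ∃ g ∈ R, g ≠ 1) : x ≠ 1 := by
  rintro rfl
  obtain ⟨g, hg, hg1⟩ := hR
  exact hg1 (h.free g hg (by group))

/-- **Two radicals, with the overgroup argument.** -/
theorem uGood_dec [Finite V] (h2 : (2 : F) = 0) {T M T' : Submodule F V} (d : Dec P T M T')
    {p k m0 : ℕ} (hp : p.Prime) (hM : ∀ t : ℕ, t ≠ 0 → 2 ^ t ≡ 1 [MOD p] → m0 ≤ 2 ^ t)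
    {x : V ≃ₗ[F] V} (hxS : x ∈ SG P) (hx : x ^ p ^ k = 1) (a : XAct P T M T' x)
    (f1 : FreeOn x (rad P T (T ⊔ M))) (f2 : FreeOn x (rad P T' (T' ⊔ M)))
    {u u' : V} (hu : u ∈ T) (hu' : u' ∈ T') (huu' : H.h u u' ≠ 0) {m m' : V} (hm : m ∈ M)
    (hm' : m' ∈ M) (hmm' : H.h m m' ≠ 0)
    (z1 : ∃ z ∈ zrad P T M, z ≠ 1) (z2 : ∃ z ∈ zrad P T' M, z ≠ 1)
    (hzt1 : ∀ D : Subgroup (V ≃ₗ[F] V), rad P T (T ⊔ M) ≤ D → ∀ u ∈ T, Zt P D Set.univ u)
    (hzt2 : ∀ D : Subgroup (V ≃ₗ[F] V), rad P T' (T' ⊔ M) ≤ D → ∀ u ∈ T', Zt P D Set.univ u) :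
    UGood 1 m0 (⟨x, hxS⟩ : SG P) := by
  have hch := charP_two h2
  have : Fact (Nat.Prime 2) := ⟨Nat.prime_two⟩
  have hfin : Finite (V ≃ₗ[F] V) := instFin
  have hR1 : IsPGroup 2 (rad P T (T ⊔ M)) := rad_isPGroup d
  have hR2 : IsPGroup 2 (rad P T' (T' ⊔ M)) := rad_isPGroup d.symm
  have hZ1 : IsPGroup 2 (zrad P T M) := hR1.to_le inf_le_left
  have hZ2 : IsPGroup 2 (zrad P T' M) := hR2.to_le inf_le_left
  have c1 : m0 ≤ Nat.card (zrad P T M) := (f1.zrad d a).le_card hp Nat.prime_two hx hZ1 hM z1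
  have c2 : m0 ≤ Nat.card (zrad P T' M) :=
    (f2.zrad d.symm a.symm).le_card hp Nat.prime_two hx hZ2 hM z2
  have hx' : (⟨x, hxS⟩ : SG P) ^ p ^ k = 1 := Subtype.ext hx
  have p1 := (f1.subgroupOf hxS).pairM hp Nat.prime_two hx' (isPGroup_subgroupOf hR1) hM
  have p2 := (f2.subgroupOf hxS).pairM hp Nat.prime_two hx' (isPGroup_subgroupOf hR2) hM
  apply two_free_uGood (f1.subgroupOf hxS) (f2.subgroupOf hxS)
  intro D hD hxD
  have hDle : D.map (SG P).subtype ≤ SG P := by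
    rintro _ ⟨g, -, rfl⟩
    exact g.2
  have hDne : ¬ SG P ≤ D.map (SG P).subtype := by
    intro hle
    apply hD
    rw [eq_top_iff]
    intro g _
    obtain ⟨g', hg', he⟩ := hle g.2
    rwa [← Subtype.ext he]
  have hle : ∀ {R : Subgroup (V ≃ₗ[F] V)}, R ≤ SG P → R.subgroupOf (SG P) ≤ D →
      R ≤ D.map (SG P).subtype := by
    intro R hR h1 g hg
    exact ⟨⟨g, hR hg⟩, h1 hg, rfl⟩
  by_cases a1 : (rad P T (T ⊔ M)).subgroupOf (SG P) ≤ D
  · have b1 := over_relIndex d hDle hDne (hzt1 _ (hle d.rad_le_SG a1)) hu hu' huu' hm hm' hmm'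
    rw [← relIndex_subgroupOf_eq d.symm.rad_le_SG] at b1
    omega
  · by_cases a2 : (rad P T' (T' ⊔ M)).subgroupOf (SG P) ≤ D
    · have b1 := over_relIndex d.symm hDle hDne (hzt2 _ (hle d.symm.rad_le_SG a2)) hu' hu
        (fun h => huu' (H.orth_symm h)) hm hm' hmm'
      rw [← relIndex_subgroupOf_eq d.rad_le_SG] at b1
      omega
    · have b1 := le_relIndex_of_pairM p1 hxD a1
      have b2 := le_relIndex_of_pairM p2 hxD a2
      omega

section One

variable {e f : V}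

theorem frame_one (he : P.ok e 0) (hf : P.ok f 0) (hef : H.h e f = 1) :
    HFr P (fun _ : Unit => e) (fun _ : Unit => f) where
  es _ := he
  fs _ := hf
  ee _ _ := P.iso he
  ff _ _ := P.iso hf
  ef _ _ := by rw [hef, if_pos rfl]

/-- the subgroup generated by the two long root subgroups -/
def KOne (P : PQ H) (e f : V) : Subgroup (V ≃ₗ[F] V) :=
  Subgroup.closure {g | ∃ (u : V) (c : F) (hu : H.h u u = 0), (u = e ∨ u = f) ∧ P.ok 0 c ∧
    g = H.sie u 0 c hu (H.zero_right u)}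

theorem KOne_le (he : P.ok e 0) (hf : P.ok f 0) : KOne P e f ≤ SG P := by
  unfold KOne
  rw [closure_le]
  rintro _ ⟨u, c, hu, rfl | rfl, hc, rfl⟩
  · exact sie_mem_SG P _ _ he hc
  · exact sie_mem_SG P _ _ hf hc

/-- **The element `diag (λ, 1, λ⁻¹)`.** -/
theorem exists_diag_one (h2 : (2 : F) = 0) (hε : H.ε = 1) (he : P.ok e 0) (hf : P.ok f 0)
    (hef : H.h e f = 1) {lam : F} (hl : lam ≠ 0) (k1 : P.ok 0 lam)
    (k2 : P.ok 0 ((lam + 1) / lam)) (k3 : P.ok 0 1) (k4 : P.ok 0 (lam + 1)) :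
    ∃ x ∈ KOne P e f, x e = lam • e ∧ x f = lam⁻¹ • f ∧
      ∀ v, H.h v e = 0 → H.h v f = 0 → x v = v := by
  have hee := P.iso he
  have hff := P.iso hf
  have hfe : H.h f e = 1 := by rw [H.swap e f, hef, map_one, mul_one, hε]
  obtain ⟨A, hA⟩ : ∃ A : F → V ≃ₗ[F] V, A = fun s => H.sie e 0 s hee (H.zero_right e) := ⟨_, rfl⟩
  obtain ⟨B, hB⟩ : ∃ B : F → V ≃ₗ[F] V, B = fun s => H.sie f 0 s hff (H.zero_right f) := ⟨_, rfl⟩
  have a0 : ∀ s v, A s v = v + (s * H.h v e) • e := by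
    intro s v
    rw [hA]
    show H.sie e 0 s hee (H.zero_right e) v = _
    rw [H.sie_apply, H.zero_right]
    simp
  have b0 : ∀ s v, B s v = v + (s * H.h v f) • f := by
    intro s v
    rw [hB]
    show H.sie f 0 s hff (H.zero_right f) v = _
    rw [H.sie_apply, H.zero_right]
    simp
  have key := diag_apply h2 A B (u := e) (u' := f) (fun s => by rw [a0, hee]; simp)
    (fun s => by rw [a0, hfe]; simp) (fun s => by rw [b0, hff]; simp)
    (fun s => by rw [b0, hef]; simp) hl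
  refine ⟨_, ?_, key.1, key.2, ?_⟩
  · have hAm : ∀ s, P.ok 0 s → A s ∈ KOne P e f := by
      intro s hs
      rw [hA]
      exact subset_closure ⟨e, s, hee, Or.inl rfl, hs, rfl⟩
    have hBm : ∀ s, P.ok 0 s → B s ∈ KOne P e f := by
      intro s hs
      rw [hB]
      exact subset_closure ⟨f, s, hff, Or.inr rfl, hs, rfl⟩
    exact mul_mem (mul_mem (mul_mem (hAm _ k1) (hBm _ k2)) (hAm _ k3)) (hBm _ k4)
  · intro v hve hvf
    show A lam (B ((lam + 1) / lam) (A 1 (B (lam + 1) v))) = v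
    have hA1 : ∀ s, A s v = v := fun s => by rw [a0, hve]; simp
    have hB1 : ∀ s, B s v = v := fun s => by rw [b0, hvf]; simp
    rw [hB1, hA1, hB1, hA1]

/-- a nontrivial central element of the radical -/
theorem exists_zrad_one (he : P.ok e 0) (hf : P.ok f 0) (hef : H.h e f = 1) (k3 : P.ok 0 1) :
    ∃ z ∈ zrad P (Submodule.span F (Set.range fun _ : Unit => e))
      (mid H (fun _ : Unit => e) fun _ : Unit => f), z ≠ 1 := by
  have hee := P.iso he
  have hff := P.iso hf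
  have hfe : H.h f e ≠ 0 := by
    intro h
    have := H.orth_symm h
    rw [hef] at this
    exact one_ne_zero this
  refine ⟨H.sie e 0 1 hee (H.zero_right e), ⟨?_, ?_⟩, ?_⟩
  · exact sie_mem_rad _ _ (Submodule.subset_span ⟨(), rfl⟩) (Submodule.zero_mem _) k3
  · intro m hm
    rw [H.sie_apply, (mem_mid.1 hm).1 (), H.zero_right]
    simp
  · intro h
    have h1 := congrArg (fun g : V ≃ₗ[F] V => g f) h
    have h3 : H.sie e 0 1 hee (H.zero_right e) f = f := h1
    rw [H.sie_apply, H.zero_right] at h3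
    have h4 : H.h f e • e = 0 := by
      have h5 : f + H.h f e • e = f := by simpa using h3
      exact left_eq_add.1 h5.symm
    rcases smul_eq_zero.1 h4 with h5 | h5
    · exact hfe h5
    · rw [h5, H.zero_left] at hef
      exact zero_ne_one hef

/-- **The case of a scalar on a singular line.** -/
theorem uGood_one [Finite V] (h2 : (2 : F) = 0) {p k m0 : ℕ} (hp : p.Prime)
    (hM : ∀ t : ℕ, t ≠ 0 → 2 ^ t ≡ 1 [MOD p] → m0 ≤ 2 ^ t)
    (hnd : ∀ v : V, v ≠ 0 → ∃ w, H.h v w ≠ 0)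
    (he : P.ok e 0) (hf : P.ok f 0) (hef : H.h e f = 1) (k3 : P.ok 0 1)
    {lam : F} (hl0 : lam ≠ 0) (hl2 : lam * lam ≠ 1) {x : V ≃ₗ[F] V} (hxS : x ∈ SG P)
    (hx : x ^ p ^ k = 1) (hxe : x e = lam • e) (hxf : x f = lam⁻¹ • f)
    (hxM : ∀ v, H.h v e = 0 → H.h v f = 0 → x v = v)
    {m m' : V} (hme : H.h m e = 0) (hmf : H.h m f = 0) (hme' : H.h m' e = 0)
    (hmf' : H.h m' f = 0) (hmm' : H.h m m' ≠ 0) : UGood 1 m0 (⟨x, hxS⟩ : SG P) := by
  have hfr := frame_one he hf hef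
  have d := hfr.dec hnd
  have hee := P.iso he
  have hff := P.iso hf
  have hl1 : lam ≠ 1 := fun h => hl2 (by rw [h, one_mul])
  have hli1 : lam⁻¹ ≠ 1 := fun h => hl1 (by rw [← inv_inv lam, h, inv_one])
  have hll : lam ≠ lam⁻¹ := by
    intro h
    apply hl2
    nth_rewrite 2 [h]
    exact mul_inv_cancel₀ hl0
  have heT : e ∈ Submodule.span F (Set.range fun _ : Unit => e) :=
    Submodule.subset_span ⟨(), rfl⟩
  have hfT : f ∈ Submodule.span F (Set.range fun _ : Unit => f) :=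
    Submodule.subset_span ⟨(), rfl⟩
  have hmid : ∀ v, v ∈ mid H (fun _ : Unit => e) (fun _ : Unit => f) ↔
      H.h v e = 0 ∧ H.h v f = 0 := by
    intro v
    rw [mem_mid]
    exact ⟨fun h => ⟨h.1 (), h.2 ()⟩, fun h => ⟨fun _ => h.1, fun _ => h.2⟩⟩
  have a : XAct P _ _ _ x := xact_of (e := fun _ : Unit => e) (f := fun _ : Unit => f) hxS
    (fun _ => by rw [hxe]; exact Submodule.smul_mem _ _ heT)
    (fun _ => by rw [hxf]; exact Submodule.smul_mem _ _ hfT)
    (fun w hw => hxM w ((hmid w).1 hw).1 ((hmid w).1 hw).2)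
  have s1 : ∀ t ∈ Submodule.span F (Set.range fun _ : Unit => e), x t = lam • t := by
    intro t ht
    rw [Set.range_const, Submodule.mem_span_singleton] at ht
    obtain ⟨s, rfl⟩ := ht
    rw [map_smul, hxe, smul_comm]
  have s2 : ∀ t ∈ Submodule.span F (Set.range fun _ : Unit => f), x t = lam⁻¹ • t := by
    intro t ht
    rw [Set.range_const, Submodule.mem_span_singleton] at ht
    obtain ⟨s, rfl⟩ := ht
    rw [map_smul, hxf, smul_comm]
  have rt : ∀ {e f : V}, H.h e f = 1 → ∀ D : Subgroup (V ≃ₗ[F] V),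
      ∀ u ∈ Submodule.span F (Set.range fun _ : Unit => e),
      ∀ t ∈ Submodule.span F (Set.range fun _ : Unit => f), H.h u t = 0 → Rt H D u t := by
    intro e f hef D u hu t ht hut
    rw [Set.range_const, Submodule.mem_span_singleton] at hu ht
    obtain ⟨s, rfl⟩ := hu
    obtain ⟨s', rfl⟩ := ht
    rw [H.smul_left, H.smul_right, hef, mul_one] at hut
    intro r hx hy
    have h1 : H.sie (s • e) (r • s' • f) 0 hx hy = 1 := by
      ext v
      rw [H.sie_apply, H.smul_right, H.smul_right, H.smul_right]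
      rcases mul_eq_zero.1 hut with h0 | h0
      · rw [h0]; simp
      · have : s' = 0 := by simpa using h0
        rw [this]; simp only [_root_.zero_smul, _root_.smul_zero, _root_.add_zero, _root_.map_zero, _root_.MulZeroClass.zero_mul, _root_.MulZeroClass.mul_zero, _root_.sub_zero, _root_.LinearEquiv.coe_one, _root_.id_eq]
    rw [h1]
    exact one_mem _
  have hfe1 : H.h ((H.ε⁻¹ : F) • f) e = 1 := by
    rw [H.smul_left, H.swap e f, hef, map_one, mul_one, inv_mul_cancel₀ H.ε_ne]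
  refine uGood_dec h2 d hp hM hxS hx a (freeOn_scal d a s1 s2 hl1 hll)
    (freeOn_scal d.symm a.symm s2 s1 hli1 hll.symm) heT hfT (by rw [hef]; exact one_ne_zero)
    ((hmid m).2 ⟨hme, hmf⟩) ((hmid m').2 ⟨hme', hmf'⟩) hmm' (exists_zrad_one he hf hef k3) ?_
    (fun D hD => over_zt d hD (rt hef D)) ?_
  · have h3 := exists_zrad_one (P := P) (P.sing_smul hf H.ε⁻¹) he hfe1 k3
    have e1 : Submodule.span F (Set.range fun _ : Unit => (H.ε⁻¹ : F) • f) =
        Submodule.span F (Set.range fun _ : Unit => f) := by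
      rw [Set.range_const, Set.range_const]
      exact Submodule.span_singleton_smul_eq (IsUnit.mk0 _ (inv_ne_zero H.ε_ne)) f
    have e2 : mid H (fun _ : Unit => (H.ε⁻¹ : F) • f) (fun _ : Unit => e) =
        mid H (fun _ : Unit => e) (fun _ : Unit => f) := by
      ext v
      rw [hmid, mem_mid]
      constructor
      · rintro ⟨h4, h5⟩
        refine ⟨h5 (), ?_⟩
        have h6 := h4 ()
        rw [H.smul_right] at h6
        rcases mul_eq_zero.1 h6 with h7 | h7
        · exfalso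
          have : H.ε⁻¹ = 0 := by simpa using h7
          exact inv_ne_zero H.ε_ne this
        · exact h7
      · rintro ⟨h4, h5⟩
        exact ⟨fun _ => by rw [H.smul_right, h5, mul_zero], fun _ => h4⟩
    rw [e1, e2] at h3
    exact h3
  · intro D hD
    refine over_zt d.symm hD ?_
    intro u hu t ht hut
    have e1 : Submodule.span F (Set.range fun _ : Unit => (H.ε⁻¹ : F) • f) =
        Submodule.span F (Set.range fun _ : Unit => f) := by
      rw [Set.range_const, Set.range_const]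
      exact Submodule.span_singleton_smul_eq (IsUnit.mk0 _ (inv_ne_zero H.ε_ne)) f
    exact rt hfe1 D u (by rw [e1]; exact hu) t ht hut

end One

end Cfsg.Agent.H398.FPR
end

-- part: H398/FPR/COneO
section
/-!
# `p ∣ q - 1` in characteristic two: `Λ = 0` (orthogonal groups)

`T = ⟨a0, a1⟩`, `T' = ⟨b0, b1⟩`, `x` a scalar on `T` and on `T'`; two Heisenberg groups.
-/

set_option autoImplicit false
open Subgroup MulAction

namespace Cfsg.Agent.H398.FPR

open Cfsg.Agent.TitsThree.Siegel Cfsg.Agent.TitsThree.SiegelGen Cfsg.Agent.H110.Fpr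
open Cfsg.Agent.H435.Fpr (PairM)

variable {F : Type*} [Field F] {V : Type*} [AddCommGroup V] [Module F V]
variable {H : HForm F V} {P : PQ H}

/-- The commutator of two Siegel elements at orthogonal points is a root element. -/
theorem exists_comm {M : Submodule F V} {u v : V} (huu : H.h u u = 0) (hvv : H.h v v = 0)
    (huv : H.h u v = 0) (huM : ∀ m ∈ M, H.h u m = 0) (hvM : ∀ m ∈ M, H.h v m = 0) {m m' : V}
    (hm : m ∈ M) (hm' : m' ∈ M) (hmm' : H.h m m' ≠ 0) :
    ∃ (w : V) (d e : F) (hw : H.h v w = 0) (hum : H.h u m = 0), w ∈ M ∧ P.ok w d ∧ P.ok m e ∧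
      H.sie v w d hvv hw * H.sie u m e huu hum * (H.sie v w d hvv hw)⁻¹ *
        (H.sie u m e huu hum)⁻¹ = H.sie u v 0 huu huv := by
  obtain ⟨s, hs⟩ := exists_scale hmm' (-H.ε)
  have hsm : s • m' ∈ M := M.smul_mem _ hm'
  obtain ⟨d, hd⟩ := P.ex (s • m')
  obtain ⟨e, he⟩ := P.ex m
  have hvsm := hvM _ hsm
  have hum := huM m hm
  refine ⟨s • m', d, e, hvsm, hum, hsm, hd, he, ?_⟩
  have hgi : H.IsIso (H.sie v (s • m') d hvv hvsm) := P.isIso_sie _ _ hd
  have e1 : H.sie v (s • m') d hvv hvsm u = u := by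
    rw [H.sie_apply, huv, huM _ hsm]; simp
  have hmv : H.h m v = 0 := H.orth_symm (hvM m hm)
  have e2 : H.sie v (s • m') d hvv hvsm m = m + v := by
    rw [H.sie_apply, hmv, hs]
    have e3 : H.ε⁻¹ * -H.ε = -1 := by rw [mul_neg, inv_mul_cancel₀ H.ε_ne]
    rw [e3]
    module
  exact comm_eq hgi (c := e) huu hum huv e1 e2 hmv

/-- root elements at two orthogonal points -/
theorem rt_mid {M : Submodule F V} {D : Subgroup (V ≃ₗ[F] V)} {u v : V} (huu : H.h u u = 0)
    (hvv : H.h v v = 0) (_huv : H.h u v = 0) (huM : ∀ m ∈ M, H.h u m = 0)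
    (hvM : ∀ m ∈ M, H.h v m = 0) (hu : Zt P D (M : Set V) u) (hv : Zt P D (M : Set V) v)
    (hnd : ∃ m ∈ M, ∃ m' ∈ M, H.h m m' ≠ 0) : Rt H D u v := by
  intro s _ hus
  obtain ⟨m, hm, m', hm', hmm'⟩ := hnd
  have hsv : H.h (s • v) (s • v) = 0 := by rw [H.smul_left, H.smul_right, hvv]; simp
  obtain ⟨w, d, e, hw, hum, hwM, hd, he, hcomm⟩ := exists_comm (P := P) (M := M) huu hsv hus huM
    (fun m hm => by rw [H.smul_left, hvM m hm, mul_zero]) hm hm' hmm'
  have h1 : H.sie u m e huu hum ∈ D := hu m e huu hum hm he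
  have h2 : H.sie (s • v) w d hsv hw ∈ D := by
    rw [H.sie_smul v w d s hvv (hvM w hwM)]
    refine hv _ _ _ _ (M.smul_mem _ hwM) ?_
    have h3 := P.smul (H.σ s) hd
    rw [H.σσ] at h3
    exact P.congr h3 rfl (by ring)
  rw [← hcomm]
  exact D.mul_mem (D.mul_mem (D.mul_mem h2 h1) (D.inv_mem h2)) (D.inv_mem h1)

/-- Four points. -/
theorem all_of_four {M : Submodule F V} {D : Subgroup (V ≃ₗ[F] V)} {u1 u2 u3 u4 : V}
    (s1 : P.ok u1 0) (s2 : P.ok u2 0) (s3 : P.ok u3 0) (s4 : P.ok u4 0)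
    (h12 : H.h u1 u2 ≠ 0) (h13 : H.h u1 u3 = 0) (h14 : H.h u1 u4 = 0)
    (h23 : H.h u2 u3 = 0) (h24 : H.h u2 u4 = 0)
    (m1 : ∀ m ∈ M, H.h u1 m = 0) (m2 : ∀ m ∈ M, H.h u2 m = 0) (m3 : ∀ m ∈ M, H.h u3 m = 0)
    (m4 : ∀ m ∈ M, H.h u4 m = 0) (z1 : Zt P D (M : Set V) u1) (z2 : Zt P D (M : Set V) u2)
    (z3 : Zt P D (M : Set V) u3) (z4 : Zt P D (M : Set V) u4)
    (hnd : ∃ m ∈ M, ∃ m' ∈ M, H.h m m' ≠ 0)
    (hspan : ∀ v : V, ∃ (c1 c2 c3 c4 : F) (m : V), m ∈ M ∧
      v = c1 • u1 + c2 • u2 + c3 • u3 + c4 • u4 + m)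
    (hVnd : ∀ v : V, v ≠ 0 → ∃ w, H.h v w ≠ 0) : SG P ≤ D := by
  have key : ∀ (u1 u2 : V), P.ok u1 0 → P.ok u2 0 → H.h u1 u2 ≠ 0 → H.h u1 u3 = 0 →
      H.h u1 u4 = 0 → (∀ m ∈ M, H.h u1 m = 0) → Zt P D (M : Set V) u1 →
      (∀ v : V, ∃ (c1 c2 c3 c4 : F) (m : V), m ∈ M ∧
        v = c1 • u1 + c2 • u2 + c3 • u3 + c4 • u4 + m) → Zt P D Set.univ u1 := by
    intro u1 u2 s1 s2 h12 h13 h14 m1 z1 hspan w c hx hw _ hwc
    obtain ⟨c1, c2, c3, c4, m, hm, rfl⟩ := hspan w
    have z0 : Zt P D {0} u1 := by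
      intro w c hx hw hw0 hok
      rw [Set.mem_singleton_iff] at hw0
      exact z1 w c hx hw (by rw [hw0]; exact M.zero_mem) hok
    have zm : Zt P D {m} u1 := by
      intro w c hx hw hw0 hok
      rw [Set.mem_singleton_iff] at hw0
      exact z1 w c hx hw (by rw [hw0]; exact hm) hok
    have hc2 : c2 = 0 := by
      rw [H.add_right, H.add_right, H.add_right, H.add_right, H.smul_right, H.smul_right,
        H.smul_right, H.smul_right, P.iso s1, h13, h14, m1 m hm] at hw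
      have h0 : H.σ c2 * H.h u1 u2 = 0 := by
        linear_combination hw
      have h1 := (mul_eq_zero.1 h0).resolve_right h12
      simpa using h1
    subst hc2
    have r3 := Zt.of_rt P s1 s3 h13 z0 (rt_mid (P.iso s1) (P.iso s3) h13 m1 m3 z1 z3 hnd) c3
    have r4 := Zt.of_rt P s1 s4 h14 z0 (rt_mid (P.iso s1) (P.iso s4) h14 m1 m4 z1 z4 hnd) c4
    have r1 := Zt.self P s1 z0 c1
    have k1 : H.h u1 (c1 • u1) = 0 := by rw [H.smul_right, P.iso s1, mul_zero]
    have k3 : H.h u1 (c3 • u3) = 0 := by rw [H.smul_right, h13, mul_zero]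
    have k4 : H.h u1 (c4 • u4) = 0 := by rw [H.smul_right, h14, mul_zero]
    have t1 := Zt.add P s1 z0 r1 r3 k1 k3
    have k13 : H.h u1 (c1 • u1 + c3 • u3) = 0 := by rw [H.add_right, k1, k3, add_zero]
    have t2 := Zt.add P s1 z0 t1 r4 k13 k4
    have k134 : H.h u1 (c1 • u1 + c3 • u3 + c4 • u4) = 0 := by rw [H.add_right, k13, k4, add_zero]
    have t3 := Zt.add P s1 z0 t2 zm k134 (m1 m hm)
    exact t3 _ c hx hw (by rw [Set.mem_singleton_iff]; module) hwc
  refine all_of_pair (key u1 u2 s1 s2 h12 h13 h14 m1 z1 hspan)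
    (key u2 u1 s2 s1 (fun h => h12 (H.orth_symm h)) h23 h24 m2 z2 ?_) s1 s2
    (fun h => h12 (H.orth_symm h)) (fun v _ hv => hVnd v hv)
  intro v
  obtain ⟨c1, c2, c3, c4, m, hm, rfl⟩ := hspan v
  exact ⟨c2, c1, c3, c4, m, hm, by module⟩

section Two

variable {a0 a1 b0 b1 : V}

theorem mem_span_two (a0 a1 : V) (v : V) :
    v ∈ Submodule.span F (Set.range ![a0, a1]) ↔ ∃ s t : F, v = s • a0 + t • a1 := by
  have : Set.range ![a0, a1] = {a0, a1} := by
    rw [Matrix.range_cons, Matrix.range_cons, Matrix.range_empty, Set.union_empty]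
    rfl
  rw [this, Submodule.mem_span_pair]
  constructor
  · rintro ⟨s, t, h⟩; exact ⟨s, t, h.symm⟩
  · rintro ⟨s, t, h⟩; exact ⟨s, t, h.symm⟩

theorem frame_two (sa0 : P.ok a0 0) (sa1 : P.ok a1 0) (sb0 : P.ok b0 0) (sb1 : P.ok b1 0)
    (haa : H.h a0 a1 = 0) (hbb : H.h b0 b1 = 0) (h00 : H.h a0 b0 = 1) (h11 : H.h a1 b1 = 1)
    (h01 : H.h a0 b1 = 0) (h10 : H.h a1 b0 = 0) : HFr P ![a0, a1] ![b0, b1] where
  es i := by fin_cases i <;> assumption
  fs i := by fin_cases i <;> assumption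
  ee i j := by
    fin_cases i <;> fin_cases j
    · exact P.iso sa0
    · exact haa
    · exact H.orth_symm haa
    · exact P.iso sa1
  ff i j := by
    fin_cases i <;> fin_cases j
    · exact P.iso sb0
    · exact hbb
    · exact H.orth_symm hbb
    · exact P.iso sb1
  ef i j := by
    fin_cases i <;> fin_cases j
    · simpa using h00
    · simpa using h01
    · simpa using h10
    · simpa using h11

theorem mem_mid_two {v : V} : v ∈ mid H ![a0, a1] ![b0, b1] ↔
    (H.h v a0 = 0 ∧ H.h v a1 = 0) ∧ H.h v b0 = 0 ∧ H.h v b1 = 0 := by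
  rw [mem_mid]
  constructor
  · rintro ⟨h1, h2⟩
    exact ⟨⟨h1 0, h1 1⟩, h2 0, h2 1⟩
  · rintro ⟨⟨h1, h2⟩, h3, h4⟩
    constructor
    · intro i; fin_cases i <;> assumption
    · intro i; fin_cases i <;> assumption

/-- `⟨R_T, z⟩ = G` for `1 ≠ z ∈ Z(R_T')`. -/
theorem over_heis (hfr : HFr P ![a0, a1] ![b0, b1]) (hlam : ∀ c, P.ok 0 c → c = 0)
    (hnd : ∀ v : V, v ≠ 0 → ∃ w, H.h v w ≠ 0)
    (hM : ∃ m ∈ mid H ![a0, a1] ![b0, b1], ∃ m' ∈ mid H ![a0, a1] ![b0, b1], H.h m m' ≠ 0)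
    {D : Subgroup (V ≃ₗ[F] V)}
    (hR : rad P (Submodule.span F (Set.range ![a0, a1]))
      (Submodule.span F (Set.range ![a0, a1]) ⊔ mid H ![a0, a1] ![b0, b1]) ≤ D)
    {z : V ≃ₗ[F] V} (hz : z ∈ zrad P (Submodule.span F (Set.range ![b0, b1]))
      (mid H ![a0, a1] ![b0, b1])) (hz1 : z ≠ 1) (hzD : z ∈ D) : SG P ≤ D := by
  have d := hfr.dec hnd
  obtain ⟨T, hT⟩ : ∃ T, T = Submodule.span F (Set.range ![a0, a1]) := ⟨_, rfl⟩
  obtain ⟨T', hT'⟩ : ∃ T', T' = Submodule.span F (Set.range ![b0, b1]) := ⟨_, rfl⟩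
  obtain ⟨M, hMM⟩ : ∃ M, M = mid H ![a0, a1] ![b0, b1] := ⟨_, rfl⟩
  rw [← hT, ← hT', ← hMM] at d
  rw [← hT, ← hMM] at hR
  rw [← hT', ← hMM] at hz
  rw [← hMM] at hM
  have mT : ∀ v, v ∈ T ↔ ∃ s t : F, v = s • a0 + t • a1 := fun v => by
    rw [hT]; exact mem_span_two a0 a1 v
  have mT' : ∀ v, v ∈ T' ↔ ∃ s t : F, v = s • b0 + t • b1 := fun v => by
    rw [hT']; exact mem_span_two b0 b1 v
  have ha0 : a0 ∈ T := (mT _).2 ⟨1, 0, by module⟩
  have ha1 : a1 ∈ T := (mT _).2 ⟨0, 1, by module⟩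
  have hb0 : b0 ∈ T' := (mT' _).2 ⟨1, 0, by module⟩
  have hb1 : b1 ∈ T' := (mT' _).2 ⟨0, 1, by module⟩
  have sa0 : P.ok a0 0 := hfr.es 0
  have sa1 : P.ok a1 0 := hfr.es 1
  have e00 : H.h a0 b0 = 1 := hfr.ef 0 0
  have e01 : H.h a0 b1 = 0 := hfr.ef 0 1
  have e10 : H.h a1 b0 = 0 := hfr.ef 1 0
  have e11 : H.h a1 b1 = 1 := hfr.ef 1 1
  have f00 : H.h b0 a0 = H.ε := hfr.fe 0 0
  have f01 : H.h b0 a1 = 0 := hfr.fe 0 1
  have f10 : H.h b1 a0 = 0 := hfr.fe 1 0
  have f11 : H.h b1 a1 = H.ε := hfr.fe 1 1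
  have haa := d.o1 a0 ha0 a1 ha1
  have hε := H.ε_ne
  have hzr := d.symm.inRad hz.1
  have hzS : z ∈ SG P := d.symm.rad_le_SG hz.1
  obtain ⟨hzi, hzok, hzok'⟩ := SG_iso hzS
  have hzm := d.symm.zrad_mid hz
  -- `z a0 = a0 + β b1`
  have hsing : ∀ {a : V}, a ∈ T → H.h (z a - a) a = 0 := by
    intro a ha
    have h1 := hzok a 0 (d.s1 a ha)
    have h2 := P.add (d.s1 a ha) (d.s2 _ (hzm a))
    have h3 : P.ok (z a) (0 + 0 - H.ε⁻¹ * H.h (z a - a) a) := by
      exact P.congr h2 (by abel) rfl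
    have h4 := hlam _ (P.sub h1 h3)
    have h5 : H.ε⁻¹ * H.h (z a - a) a = 0 := by linear_combination h4
    exact (mul_eq_zero.1 h5).resolve_left (inv_ne_zero hε)
  obtain ⟨β', β, hβ⟩ := (mT' _).1 (hzm a0)
  obtain ⟨γ, γ', hγ⟩ := (mT' _).1 (hzm a1)
  have hβ' : β' = 0 := by
    have h1 := hsing ha0
    rw [hβ, H.add_left, H.smul_left, H.smul_left, f00, f10] at h1
    have : β' * H.ε = 0 := by linear_combination h1
    exact (mul_eq_zero.1 this).resolve_right hε
  have hγ' : γ' = 0 := by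
    have h1 := hsing ha1
    rw [hγ, H.add_left, H.smul_left, H.smul_left, f01, f11] at h1
    have : γ' * H.ε = 0 := by linear_combination h1
    exact (mul_eq_zero.1 this).resolve_right hε
  have hza0 : z a0 = a0 + β • b1 := by
    have : z a0 = a0 + (z a0 - a0) := by abel
    rw [this, hβ, hβ']
    module
  have hza1 : z a1 = a1 + γ • b0 := by
    have : z a1 = a1 + (z a1 - a1) := by abel
    rw [this, hγ, hγ']
    module
  have hrel : H.σ γ + β * H.ε = 0 := by
    have h1 := hzi a0 a1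
    rw [hza0, hza1, haa, H.add_left, H.add_right, H.add_right, H.smul_left, H.smul_left,
      H.smul_right, H.smul_right, haa, e00, f11, d.o2 b1 hb1 b0 hb0] at h1
    linear_combination h1
  have hβ0 : β ≠ 0 := by
    intro h0
    have hγ0 : γ = 0 := by
      rw [h0, zero_mul, add_zero] at hrel
      simpa using hrel
    apply hz1
    ext v
    obtain ⟨t, ht, m, hm, t', ht', rfl⟩ := d.exists_eq v
    obtain ⟨s, s', rfl⟩ := (mT t).1 ht
    show z (s • a0 + s' • a1 + m + t') = s • a0 + s' • a1 + m + t'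
    rw [map_add, map_add, map_add, map_smul, map_smul, hza0, hza1, hz.2 m hm, hzr.fix t' ht', h0,
      hγ0]
    module
  have hγ0 : γ ≠ 0 := by
    intro h0
    rw [h0, map_zero, zero_add] at hrel
    exact hβ0 ((mul_eq_zero.1 hrel).resolve_right hε)
  -- the four points
  have zt : ∀ a ∈ T, Zt P D (M : Set V) a := by
    intro a ha w c hx hw hwM hok
    exact hR (sie_mem_rad _ _ ha (Submodule.mem_sup_right hwM) hok)
  have ztz : ∀ a ∈ T, Zt P D (M : Set V) (z a) := by
    intro a ha w c hx hw hwM hok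
    have h1 := D.mul_mem (D.mul_mem hzD (zt a ha w c (P.iso (d.s1 a ha)) (d.m1 a ha w hwM) hwM
      hok)) (D.inv_mem hzD)
    rw [H.conj_sie hzi] at h1
    rwa [H.sie_congr _ _ hx hw rfl (hz.2 w hwM) rfl] at h1
  have hzM : ∀ a ∈ T, ∀ m ∈ M, H.h (z a) m = 0 := by
    intro a ha m hm
    have h1 := hzi a m
    rw [hz.2 m hm, d.m1 a ha m hm] at h1
    exact h1
  have hzz : H.h (z a1) (z a0) = 0 := by rw [hzi]; exact H.orth_symm haa
  refine all_of_four (M := M) (u1 := a0) (u2 := z a1) (u3 := a1) (u4 := z a0) sa0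
    (hzok _ _ sa1) sa1 (hzok _ _ sa0) ?_ haa ?_ ?_ hzz (d.m1 a0 ha0) (hzM a1 ha1) (d.m1 a1 ha1)
    (hzM a0 ha0) (zt a0 ha0) (ztz a1 ha1) (zt a1 ha1) (ztz a0 ha0) hM ?_ hnd
  · rw [hza1, H.add_right, H.smul_right, haa, e00, zero_add, mul_one]
    intro h
    exact hγ0 (by simpa using h)
  · rw [hza0, H.add_right, H.smul_right, P.iso sa0, e01, mul_zero, add_zero]
  · rw [hza1, H.add_left, H.smul_left, P.iso sa1, f01, mul_zero, add_zero]
  · intro v
    obtain ⟨t, ht, m, hm, t', ht', rfl⟩ := d.exists_eq v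
    obtain ⟨s, s', rfl⟩ := (mT t).1 ht
    obtain ⟨r, r', rfl⟩ := (mT' t').1 ht'
    refine ⟨s - r' * β⁻¹, r * γ⁻¹, s' - r * γ⁻¹, r' * β⁻¹, m, hm, ?_⟩
    rw [hza0, hza1]
    have e1 : r * γ⁻¹ * γ = r := by rw [mul_assoc, inv_mul_cancel₀ hγ0, mul_one]
    have e2 : r' * β⁻¹ * β = r' := by rw [mul_assoc, inv_mul_cancel₀ hβ0, mul_one]
    rw [smul_add, smul_add, smul_smul, smul_smul, e1, e2]
    module

/-- commutators in the radical act trivially on `M` -/
theorem Dec.comm_zrad {T M T' : Submodule F V} (d : Dec P T M T') : ∀ a ∈ rad P T (T ⊔ M),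
    ∀ b ∈ rad P T (T ⊔ M), a * b * a⁻¹ * b⁻¹ ∈ zrad P T M := by
  intro a ha b hb
  refine mem_zrad.2 ⟨mul_mem (mul_mem (mul_mem ha hb) (inv_mem ha)) (inv_mem hb), ?_⟩
  have ha' := d.inRad ha
  have hb' := d.inRad hb
  have hM : ∀ m ∈ M, ∀ t ∈ T, H.h m t = 0 := fun m hm t ht => H.orth_symm (d.m1 t ht m hm)
  -- `a b m = b a m`
  have key : ∀ m ∈ M, a (b m) = b (a m) := by
    intro m hm
    have h1 := ha'.mid m (hM m hm)
    have h2 := hb'.mid m (hM m hm)
    have e1 : a (b m) = a m + (b m - m) := by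
      have : b m = m + (b m - m) := by abel
      conv_lhs => rw [this, map_add, ha'.fix _ h2]
    have e2 : b (a m) = b m + (a m - m) := by
      have : a m = m + (a m - m) := by abel
      conv_lhs => rw [this, map_add, hb'.fix _ h1]
    rw [e1, e2]
    abel
  intro m hm
  show a (b (a⁻¹ (b⁻¹ m))) = m
  -- it suffices to apply `(b a)⁻¹`
  have h3 : a (b (a⁻¹ (b⁻¹ m))) = b (a (a⁻¹ (b⁻¹ m))) := by
    have hinv : InRad P T (a⁻¹ * b⁻¹) := d.inRad (mul_mem (inv_mem ha) (inv_mem hb))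
    have h4 := hinv.mid m (hM m hm)
    have e3 : a⁻¹ (b⁻¹ m) = m + ((a⁻¹ * b⁻¹) m - m) := by
      show a⁻¹ (b⁻¹ m) = m + (a⁻¹ (b⁻¹ m) - m)
      abel
    rw [e3, map_add, map_add, map_add, map_add, key m hm, hb'.fix _ h4, ha'.fix _ h4, hb'.fix _ h4]
  rw [h3]
  have e4 : a (a⁻¹ (b⁻¹ m)) = b⁻¹ m := a.apply_symm_apply _
  rw [e4]
  exact b.apply_symm_apply m

/-- the radical is not abelian, and its centre is not trivial -/
theorem rad_nonab (hfr : HFr P ![a0, a1] ![b0, b1]) (hnd : ∀ v : V, v ≠ 0 → ∃ w, H.h v w ≠ 0)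
    (hM : ∃ m ∈ mid H ![a0, a1] ![b0, b1], ∃ m' ∈ mid H ![a0, a1] ![b0, b1], H.h m m' ≠ 0) :
    ∃ a ∈ rad P (Submodule.span F (Set.range ![a0, a1]))
      (Submodule.span F (Set.range ![a0, a1]) ⊔ mid H ![a0, a1] ![b0, b1]),
    ∃ b ∈ rad P (Submodule.span F (Set.range ![a0, a1]))
      (Submodule.span F (Set.range ![a0, a1]) ⊔ mid H ![a0, a1] ![b0, b1]),
      a * b * a⁻¹ * b⁻¹ ≠ 1 := by
  have d := hfr.dec hnd
  have ha0 : a0 ∈ Submodule.span F (Set.range ![a0, a1]) :=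
    (mem_span_two a0 a1 _).2 ⟨1, 0, by module⟩
  have ha1 : a1 ∈ Submodule.span F (Set.range ![a0, a1]) :=
    (mem_span_two a0 a1 _).2 ⟨0, 1, by module⟩
  have haa := d.o1 a0 ha0 a1 ha1
  obtain ⟨m, hm, m', hm', hmm'⟩ := hM
  obtain ⟨w, c, e, hw, hum, hwM, hc, he, hcomm⟩ := exists_comm (P := P) (d.o1 a0 ha0 a0 ha0)
    (d.o1 a1 ha1 a1 ha1) haa (d.m1 a0 ha0) (d.m1 a1 ha1) hm hm' hmm'
  refine ⟨_, sie_mem_rad (d.o1 a1 ha1 a1 ha1) hw ha1 (Submodule.mem_sup_right hwM) hc, _,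
    sie_mem_rad (d.o1 a0 ha0 a0 ha0) hum ha0 (Submodule.mem_sup_right hm) he, ?_⟩
  rw [hcomm]
  intro h
  have h1 : H.sie a0 a1 0 (d.o1 a0 ha0 a0 ha0) haa b0 = b0 := by rw [h]; rfl
  have f00 : H.h b0 a0 = H.ε := hfr.fe 0 0
  have f01 : H.h b0 a1 = 0 := hfr.fe 0 1
  rw [H.sie_apply, f00, f01] at h1
  have h2 : H.ε • a1 = 0 := by
    have h3 : b0 + H.ε • a1 = b0 := by simpa using h1
    exact left_eq_add.1 h3.symm
  have h3 : a1 = 0 := (smul_eq_zero.1 h2).resolve_left H.ε_ne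
  have e11 : H.h a1 b1 = 1 := hfr.ef 1 1
  rw [h3, H.zero_left] at e11
  exact zero_ne_one e11

theorem frame_symm (hε : H.ε = 1) (hfr : HFr P ![a0, a1] ![b0, b1]) :
    HFr P ![b0, b1] ![a0, a1] where
  es := hfr.fs
  fs := hfr.es
  ee := hfr.ff
  ff := hfr.ee
  ef i j := by rw [hfr.fe, hε]

theorem mid_symm {ι : Type*} (e f : ι → V) : mid H f e = mid H e f := by
  unfold mid
  rw [Set.union_comm]

/-- **Scalar action on two totally singular planes.** -/
theorem uGood_two [Finite V] (h2 : (2 : F) = 0) (hε : H.ε = 1) {p k m0 : ℕ} (hp : p.Prime)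
    (hM : ∀ t : ℕ, t ≠ 0 → 2 ^ t ≡ 1 [MOD p] → m0 ≤ 2 ^ t)
    (hlam : ∀ c, P.ok 0 c → c = 0) (hnd : ∀ v : V, v ≠ 0 → ∃ w, H.h v w ≠ 0)
    (hfr : HFr P ![a0, a1] ![b0, b1])
    (hmid : ∃ m ∈ mid H ![a0, a1] ![b0, b1], ∃ m' ∈ mid H ![a0, a1] ![b0, b1], H.h m m' ≠ 0)
    {lam mu : F} (hl : lam ≠ 1) (hm : mu ≠ 1) (hlm : lam ≠ mu) {x : V ≃ₗ[F] V}
    (hxS : x ∈ SG P) (hx : x ^ p ^ k = 1) (x0 : x a0 = lam • a0) (x1 : x a1 = lam • a1)
    (y0 : x b0 = mu • b0) (y1 : x b1 = mu • b1)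
    (hxM : ∀ v ∈ mid H ![a0, a1] ![b0, b1], x v = v) : UGood 1 m0 (⟨x, hxS⟩ : SG P) := by
  have d := hfr.dec hnd
  have hch := charP_two h2
  have : Fact (Nat.Prime 2) := ⟨Nat.prime_two⟩
  have hfin : Finite (V ≃ₗ[F] V) := instFin
  have a : XAct P _ _ _ x := xact_of (e := ![a0, a1]) (f := ![b0, b1]) hxS
    (fun i => by
      fin_cases i
      · show x a0 ∈ _
        rw [x0]
        exact Submodule.smul_mem _ _ (Submodule.subset_span ⟨0, rfl⟩)
      · show x a1 ∈ _
        rw [x1]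
        exact Submodule.smul_mem _ _ (Submodule.subset_span ⟨1, rfl⟩))
    (fun i => by
      fin_cases i
      · show x b0 ∈ _
        rw [y0]
        exact Submodule.smul_mem _ _ (Submodule.subset_span ⟨0, rfl⟩)
      · show x b1 ∈ _
        rw [y1]
        exact Submodule.smul_mem _ _ (Submodule.subset_span ⟨1, rfl⟩)) hxM
  have s1 : ∀ t ∈ Submodule.span F (Set.range ![a0, a1]), x t = lam • t := by
    intro t ht
    obtain ⟨s, s', rfl⟩ := (mem_span_two a0 a1 t).1 ht
    rw [map_add, map_smul, map_smul, x0, x1]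
    module
  have s2 : ∀ t ∈ Submodule.span F (Set.range ![b0, b1]), x t = mu • t := by
    intro t ht
    obtain ⟨s, s', rfl⟩ := (mem_span_two b0 b1 t).1 ht
    rw [map_add, map_smul, map_smul, y0, y1]
    module
  have f1 := freeOn_scal d a s1 s2 hl hlm
  have f2 := freeOn_scal d.symm a.symm s2 s1 hm hlm.symm
  have hfr' := frame_symm hε hfr
  have hmid' : ∃ m ∈ mid H ![b0, b1] ![a0, a1], ∃ m' ∈ mid H ![b0, b1] ![a0, a1],
      H.h m m' ≠ 0 := by rw [mid_symm]; exact hmid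
  have hR1 : IsPGroup 2 (rad P (Submodule.span F (Set.range ![a0, a1]))
    (Submodule.span F (Set.range ![a0, a1]) ⊔ mid H ![a0, a1] ![b0, b1])) := rad_isPGroup d
  have hR2 : IsPGroup 2 (rad P (Submodule.span F (Set.range ![b0, b1]))
    (Submodule.span F (Set.range ![b0, b1]) ⊔ mid H ![a0, a1] ![b0, b1])) := rad_isPGroup d.symm
  have n1 := rad_nonab hfr hnd hmid
  have n2 := rad_nonab hfr' hnd hmid'
  rw [mid_symm] at n2
  have hx' : (⟨x, hxS⟩ : SG P) ^ p ^ k = 1 := Subtype.ext hx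
  have hcard : ∀ {R : Subgroup (V ≃ₗ[F] V)}, R ≤ SG P →
      Nat.card (R.subgroupOf (SG P)) = Nat.card R := fun hR =>
    Nat.card_congr (subgroupOfEquivOfLe hR).toEquiv
  have top_of : ∀ {D : Subgroup (SG P)}, SG P ≤ D.map (SG P).subtype → D = ⊤ := by
    intro D hle
    rw [eq_top_iff]
    intro g _
    obtain ⟨g', hg', he⟩ := hle g.2
    rwa [← Subtype.ext he]
  have hle : ∀ {D : Subgroup (SG P)} {R : Subgroup (V ≃ₗ[F] V)}, R ≤ SG P →
      R.subgroupOf (SG P) ≤ D → R ≤ D.map (SG P).subtype := by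
    intro D R hR h1 g hg
    exact ⟨⟨g, hR hg⟩, h1 hg, rfl⟩
  have c1 : m0 ≤ Nat.card (zrad P (Submodule.span F (Set.range ![a0, a1]))
      (mid H ![a0, a1] ![b0, b1])) := by
    refine (f1.zrad d a).le_card hp Nat.prime_two hx (hR1.to_le inf_le_left) hM ?_
    obtain ⟨g, hg, g', hg', h⟩ := n1
    exact ⟨_, d.comm_zrad g hg g' hg', h⟩
  have c2 : m0 ≤ Nat.card (zrad P (Submodule.span F (Set.range ![b0, b1]))
      (mid H ![a0, a1] ![b0, b1])) := by
    refine (f2.zrad d.symm a.symm).le_card hp Nat.prime_two hx (hR2.to_le inf_le_left) hM ?_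
    obtain ⟨g, hg, g', hg', h⟩ := n2
    exact ⟨_, d.symm.comm_zrad g hg g' hg', h⟩
  have l1 := d.rad_le_SG
  have l2 := d.symm.rad_le_SG
  have l3 : zrad P (Submodule.span F (Set.range ![a0, a1])) (mid H ![a0, a1] ![b0, b1]) ≤ SG P :=
    inf_le_left.trans l1
  have l4 : zrad P (Submodule.span F (Set.range ![b0, b1])) (mid H ![a0, a1] ![b0, b1]) ≤ SG P :=
    inf_le_left.trans l2
  refine heis_uGood (Q1 := (rad P (Submodule.span F (Set.range ![a0, a1]))
      (Submodule.span F (Set.range ![a0, a1]) ⊔ mid H ![a0, a1] ![b0, b1])).subgroupOf (SG P))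
    (Q2 := (rad P (Submodule.span F (Set.range ![b0, b1]))
      (Submodule.span F (Set.range ![b0, b1]) ⊔ mid H ![a0, a1] ![b0, b1])).subgroupOf (SG P))
    (Z1 := (zrad P (Submodule.span F (Set.range ![a0, a1]))
      (mid H ![a0, a1] ![b0, b1])).subgroupOf (SG P))
    (Z2 := (zrad P (Submodule.span F (Set.range ![b0, b1]))
      (mid H ![a0, a1] ![b0, b1])).subgroupOf (SG P))
    (f1.subgroupOf hxS) (f2.subgroupOf hxS)
    ((f1.subgroupOf hxS).pairM hp Nat.prime_two hx' (isPGroup_subgroupOf hR1) hM)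
    ((f2.subgroupOf hxS).pairM hp Nat.prime_two hx' (isPGroup_subgroupOf hR2) hM)
    ?_ ?_ ?_ ?_ ?_ ?_ ?_ ?_ ?_ ?_ ?_ ?_
  · intro z hz; exact hz.1
  · intro z hz; exact hz.1
  · intro z hz g hg; exact Subtype.ext (d.zrad_central z hz g hg)
  · intro z hz g hg; exact Subtype.ext (d.symm.zrad_central z hz g hg)
  · intro g hg g' hg'; exact d.comm_zrad g hg g' hg'
  · intro g hg g' hg'; exact d.symm.comm_zrad g hg g' hg'
  · intro hcomm
    obtain ⟨g, hg, g', hg', h⟩ := n1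
    apply h
    have h3 := congrArg Subtype.val (hcomm ⟨g, l1 hg⟩ hg ⟨g', l1 hg'⟩ hg')
    have h4 : g * g' = g' * g := h3
    rw [h4]; group
  · intro hcomm
    obtain ⟨g, hg, g', hg', h⟩ := n2
    apply h
    have h3 := congrArg Subtype.val (hcomm ⟨g, l2 hg⟩ hg ⟨g', l2 hg'⟩ hg')
    have h4 : g * g' = g' * g := h3
    rw [h4]; group
  · rw [hcard l3]; exact c1
  · rw [hcard l4]; exact c2
  · intro D hD z hz hz1 hzD
    apply top_of
    exact over_heis hfr hlam hnd hmid (hle l1 hD) hz (fun h => hz1 (Subtype.ext h))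
      ⟨z, hzD, rfl⟩
  · intro D hD z hz hz1 hzD
    apply top_of
    refine over_heis hfr' hlam hnd hmid' ?_ ?_ (fun h => hz1 (Subtype.ext h)) ⟨z, hzD, rfl⟩
    · rw [mid_symm]; exact hle l2 hD
    · rw [mid_symm]; exact hz

end Two

end Cfsg.Agent.H398.FPR
end

-- part: H398/FPR/EOne
section
/-!
# `p ∣ q - 1` in characteristic two, general forms
-/

set_option autoImplicit false
open Subgroup MulAction

namespace Cfsg.Agent.H398.FPR

open Cfsg.Agent.TitsThree.Siegel Cfsg.Agent.TitsThree.SiegelGen Cfsg.Agent.H110.Fpr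

variable {F : Type*} [Field F] {V : Type*} [AddCommGroup V] [Module F V]
variable {H : HForm F V} {P : PQ H}

theorem pow_fix_scal {x : V ≃ₗ[F] V} {v : V} {lam : F} (h : x v = lam • v) (n : ℕ) :
    (x ^ n) v = lam ^ n • v := by
  induction n with
  | zero => simp
  | succ n ih =>
    rw [pow_succ]
    show (x ^ n) (x v) = _
    rw [h, map_smul, ih, smul_smul, pow_succ']

/-- **Long root elements exist** (`Λ ≠ 0`): symplectic and unitary groups. -/
theorem uGood_long [Finite V] (h2 : (2 : F) = 0) (hε : H.ε = 1) {p m0 : ℕ} (hp : p.Prime)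
    (hp2 : p ≠ 2) (hM : ∀ t : ℕ, t ≠ 0 → 2 ^ t ≡ 1 [MOD p] → m0 ≤ 2 ^ t)
    (hND : ∀ v : V, v ≠ 0 → ∃ w, H.h v w ≠ 0) (hdim : 3 ≤ Module.finrank F V)
    {e : V} (he : P.ok e 0) (he0 : e ≠ 0)
    {lam : F} (hl1 : lam ≠ 1) (hlp : lam ^ p = 1) (k1 : P.ok 0 lam)
    (k2 : P.ok 0 ((lam + 1) / lam)) (k3 : P.ok 0 1) (k4 : P.ok 0 (lam + 1)) :
    ∃ x : SG P, x ^ p = 1 ∧ UGood 1 m0 x := by
  have hl0 : lam ≠ 0 := by
    rintro rfl
    rw [zero_pow hp.ne_zero] at hlp
    exact zero_ne_one hlp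
  have hnd0 : ∀ v ∈ (⊤ : Submodule F V), v ≠ 0 → ∃ w ∈ (⊤ : Submodule F V), H.h v w ≠ 0 := by
    intro v _ hv
    obtain ⟨w, hw⟩ := hND v hv
    exact ⟨w, trivial, hw⟩
  have heT : e ∈ (⊤ : Submodule F V) := trivial
  obtain ⟨f, hfT, hf, hef⟩ := exists_hyp hnd0 heT he he0
  obtain ⟨hnd1, hd1⟩ := split_hyp hnd0 heT hfT he hf hef
  rw [top_inf_eq, finrank_top] at hd1
  rw [top_inf_eq] at hnd1
  obtain ⟨m, hm, hm0⟩ : ∃ m ∈ perp H {e, f}, m ≠ 0 := by
    by_contra hcon
    push Not at hcon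
    have : perp H {e, f} = ⊥ := by
      rw [eq_bot_iff]
      intro v hv
      exact hcon v hv
    rw [this, finrank_bot] at hd1
    omega
  obtain ⟨m', hm', hmm⟩ := hnd1 m hm hm0
  have hmem : ∀ {w : V}, w ∈ perp H {e, f} → H.h w e = 0 ∧ H.h w f = 0 := fun hw =>
    ⟨hw e (by simp), hw f (by simp)⟩
  obtain ⟨x, hxK, hxe, hxf, hxM⟩ := exists_diag_one h2 hε he hf hef hl0 k1 k2 k3 k4
  have hxS : x ∈ SG P := KOne_le he hf hxK
  have hl2 : lam * lam ≠ 1 := by
    intro h
    apply hl1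
    have h3 : orderOf lam ∣ 2 := orderOf_dvd_of_pow_eq_one (by rw [pow_two]; exact h)
    have h4 : orderOf lam ∣ p := orderOf_dvd_of_pow_eq_one hlp
    have h5 : Nat.Coprime 2 p := (Nat.coprime_primes Nat.prime_two hp).2 hp2.symm
    exact orderOf_eq_one_iff.1 (Nat.eq_one_of_dvd_coprimes h5 h3 h4)
  have hxp : x ^ p = 1 := by
    have d := (frame_one he hf hef).dec hND
    ext v
    obtain ⟨t, ht, w, hw, t', ht', rfl⟩ := d.exists_eq v
    rw [Set.range_const, Submodule.mem_span_singleton] at ht ht'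
    obtain ⟨s, rfl⟩ := ht
    obtain ⟨s', rfl⟩ := ht'
    have hw' := mem_mid.1 hw
    show (x ^ p) (s • e + w + s' • f) = s • e + w + s' • f
    have e3 : (x ^ p) w = w := by
      have h6 := pow_fix_scal (x := x) (v := w) (lam := 1)
        (by rw [one_smul]; exact hxM w (hw'.1 ()) (hw'.2 ())) p
      rw [one_pow, one_smul] at h6
      exact h6
    rw [map_add, map_add, map_smul, map_smul, pow_fix_scal hxe, pow_fix_scal hxf, e3, inv_pow, hlp,
      inv_one, one_smul, one_smul]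
  refine ⟨⟨x, hxS⟩, Subtype.ext hxp, ?_⟩
  exact uGood_one (k := 1) h2 hp hM hND he hf hef k3 hl0 hl2 hxS (by rw [pow_one]; exact hxp) hxe hxf
    hxM (hmem hm).1 (hmem hm).2 (hmem hm').1 (hmem hm').2 hmm

/-- **`Λ = 0`**: orthogonal groups. -/
theorem uGood_orth [Finite V] (h2 : (2 : F) = 0) (hε : H.ε = 1) (hσ : ∀ s, H.σ s = s) {p m0 : ℕ}
    (hp : p.Prime) (hp2 : p ≠ 2) (hM : ∀ t : ℕ, t ≠ 0 → 2 ^ t ≡ 1 [MOD p] → m0 ≤ 2 ^ t)
    (hlam : ∀ c, P.ok 0 c → c = 0)
    (hND : ∀ v : V, v ≠ 0 → ∃ w, H.h v w ≠ 0)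
    {κ : ℕ} (hκ3 : κ ≤ 3)
    (hκ : ∀ A : Submodule F V, κ ≤ Module.finrank F A → ∃ w ∈ A, w ≠ 0 ∧ P.ok w 0)
    (hdim : 5 ≤ Module.finrank F V)
    {lam : F} (hl1 : lam ≠ 1) (hlp : lam ^ p = 1) :
    ∃ x : SG P, x ^ p = 1 ∧ UGood 1 m0 x := by
  have hl0 : lam ≠ 0 := by
    rintro rfl
    rw [zero_pow hp.ne_zero] at hlp
    exact zero_ne_one hlp
  have hneg : ∀ s : F, -s = s := fun s => by linear_combination (-s) * h2
  have hnd0 : ∀ v ∈ (⊤ : Submodule F V), v ≠ 0 → ∃ w ∈ (⊤ : Submodule F V), H.h v w ≠ 0 := by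
    intro v _ hv
    obtain ⟨w, hw⟩ := hND v hv
    exact ⟨w, trivial, hw⟩
  have hfr : Module.finrank F (⊤ : Submodule F V) = Module.finrank F V := finrank_top F V
  obtain ⟨e0, he0, he0n, se0⟩ := hκ ⊤ (by omega)
  obtain ⟨f0, hf0, sf0, h00⟩ := exists_hyp hnd0 he0 se0 he0n
  obtain ⟨hnd1, hd1⟩ := split_hyp hnd0 he0 hf0 se0 sf0 h00
  rw [top_inf_eq] at hnd1 hd1
  obtain ⟨e1, he1, he1n, se1⟩ := hκ (perp H {e0, f0}) (by omega)
  obtain ⟨f1, hf1, sf1, h11⟩ := exists_hyp hnd1 he1 se1 he1n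
  obtain ⟨hnd2, hd2⟩ := split_hyp hnd1 he1 hf1 se1 sf1 h11
  have he1e : H.h e1 e0 = 0 := he1 e0 (by simp)
  have he1f : H.h e1 f0 = 0 := he1 f0 (by simp)
  have hf1e : H.h f1 e0 = 0 := hf1 e0 (by simp)
  have hf1f : H.h f1 f0 = 0 := hf1 f0 (by simp)
  have he0e := H.orth_symm he1e
  have he0f1 := H.orth_symm hf1e
  have hf0e1 := H.orth_symm he1f
  have hf0f1 := H.orth_symm hf1f
  have h00' : H.h f0 e0 = 1 := by rw [H.swap e0 f0, h00, map_one, mul_one, hε]
  have h11' : H.h f1 e1 = 1 := by rw [H.swap e1 f1, h11, map_one, mul_one, hε]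
  have e00 := P.iso se0
  have e11 := P.iso se1
  have f00 := P.iso sf0
  have f11 := P.iso sf1
  have hfr : HFr P ![e0, f1] ![f0, e1] :=
    frame_two se0 sf1 sf0 se1 he0f1 hf0e1 h00 h11' he0e hf1f
  have hperp : ∀ w, w ∈ perp H {e0, f0} ⊓ perp H {e1, f1} ↔ w ∈ mid H ![e0, f1] ![f0, e1] := by
    intro w
    rw [Submodule.mem_inf, mem_perp, mem_perp, mem_mid_two]
    simp only [Set.mem_insert_iff, Set.mem_singleton_iff, forall_eq_or_imp, forall_eq]
    (clear * -; tauto)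
  obtain ⟨m, hm, hm0⟩ : ∃ m ∈ perp H {e0, f0} ⊓ perp H {e1, f1}, m ≠ 0 := by
    by_contra hcon
    push Not at hcon
    have : perp H {e0, f0} ⊓ perp H {e1, f1} = ⊥ := by
      rw [eq_bot_iff]
      intro v hv
      exact hcon v hv
    rw [this, finrank_bot] at hd2
    omega
  obtain ⟨m', hm', hmm⟩ := hnd2 m hm hm0
  -- the element
  have hA0 : ∀ s, H.h e0 (s • f1) = 0 := fun s => by rw [H.smul_right, he0f1, mul_zero]
  have hB0 : ∀ s, H.h e1 (s • f0) = 0 := fun s => by rw [H.smul_right, he1f, mul_zero]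
  obtain ⟨A, hA⟩ : ∃ A : F → V ≃ₗ[F] V, A = fun s => H.sie e0 (s • f1) 0 e00 (hA0 s) := ⟨_, rfl⟩
  obtain ⟨B, hB⟩ : ∃ B : F → V ≃ₗ[F] V, B = fun s => H.sie e1 (s • f0) 0 e11 (hB0 s) := ⟨_, rfl⟩
  have a0 : ∀ s v, A s v = v + (s * H.h v e0) • f1 + (s * H.h v f1) • e0 := by
    intro s v
    rw [hA]
    show H.sie e0 (s • f1) 0 e00 (hA0 s) v = _
    rw [H.sie_apply, H.smul_right, hσ, hε, inv_one, one_mul, sub_eq_add_neg, ← neg_smul, hneg]
    module
  have b0 : ∀ s v, B s v = v + (s * H.h v e1) • f0 + (s * H.h v f0) • e1 := by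
    intro s v
    rw [hB]
    show H.sie e1 (s • f0) 0 e11 (hB0 s) v = _
    rw [H.sie_apply, H.smul_right, hσ, hε, inv_one, one_mul, sub_eq_add_neg, ← neg_smul, hneg]
    module
  have key1 := diag_apply h2 A B (u := e0) (u' := e1)
    (fun s => by rw [a0, e00, he0f1]; simp) (fun s => by rw [a0, he1e, h11]; simp)
    (fun s => by rw [b0, e11, he1f]; simp) (fun s => by rw [b0, he0e, h00]; simp) hl0
  have key2 := diag_apply h2 A B (u := f1) (u' := f0)
    (fun s => by rw [a0, hf1e, f11]; simp) (fun s => by rw [a0, h00', hf0f1]; simp)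
    (fun s => by rw [b0, hf0e1, f00]; simp) (fun s => by rw [b0, h11', hf1f]; simp) hl0
  obtain ⟨x, hx⟩ : ∃ x, x = A lam * B ((lam + 1) / lam) * A 1 * B (lam + 1) := ⟨_, rfl⟩
  rw [← hx] at key1 key2
  have hAm : ∀ s, A s ∈ SG P := by
    intro s
    rw [hA]
    exact sie_mem_SG P _ _ se0 (P.sing_smul sf1 s)
  have hBm : ∀ s, B s ∈ SG P := by
    intro s
    rw [hB]
    exact sie_mem_SG P _ _ se1 (P.sing_smul sf0 s)
  have hxS : x ∈ SG P := by
    rw [hx]
    exact mul_mem (mul_mem (mul_mem (hAm _) (hBm _)) (hAm _)) (hBm _)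
  have hxM : ∀ v ∈ mid H ![e0, f1] ![f0, e1], x v = v := by
    intro v hv
    obtain ⟨⟨v1, v2⟩, v3, v4⟩ := mem_mid_two.1 hv
    have hA1 : ∀ s, A s v = v := fun s => by rw [a0, v1, v2]; simp
    have hB1 : ∀ s, B s v = v := fun s => by rw [b0, v3, v4]; simp
    rw [hx]
    show A lam (B ((lam + 1) / lam) (A 1 (B (lam + 1) v))) = v
    rw [hB1, hA1, hB1, hA1]
  have hl2 : lam * lam ≠ 1 := by
    intro h
    apply hl1
    have h3 : orderOf lam ∣ 2 := orderOf_dvd_of_pow_eq_one (by rw [pow_two]; exact h)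
    have h4 : orderOf lam ∣ p := orderOf_dvd_of_pow_eq_one hlp
    have h5 : Nat.Coprime 2 p := (Nat.coprime_primes Nat.prime_two hp).2 hp2.symm
    exact orderOf_eq_one_iff.1 (Nat.eq_one_of_dvd_coprimes h5 h3 h4)
  have hli1 : lam⁻¹ ≠ 1 := fun h => hl1 (by rw [← inv_inv lam, h, inv_one])
  have hll : lam ≠ lam⁻¹ := by
    intro h
    apply hl2
    nth_rewrite 2 [h]
    exact mul_inv_cancel₀ hl0
  have hxp : x ^ p = 1 := by
    have d := hfr.dec hND
    ext v
    obtain ⟨t, ht, w, hw, t', ht', rfl⟩ := d.exists_eq v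
    obtain ⟨s, s', rfl⟩ := (mem_span_two e0 f1 t).1 ht
    obtain ⟨r, r', rfl⟩ := (mem_span_two f0 e1 t').1 ht'
    show (x ^ p) (s • e0 + s' • f1 + w + (r • f0 + r' • e1)) =
      s • e0 + s' • f1 + w + (r • f0 + r' • e1)
    have e3 : (x ^ p) w = w := by
      have h6 := pow_fix_scal (x := x) (v := w) (lam := 1)
        (by rw [one_smul]; exact hxM w hw) p
      rw [one_pow, one_smul] at h6
      exact h6
    simp only [map_add, map_smul, pow_fix_scal key1.1, pow_fix_scal key1.2, pow_fix_scal key2.1,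
      pow_fix_scal key2.2, e3, inv_pow, hlp, inv_one, one_smul]
  refine ⟨⟨x, hxS⟩, Subtype.ext hxp, ?_⟩
  exact uGood_two (k := 1) h2 hε hp hM hlam hND hfr
    ⟨m, (hperp m).1 hm, m', (hperp m').1 hm', hmm⟩ hl1 hli1 hll hxS (by rw [pow_one]; exact hxp)
    key1.1 key2.1 key2.2 key1.2 hxM

end Cfsg.Agent.H398.FPR
end

-- part: H398/FPR/FamEOne
section
/-!
# The rows for `p ∣ q - 1`, characteristic two, ratio `1 / (p + 1)`: symplectic, unitary, orthogonal
-/

set_option autoImplicit false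
open Subgroup MulAction

namespace Cfsg.Agent.H398.FPR

open Cfsg
open Cfsg.Agent Cfsg.Agent.TitsThree
open Cfsg.Agent.TitsThree.Siegel Cfsg.Agent.TitsThree.SiegelGen Cfsg.Agent.H110.Fpr
open Cfsg.Agent.H409

/-- `UGood` gives a row -/
theorem row_of_uGood {S : Type*} [Group S] {p m k : ℕ} (hp : p.Prime) {x : S} (hx : x ^ p ^ k = 1)
    (h : UGood 1 m x) : FprRow m 1 p S := by
  intro H hH
  obtain ⟨j, -, hj⟩ := (Nat.dvd_prime_pow hp).1 (orderOf_dvd_of_pow_eq_one hx)
  exact ⟨x, ⟨j, hj⟩, h H hH⟩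

theorem row_of_uGood' {S : Type*} [Group S] {p m : ℕ} (hp : p.Prime)
    (h : ∃ x : S, x ^ p = 1 ∧ UGood 1 m x) : FprRow m 1 p S := by
  obtain ⟨x, hx, h⟩ := h
  exact row_of_uGood (k := 1) hp (by rw [pow_one]; exact hx) h

theorem pow_two_le {p : ℕ} (_hp : p.Prime) : ∀ t : ℕ, t ≠ 0 → 2 ^ t ≡ 1 [MOD p] →
    p + 1 ≤ 2 ^ t := by
  intro t ht h
  have h1 : 1 < 2 ^ t := Nat.one_lt_two_pow ht
  have h2 : p ∣ 2 ^ t - 1 := (Nat.modEq_iff_dvd' h1.le).1 h.symm
  have h3 := Nat.le_of_dvd (by omega) h2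
  omega

/-- an element of order `p` in the multiplicative group -/
theorem exists_order {F : Type*} [Field F] [Finite F] {p : ℕ} (hp : p.Prime)
    (h : p ∣ Nat.card F - 1) : ∃ lam : F, lam ≠ 1 ∧ lam ^ p = 1 := by
  classical
  have := Fact.mk hp
  have := Fintype.ofFinite F
  have hcu : Nat.card Fˣ = Nat.card F - 1 := by
    rw [Nat.card_eq_fintype_card, Nat.card_eq_fintype_card, Fintype.card_units]
  obtain ⟨u, hu⟩ := exists_prime_orderOf_dvd_card' (G := Fˣ) p (by rw [hcu]; exact h)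
  refine ⟨u, ?_, ?_⟩
  · intro h1
    have h2 : u = 1 := Units.ext h1
    rw [h2, orderOf_one] at hu
    exact hp.one_lt.ne hu
  · have h1 := pow_orderOf_eq_one u
    rw [hu] at h1
    have h2 := congrArg Units.val h1
    simpa only [_root_.Units.val_pow_eq_pow_val, _root_.Units.val_one] using h2

section Sp

variable {F : Type*} [Field F] {m : ℕ}

theorem sp_of_SG [Finite F] {a b p : ℕ} (hp : p.Prime) (h : FprRow a b p (SG (SpGen.pq m F))) :
    FprRow a b p (PSp m F) := by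
  have hfin : Finite ((Fin m ⊕ Fin m → F) ≃ₗ[F] (Fin m ⊕ Fin m → F)) := instFin
  let e : SG (SpGen.pq m F) ≃* SpIdent.isos (SpIdent.form m F) := MulEquiv.subgroupCongr SG_pq
  let f : SG (SpGen.pq m F) →* PSp m F := SpIdent.toPSp.comp e.toMonoidHom
  have hf : Function.Surjective f := SpIdent.toPSp_surjective.comp e.surjective
  exact FprRow.of_surjective hp f hf h

/-- **`PSp_{2m}(q)`, `q` even, `p ∣ q - 1`.** -/
theorem psp_eone [Finite F] (hm : 2 ≤ m) (h2 : (2 : F) = 0) {p : ℕ} (hp : p.Prime) (hp2 : p ≠ 2)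
    (hd : p ∣ Nat.card F - 1) : FprRow (p + 1) 1 p (PSp m F) := by
  apply sp_of_SG hp
  obtain ⟨lam, hl1, hlp⟩ := exists_order hp hd
  apply row_of_uGood' hp
  exact uGood_long h2 (alt_form h2).eps hp hp2 (pow_two_le hp) nd_form
    (by rw [finrank_sp]; omega) (e := SpIdent.e m F ⟨0, by omega⟩) trivial (by
      intro h
      have h1 := SpIdent.ef (F := F) (⟨0, by omega⟩ : Fin m) ⟨0, by omega⟩
      rw [h, if_pos rfl] at h1
      have h3 : (SpIdent.form m F).h 0 (SpIdent.f m F ⟨0, by omega⟩) = 1 := h1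
      rw [HForm.zero_left] at h3
      exact zero_ne_one h3) hl1 hlp trivial trivial trivial trivial

end Sp

section U

variable {F : Type*} [Field F] [Fintype F] {q N : ℕ}

theorem su_of_SG (hF : Fintype.card F = q ^ 2) (hN : 3 ≤ N) {a b p : ℕ} (hp : p.Prime)
    (h : FprRow a b p (SG (KSideU.PU hF N))) : FprRow a b p (PSU N F q) := by
  have hfin : Finite ((Fin N → F) ≃ₗ[F] (Fin N → F)) := instFin
  have e : SG (KSideU.PU hF N) ≃* SU N F q :=
    ((MonoidHom.ofInjective (KSideU.toLin_injective (F := F) (q := q) (N := N))).trans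
      (MulEquiv.subgroupCongr (SG_PU hF hN).symm)).symm
  let f : SG (KSideU.PU hF N) →* PSU N F q :=
    (QuotientGroup.mk' (Subgroup.center (SU N F q))).comp e.toMonoidHom
  have hf : Function.Surjective f := (QuotientGroup.mk'_surjective _).comp e.surjective
  exact FprRow.of_surjective hp f hf h

/-- **`PSU_n(q)`, `q` even, `p ∣ q - 1`.** -/
theorem psu_eone (hF : Fintype.card F = q ^ 2) (hN : 3 ≤ N) (h2 : (2 : F) = 0) {p : ℕ}
    (hp : p.Prime) (hp2 : p ≠ 2) (hd : p ∣ q - 1) : FprRow (p + 1) 1 p (PSU N F q) := by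
  apply su_of_SG hF hN hp
  obtain ⟨lam', hl1', hlp'⟩ := exists_order (F := fixF hF) hp (by rw [card_fixF]; exact hd)
  obtain ⟨lam, hlam⟩ : ∃ lam : F, lam = (lam' : F) := ⟨_, rfl⟩
  have hl1 : lam ≠ 1 := by
    rw [hlam]
    intro h
    exact hl1' (Subtype.ext h)
  have hlp : lam ^ p = 1 := by
    rw [hlam]
    have := congrArg (fun z : fixF hF => (z : F)) hlp'
    simpa only [_root_.SubmonoidClass.coe_pow, _root_.OneMemClass.coe_one] using this
  have hlq : lam ^ q = lam := by rw [hlam]; exact lam'.2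
  have hok : ∀ c : F, c ^ q = c → (KSideU.PU hF N).ok 0 c := by
    intro c hc
    rw [KSideU.ok_iff, hc, LieClassical.HermBasic.herm_zero_left, neg_zero]
    linear_combination c * h2
  have hlq1 : (lam + 1) ^ q = lam + 1 := by
    rw [LieClassical.HermBasic.add_pow_q hF, hlq, one_pow]
  obtain ⟨e, -, he0, he⟩ := exists_iso_mem hF (⊤ : Submodule F (Fin N → F)) (by
    rw [finrank_top, Module.finrank_fintype_fun_eq_card, Fintype.card_fin]; omega)
  apply row_of_uGood' hp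
  exact uGood_long h2 (KSideU.HU_ε hF) hp hp2 (pow_two_le hp) (nd_HU hF)
    (by rw [Module.finrank_fintype_fun_eq_card, Fintype.card_fin]; exact hN) he he0 hl1 hlp
    (hok _ hlq) (hok _ (by rw [div_pow, hlq1, hlq])) (hok _ (one_pow q)) (hok _ hlq1)

end U

section O

open LieClassical LieClassical.OrthCore LieClassical.OrthFinite LieClassical.OrthForms

theorem ugood_EQ {F V : Type*} [Field F] [Finite F] [AddCommGroup V] [Module F V] [Finite V]
    {Q : QuadraticForm F V} (hQ : Nondeg Q) (hd : 5 ≤ Module.finrank F V) (h2 : (2 : F) = 0)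
    {p : ℕ} (hp : p.Prime) (hp2 : p ≠ 2) (hpq : p ∣ Nat.card F - 1) :
    FprRow (p + 1) 1 p (SG (KSideO.PO Q)) := by
  have hND : ∀ v : V, v ≠ 0 → ∃ w, (KSideO.HO Q).h v w ≠ 0 := by
    intro v hv
    by_contra hcon
    push Not at hcon
    exact hv (hQ v hcon)
  have hκ : ∀ A : Submodule F V, 3 ≤ Module.finrank F A → ∃ w ∈ A, w ≠ 0 ∧
      (KSideO.PO Q).ok w 0 := by
    intro A hA
    obtain ⟨w, hw, hw0, hQw⟩ := exists_sing_mem (Q := Q) A hA
    exact ⟨w, hw, hw0, (KSideO.sing_iff Q).2 hQw⟩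
  obtain ⟨lam, hl1, hlp⟩ := exists_order hp hpq
  apply row_of_uGood' hp
  refine uGood_orth h2 rfl (fun _ => rfl) hp hp2 (pow_two_le hp) ?_ hND le_rfl hκ hd hl1 hlp
  intro c hc
  have hc' : c = -Q 0 := hc
  rw [QuadraticMap.map_zero, neg_zero] at hc'
  exact hc'

theorem omega_of_SG {ι : Type} [Fintype ι] [DecidableEq ι] {F : Type*} [Field F] [Finite F]
    {Q : QuadraticForm F (ι → F)} (hQ : Nondeg Q) (hd : 5 ≤ Module.finrank F (ι → F))
    {a b p : ℕ} (hp : p.Prime) (h : FprRow a b p (SG (KSideO.PO Q))) :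
    FprRow a b p (Cfsg.POmega F ⇑Q) := by
  have hG := good_of_finite hQ hd
  have : Finite ((ι → F) ≃ₗ[F] (ι → F)) := instFin
  refine FprRow.of_surjective hp (KSideO.toPOmega hG) (KSideO.toPOmega_surjective hG) ?_
  rw [← SG_PO]
  exact h

/-- **`PΩ⁺_{2m}(q)`, `q` even, `p ∣ q - 1`.** -/
theorem oplus_eone {F : Type} [Field F] [Fintype F] {m : ℕ} (hm : 4 ≤ m) (h2 : (2 : F) = 0)
    {p : ℕ} (hp : p.Prime) (hp2 : p ≠ 2) (hpq : p ∣ Nat.card F - 1) :
    FprRow (p + 1) 1 p (Cfsg.POmega F (Cfsg.quadFormPlus m F)) := by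
  rw [← coe_plusForm]
  have hd : 5 ≤ Module.finrank F (Fin m ⊕ Fin m → F) := by
    rw [Module.finrank_fintype_fun_eq_card, Fintype.card_sum, Fintype.card_fin]
    omega
  exact omega_of_SG (nondeg_plusForm m F) hd hp
    (ugood_EQ (nondeg_plusForm m F) hd h2 hp hp2 hpq)

/-- **`PΩ⁻_{2m}(q)`, `q` even, `p ∣ q - 1`.** -/
theorem ominus_eone {F : Type} [Field F] [Fintype F] {m : ℕ} (hm : 4 ≤ m) {a b : F}
    (hab : ∀ z₁ z₂ : F, z₁ ^ 2 + a * z₁ * z₂ + b * z₂ ^ 2 = 0 → z₁ = 0 ∧ z₂ = 0)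
    (h2 : (2 : F) = 0) {p : ℕ} (hp : p.Prime) (hp2 : p ≠ 2) (hpq : p ∣ Nat.card F - 1) :
    FprRow (p + 1) 1 p (Cfsg.POmega F (Cfsg.quadFormMinus (m - 1) F a b)) := by
  rw [← coe_minusForm]
  have hd : 5 ≤ Module.finrank F ((Fin (m - 1) ⊕ Fin (m - 1)) ⊕ Fin 2 → F) := by
    rw [Module.finrank_fintype_fun_eq_card, Fintype.card_sum, Fintype.card_sum, Fintype.card_fin,
      Fintype.card_fin]
    omega
  exact omega_of_SG (nondeg_minusForm (m - 1) F a b hab) hd hp
    (ugood_EQ (nondeg_minusForm (m - 1) F a b hab) hd h2 hp hp2 hpq)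

end O

end Cfsg.Agent.H398.FPR
end
end

section
prune_inst 0xf4acfb2bfc89dfffff7e7fa6d4cffdf8b81fffe6dffdcbffe063ff0bdf43808dc5fb858be090fe1ed6e21410b87813f9ffeeffe16bd87ffffd1ff41ffbee0fe5f6b50951d68c340fbc0fff83f0778e7f000000000000000000000000000000000200000000

-- part: H435/Fpr/LinRow
section
prune_inst 0xa4200800110000000000000080000040020000000000000000800400008104200040a000a21000000000000400340000000000200000000000000000011801801000000281080000020000000000000000000000000000000000000000000000000000000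
set_option linter.all false
open scoped Cfsg.Agent.FastGrp

-- part: H110/Fpr/SharpL
section
/-!
# The rows of S3578: linear groups
-/

set_option autoImplicit false

namespace Cfsg.Agent.H110.Fpr

open Cfsg.Agent.H398.FPR Cfsg.Agent.H409 Cfsg.Agent.H221.PP Cfsg.Agent.H435.Fpr
open Module (Dual finrank)

section

variable {F : Type*} [Field F] {V : Type*} [AddCommGroup V] [Module F V]

theorem isPGroup_radL {r : ℕ} [CharP F r] (A : Submodule F V) : IsPGroup r (radL A) := by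
  rintro ⟨g, hg⟩
  refine ⟨1, Subtype.ext ?_⟩
  obtain ⟨g1, g2⟩ := mem_radL.1 hg
  have key : ∀ n : ℕ, ∀ v, (g ^ n) v = v + n • (g v - v) := by
    intro n
    induction n with
    | zero => intro v; rw [zero_smul, add_zero]; rfl
    | succ n ih =>
      intro v
      rw [pow_succ', mul_app, ih, app_add]
      have h1 : g (n • (g v - v)) = n • (g v - v) := g1 _ (A.smul_of_tower_mem n (g2 v))
      rw [h1, add_smul, one_smul]
      abel
  rw [pow_one]
  change g ^ r = 1
  apply ext'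
  intro v
  rw [key]
  have h1 : (r : ℕ) • (g v - v) = 0 := by
    rw [← Nat.cast_smul_eq_nsmul F, CharP.cast_eq_zero, zero_smul]
  rw [h1, add_zero]
  rfl

/-- the two radicals -/
theorem lin_pairs [Finite V] {p j k : ℕ} (hp : p.Prime)
    {x : SpecialLinearGroup F V} (hx : x ^ p ^ k = 1) {A B : Submodule F V} (hAB : IsCompl A B)
    (hxA : ∀ v ∈ A, x v ∈ A) (hxB : ∀ v ∈ B, x v = v)
    (hsurj : ∀ v ∈ A, ∃ v' ∈ A, (x ^ p ^ j) v' - v' = v) :
    Pair p j x (radL A) ∧ Pair p j x (radL B) := by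
  classical
  have hfin0 : Finite (V ≃ₗ[F] V) := instFin
  have hfin : Finite (SpecialLinearGroup F V) := inferInstance
  obtain ⟨y, hy⟩ : ∃ y, y = x ^ p ^ j := ⟨_, rfl⟩
  have hxn : ∀ n : ℕ, ∀ v ∈ A, (x ^ n) v ∈ A := by
    intro n
    induction n with
    | zero => intro v hv; exact hv
    | succ n ih => intro v hv; rw [pow_succ, mul_app]; exact ih _ (hxA v hv)
  have hxnB : ∀ n : ℕ, ∀ v ∈ B, (x ^ n) v = v := by
    intro n
    induction n with
    | zero => intro v hv; rfl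
    | succ n ih => intro v hv; rw [pow_succ, mul_app, hxB v hv, ih v hv]
  have hinv : ∃ n : ℕ, x⁻¹ = x ^ n := by
    refine ⟨p ^ k - 1, ?_⟩
    rw [inv_eq_iff_mul_eq_one, ← pow_succ', Nat.sub_add_cancel (Nat.one_le_pow _ _ hp.pos), hx]
  obtain ⟨n, hn⟩ := hinv
  have hAinv : ∀ v ∈ A, x⁻¹ v ∈ A := by rw [hn]; exact hxn n
  have hBinv : ∀ v ∈ B, x⁻¹ v ∈ B := by
    intro v hv
    rw [hn, hxnB n v hv]
    exact hv
  have hxB' : ∀ v ∈ B, x v ∈ B := fun v hv => by rw [hxB v hv]; exact hv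
  have hyB : ∀ v ∈ B, y v = v := by rw [hy]; exact hxnB _
  have hyA : ∀ v ∈ A, y v ∈ A := by rw [hy]; exact hxn _
  rw [← hy] at hsurj
  -- no fixed points on `A`
  have hfpf : ∀ v ∈ A, y v = v → v = 0 := by
    let f : A → A := fun v => ⟨y v - v, A.sub_mem (hyA v v.2) v.2⟩
    have hf : Function.Surjective f := by
      intro v
      obtain ⟨v', hv', h⟩ := hsurj v v.2
      exact ⟨⟨v', hv'⟩, Subtype.ext h⟩
    have hfi := Finite.injective_iff_surjective.2 hf
    intro v hv hyv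
    have h1 : f ⟨v, hv⟩ = f 0 := by
      apply Subtype.ext
      change y v - v = y (0 : V) - 0
      rw [hyv, app_zero, sub_self, sub_zero]
    exact congrArg Subtype.val (hfi h1)
  have hdec : ∀ v : V, ∃ a ∈ A, ∃ b ∈ B, v = a + b := by
    intro v
    have hv : v ∈ A ⊔ B := by rw [hAB.sup_eq_top]; trivial
    obtain ⟨a, ha, b, hb, h⟩ := Submodule.mem_sup.1 hv
    exact ⟨a, ha, b, hb, h.symm⟩
  have hnilp : ∀ A : Submodule F V, Group.IsNilpotent (radL A) := by
    intro A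
    letI : CommGroup (radL A) := { (inferInstance : Group (radL A)) with
      mul_comm := fun a b => Subtype.ext
        (show (a : SpecialLinearGroup F V) * b = b * a from radL_comm _ a.2 _ b.2) }
    exact CommGroup.isNilpotent
  have conjA : ∀ a ∈ radL A, x * a * x⁻¹ ∈ radL A := radL_conj hxA hAinv
  have conjB : ∀ a ∈ radL B, x * a * x⁻¹ ∈ radL B := radL_conj hxB' hBinv
  have nA : x ∈ Subgroup.normalizer (radL A : Set (SpecialLinearGroup F V)) :=
    mem_normalizer_of_conj conjA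
  have nB : x ∈ Subgroup.normalizer (radL B : Set (SpecialLinearGroup F V)) :=
    mem_normalizer_of_conj conjB
  have nyA : y ∈ Subgroup.normalizer (radL A : Set (SpecialLinearGroup F V)) := by
    rw [hy]; exact Subgroup.pow_mem _ nA _
  have nyB : y ∈ Subgroup.normalizer (radL B : Set (SpecialLinearGroup F V)) := by
    rw [hy]; exact Subgroup.pow_mem _ nB _
  constructor
  · refine ⟨hnilp A, nA, ?_⟩
    rw [← hy]
    refine commFull_abel radL_comm
      (fun a ha => (Subgroup.mem_normalizer_iff.1 nyA a).1 ha) ?_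
    rintro g ⟨g1, g2⟩ hc
    have hgB : ∀ b ∈ B, g b = b := by
      intro b hb
      have h1 : y (g b) = g b := by
        rw [← mul_app, hc, mul_app, hyB b hb]
      have h2 := hfpf (g b - b) (g2 b) (by rw [app_sub, h1, hyB b hb])
      exact sub_eq_zero.1 h2
    apply ext'
    intro v
    obtain ⟨a, ha, b, hb, rfl⟩ := hdec v
    rw [app_add, g1 a ha, hgB b hb]
    rfl
  · refine ⟨hnilp B, nB, ?_⟩
    rw [← hy]
    refine commFull_abel radL_comm
      (fun a ha => (Subgroup.mem_normalizer_iff.1 nyB a).1 ha) ?_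
    rintro g ⟨g1, g2⟩ hc
    have hgA : ∀ a ∈ A, g a = a := by
      intro a ha
      obtain ⟨a', ha', h⟩ := hsurj a ha
      rw [← h, app_sub]
      have h1 : g (y a') = y (g a') := by rw [← mul_app, ← hc, mul_app]
      have h2 : g a' = a' + (g a' - a') := by abel
      have h3 : y (g a') = y a' + (g a' - a') := by
        conv_lhs => rw [h2]
        rw [app_add, hyB _ (g2 a')]
      rw [h1, h3]
      abel
    apply ext'
    intro v
    obtain ⟨a, ha, b, hb, rfl⟩ := hdec v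
    rw [app_add, hgA a ha, g1 b hb]
    rfl

/-- **The row of S3578 for the linear groups**, from an element. -/
theorem sharp_lin [Finite V] [FiniteDimensional F V] {r : ℕ} [hrp : Fact r.Prime]
    [CharP F r] {p k : ℕ} (hp : p.Prime)
    (hM : ∀ t : ℕ, t ≠ 0 → r ^ t ≡ 1 [MOD p] → 2 * p + 1 ≤ r ^ t)
    {x : SpecialLinearGroup F V} (hx : x ^ p ^ k = 1) {A B : Submodule F V} (hAB : IsCompl A B)
    (hA0 : A ≠ ⊥) (hB0 : B ≠ ⊥) (hxA : ∀ v ∈ A, x v ∈ A) (hxB : ∀ v ∈ B, x v = v)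
    (hsurj : ∀ v ∈ A, ∃ v' ∈ A, x v' - v' = v) :
    FprRow (p + 1) 1 p (SpecialLinearGroup F V) := by
  classical
  have hfin0 : Finite (V ≃ₗ[F] V) := instFin
  have hfin : Finite (SpecialLinearGroup F V) := inferInstance
  obtain ⟨pA, pB⟩ := lin_pairs (j := 0) hp hx hAB hxA hxB (by
    rw [pow_zero, pow_one]; exact hsurj)
  have hgen : Subgroup.closure ({x} ∪ ⋃ b : Bool, ((cond b (radL A) (radL B) :
      Subgroup (SpecialLinearGroup F V)) : Set (SpecialLinearGroup F V))) = ⊤ := by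
    refine lin_gen hAB hA0 hB0 ?_ ?_
    · intro g hg
      apply Subgroup.subset_closure
      right
      rw [Set.mem_iUnion]
      exact ⟨true, hg⟩
    · intro g hg
      apply Subgroup.subset_closure
      right
      rw [Set.mem_iUnion]
      exact ⟨false, hg⟩
  have h3 := T3M_uGood (M := 2 * p + 1) (by omega) (ι := Bool)
    (fun b => cond b (radL A) (radL B)) (x := x)
    (by rintro (_ | _)
        · exact PairM.of_pair hp hrp.out hx (isPGroup_radL B) pB hM
        · exact PairM.of_pair hp hrp.out hx (isPGroup_radL A) pA hM) hgen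
  rw [Fintype.card_bool] at h3
  have h4 := h3.mono (a' := 1) (b' := p + 1) (by omega) (by omega)
  obtain ⟨n, -, hn⟩ := (Nat.dvd_prime_pow hp).1 (orderOf_dvd_of_pow_eq_one hx)
  intro H hH
  exact ⟨x, ⟨n, hn⟩, h4 H hH⟩

end

section

variable {F : Type*} [Field F] {n : ℕ}

theorem sharp_lin_small [Finite F] (hn : 3 ≤ n) {r : ℕ} [hrp : Fact r.Prime]
    [CharP F r] {p : ℕ} (hp : p.Prime) (hp2 : p ≠ 2) (hpF : (p : F) ≠ 0)
    (hd : p ∣ (Nat.card F) ^ 2 - 1)
    (hM : ∀ t : ℕ, t ≠ 0 → r ^ t ≡ 1 [MOD p] → 2 * p + 1 ≤ r ^ t) :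
    FprRow (p + 1) 1 p (SpecialLinearGroup F (Fin n → F)) := by
  classical
  obtain ⟨t, j, k, -, hj0, ht⟩ := exists_good2' (F := F) hp hpF hd
  obtain rfl := hj0 hp2
  obtain ⟨i0, h0⟩ : ∃ i : Fin n, i = ⟨0, by omega⟩ := ⟨_, rfl⟩
  obtain ⟨i1, h1⟩ : ∃ i : Fin n, i = ⟨1, by omega⟩ := ⟨_, rfl⟩
  obtain ⟨i2, h3⟩ : ∃ i : Fin n, i = ⟨2, by omega⟩ := ⟨_, rfl⟩
  have h01 : i0 ≠ i1 := by rw [h0, h1]; simp
  have h20 : i2 ≠ i0 := by rw [h0, h3]; simp
  have h21 : i2 ≠ i1 := by rw [h1, h3]; simp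
  clear h0 h1 h3
  obtain ⟨e, he⟩ : ∃ e : Fin n → (Fin n → F), e = fun i => Pi.single i (1 : F) := ⟨_, rfl⟩
  have eii : ∀ i, e i i = 1 := fun i => by rw [he]; simp
  have eij : ∀ i j, i ≠ j → e i j = 0 := fun i j h => by rw [he]; simp [h.symm]
  let φ : Fin n → Dual F (Fin n → F) := fun i => LinearMap.proj i
  have hφ : ∀ i v, φ i v = v i := fun i v => rfl
  have k1 : φ i1 ((t - 2) • e i0) = 0 := by
    rw [hφ, Pi.smul_apply, eij _ _ h01, smul_zero]
  have k2 : φ i0 (e i1) = 0 := by rw [hφ, eij _ _ h01.symm]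
  obtain ⟨x, hx⟩ : ∃ x, x = tv (φ i1) ((t - 2) • e i0) k1 * tv (φ i0) (e i1) k2 := ⟨_, rfl⟩
  have hxv : ∀ v, x v = v + v i0 • e i1 + ((t - 2) * (v i0 + v i1)) • e i0 := by
    intro v
    rw [hx]
    simp only [mul_app, tv_apply, hφ, Pi.add_apply, Pi.smul_apply, eii, smul_eq_mul, mul_one]
    module
  let A : Submodule F (Fin n → F) :=
    { carrier := {v | ∀ i, i ≠ i0 → i ≠ i1 → v i = 0}
      add_mem' := fun {a b} ha hb i hi hi' => by rw [Pi.add_apply, ha i hi hi', hb i hi hi', add_zero]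
      zero_mem' := fun i _ _ => rfl
      smul_mem' := fun c v hv i hi hi' => by rw [Pi.smul_apply, hv i hi hi', smul_zero] }
  let B : Submodule F (Fin n → F) :=
    { carrier := {v | v i0 = 0 ∧ v i1 = 0}
      add_mem' := fun {a b} ha hb => ⟨by rw [Pi.add_apply, ha.1, hb.1, add_zero],
        by rw [Pi.add_apply, ha.2, hb.2, add_zero]⟩
      zero_mem' := ⟨rfl, rfl⟩
      smul_mem' := fun c v hv => ⟨by rw [Pi.smul_apply, hv.1, smul_zero],
        by rw [Pi.smul_apply, hv.2, smul_zero]⟩ }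
  have eA0 : e i0 ∈ A := fun i hi _ => eij _ _ hi.symm
  have eA1 : e i1 ∈ A := fun i _ hi => eij _ _ hi.symm
  have eB2 : e i2 ∈ B := ⟨eij _ _ h20, eij _ _ h21⟩
  have hAe : ∀ v ∈ A, v = v i0 • e i0 + v i1 • e i1 := by
    intro v hv
    funext i
    rw [Pi.add_apply, Pi.smul_apply, Pi.smul_apply, smul_eq_mul, smul_eq_mul]
    by_cases hi0 : i = i0
    · rw [hi0, eii, eij _ _ h01.symm]; ring
    · by_cases hi1 : i = i1
      · rw [hi1, eii, eij _ _ h01]; ring
      · rw [hv i hi0 hi1, eij _ _ (Ne.symm hi0), eij _ _ (Ne.symm hi1)]; ring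
  have hcompl : IsCompl A B := by
    refine ⟨?_, ?_⟩
    · rw [Submodule.disjoint_def]
      intro v hv hv'
      rw [hAe v hv, hv'.1, hv'.2, zero_smul, zero_smul, add_zero]
    · rw [codisjoint_iff, eq_top_iff]
      intro v _
      have e1 : v = (v i0 • e i0 + v i1 • e i1) + (v - (v i0 • e i0 + v i1 • e i1)) := by abel
      rw [e1]
      refine Submodule.add_mem_sup (A.add_mem (A.smul_mem _ eA0) (A.smul_mem _ eA1)) ⟨?_, ?_⟩
      · simp only [Pi.sub_apply, Pi.add_apply, Pi.smul_apply, eii, eij _ _ h01.symm, smul_eq_mul]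
        ring
      · simp only [Pi.sub_apply, Pi.add_apply, Pi.smul_apply, eii, eij _ _ h01, smul_eq_mul]
        ring
  have hxA : ∀ v ∈ A, x v ∈ A := by
    intro v hv
    rw [hxv]
    exact A.add_mem (A.add_mem hv (A.smul_mem _ eA1)) (A.smul_mem _ eA0)
  have hxB : ∀ v ∈ B, x v = v := by
    intro v hv
    rw [hxv, hv.1, hv.2]
    simp
  have hquad : IsQuad x.1 A t := by
    refine ⟨hxA, ?_⟩
    intro v hv
    change x (x v) = t • x v - v
    rw [hxv (x v), hxv v]
    conv_lhs => rw [hAe v hv]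
    conv_rhs => rw [hAe v hv]
    simp only [Pi.add_apply, Pi.smul_apply, eii, eij _ _ h01, eij _ _ h01.symm, smul_eq_mul,
      mul_zero, mul_one, add_zero, zero_add]
    module
  have hxp : x ^ p ^ k = 1 := by
    apply Subtype.ext
    have h5 : (x ^ p ^ k).1 = x.1 ^ p ^ k := rfl
    rw [h5]
    apply LinearEquiv.ext
    intro v
    have hv : v ∈ A ⊔ B := by rw [hcompl.sup_eq_top]; trivial
    obtain ⟨a, ha, b, hb, rfl⟩ := Submodule.mem_sup.1 hv
    rw [map_add, hquad.pow_eq ht a ha, pow_fix (W := B) hxB _ b hb]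
    rfl
  refine sharp_lin (x := x) (k := k) hp hM hxp hcompl ?_ ?_ hxA hxB ?_
  · intro h
    rw [h, Submodule.mem_bot] at eA0
    have := congrFun eA0 i0
    rw [eii] at this
    exact one_ne_zero this
  · intro h
    rw [h, Submodule.mem_bot] at eB2
    have := congrFun eB2 i2
    rw [eii] at this
    exact one_ne_zero this
  · intro v hv
    obtain ⟨v', hv', h⟩ := hquad.surj ht v hv
    refine ⟨v', hv', ?_⟩
    rw [pow_zero, pow_one] at h
    exact h

/-- **The row of S3578 for `SL_n(q)`, `n ≥ 3`.** -/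
theorem sharp_SL [Finite F] (hn : 3 ≤ n) {r : ℕ} [hrp : Fact r.Prime]
    [CharP F r] {p : ℕ} (hp : p.Prime) (hp2 : p ≠ 2) (hpF : (p : F) ≠ 0)
    (hM : ∀ t : ℕ, t ≠ 0 → r ^ t ≡ 1 [MOD p] → 2 * p + 1 ≤ r ^ t)
    (hdvd : p ∣ Nat.card (SpecialLinearGroup F (Fin n → F))) :
    FprRow (p + 1) 1 p (SpecialLinearGroup F (Fin n → F)) ∨
      ∀ k, p ∣ Nat.card F ^ k - 1 → n ∣ k := by
  by_cases hd : p ∣ (Nat.card F) ^ 2 - 1
  · exact Or.inl (sharp_lin_small hn hp hp2 hpF hd hM)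
  have hfin0 : Finite ((Fin n → F) ≃ₗ[F] (Fin n → F)) := instFin
  have hfin : Finite (SpecialLinearGroup F (Fin n → F)) := inferInstance
  have := Fact.mk hp
  obtain ⟨x, hx⟩ := exists_prime_orderOf_dvd_card' p hdvd
  have hxp : x ^ p = 1 := by rw [← hx]; exact pow_orderOf_eq_one x
  have hx1 : x.1 ≠ 1 := by
    intro h
    have h2 : x = 1 := Subtype.ext h
    rw [h2, orderOf_one] at hx
    exact hp.one_lt.ne hx
  have hxp' : x.1 ^ p = 1 := congrArg Subtype.val hxp
  have hU0 : movS p x.1 ≠ ⊥ := by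
    intro h
    obtain ⟨w, hw, hw1⟩ := exists_moved hpF hxp' hx1
    rw [h, Submodule.mem_bot] at hw
    exact hw1 (by rw [hw, map_zero])
  obtain ⟨T, hTU, hT⟩ := exists_isMin (x := x.1) (movS_inv rfl) hU0
  have hfpf : ∀ v ∈ T, x.1 v = v → v = 0 := fun v hv h => eq_zero_of_mem hpF (hTU hv) h
  have hmov : ∃ v ∈ T, x.1 v ≠ v := by
    obtain ⟨v, hv, hv0⟩ := (Submodule.ne_bot_iff T).1 hT.ne
    exact ⟨v, hv, fun h => hv0 (hfpf v hv h)⟩
  obtain ⟨C, -, hCi, hC1, hC2⟩ := exists_compl hp hpF hxp' hT.inv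
    (show Inv x.1 (⊤ : Submodule F (Fin n → F)) from fun _ _ => trivial) le_top
  by_cases hC0 : C = ⊥
  · right
    intro k hk
    have h1 := hT.finrank_dvd hp hxp' hmov hpF hk
    rw [hC0, sup_bot_eq] at hC2
    rwa [hC2, finrank_top, Module.finrank_fintype_fun_eq_card, Fintype.card_fin] at h1
  · left
    have hcompl : IsCompl T C := ⟨disjoint_iff.2 hC1, codisjoint_iff.2 hC2⟩
    obtain ⟨y, hy1, hy2⟩ := exists_trunc x.1 hcompl hT.inv
    have hyp := trunc_pow_eq_one hxp' hC2 hT.inv hy1 hy2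
    have hdet : LinearEquiv.det y = 1 := by
      have h1 : (LinearEquiv.det y) ^ p = 1 := by rw [← map_pow, hyp, map_one]
      have h2 : (LinearEquiv.det y) ^ (Nat.card F - 1) = 1 := by
        classical
        have := Fintype.ofFinite F
        have h3 : Nat.card F - 1 = Fintype.card Fˣ := by
          rw [Nat.card_eq_fintype_card, Fintype.card_units]
        rw [h3]
        exact pow_card_eq_one
      have h3 : orderOf (LinearEquiv.det y) ∣ p := orderOf_dvd_of_pow_eq_one h1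
      have h4 : orderOf (LinearEquiv.det y) ∣ Nat.card F - 1 := orderOf_dvd_of_pow_eq_one h2
      rcases (Nat.dvd_prime hp).1 h3 with h5 | h5
      · exact orderOf_eq_one_iff.1 h5
      · exfalso
        rw [h5] at h4
        apply hd
        have := Nat.sub_dvd_pow_sub_pow (Nat.card F) 1 2
        rw [one_pow] at this
        exact h4.trans this
    obtain ⟨z, hz⟩ : ∃ z : SpecialLinearGroup F (Fin n → F), z.1 = y := ⟨⟨y, hdet⟩, rfl⟩
    have hzv : ∀ v, z v = y v := by
      intro v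
      rw [← hz]
    refine sharp_lin (x := z) (k := 1) hp hM ?_ hcompl hT.ne hC0 ?_ ?_ ?_
    · apply Subtype.ext
      have h5 : (z ^ p ^ 1).1 = z.1 ^ p := by rw [pow_one]; rfl
      rw [h5, hz, hyp]
      rfl
    · intro v hv
      rw [hzv, hy1 v hv]
      exact hT.inv v hv
    · intro v hv
      rw [hzv]
      exact hy2 v hv
    · intro v hv
      obtain ⟨w, hw, h⟩ := surj_of_fpf hT.inv hfpf v hv
      refine ⟨w, hw, ?_⟩
      rw [hzv, hy1 w hw]
      exact h

/-- **The row of S3578 for `PSL_n(q)`, `n ≥ 3`.** -/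
theorem sharp_PSL [Finite F] (hn : 3 ≤ n) {r : ℕ} [hrp : Fact r.Prime]
    [CharP F r] {p : ℕ} (hp : p.Prime) (hp2 : p ≠ 2) (hpF : (p : F) ≠ 0)
    (hM : ∀ t : ℕ, t ≠ 0 → r ^ t ≡ 1 [MOD p] → 2 * p + 1 ≤ r ^ t)
    (hdvd : p ∣ Nat.card (Matrix.ProjectiveSpecialLinearGroup (Fin n) F)) :
    FprRow (p + 1) 1 p (Matrix.ProjectiveSpecialLinearGroup (Fin n) F) ∨
      ∀ k, p ∣ Nat.card F ^ k - 1 → n ∣ k := by
  have hfin0 : Finite ((Fin n → F) ≃ₗ[F] (Fin n → F)) := instFin
  have hfin : Finite (SpecialLinearGroup F (Fin n → F)) := inferInstance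
  let e : SpecialLinearGroup F (Fin n → F) ≃* Matrix.SpecialLinearGroup (Fin n) F :=
    Matrix.SpecialLinearGroup.toLin'_equiv.symm
  let f : SpecialLinearGroup F (Fin n → F) →* Matrix.ProjectiveSpecialLinearGroup (Fin n) F :=
    (QuotientGroup.mk' (Subgroup.center (Matrix.SpecialLinearGroup (Fin n) F))).comp e.toMonoidHom
  have hf : Function.Surjective f := (QuotientGroup.mk'_surjective _).comp e.surjective
  refine (sharp_SL hn hp hp2 hpF hM (hdvd.trans ?_)).imp_left (FprRow.of_surjective hp f hf)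
  exact Subgroup.card_dvd_of_surjective f hf

end

end Cfsg.Agent.H110.Fpr
end

-- part: H435/Fpr/LinFree
section
/-!
# Linear groups in characteristic two: two opposite radicals, free action

`V = A ⊕ B`, `x` is irreducible on `A` and trivial on `B`.
-/

set_option autoImplicit false
open Subgroup MulAction

namespace Cfsg.Agent.H435.Fpr

open Cfsg.Agent.H398.FPR Cfsg.Agent.H110.Fpr Cfsg.Agent.H221.PP
open Module (Dual finrank)

section

variable {F : Type*} [Field F] {V : Type*} [AddCommGroup V] [Module F V]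

/-- `x` is irreducible and fixed point free on `A`, trivial on `B`. -/
structure LX (A B : Submodule F V) (x : SpecialLinearGroup F V) : Prop where
  compl : IsCompl A B
  xA : ∀ v ∈ A, x v ∈ A
  xB : ∀ v ∈ B, x v = v
  fpf : ∀ v ∈ A, x v = v → v = 0
  irr : ∀ T : Submodule F V, T ≤ A → (∀ v ∈ T, x v ∈ T) → T = ⊥ ∨ T = A

theorem compl_dec {A B : Submodule F V} (h : IsCompl A B) (v : V) :
    ∃ a ∈ A, ∃ b ∈ B, v = a + b := by
  have hv : v ∈ A ⊔ B := by rw [h.sup_eq_top]; trivial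
  obtain ⟨a, ha, b, hb, h⟩ := Submodule.mem_sup.1 hv
  exact ⟨a, ha, b, hb, h.symm⟩

theorem compl_eq_zero {A B : Submodule F V} (h : IsCompl A B) {v : V} (h1 : v ∈ A) (h2 : v ∈ B) :
    v = 0 := Submodule.disjoint_def.1 h.disjoint v h1 h2

/-- Elements `1 + N`. -/
theorem exists_radL [FiniteDimensional F V] {A : Submodule F V}
    {H : Subgroup (SpecialLinearGroup F V)}
    (hH : ∀ (φ : Dual F V) (w : V) (hw : w ∈ A) (hφ : ∀ v ∈ A, φ v = 0), tv φ w (hφ w hw) ∈ H)
    (N : V →ₗ[F] V) (h1 : ∀ v ∈ A, N v = 0) (h2 : ∀ v, N v ∈ A) :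
    ∃ g ∈ H, ∀ v, g v = v + N v := by
  classical
  obtain ⟨b, hb⟩ : ∃ b : Module.Basis (Fin (finrank F A)) F A, b = Module.finBasis F A := ⟨_, rfl⟩
  let φ : Fin (finrank F A) → Dual F V := fun i => (b.coord i) ∘ₗ (N.codRestrict A h2)
  have hφ : ∀ i, ∀ v ∈ A, φ i v = 0 := by
    intro i v hv
    show b.coord i (N.codRestrict A h2 v) = 0
    have h3 : N.codRestrict A h2 v = 0 := Subtype.ext (h1 v hv)
    rw [h3, map_zero]
  have key : ∀ s : Finset (Fin (finrank F A)), ∃ g ∈ H, ∀ v,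
      g v = v + ∑ i ∈ s, φ i v • (b i : V) := by
    intro s
    induction s using Finset.induction_on with
    | empty => exact ⟨1, H.one_mem, fun v => by rw [one_app, Finset.sum_empty, add_zero]⟩
    | insert j s hj ih =>
      obtain ⟨g, hg, h⟩ := ih
      refine ⟨tv (φ j) (b j : V) (hφ j _ (b j).2) * g, H.mul_mem (hH _ _ (b j).2 (hφ j)) hg,
        fun v => ?_⟩
      have h4 : φ j (∑ i ∈ s, φ i v • (b i : V)) = 0 := by
        apply hφ
        exact A.sum_mem fun i _ => A.smul_mem _ (b i).2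
      rw [mul_app, tv_apply, h, map_add, h4, add_zero, Finset.sum_insert hj]
      abel
  obtain ⟨g, hg, h⟩ := key Finset.univ
  refine ⟨g, hg, fun v => ?_⟩
  rw [h]
  congr 1
  have h5 := b.sum_repr (N.codRestrict A h2 v)
  have h6 := congrArg Subtype.val h5
  rw [AddSubmonoidClass.coe_finsetSum] at h6
  exact h6

theorem radL_le [FiniteDimensional F V] {A : Submodule F V}
    {H : Subgroup (SpecialLinearGroup F V)}
    (hH : ∀ (φ : Dual F V) (w : V) (hw : w ∈ A) (hφ : ∀ v ∈ A, φ v = 0), tv φ w (hφ w hw) ∈ H) :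
    radL A ≤ H := by
  rintro g ⟨g1, g2⟩
  obtain ⟨g', hg', h⟩ := exists_radL hH ((g.1 : V →ₗ[F] V) - LinearMap.id) (by
    intro v hv
    show g v - v = 0
    rw [g1 v hv, sub_self]) g2
  have h3 : g = g' := by
    apply ext'
    intro v
    rw [h]
    show g v = v + (g v - v)
    abel
  rwa [h3]

theorem ann_eq {A B : Submodule F V} (h : IsCompl A B) {φ : Dual F V} (h1 : ∀ v ∈ A, φ v = 0)
    (h2 : ∀ v ∈ B, φ v = 0) : φ = 0 := by
  ext v
  obtain ⟨a, ha, b, hb, rfl⟩ := compl_dec h v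
  rw [map_add, h1 a ha, h2 b hb, add_zero]
  rfl

variable {A B : Submodule F V} {x : SpecialLinearGroup F V}

theorem LX.surj [Finite V] (h : LX A B x) : ∀ v ∈ A, ∃ v' ∈ A, x v' - v' = v := by
  let f : A → A := fun v => ⟨x v - v, A.sub_mem (h.xA v v.2) v.2⟩
  have hf : Function.Injective f := by
    intro v v' hv
    have h1 : x v - v = x v' - v' := congrArg Subtype.val hv
    have h2 := h.fpf (v - v' : V) (A.sub_mem v.2 v'.2) (by
      rw [app_sub, sub_eq_sub_iff_add_eq_add]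
      rw [sub_eq_sub_iff_add_eq_add] at h1
      rw [h1]; abel)
    exact Subtype.ext (sub_eq_zero.1 h2)
  intro v hv
  obtain ⟨v', hv'⟩ := Finite.surjective_of_injective hf ⟨v, hv⟩
  exact ⟨v', v'.2, congrArg Subtype.val hv'⟩

theorem LX.xinvA [Finite V] (h : LX A B x) : ∀ v ∈ A, x⁻¹ v ∈ A := by
  let f : A → A := fun v => ⟨x v, h.xA v v.2⟩
  have hf : Function.Injective f := fun v v' hv => Subtype.ext (app_inj x (congrArg Subtype.val hv))
  intro v hv
  obtain ⟨v', hv'⟩ := Finite.surjective_of_injective hf ⟨v, hv⟩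
  have h1 : x v' = v := congrArg Subtype.val hv'
  rw [← h1, inv_app_app]
  exact v'.2

theorem LX.xinvB (h : LX A B x) : ∀ v ∈ B, x⁻¹ v = v := by
  intro v hv
  apply app_inj x
  rw [app_inv_app, h.xB v hv]

theorem LX.freeA [Finite V] (h : LX A B x) : FreeOn x (radL A) := by
  have hfin0 : Finite (V ≃ₗ[F] V) := instFin
  have hfin : Finite (SpecialLinearGroup F V) := inferInstance
  constructor
  · exact mem_normalizer_of_conj (radL_conj h.xA h.xinvA)
  · rintro g ⟨g1, g2⟩ hc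
    have hcomm : ∀ v, x (g v) = g (x v) := by
      intro v
      have h4 : x * g = g * x := by rwa [mul_inv_eq_iff_eq_mul] at hc
      rw [← mul_app, h4, mul_app]
    apply ext'
    intro v
    obtain ⟨a, ha, b, hb, rfl⟩ := compl_dec h.compl v
    have h1 : g b - b = 0 := h.fpf _ (g2 b) (by rw [app_sub, hcomm, h.xB b hb])
    rw [app_add, g1 a ha, sub_eq_zero.1 h1, one_app]

theorem LX.freeB [Finite V] (h : LX A B x) : FreeOn x (radL B) := by
  have hfin0 : Finite (V ≃ₗ[F] V) := instFin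
  have hfin : Finite (SpecialLinearGroup F V) := inferInstance
  constructor
  · refine mem_normalizer_of_conj (radL_conj (fun v hv => ?_) (fun v hv => ?_))
    · rw [h.xB v hv]; exact hv
    · rw [h.xinvB v hv]; exact hv
  · rintro g ⟨g1, g2⟩ hc
    have hcomm : ∀ v, x (g v) = g (x v) := by
      intro v
      have h4 : x * g = g * x := by rwa [mul_inv_eq_iff_eq_mul] at hc
      rw [← mul_app, h4, mul_app]
    apply ext'
    intro v
    obtain ⟨a, ha, b, hb, rfl⟩ := compl_dec h.compl v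
    obtain ⟨a', ha', rfl⟩ := h.surj a ha
    have h1 : g (x a') = x a' + (g a' - a') := by
      have h2 : g a' = a' + (g a' - a') := by abel
      rw [← hcomm]
      conv_lhs => rw [h2]
      rw [app_add, h.xB _ (g2 a')]
    rw [app_add, app_sub, g1 b hb, h1, one_app]
    abel

/-- Irreducibility on the functionals. -/
theorem LX.dual_irr [FiniteDimensional F V] (h : LX A B x) {E : Submodule F (Dual F V)}
    (h1 : ∀ φ ∈ E, ∀ b ∈ B, φ b = 0)
    (h2 : ∀ φ ∈ E, φ ∘ₗ (x.1 : V →ₗ[F] V) ∈ E) :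
    E = ⊥ ∨ ∀ φ : Dual F V, (∀ b ∈ B, φ b = 0) → φ ∈ E := by
  obtain ⟨T, hT⟩ : ∃ T : Submodule F V, T = A ⊓ E.dualCoannihilator := ⟨_, rfl⟩
  have hTm : ∀ v, v ∈ T ↔ v ∈ A ∧ ∀ φ ∈ E, φ v = 0 := by
    intro v
    rw [hT, Submodule.mem_inf, Submodule.mem_dualCoannihilator]
  rcases h.irr T (by rw [hT]; exact inf_le_left) (by
    intro v hv
    rw [hTm] at hv ⊢
    exact ⟨h.xA v hv.1, fun φ hφ => hv.2 _ (h2 φ hφ)⟩) with h3 | h3
  · right
    intro φ hφ
    have h4 : E.dualCoannihilator = B := by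
      ext v
      rw [Submodule.mem_dualCoannihilator]
      constructor
      · intro hv
        obtain ⟨a, ha, b, hb, rfl⟩ := compl_dec h.compl v
        have h5 : a ∈ T := by
          rw [hTm]
          refine ⟨ha, fun ψ hψ => ?_⟩
          have h6 := hv ψ hψ
          rwa [map_add, h1 ψ hψ b hb, add_zero] at h6
        rw [h3, Submodule.mem_bot] at h5
        rw [h5, zero_add]
        exact hb
      · intro hv ψ hψ
        exact h1 ψ hψ v hv
    have h5 : E.dualCoannihilator.dualAnnihilator = E :=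
      Subspace.dualCoannihilator_dualAnnihilator_eq
    rw [← h5, h4, Submodule.mem_dualAnnihilator]
    exact hφ
  · left
    rw [eq_bot_iff]
    intro φ hφ
    rw [Submodule.mem_bot]
    apply ann_eq h.compl _ (h1 φ hφ)
    intro v hv
    rw [← h3, hTm] at hv
    exact hv.2 φ hφ

/-- Interchanging two opposite root groups. -/
theorem swap_mem [CharP F 2] {φ χ : Dual F V} {u w : V} (φu : φ u = 1) (χw : χ w = 1)
    (φw : φ w = 0) (χu : χ u = 0) {H : Subgroup (SpecialLinearGroup F V)}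
    (h1 : tv φ w φw ∈ H) (h2 : tv χ u χu ∈ H) {c : F} (h3 : χ (c • u) = 0) (h4 : φ (c • w) = 0)
    (h : tv χ (c • u) h3 ∈ H) : tv φ (c • w) h4 ∈ H := by
  have h2F : (2 : F) = 0 := by
    have := CharP.cast_eq_zero F 2
    exact_mod_cast this
  have h5 : (φ + χ) (u + w) = 0 := by
    rw [LinearMap.add_apply, map_add, map_add, φu, χw, φw, χu]
    linear_combination h2F
  have e1 : tv χ u χu * tv φ w φw * tv χ u χu = tv (φ + χ) (u + w) h5 := by
    apply ext'
    intro v
    simp only [mul_app, tv_apply, map_add, map_smul, φu, χw, φw, χu, LinearMap.add_apply,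
      smul_eq_mul]
    have e2 : v + χ v • u + φ v • (w + (1 : F) • u) +
        χ v • (u + (0 : F) • u + (1 : F) • (w + (1 : F) • u)) =
        v + (φ v + χ v) • (u + w) + (2 : F) • (χ v • u) := by module
    rw [e2, h2F, zero_smul, add_zero]
  have hn : tv (φ + χ) (u + w) h5 ∈ H := by
    rw [← e1]
    exact H.mul_mem (H.mul_mem h2 h1) h2
  have e2 : tv (φ + χ) (u + w) h5 * tv χ (c • u) h3 * (tv (φ + χ) (u + w) h5)⁻¹ =
      tv φ (c • w) h4 := by
    apply conj_tv
    · intro v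
      rw [tv_apply, map_add, map_smul, map_add, φu, φw, LinearMap.add_apply, smul_eq_mul]
      linear_combination (φ v) * h2F
    · rw [tv_apply, LinearMap.add_apply, map_smul, map_smul, φu, χu, smul_eq_mul, smul_eq_mul]
      have e3 : c • u + (c * 1 + c * 0) • (u + w) = c • w + (2 : F) • (c • u) := by module
      rw [e3, h2F, zero_smul, add_zero]
  rw [← e2]
  exact H.mul_mem (H.mul_mem hn h) (H.inv_mem hn)

/-- the root group of the vector `w ∈ B` -/
def rootW (B : Submodule F V) (w : V) (hw : w ∈ B) : Subgroup (SpecialLinearGroup F V) where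
  carrier := {g | ∃ φ : Dual F V, (∀ b ∈ B, φ b = 0) ∧ ∀ v, g v = v + φ v • w}
  mul_mem' := by
    rintro g g' ⟨φ, h1, h2⟩ ⟨ψ, h3, h4⟩
    refine ⟨φ + ψ, fun b hb => by rw [LinearMap.add_apply, h1 b hb, h3 b hb, add_zero],
      fun v => ?_⟩
    rw [mul_app, h4, h2, map_add, map_smul, h1 w hw, LinearMap.add_apply, smul_zero]
    module
  one_mem' := ⟨0, fun _ _ => rfl, fun v => by rw [LinearMap.zero_apply, zero_smul, add_zero]; rfl⟩
  inv_mem' := by
    rintro g ⟨φ, h1, h2⟩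
    refine ⟨-φ, fun b hb => by rw [LinearMap.neg_apply, h1 b hb, neg_zero], fun v => ?_⟩
    apply app_inj g
    rw [app_inv_app, h2, map_add, map_smul, h1 w hw, LinearMap.neg_apply, smul_zero]
    module

/-- the root group of the functional `χ` vanishing on `A` -/
def rootX (A : Submodule F V) (χ : Dual F V) (hχ : ∀ a ∈ A, χ a = 0) :
    Subgroup (SpecialLinearGroup F V) where
  carrier := {g | ∃ u ∈ A, ∀ v, g v = v + χ v • u}
  mul_mem' := by
    rintro g g' ⟨u, h1, h2⟩ ⟨u', h3, h4⟩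
    refine ⟨u + u', A.add_mem h1 h3, fun v => ?_⟩
    rw [mul_app, h4, h2, map_add, map_smul, hχ u' h3, smul_zero]
    module
  one_mem' := ⟨0, A.zero_mem, fun v => by rw [smul_zero, add_zero]; rfl⟩
  inv_mem' := by
    rintro g ⟨u, h1, h2⟩
    refine ⟨-u, A.neg_mem h1, fun v => ?_⟩
    apply app_inj g
    rw [app_inv_app, h2, map_add, map_smul, map_neg, hχ u h1, neg_zero, smul_zero]
    module

theorem card_le_rootW [Finite V] [FiniteDimensional F V] [Finite F] (h : IsCompl A B) {w : V}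
    (hw : w ∈ B) (hw0 : w ≠ 0) : Nat.card A ≤ Nat.card (rootW B w hw) := by
  have hfin0 : Finite (V ≃ₗ[F] V) := instFin
  have hfin : Finite (SpecialLinearGroup F V) := inferInstance
  have h1 : Nat.card A = Nat.card B.dualAnnihilator := by
    rw [Module.natCard_eq_pow_finrank (K := F) (V := A),
      Module.natCard_eq_pow_finrank (K := F) (V := B.dualAnnihilator)]
    congr 1
    have e1 := Submodule.finrank_add_eq_of_isCompl h
    have e2 := Subspace.finrank_add_finrank_dualAnnihilator_eq B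
    omega
  rw [h1]
  have hann : ∀ φ : B.dualAnnihilator, ∀ b ∈ B, (φ : Dual F V) b = 0 := fun φ =>
    (Submodule.mem_dualAnnihilator _).1 φ.2
  refine Nat.card_le_card_of_injective
    (fun φ : B.dualAnnihilator => (⟨tv (φ : Dual F V) w (hann φ w hw), φ, hann φ, fun v => by
      rw [tv_apply]⟩ : rootW B w hw)) ?_
  intro φ ψ h2
  have h3 : tv (φ : Dual F V) w (hann φ w hw) = tv (ψ : Dual F V) w (hann ψ w hw) :=
    congrArg Subtype.val h2
  apply Subtype.ext
  ext v
  have h4 := congrArg (fun g : SpecialLinearGroup F V => g v) h3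
  simp only [tv_apply] at h4
  exact smul_left_injective F hw0 (add_left_cancel h4)

theorem card_le_rootX [Finite V] {χ : Dual F V} (hχ : ∀ a ∈ A, χ a = 0) (hχ0 : χ ≠ 0) :
    Nat.card A ≤ Nat.card (rootX A χ hχ) := by
  have hfin0 : Finite (V ≃ₗ[F] V) := instFin
  have hfin : Finite (SpecialLinearGroup F V) := inferInstance
  obtain ⟨v, hv⟩ : ∃ v, χ v ≠ 0 := by
    by_contra hc
    push Not at hc
    exact hχ0 (LinearMap.ext hc)
  refine Nat.card_le_card_of_injective
    (fun u : A => (⟨tv χ u (hχ u u.2), u, u.2, fun v => by rw [tv_apply]⟩ : rootX A χ hχ)) ?_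
  intro u u' h2
  have h3 : tv χ (u : V) (hχ u u.2) = tv χ (u' : V) (hχ u' u'.2) := congrArg Subtype.val h2
  have h4 := congrArg (fun g : SpecialLinearGroup F V => g v) h3
  simp only [tv_apply] at h4
  exact Subtype.ext (smul_right_injective V hv (add_left_cancel h4))

/-- a subgroup meeting a root group trivially has big index -/
theorem le_relIndex_of_inf [Finite V] {H L R : Subgroup (SpecialLinearGroup F V)} (hLR : L ≤ R)
    (hHL : H ⊓ L = ⊥) : Nat.card L ≤ H.relIndex R := by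
  have hfin0 : Finite (V ≃ₗ[F] V) := instFin
  have hfin : Finite (SpecialLinearGroup F V) := inferInstance
  have h1 := relIndex_mul_card H L
  rw [hHL, Subgroup.card_bot, mul_one] at h1
  rw [← h1]
  apply relIndex_le_of_le_right hLR
  have h2 := relIndex_mul_card H R
  intro h0
  rw [h0, zero_mul] at h2
  exact Nat.card_pos.ne h2

/-- One element of the root group of `w` gives all of them. -/
theorem LX.rank_one [FiniteDimensional F V] [CharP F 2] (h : LX A B x)
    {H : Subgroup (SpecialLinearGroup F V)} (hxH : x ∈ H) (hA : radL A ≤ H) {w : V} (hw : w ∈ B)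
    (hw0 : w ≠ 0) {φ0 : Dual F V} (hφ0 : ∀ b ∈ B, φ0 b = 0) (hne : φ0 ≠ 0)
    (hmem : tv φ0 w (hφ0 w hw) ∈ H) {φ : Dual F V} (hφ : ∀ b ∈ B, φ b = 0) :
    tv φ w (hφ w hw) ∈ H := by
  have hwA : w ∉ A := fun h1 => hw0 (compl_eq_zero h.compl h1 hw)
  obtain ⟨χ, hχw, hχA⟩ := exists_fun hwA
  -- the functionals
  let E : Submodule F (Dual F V) :=
    { carrier := {φ | ∃ h1 : ∀ b ∈ B, φ b = 0, tv φ w (h1 w hw) ∈ H}
      add_mem' := by
        rintro φ ψ ⟨h1, h2⟩ ⟨h3, h4⟩
        refine ⟨fun b hb => by rw [LinearMap.add_apply, h1 b hb, h3 b hb, add_zero], ?_⟩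
        rw [tv_add_left (h1 w hw) (h3 w hw)]
        exact H.mul_mem h2 h4
      zero_mem' := by
        refine ⟨fun b _ => rfl, ?_⟩
        have e1 : tv (0 : Dual F V) w rfl = 1 := by
          apply ext'
          intro v
          rw [tv_apply, LinearMap.zero_apply, zero_smul, add_zero, one_app]
        rw [e1]
        exact H.one_mem
      smul_mem' := by
        rintro c φ ⟨h1, h2⟩
        refine ⟨fun b hb => by rw [LinearMap.smul_apply, h1 b hb, smul_zero], ?_⟩
        have h3 : φ (c • w) = 0 := by rw [map_smul, h1 w hw, smul_zero]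
        have e1 : tv (c • φ) w (by rw [LinearMap.smul_apply, h1 w hw, smul_zero]) =
            tv φ (c • w) h3 := by
          apply ext'
          intro v
          rw [tv_apply, tv_apply, LinearMap.smul_apply, smul_smul, smul_eq_mul, mul_comm]
        rw [e1]
        by_cases hφ0 : φ = 0
        · have e2 : tv φ (c • w) h3 = 1 := by
            apply ext'
            intro v
            rw [tv_apply, hφ0, LinearMap.zero_apply, zero_smul, add_zero, one_app]
          rw [e2]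
          exact H.one_mem
        · obtain ⟨u, huA, hu⟩ : ∃ u ∈ A, φ u = 1 := by
            by_contra hc
            push Not at hc
            apply hφ0
            refine ann_eq h.compl (fun v hv => ?_) h1
            by_contra hv0
            apply hc ((φ v)⁻¹ • v) (A.smul_mem _ hv)
            rw [map_smul, smul_eq_mul, inv_mul_cancel₀ hv0]
          have h4 : χ (c • u) = 0 := by rw [map_smul, hχA u huA, smul_zero]
          exact swap_mem hu hχw (h1 w hw) (hχA u huA) h2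
            (hA (tv_mem_radL huA hχA _)) h4 h3 (hA (tv_mem_radL (A.smul_mem _ huA) hχA _)) }
  rcases h.dual_irr (E := E) (fun φ hφ => hφ.1) (by
    rintro φ ⟨h1, h2⟩
    have h3 : ∀ b ∈ B, (φ ∘ₗ (x.1 : V →ₗ[F] V)) b = 0 := by
      intro b hb
      show φ (x b) = 0
      rw [h.xB b hb, h1 b hb]
    refine ⟨h3, ?_⟩
    have e1 : x⁻¹ * tv φ w (h1 w hw) * x⁻¹⁻¹ = tv (φ ∘ₗ (x.1 : V →ₗ[F] V)) w (h3 w hw) := by
      apply conj_tv
      · intro v
        show φ (x (x⁻¹ v)) = φ v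
        rw [app_inv_app]
      · exact h.xinvB w hw
    rw [← e1]
    exact H.mul_mem (H.mul_mem (H.inv_mem hxH) h2) (H.inv_mem (H.inv_mem hxH))) with h1 | h1
  · exfalso
    have h2 : φ0 ∈ E := ⟨hφ0, hmem⟩
    rw [h1, Submodule.mem_bot] at h2
    exact hne h2
  · exact (h1 φ hφ).2

theorem LX.big_of_A [Finite V] [FiniteDimensional F V] [Finite F] [CharP F 2] (h : LX A B x)
    {H : Subgroup (SpecialLinearGroup F V)} (hxH : x ∈ H) (hH : H ≠ ⊤) (hA0 : A ≠ ⊥) (hB0 : B ≠ ⊥)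
    (hA : radL A ≤ H) : Nat.card A ≤ H.relIndex (radL B) := by
  by_contra hlt
  push Not at hlt
  apply hH
  refine lin_gen h.compl hA0 hB0 hA (radL_le ?_)
  intro φ w hw hφ
  by_cases hw0 : w = 0
  · have e1 : tv φ w (hφ w hw) = 1 := by
      apply ext'
      intro v
      rw [tv_apply, hw0, smul_zero, add_zero, one_app]
    rw [e1]
    exact H.one_mem
  by_cases hex : ∃ (ψ : Dual F V) (h1 : ∀ b ∈ B, ψ b = 0), ψ ≠ 0 ∧ tv ψ w (h1 w hw) ∈ H
  · obtain ⟨ψ, h1, h2, h3⟩ := hex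
    exact h.rank_one hxH hA hw hw0 h1 h2 h3 hφ
  · exfalso
    have h2 : H ⊓ rootW B w hw = ⊥ := by
      rw [eq_bot_iff]
      rintro g ⟨hg1, ψ, hψ1, hψ2⟩
      have hg : g = tv ψ w (hψ1 w hw) := by
        apply ext'
        intro v
        rw [hψ2, tv_apply]
      have h3 : ψ = 0 := by
        by_contra h4
        exact hex ⟨ψ, hψ1, h4, by rw [← hg]; exact hg1⟩
      rw [Subgroup.mem_bot]
      apply ext'
      intro v
      rw [hψ2, h3, LinearMap.zero_apply, zero_smul, add_zero, one_app]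
    have h3 := le_relIndex_of_inf (R := radL B) (by
      rintro g ⟨ψ, hψ1, hψ2⟩
      refine ⟨fun v hv => ?_, fun v => ?_⟩
      · rw [hψ2, hψ1 v hv, zero_smul, add_zero]
      · rw [hψ2, add_sub_cancel_left]
        exact B.smul_mem _ hw) h2
    have h4 := card_le_rootW h.compl hw hw0
    omega

theorem LX.big_of_B [Finite V] [FiniteDimensional F V] [Finite F] [CharP F 2] (h : LX A B x)
    {H : Subgroup (SpecialLinearGroup F V)} (hxH : x ∈ H) (hH : H ≠ ⊤) (hA0 : A ≠ ⊥) (hB0 : B ≠ ⊥)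
    (hB : radL B ≤ H) : Nat.card A ≤ H.relIndex (radL A) := by
  by_contra hlt
  push Not at hlt
  apply hH
  refine lin_gen h.compl hA0 hB0 (radL_le ?_) hB
  intro χ u hu hχ
  by_cases hχ0 : χ = 0
  · have e1 : tv χ u (hχ u hu) = 1 := by
      apply ext'
      intro v
      rw [tv_apply, hχ0, LinearMap.zero_apply, zero_smul, add_zero, one_app]
    rw [e1]
    exact H.one_mem
  obtain ⟨w, hwB, hw⟩ : ∃ w ∈ B, χ w = 1 := by
    by_contra hc
    push Not at hc
    apply hχ0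
    refine ann_eq h.compl hχ (fun v hv => ?_)
    by_contra hv0
    apply hc ((χ v)⁻¹ • v) (B.smul_mem _ hv)
    rw [map_smul, smul_eq_mul, inv_mul_cancel₀ hv0]
  let T : Submodule F V :=
    { carrier := {u | ∃ h1 : u ∈ A, tv χ u (hχ u h1) ∈ H}
      add_mem' := by
        rintro u u' ⟨h1, h2⟩ ⟨h3, h4⟩
        refine ⟨A.add_mem h1 h3, ?_⟩
        rw [tv_add_right (hχ u h1) (hχ u' h3)]
        exact H.mul_mem h2 h4
      zero_mem' := by
        refine ⟨A.zero_mem, ?_⟩
        have e1 : tv χ 0 (map_zero χ) = 1 := by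
          apply ext'
          intro v
          rw [tv_apply, smul_zero, add_zero, one_app]
        rw [e1]
        exact H.one_mem
      smul_mem' := by
        rintro c u ⟨h1, h2⟩
        refine ⟨A.smul_mem c h1, ?_⟩
        by_cases hu0 : u = 0
        · have e2 : tv χ (c • u) (hχ _ (A.smul_mem c h1)) = 1 := by
            apply ext'
            intro v
            rw [tv_apply, hu0, smul_zero, smul_zero, add_zero, one_app]
          rw [e2]
          exact H.one_mem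
        · obtain ⟨φ, hφu, hφB⟩ := exists_fun (W := B) (x := u)
            (fun h3 => hu0 (compl_eq_zero h.compl h1 h3))
          have h4 : φ (c • w) = 0 := by rw [map_smul, hφB w hwB, smul_zero]
          exact swap_mem hw hφu (hχ u h1) (hφB w hwB) h2
            (hB (tv_mem_radL hwB hφB _)) h4 _ (hB (tv_mem_radL (B.smul_mem _ hwB) hφB _)) }
  rcases h.irr T (fun u hu => hu.1) (by
    rintro u ⟨h1, h2⟩
    refine ⟨h.xA u h1, ?_⟩
    have e1 : x * tv χ u (hχ u h1) * x⁻¹ = tv χ (x u) (hχ _ (h.xA u h1)) := by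
      apply conj_tv
      · intro v
        obtain ⟨a, ha, b, hb, rfl⟩ := compl_dec h.compl v
        rw [app_add, map_add, map_add, hχ a ha, hχ _ (h.xA a ha), h.xB b hb]
      · rfl
    rw [← e1]
    exact H.mul_mem (H.mul_mem hxH h2) (H.inv_mem hxH)) with h1 | h1
  · exfalso
    have h2 : H ⊓ rootX A χ hχ = ⊥ := by
      rw [eq_bot_iff]
      rintro g ⟨hg1, u', hu1, hu2⟩
      have hg : g = tv χ u' (hχ u' hu1) := by
        apply ext'
        intro v
        rw [hu2, tv_apply]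
      have h3 : u' ∈ T := ⟨hu1, by rw [← hg]; exact hg1⟩
      rw [h1, Submodule.mem_bot] at h3
      rw [Subgroup.mem_bot]
      apply ext'
      intro v
      rw [hu2, h3, smul_zero, add_zero, one_app]
    have h3 := le_relIndex_of_inf (R := radL A) (by
      rintro g ⟨u', hu1, hu2⟩
      refine ⟨fun v hv => ?_, fun v => ?_⟩
      · rw [hu2, hχ v hv, zero_smul, add_zero]
      · rw [hu2, add_sub_cancel_left]
        exact A.smul_mem _ hu1) h2
    have h4 := card_le_rootX (A := A) hχ hχ0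
    omega
  · have h2 : u ∈ T := by rw [h1]; exact hu
    exact h2.2

/-- **Two opposite radicals**, `2 ^ k < |A|`. -/
theorem LX.uGood [Finite V] [FiniteDimensional F V] [Finite F] [CharP F 2] (h : LX A B x)
    {p k : ℕ} (hp : p.Prime) (hM : ∀ t : ℕ, t ≠ 0 → 2 ^ t ≡ 1 [MOD p] → 2 ^ k ≤ 2 ^ t)
    (hxp : x ^ p = 1) (hB0 : B ≠ ⊥) (hA : 2 ^ k < Nat.card A) : UGood 1 (2 ^ k) x := by
  have hfin0 : Finite (V ≃ₗ[F] V) := instFin
  have hfin : Finite (SpecialLinearGroup F V) := inferInstance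
  have hA0 : A ≠ ⊥ := by
    rintro rfl
    have h1 : Nat.card (⊥ : Submodule F V) = 1 := Nat.card_unique
    rw [h1] at hA
    exact absurd hA (not_lt.2 Nat.one_le_two_pow)
  have hxp' : x ^ p ^ 1 = 1 := by rw [pow_one, hxp]
  have iA : IsPGroup 2 (radL A) := isPGroup_radL A
  have iB : IsPGroup 2 (radL B) := isPGroup_radL B
  have pA := h.freeA.pairM hp Nat.prime_two hxp' iA hM
  have pB := h.freeB.pairM hp Nat.prime_two hxp' iB hM
  have key : ∀ t : ℕ, 2 ^ k < 2 ^ t → 2 * 2 ^ k ≤ 2 ^ t := by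
    intro t ht
    have h1 : k < t := (Nat.pow_lt_pow_iff_right (by norm_num)).1 ht
    rw [← pow_succ']
    exact Nat.pow_le_pow_right (by norm_num) h1
  apply two_free_uGood h.freeA h.freeB
  intro H hH hxH
  by_cases a1 : radL A ≤ H
  · have h1 := h.big_of_A hxH hH hA0 hB0 a1
    obtain ⟨t, ht⟩ := relIndex_eq_pow Nat.prime_two iB H
    have h2 := key t (by rw [← ht]; omega)
    omega
  · by_cases a2 : radL B ≤ H
    · have h1 := h.big_of_B hxH hH hA0 hB0 a2
      obtain ⟨t, ht⟩ := relIndex_eq_pow Nat.prime_two iA H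
      have h2 := key t (by rw [← ht]; omega)
      omega
    · have b1 := le_relIndex_of_pairM pA hxH a1
      have b2 := le_relIndex_of_pairM pB hxH a2
      omega

end

end Cfsg.Agent.H435.Fpr
end

-- part: H435/Fpr/LinTwo
section
/-!
# Linear groups over the field with two elements: two opposite radicals

If `H ≥ radL A`, `x ∈ H`, and `|radL B : H ∩ radL B| ≤ |A|`, then `H` fixes a hyperplane.
-/

set_option autoImplicit false
open Subgroup MulAction

namespace Cfsg.Agent.H435.Fpr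

open Cfsg.Agent.H398.FPR Cfsg.Agent.H110.Fpr Cfsg.Agent.H221.PP
open Module (Dual finrank)

section

variable {F : Type*} [Field F] {V : Type*} [AddCommGroup V] [Module F V]
variable {A B : Submodule F V} {x : SpecialLinearGroup F V}

theorem two_scalar (h2 : Nat.card F = 2) (c : F) : c = 0 ∨ c = 1 := by
  classical
  have : Finite F := Nat.finite_of_card_ne_zero (by omega)
  have := Fintype.ofFinite F
  rw [Nat.card_eq_fintype_card] at h2
  by_contra hc
  push Not at hc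
  have h3 : ({0, 1, c} : Finset F).card ≤ Fintype.card F := Finset.card_le_univ _
  rw [Finset.card_insert_of_notMem (by simp only [hc.1.symm, _root_.Finset.mem_insert, _root_.zero_ne_one, _root_.Finset.mem_singleton, _root_.or_self, _root_.not_false_eq_true]),
    Finset.card_insert_of_notMem (by simp [hc.2.symm]), Finset.card_singleton, h2] at h3
  omega

/-- The order of a radical. -/
theorem card_radL [Finite V] [FiniteDimensional F V] (h : IsCompl A B) :
    Nat.card (radL B) = Nat.card (A →ₗ[F] B) := by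
  have hfin0 : Finite (V ≃ₗ[F] V) := instFin
  have hfin : Finite (SpecialLinearGroup F V) := inferInstance
  let f : radL B → (A →ₗ[F] B) := fun g =>
    ((((g : SpecialLinearGroup F V).1 : V →ₗ[F] V) - LinearMap.id) ∘ₗ A.subtype).codRestrict B
      (fun a => g.2.2 a)
  have hf : ∀ (g : radL B) (a : A), (f g a : V) = (g : SpecialLinearGroup F V) a - a :=
    fun g a => rfl
  refine Nat.card_congr (Equiv.ofBijective f ⟨?_, ?_⟩)
  · intro g g' hg
    apply Subtype.ext
    apply ext'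
    intro v
    obtain ⟨a, ha, b, hb, rfl⟩ := compl_dec h v
    have h1 := congrArg Subtype.val (LinearMap.congr_fun hg ⟨a, ha⟩)
    rw [hf, hf] at h1
    rw [app_add, app_add, g.2.1 b hb, g'.2.1 b hb, sub_left_inj.1 h1]
  · intro τ
    obtain ⟨g, hg, h1⟩ := exists_radL (A := B) (H := radL B)
      (fun φ w hw hφ => tv_mem_radL hw hφ _) (B.subtype ∘ₗ τ ∘ₗ A.projectionOnto B h) (by
        intro v hv
        simp [Submodule.projectionOnto_apply_of_mem_right h hv]) (fun v => (τ _).2)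
    refine ⟨⟨g, hg⟩, ?_⟩
    apply LinearMap.ext
    intro a
    apply Subtype.ext
    rw [hf]
    show g a - a = _
    rw [h1]
    simp

/-- the vectors whose root group is in `H` -/
def W0 (B : Submodule F V) (h2 : Nat.card F = 2) (H : Subgroup (SpecialLinearGroup F V)) :
    Submodule F V where
  carrier := {w | ∃ hw : w ∈ B, ∀ (φ : Dual F V) (hφ : ∀ b ∈ B, φ b = 0), tv φ w (hφ w hw) ∈ H}
  add_mem' := by
    rintro w w' ⟨h1, h3⟩ ⟨h4, h5⟩
    refine ⟨B.add_mem h1 h4, fun φ hφ => ?_⟩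
    rw [tv_add_right (hφ w h1) (hφ w' h4)]
    exact H.mul_mem (h3 φ hφ) (h5 φ hφ)
  zero_mem' := by
    refine ⟨B.zero_mem, fun φ hφ => ?_⟩
    have e1 : tv φ 0 (map_zero φ) = 1 := by
      apply ext'
      intro v
      rw [tv_apply, smul_zero, add_zero, one_app]
    rw [e1]
    exact H.one_mem
  smul_mem' := by
    rintro c w ⟨h1, h3⟩
    refine ⟨B.smul_mem c h1, fun φ hφ => ?_⟩
    rcases two_scalar h2 c with rfl | rfl
    · have e1 : tv φ ((0 : F) • w) (hφ _ (B.smul_mem 0 h1)) = 1 := by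
        apply ext'
        intro v
        rw [tv_apply, zero_smul, smul_zero, add_zero, one_app]
      rw [e1]
      exact H.one_mem
    · have e1 : tv φ ((1 : F) • w) (hφ _ (B.smul_mem 1 h1)) = tv φ w (hφ w h1) :=
        tv_congr rfl (one_smul _ _)
      rw [e1]
      exact h3 φ hφ

theorem mem_W0 {h2 : Nat.card F = 2} {H : Subgroup (SpecialLinearGroup F V)} {w : V} :
    w ∈ W0 B h2 H ↔ ∃ hw : w ∈ B, ∀ (φ : Dual F V) (hφ : ∀ b ∈ B, φ b = 0),
      tv φ w (hφ w hw) ∈ H := Iff.rfl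

/-- the functionals all of whose transvections are in `H` -/
def E0 [CharP F 2] (h2 : Nat.card F = 2) (H : Subgroup (SpecialLinearGroup F V)) :
    Submodule F (Dual F V) where
  carrier := {χ | ∀ (v : V) (hv : χ v = 0), tv χ v hv ∈ H}
  zero_mem' := by
    intro v hv
    have e1 : tv (0 : Dual F V) v hv = 1 := by
      apply ext'
      intro v
      rw [tv_apply, LinearMap.zero_apply, zero_smul, add_zero, one_app]
    rw [e1]
    exact H.one_mem
  smul_mem' := by
    intro c χ h1 v hv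
    rcases two_scalar h2 c with rfl | rfl
    · have e1 : tv ((0 : F) • χ) v hv = 1 := by
        apply ext'
        intro v
        rw [tv_apply, LinearMap.smul_apply, zero_smul, zero_smul, add_zero, one_app]
      rw [e1]
      exact H.one_mem
    · have e1 : tv ((1 : F) • χ) v hv = tv χ v (by rwa [one_smul] at hv) :=
        tv_congr (one_smul _ _) rfl
      rw [e1]
      exact h1 v _
  add_mem' := by
    intro χ χ' h1 h3 v hv
    have h2F : (2 : F) = 0 := by
      have := CharP.cast_eq_zero F 2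
      exact_mod_cast this
    by_cases hex : ∃ u, χ' u = 0 ∧ χ u = 1
    · obtain ⟨u, hu1, hu2⟩ := hex
      obtain ⟨y, hy⟩ : ∃ y, y = tv χ' u hu1 := ⟨_, rfl⟩
      have hyH : y ∈ H := by rw [hy]; exact h3 u hu1
      have e2 : ∀ v, χ (y v) = (χ + χ') v := by
        intro v
        rw [hy, tv_apply, map_add, map_smul, hu2, smul_eq_mul, mul_one, LinearMap.add_apply]
      have h4 : χ (y v) = 0 := by rw [e2, hv]
      have e1 : y⁻¹ * tv χ (y v) h4 * y⁻¹⁻¹ = tv (χ + χ') v hv := by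
        apply conj_tv
        · intro v
          rw [← e2, app_inv_app]
        · rw [inv_app_app]
      rw [← e1]
      exact H.mul_mem (H.mul_mem (H.inv_mem hyH) (h1 _ _)) (H.inv_mem (H.inv_mem hyH))
    · push Not at hex
      have h4 : ∀ u, χ' u = 0 → χ u = 0 := by
        intro u hu
        rcases two_scalar h2 (χ u) with h5 | h5
        · exact h5
        · exact absurd h5 (hex u hu)
      by_cases h0 : χ' = 0
      · have e1 : tv (χ + χ') v hv = tv χ v (by rwa [h0, add_zero] at hv) :=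
          tv_congr (by rw [h0, add_zero]) rfl
        rw [e1]
        exact h1 v _
      · obtain ⟨v0, hv0⟩ : ∃ v0, χ' v0 = 1 := by
          by_contra hc
          push Not at hc
          apply h0
          apply LinearMap.ext
          intro v
          rcases two_scalar h2 (χ' v) with h5 | h5
          · exact h5
          · exact absurd h5 (hc v)
        have h5 : ∀ v, χ v = χ' v * χ v0 := by
          intro v
          have h6 := h4 (v - χ' v • v0) (by
            rw [map_sub, map_smul, hv0, smul_eq_mul, mul_one, sub_self])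
          rw [map_sub, map_smul, smul_eq_mul, sub_eq_zero] at h6
          exact h6
        rcases two_scalar h2 (χ v0) with h6 | h6
        · have h7 : χ = 0 := by
            apply LinearMap.ext
            intro v
            rw [h5, h6, mul_zero]
            rfl
          have e1 : tv (χ + χ') v hv = tv χ' v (by rwa [h7, zero_add] at hv) :=
            tv_congr (by rw [h7, zero_add]) rfl
          rw [e1]
          exact h3 v _
        · have h7 : χ + χ' = 0 := by
            apply LinearMap.ext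
            intro v
            rw [LinearMap.add_apply, h5, h6, LinearMap.zero_apply]
            linear_combination (χ' v) * h2F
          have e1 : tv (χ + χ') v hv = 1 := by
            apply ext'
            intro v
            rw [tv_apply, h7, LinearMap.zero_apply, zero_smul, add_zero, one_app]
          rw [e1]
          exact H.one_mem

theorem E0_comp [CharP F 2] {h2 : Nat.card F = 2} {H : Subgroup (SpecialLinearGroup F V)}
    {y : SpecialLinearGroup F V} (hy : y ∈ H) {χ : Dual F V} (hχ : χ ∈ E0 h2 H) :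
    χ ∘ₗ (y.1 : V →ₗ[F] V) ∈ E0 h2 H := by
  intro v hv
  have h4 : χ (y v) = 0 := hv
  have e1 : y⁻¹ * tv χ (y v) h4 * y⁻¹⁻¹ = tv (χ ∘ₗ (y.1 : V →ₗ[F] V)) v hv := by
    apply conj_tv
    · intro v
      show χ (y (y⁻¹ v)) = χ v
      rw [app_inv_app]
    · rw [inv_app_app]
  rw [← e1]
  exact H.mul_mem (H.mul_mem (H.inv_mem hy) (hχ _ _)) (H.inv_mem (H.inv_mem hy))

/-- Levi transvections. -/
theorem levi_mem (hc : IsCompl A B) {H : Subgroup (SpecialLinearGroup F V)} (hA : radL A ≤ H)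
    {w : V} (hw : w ∈ B) (hw0 : w ≠ 0) {φ : Dual F V} (hφ : ∀ b ∈ B, φ b = 0)
    (hm : tv φ w (hφ w hw) ∈ H) {u : V} (hu : u ∈ A) (hφu : φ u = 0) : tv φ u hφu ∈ H := by
  have hwA : w ∉ A := fun h1 => hw0 (compl_eq_zero hc h1 hw)
  obtain ⟨χ, hχw, hχA⟩ := exists_fun hwA
  have h1 : χ (-u) = 0 := hχA _ (A.neg_mem hu)
  have m1 : tv χ (-u) h1 ∈ H := hA (tv_mem_radL (A.neg_mem hu) hχA _)
  have e1 : tv φ w (hφ w hw) * tv χ (-u) h1 * (tv φ w (hφ w hw))⁻¹ * (tv χ (-u) h1)⁻¹ =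
      tv φ u hφu := by
    rw [mul_inv_eq_iff_eq_mul, mul_inv_eq_iff_eq_mul]
    apply ext'
    intro v
    simp only [mul_app, tv_apply, map_add, map_smul, map_neg, hφu, hχw, hφ w hw, hχA u hu]
    module
  rw [← e1]
  exact H.mul_mem (H.mul_mem (H.mul_mem hm m1) (H.inv_mem hm)) (H.inv_mem m1)

/-- Commutators of elements of `radL B` with transvections whose functional vanishes on `B`. -/
theorem comm_mem {H : Subgroup (SpecialLinearGroup F V)} {z : SpecialLinearGroup F V} (hz : z ∈ H)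
    (hzB : z ∈ radL B) {φ : Dual F V} (hφ : ∀ b ∈ B, φ b = 0) {u : V} (hφu : φ u = 0)
    (hm : tv φ u hφu ∈ H) : tv φ (z u - u) (hφ _ (hzB.2 u)) ∈ H := by
  have h1 : φ (z u) = 0 := by
    have h2 := hφ _ (hzB.2 u)
    rw [map_sub, hφu, sub_zero] at h2
    exact h2
  have e1 : z * tv φ u hφu * z⁻¹ = tv φ (z u) h1 := by
    apply conj_tv
    · intro v
      have h2 := hφ _ (hzB.2 v)
      rw [map_sub, sub_eq_zero] at h2
      exact h2
    · rfl
  have e2 : tv φ (z u - u) (hφ _ (hzB.2 u)) = tv φ (z u) h1 * (tv φ u hφu)⁻¹ := by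
    rw [eq_mul_inv_iff_mul_eq, ← tv_add_right (hφ _ (hzB.2 u)) hφu (by rw [sub_add_cancel, h1])]
    exact tv_congr rfl (by abel)
  rw [e2, ← e1]
  exact H.mul_mem (H.mul_mem (H.mul_mem hz hm) (H.inv_mem hz)) (H.inv_mem hm)

theorem LX.mem_W0_of [FiniteDimensional F V] [CharP F 2] (h : LX A B x) (h2 : Nat.card F = 2)
    {H : Subgroup (SpecialLinearGroup F V)} (hxH : x ∈ H) (hA : radL A ≤ H) {w : V} (hw : w ∈ B)
    {φ : Dual F V} (hφ : ∀ b ∈ B, φ b = 0) (hne : φ ≠ 0) (hm : tv φ w (hφ w hw) ∈ H) :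
    w ∈ W0 B h2 H := by
  by_cases hw0 : w = 0
  · rw [hw0]
    exact Submodule.zero_mem _
  · exact ⟨hw, fun ψ hψ => h.rank_one hxH hA hw hw0 hφ hne hm hψ⟩

/-- An element of `radL B` which gives an isomorphism `A → B`. -/
theorem swap_contra [Finite V] [FiniteDimensional F V] [CharP F 2] (hc : IsCompl A B)
    (hAB : finrank F A = finrank F B) (hA1 : 0 < finrank F A) (h2 : Nat.card F = 2)
    {H : Subgroup (SpecialLinearGroup F V)} (hA : radL A ≤ H) {z : SpecialLinearGroup F V}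
    (hz : z ∈ H) (hzB : z ∈ radL B) (hinj : ∀ a ∈ A, z a = a → a = 0)
    (hno : ∀ (φ : Dual F V) (hφ : ∀ b ∈ B, φ b = 0) (w : V) (hw : w ∈ B),
      tv φ w (hφ w hw) ∈ H → φ = 0 ∨ w = 0) : False := by
  have h2F : (2 : F) = 0 := by
    have := CharP.cast_eq_zero F 2
    exact_mod_cast this
  have hdouble : ∀ v : V, v + v = 0 := by
    intro v
    have h3 : v + v = (2 : F) • v := by module
    rw [h3, h2F, zero_smul]
  let τ0 : A →ₗ[F] B := (((z.1 : V →ₗ[F] V) - LinearMap.id) ∘ₗ A.subtype).codRestrict B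
    (fun a => hzB.2 a)
  have hτ0 : ∀ a : A, (τ0 a : V) = z a - a := fun a => rfl
  have hτ0i : Function.Injective τ0 := by
    rw [← LinearMap.ker_eq_bot, LinearMap.ker_eq_bot']
    intro a ha
    apply Subtype.ext
    apply hinj a a.2
    have h3 := congrArg Subtype.val ha
    rw [hτ0] at h3
    exact sub_eq_zero.1 h3
  let τ : A ≃ₗ[F] B := LinearMap.linearEquivOfInjective τ0 hτ0i hAB
  have hτ : ∀ a : A, z a = a + (τ a : V) := by
    intro a
    have h3 : (τ a : V) = z a - a := hτ0 a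
    rw [h3]
    abel
  obtain ⟨X, hX, hXv⟩ := exists_radL (A := A) (H := radL A)
    (fun φ w hw hφ => tv_mem_radL hw hφ _)
    (A.subtype ∘ₗ τ.symm.toLinearMap ∘ₗ B.projectionOnto A hc.symm) (by
      intro v hv
      simp only [Submodule.projectionOnto_apply_of_mem_right hc.symm hv, _root_.LinearMap.coe_comp, _root_.Submodule.coe_subtype, _root_.LinearEquiv.coe_coe, _root_.Function.comp_apply, _root_.map_zero, _root_.ZeroMemClass.coe_zero])
    (fun v => (τ.symm _).2)
  have hXb : ∀ b : B, X b = b + (τ.symm b : V) := by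
    intro b
    rw [hXv]
    simp only [_root_.LinearMap.coe_comp, _root_.Submodule.coe_subtype, _root_.LinearEquiv.coe_coe, _root_.Function.comp_apply, _root_.Submodule.projectionOnto_apply_left]
  obtain ⟨n, hn⟩ : ∃ n, n = X * z * X := ⟨_, rfl⟩
  have hnH : n ∈ H := by
    rw [hn]
    exact H.mul_mem (H.mul_mem (hA hX) hz) (hA hX)
  have hna : ∀ a : A, n a = (τ a : V) := by
    intro a
    have h3 := hXb (τ a)
    rw [LinearEquiv.symm_apply_apply] at h3
    rw [hn, mul_app, mul_app, hX.1 a a.2, hτ, app_add, hX.1 a a.2, h3]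
    have h4 : (a : V) + ((τ a : V) + a) = (τ a : V) + (a + a) := by abel
    rw [h4, hdouble, add_zero]
  have hnb : ∀ b : B, n b = (τ.symm b : V) := by
    intro b
    have h3 := hτ (τ.symm b)
    rw [LinearEquiv.apply_symm_apply] at h3
    rw [hn, mul_app, mul_app, hXb, app_add, hzB.1 b b.2, h3]
    have h4 : (b : V) + ((τ.symm b : V) + b) = (τ.symm b : V) + (b + b) := by abel
    rw [h4, hdouble, add_zero, hX.1 _ (τ.symm b).2]
  have hninv : ∀ b : B, n⁻¹ b = (τ.symm b : V) := by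
    intro b
    apply app_inj n
    rw [app_inv_app, hna, LinearEquiv.apply_symm_apply]
  have hninv' : ∀ a : A, n⁻¹ (τ a : V) = a := by
    intro a
    rw [hninv, LinearEquiv.symm_apply_apply]
  have hB : radL B ≤ H := by
    intro g hg
    have h3 : n⁻¹ * g * n ∈ radL A := by
      refine ⟨fun a ha => ?_, fun v => ?_⟩
      · have h4 := hna ⟨a, ha⟩
        rw [mul_app, mul_app]
        change n a = _ at h4
        rw [h4, hg.1 _ (τ ⟨a, ha⟩).2, hninv']
      · have h4 : (n⁻¹ * g * n) v - v = n⁻¹ (g (n v) - n v) := by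
          rw [mul_app, mul_app, app_sub, inv_app_app]
        rw [h4]
        have h5 := hninv ⟨_, hg.2 (n v)⟩
        change n⁻¹ (g (n v) - n v) = _ at h5
        rw [h5]
        exact (τ.symm _).2
    have h4 := H.mul_mem (H.mul_mem hnH (hA h3)) (H.inv_mem hnH)
    have h5 : n * (n⁻¹ * g * n) * n⁻¹ = g := by group
    rwa [h5] at h4
  have hA0 : A ≠ ⊥ := by
    rintro rfl
    rw [finrank_bot] at hA1
    omega
  have hB0 : B ≠ ⊥ := by
    rintro rfl
    rw [finrank_bot] at hAB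
    omega
  obtain ⟨u, hu, hu0⟩ := (Submodule.ne_bot_iff A).1 hA0
  obtain ⟨w, hw, hw0⟩ := (Submodule.ne_bot_iff B).1 hB0
  obtain ⟨φ, hφ1, hφB⟩ := exists_fun (fun h3 : u ∈ B => hu0 (compl_eq_zero hc hu h3))
  rcases hno φ hφB w hw (hB (tv_mem_radL hw hφB _)) with h3 | h3
  · rw [h3] at hφ1
    exact zero_ne_one hφ1
  · exact hw0 h3

/-- If `H ∩ radL B` is not trivial, then it contains transvections. -/
theorem LX.W0_ne_bot [Finite F] [Finite V] [FiniteDimensional F V] [CharP F 2] (h : LX A B x)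
    (h2 : Nat.card F = 2) {H : Subgroup (SpecialLinearGroup F V)} (hxH : x ∈ H)
    (hA : radL A ≤ H) (hidx : H.relIndex (radL B) ≤ Nat.card A)
    (hk2 : 2 ≤ finrank F A) {z0 : SpecialLinearGroup F V} (hz0 : z0 ∈ H)
    (hz0B : z0 ∈ radL B) (hz01 : z0 ≠ 1) : W0 B h2 H ≠ ⊥ := by
  have hfin0 : Finite (V ≃ₗ[F] V) := instFin
  have hfin : Finite (SpecialLinearGroup F V) := inferInstance
  intro hW
  have hno : ∀ (φ : Dual F V) (hφ : ∀ b ∈ B, φ b = 0) (w : V) (hw : w ∈ B),
      tv φ w (hφ w hw) ∈ H → φ = 0 ∨ w = 0 := by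
    intro φ hφ w hw hm
    by_contra hc
    push Not at hc
    have h3 := h.mem_W0_of h2 hxH hA hw hφ hc.1 hm
    rw [hW, Submodule.mem_bot] at h3
    exact hc.2 h3
  by_cases hB1 : finrank F B = 1
  · obtain ⟨⟨w, hw⟩, hw0, hspan⟩ := finrank_eq_one_iff'.1 hB1
    have hw0' : w ≠ 0 := fun h3 => hw0 (Subtype.ext h3)
    have hspan' : ∀ b ∈ B, ∃ c : F, c • w = b := by
      intro b hb
      obtain ⟨c, hc⟩ := hspan ⟨b, hb⟩
      exact ⟨c, congrArg Subtype.val hc⟩
    obtain ⟨f, hf, rfl⟩ := eq_tv (v := w) (g := z0) (hz0B.1 w hw) (by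
      intro v
      rw [Submodule.mkQ_apply, Submodule.mkQ_apply, Submodule.Quotient.eq]
      obtain ⟨c, hc⟩ := hspan' _ (hz0B.2 v)
      rw [← hc]
      exact Submodule.smul_mem _ _ (Submodule.mem_span_singleton_self w))
    have hfB : ∀ b ∈ B, f b = 0 := by
      intro b hb
      obtain ⟨c, rfl⟩ := hspan' b hb
      rw [map_smul, hf, smul_zero]
    rcases hno f hfB w hw hz0 with h3 | h3
    · apply hz01
      apply ext'
      intro v
      rw [tv_apply, h3, LinearMap.zero_apply, zero_smul, add_zero, one_app]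
    · exact hw0' h3
  · have key : ∀ z ∈ H, z ∈ radL B → z ≠ 1 → ∀ z' ∈ H, z' ∈ radL B → ∀ u ∈ A, z u = u →
        z' u = u := by
      intro z hz hzB hz1 z' hz' hz'B u hu hzu
      obtain ⟨v, hv⟩ : ∃ v, z v ≠ v := by
        by_contra hc
        push Not at hc
        exact hz1 (ext' hc)
      have hvB := hzB.2 v
      have hvA : z v - v ∉ A := fun h3 => hv (sub_eq_zero.1 (compl_eq_zero h.compl h3 hvB))
      obtain ⟨χ, hχ1, hχA⟩ := exists_fun hvA
      obtain ⟨ψ, hψ⟩ : ∃ ψ : Dual F V, ψ = χ ∘ₗ (z.1 : V →ₗ[F] V) - χ := ⟨_, rfl⟩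
      have hψa : ∀ v, ψ v = χ (z v) - χ v := fun v => by rw [hψ]; rfl
      have hψB : ∀ b ∈ B, ψ b = 0 := fun b hb => by rw [hψa, hzB.1 b hb, sub_self]
      have hψu : ψ u = 0 := by rw [hψa, hzu, sub_self]
      have hχu : χ u = 0 := hχA u hu
      have hχzu : (χ ∘ₗ (z.1 : V →ₗ[F] V)) u = 0 := by
        show χ (z u) = 0
        rw [hzu, hχu]
      have m1 : tv χ u hχu ∈ H := hA (tv_mem_radL hu hχA _)
      have e1 : z⁻¹ * tv χ u hχu * z⁻¹⁻¹ = tv (χ ∘ₗ (z.1 : V →ₗ[F] V)) u hχzu := by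
        apply conj_tv
        · intro v
          show χ (z (z⁻¹ v)) = χ v
          rw [app_inv_app]
        · apply app_inj z
          rw [app_inv_app, hzu]
      have m2 : tv (χ ∘ₗ (z.1 : V →ₗ[F] V)) u hχzu ∈ H := by
        rw [← e1]
        exact H.mul_mem (H.mul_mem (H.inv_mem hz) m1) (H.inv_mem (H.inv_mem hz))
      have e2 : tv ψ u hψu = tv (χ ∘ₗ (z.1 : V →ₗ[F] V)) u hχzu * (tv χ u hχu)⁻¹ := by
        rw [eq_mul_inv_iff_mul_eq, ← tv_add_left hψu hχu (by
          rw [LinearMap.add_apply, hψu, hχu, add_zero])]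
        exact tv_congr (by rw [hψ, sub_add_cancel]) rfl
      have m3 : tv ψ u hψu ∈ H := by
        rw [e2]
        exact H.mul_mem m2 (H.inv_mem m1)
      rcases hno ψ hψB _ (hz'B.2 u) (comm_mem hz' hz'B hψB hψu m3) with h3 | h3
      · exfalso
        have h4 := hψa v
        rw [h3, LinearMap.zero_apply, ← map_sub, hχ1] at h4
        exact zero_ne_one h4
      · exact sub_eq_zero.1 h3
    let T : Submodule F V :=
      { carrier := {u | u ∈ A ∧ z0 u = u}
        add_mem' := fun {a b} ha hb => ⟨A.add_mem ha.1 hb.1, by rw [app_add, ha.2, hb.2]⟩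
        zero_mem' := ⟨A.zero_mem, app_zero z0⟩
        smul_mem' := fun c v hv => ⟨A.smul_mem c hv.1, by rw [app_smul, hv.2]⟩ }
    rcases h.irr T (fun u hu => hu.1) (by
      rintro u ⟨hu1, hu2⟩
      refine ⟨h.xA u hu1, ?_⟩
      have hn : x⁻¹ * z0 * x⁻¹⁻¹ ∈ radL B :=
        (mem_normalizer_iff.1 (inv_mem h.freeB.norm) z0).1 hz0B
      have h3 := key z0 hz0 hz0B hz01 _
        (H.mul_mem (H.mul_mem (H.inv_mem hxH) hz0) (H.inv_mem (H.inv_mem hxH))) hn u hu1 hu2
      rw [inv_inv, mul_app, mul_app] at h3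
      have h4 : x (x⁻¹ (z0 (x u))) = x u := congrArg (fun v => x v) h3
      rwa [app_inv_app] at h4) with hT | hT
    · have hA0 : A ≠ ⊥ := by
        rintro rfl
        rw [finrank_bot] at hk2
        omega
      obtain ⟨u0, hu0, hu00⟩ := (Submodule.ne_bot_iff A).1 hA0
      have hcard : Nat.card (H ⊓ radL B : Subgroup (SpecialLinearGroup F V)) ≤ Nat.card B := by
        refine Nat.card_le_card_of_injective
          (fun z : (H ⊓ radL B : Subgroup (SpecialLinearGroup F V)) =>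
            (⟨(z : SpecialLinearGroup F V) u0 - u0, z.2.2.2 u0⟩ : B)) ?_
        intro z z' hzz
        have h3 : (z : SpecialLinearGroup F V) u0 - u0 = (z' : SpecialLinearGroup F V) u0 - u0 :=
          congrArg Subtype.val hzz
        have h4 : (z : SpecialLinearGroup F V) u0 = (z' : SpecialLinearGroup F V) u0 :=
          sub_left_inj.1 h3
        by_contra hne
        obtain ⟨y, hy⟩ : ∃ y : SpecialLinearGroup F V, y = (z : SpecialLinearGroup F V)⁻¹ * z' :=
          ⟨_, rfl⟩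
        have hy1 : y ≠ 1 := by
          intro h5
          rw [h5] at hy
          apply hne
          apply Subtype.ext
          rw [eq_comm, inv_mul_eq_one] at hy
          exact hy
        have hyu : y u0 = u0 := by
          apply app_inj (z : SpecialLinearGroup F V)
          rw [hy, mul_app, app_inv_app, h4]
        have h6 := key y (by rw [hy]; exact H.mul_mem (H.inv_mem z.2.1) z'.2.1)
          (by rw [hy]; exact (radL B).mul_mem ((radL B).inv_mem z.2.2) z'.2.2) hy1 z0 hz0 hz0B u0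
          hu0 hyu
        have h7 : u0 ∈ T := ⟨hu0, h6⟩
        rw [hT, Submodule.mem_bot] at h7
        exact hu00 h7
      have h3 := relIndex_mul_card H (radL B)
      rw [card_radL h.compl, Module.natCard_eq_pow_finrank (K := F) (V := A →ₗ[F] B),
        Module.finrank_linearMap, h2] at h3
      rw [Module.natCard_eq_pow_finrank (K := F) (V := A), h2] at hidx
      rw [Module.natCard_eq_pow_finrank (K := F) (V := B), h2] at hcard
      have h4 : 2 ^ (finrank F A * finrank F B) ≤ 2 ^ (finrank F A + finrank F B) := by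
        rw [← h3, pow_add]
        exact Nat.mul_le_mul hidx hcard
      have h5 := (Nat.pow_le_pow_iff_right (by norm_num : 1 < 2)).1 h4
      have hB0 : finrank F B ≠ 0 := by
        intro h6
        rw [Submodule.finrank_eq_zero] at h6
        apply hz01
        apply ext'
        intro v
        have h7 := hz0B.2 v
        rw [h6, Submodule.mem_bot] at h7
        rw [sub_eq_zero.1 h7, one_app]
      have h22 : finrank F A = 2 ∧ finrank F B = 2 := by
        obtain ⟨a, ha⟩ := Nat.exists_eq_add_of_le hk2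
        obtain ⟨b, hb⟩ := Nat.exists_eq_add_of_le (show 2 ≤ finrank F B by omega)
        rw [ha, hb] at h5 ⊢
        have h6 : (2 + a) * (2 + b) = 4 + 2 * a + 2 * b + a * b := by ring
        rw [h6] at h5
        have h7 := Nat.zero_le (a * b)
        (clear * - h5; omega)
      exact swap_contra h.compl (h22.1.trans h22.2.symm) (by omega) h2 hA hz0 hz0B (by
        intro a ha haz
        have h7 : a ∈ T := ⟨ha, haz⟩
        rwa [hT, Submodule.mem_bot] at h7) hno
    · apply hz01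
      apply ext'
      intro v
      obtain ⟨a, ha, b, hb, rfl⟩ := compl_dec h.compl v
      have h3 : a ∈ T := by rw [hT]; exact ha
      rw [app_add, h3.2, hz0B.1 b hb, one_app]

/-- The images of the elements of `H ∩ radL B`. -/
theorem LX.sub_mem_W0 [Finite F] [Finite V] [FiniteDimensional F V] [CharP F 2] (h : LX A B x)
    (h2 : Nat.card F = 2) {H : Subgroup (SpecialLinearGroup F V)} (hxH : x ∈ H)
    (hA : radL A ≤ H) (hidx : H.relIndex (radL B) ≤ Nat.card A)
    (hk2 : 2 ≤ finrank F A)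
    {z : SpecialLinearGroup F V} (hz : z ∈ H) (hzB : z ∈ radL B) {u : V} (hu : u ∈ A) :
    z u - u ∈ W0 B h2 H := by
  by_cases hz1 : z = 1
  · rw [hz1, one_app, sub_self]
    exact Submodule.zero_mem _
  obtain ⟨w0, hw0, hw00⟩ :=
    (Submodule.ne_bot_iff _).1 (h.W0_ne_bot h2 hxH hA hidx hk2 hz hzB hz1)
  obtain ⟨hw0B, hw0H⟩ := mem_W0.1 hw0
  obtain ⟨a, haA, hau⟩ : ∃ a ∈ A, a ∉ Submodule.span F {u} := by
    by_contra hc
    push Not at hc
    have h3 : A ≤ Submodule.span F {u} := hc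
    have h4 := Submodule.finrank_mono h3
    have h5 := finrank_span_singleton_le' (F := F) u
    omega
  have hna : a ∉ B ⊔ Submodule.span F {u} := by
    intro h3
    obtain ⟨b, hb, c, hc, hbc⟩ := Submodule.mem_sup.1 h3
    obtain ⟨d, rfl⟩ := Submodule.mem_span_singleton.1 hc
    have h4 : b ∈ A := by
      have h5 : b = a - d • u := by rw [← hbc]; abel
      rw [h5]
      exact A.sub_mem haA (A.smul_mem _ hu)
    have h5 := compl_eq_zero h.compl h4 hb
    rw [h5, zero_add] at hbc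
    apply hau
    rw [← hbc]
    exact Submodule.smul_mem _ _ (Submodule.mem_span_singleton_self u)
  obtain ⟨φ, hφa, hφ⟩ := exists_fun hna
  have hφB : ∀ b ∈ B, φ b = 0 := fun b hb => hφ b (Submodule.mem_sup_left hb)
  have hφu : φ u = 0 := hφ u (Submodule.mem_sup_right (Submodule.mem_span_singleton_self u))
  have hφ0 : φ ≠ 0 := by
    rintro rfl
    exact zero_ne_one hφa
  have m1 := levi_mem h.compl hA hw0B hw00 hφB (hw0H φ hφB) hu hφu
  exact h.mem_W0_of h2 hxH hA (hzB.2 u) hφB hφ0 (comm_mem hz hzB hφB hφu m1)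

/-- **Main result**: `H` fixes a hyperplane. -/
theorem LX.fix_dual [Finite F] [Finite V] [FiniteDimensional F V] [CharP F 2] (h : LX A B x)
    (h2 : Nat.card F = 2) {H : Subgroup (SpecialLinearGroup F V)} (hH : H ≠ ⊤) (hxH : x ∈ H)
    (hA0 : A ≠ ⊥) (hB0 : B ≠ ⊥)
    (hA : radL A ≤ H) (hidx : H.relIndex (radL B) ≤ Nat.card A)
    (hk2 : 2 ≤ finrank F A) :
    ∃ χ : Dual F V, χ ≠ 0 ∧ ∀ g ∈ H, ∀ v, χ (g v) = χ v := by
  have hfin0 : Finite (V ≃ₗ[F] V) := instFin
  have hfin : Finite (SpecialLinearGroup F V) := inferInstance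
  have hWB : W0 B h2 H ≤ B := fun w hw => hw.1
  -- the dimension of `W0`
  have hdim : finrank F B ≤ finrank F (W0 B h2 H) + 1 := by
    have hcard : Nat.card (H ⊓ radL B : Subgroup (SpecialLinearGroup F V)) ≤
        Nat.card (A →ₗ[F] (W0 B h2 H)) := by
      have : Finite (A →ₗ[F] (W0 B h2 H)) :=
        Finite.of_injective (fun f : A →ₗ[F] (W0 B h2 H) => (f : A → W0 B h2 H))
          DFunLike.coe_injective
      refine Nat.card_le_card_of_injective
        (fun z : (H ⊓ radL B : Subgroup (SpecialLinearGroup F V)) =>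
          ((((z : SpecialLinearGroup F V).1 : V →ₗ[F] V) - LinearMap.id) ∘ₗ
            A.subtype).codRestrict (W0 B h2 H)
            (fun a => h.sub_mem_W0 h2 hxH hA hidx hk2 z.2.1 z.2.2 a.2)) ?_
      intro z z' hzz
      apply Subtype.ext
      apply ext'
      intro v
      obtain ⟨a, ha, b, hb, rfl⟩ := compl_dec h.compl v
      have h1 : (z : SpecialLinearGroup F V) a - a = (z' : SpecialLinearGroup F V) a - a :=
        congrArg Subtype.val (LinearMap.congr_fun hzz ⟨a, ha⟩)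
      rw [app_add, app_add, z.2.2.1 b hb, z'.2.2.1 b hb, sub_left_inj.1 h1]
    have h3 := relIndex_mul_card H (radL B)
    rw [card_radL h.compl, Module.natCard_eq_pow_finrank (K := F) (V := A →ₗ[F] B),
      Module.finrank_linearMap, h2] at h3
    rw [Module.natCard_eq_pow_finrank (K := F) (V := A), h2] at hidx
    rw [Module.natCard_eq_pow_finrank (K := F) (V := A →ₗ[F] (W0 B h2 H)),
      Module.finrank_linearMap, h2] at hcard
    have h4 : 2 ^ (finrank F A * finrank F B) ≤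
        2 ^ (finrank F A + finrank F A * finrank F (W0 B h2 H)) := by
      rw [← h3, pow_add]
      exact Nat.mul_le_mul hidx hcard
    have h5 := (Nat.pow_le_pow_iff_right (by norm_num : 1 < 2)).1 h4
    have h6 : finrank F A * finrank F B ≤ finrank F A * (finrank F (W0 B h2 H) + 1) := by
      rw [mul_add, mul_one]
      omega
    exact Nat.le_of_mul_le_mul_left h6 (by omega)
  obtain ⟨w', hw'B, hw'⟩ : ∃ w' ∈ B, w' ∉ W0 B h2 H := by
    by_contra hc
    push Not at hc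
    apply hH
    refine lin_gen h.compl hA0 hB0 hA (radL_le ?_)
    intro φ w hw hφ
    exact (hc w hw).2 φ hφ
  have hna : w' ∉ A ⊔ W0 B h2 H := by
    intro h3
    obtain ⟨a, ha, c, hc, hac⟩ := Submodule.mem_sup.1 h3
    have h4 : a ∈ B := by
      have h5 : a = w' - c := by rw [← hac]; abel
      rw [h5]
      exact B.sub_mem hw'B (hWB hc)
    have h5 := compl_eq_zero h.compl ha h4
    rw [h5, zero_add] at hac
    apply hw'
    rw [← hac]
    exact hc
  obtain ⟨χ0, hχ1, hχ⟩ := exists_fun hna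
  have hχA : ∀ a ∈ A, χ0 a = 0 := fun a ha => hχ a (Submodule.mem_sup_left ha)
  have hχW : ∀ w ∈ W0 B h2 H, χ0 w = 0 := fun w hw => hχ w (Submodule.mem_sup_right hw)
  have hχ0 : χ0 ≠ 0 := by
    rintro rfl
    exact zero_ne_one hχ1
  have hK : ∀ b ∈ B, χ0 b = 0 → b ∈ W0 B h2 H := by
    intro b hb hχb
    have h3 : W0 B h2 H ≤ B ⊓ LinearMap.ker χ0 := le_inf hWB fun w hw => hχW w hw
    have h4 : B ⊓ LinearMap.ker χ0 < B := by
      refine lt_of_le_of_ne inf_le_left ?_
      intro h5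
      have h6 : w' ∈ B ⊓ LinearMap.ker χ0 := by rw [h5]; exact hw'B
      have h7 : χ0 w' = 0 := h6.2
      rw [hχ1] at h7
      exact one_ne_zero h7
    have h5 := Submodule.finrank_lt_finrank_of_lt h4
    have h6 := Submodule.eq_of_le_of_finrank_le h3 (by omega)
    rw [h6]
    exact ⟨hb, hχb⟩
  -- a functional nonzero on `A` and zero on `B`
  have hann : ∀ u ∈ A, u ≠ 0 → ∃ φ : Dual F V, φ u = 1 ∧ ∀ b ∈ B, φ b = 0 := fun u hu hu0 =>
    exists_fun (fun h3 => hu0 (compl_eq_zero h.compl hu h3))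
  obtain ⟨u0, hu0, hu00⟩ := (Submodule.ne_bot_iff A).1 hA0
  obtain ⟨φ0, hφ01, hφ0B⟩ := hann u0 hu0 hu00
  have hφ00 : φ0 ≠ 0 := by
    rintro rfl
    exact zero_ne_one hφ01
  -- `χ0` is in `E0`
  have hχE : χ0 ∈ E0 h2 H := by
    intro v hv
    obtain ⟨a, ha, b, hb, rfl⟩ := compl_dec h.compl v
    have hχb : χ0 b = 0 := by rwa [map_add, hχA a ha, zero_add] at hv
    rw [tv_add_right (hχA a ha) hχb]
    refine H.mul_mem (hA (tv_mem_radL ha hχA _)) ?_
    obtain ⟨_, hbH⟩ := mem_W0.1 (hK b hb hχb)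
    have m1 : tv φ0 b (hφ0B b hb) ∈ H := hbH φ0 hφ0B
    have m2 : tv χ0 u0 (hχA u0 hu0) ∈ H := hA (tv_mem_radL hu0 hχA _)
    have e1 : tv φ0 b (hφ0B b hb) * tv χ0 u0 (hχA u0 hu0) * (tv φ0 b (hφ0B b hb))⁻¹ *
        (tv χ0 u0 (hχA u0 hu0))⁻¹ = tv χ0 b hχb := by
      rw [mul_inv_eq_iff_eq_mul, mul_inv_eq_iff_eq_mul]
      apply ext'
      intro v
      simp only [mul_app, tv_apply, map_add, map_smul, hφ0B b hb, hφ01, hχA u0 hu0, hχb]
      module
    rw [← e1]
    exact H.mul_mem (H.mul_mem (H.mul_mem m1 m2) (H.inv_mem m1)) (H.inv_mem m2)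
  refine ⟨χ0, hχ0, ?_⟩
  by_contra hcon
  push Not at hcon
  obtain ⟨g, hg, v1, hv1⟩ := hcon
  have hgE := E0_comp hg hχE
  obtain ⟨χ', hχ'⟩ : ∃ χ' : Dual F V, χ' = χ0 ∘ₗ (g.1 : V →ₗ[F] V) := ⟨_, rfl⟩
  have hχ'a : ∀ v, χ' v = χ0 (g v) := fun v => by rw [hχ']; rfl
  rw [← hχ'] at hgE
  have hχ'0 : χ' ≠ 0 := by
    intro h3
    apply hχ0
    apply LinearMap.ext
    intro v
    have h4 := hχ'a (g⁻¹ v)
    rw [app_inv_app, h3] at h4
    exact h4.symm
  -- a functional in `E0` which is not zero on `A`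
  obtain ⟨ψ, hψE, u, huA, hψu⟩ : ∃ ψ ∈ E0 h2 H, ∃ u ∈ A, ψ u = 1 := by
    obtain ⟨δ, hδ⟩ : ∃ δ : Dual F V, δ = χ' - χ0 := ⟨_, rfl⟩
    have hδE : δ ∈ E0 h2 H := by rw [hδ]; exact Submodule.sub_mem _ hgE hχE
    have hδ0 : δ ≠ 0 := by
      intro h3
      apply hv1
      rw [← hχ'a, ← sub_eq_zero, ← LinearMap.sub_apply, ← hδ, h3]
      rfl
    by_cases hδA : ∃ u ∈ A, δ u = 1
    · obtain ⟨u, hu, hδu⟩ := hδA
      exact ⟨δ, hδE, u, hu, hδu⟩
    · push Not at hδA
      have hδA' : ∀ u ∈ A, δ u = 0 := fun u hu => (two_scalar h2 (δ u)).resolve_right (hδA u hu)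
      by_cases hδW : ∃ w ∈ W0 B h2 H, δ w = 1
      · obtain ⟨w, hw, hδw⟩ := hδW
        obtain ⟨hwB, hwH⟩ := mem_W0.1 hw
        have h3 := E0_comp (hwH φ0 hφ0B) hδE
        have h4 : δ ∘ₗ ((tv φ0 w (hφ0B w hwB)).1 : V →ₗ[F] V) = δ + φ0 := by
          apply LinearMap.ext
          intro v
          show δ (tv φ0 w (hφ0B w hwB) v) = _
          rw [tv_apply, map_add, map_smul, hδw, smul_eq_mul, mul_one, LinearMap.add_apply]
        rw [h4] at h3
        refine ⟨φ0, ?_, u0, hu0, hφ01⟩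
        have h5 := Submodule.sub_mem _ h3 hδE
        rwa [add_sub_cancel_left] at h5
      · push Not at hδW
        have hδW' : ∀ w ∈ W0 B h2 H, δ w = 0 := fun w hw =>
          (two_scalar h2 (δ w)).resolve_right (hδW w hw)
        exfalso
        -- then `χ' = χ0`
        have h3 : ∀ v, δ v = χ0 v * δ w' := by
          intro v
          obtain ⟨a, ha, b, hb, rfl⟩ := compl_dec h.compl v
          have h4 : b - χ0 b • w' ∈ W0 B h2 H := hK _ (B.sub_mem hb (B.smul_mem _ hw'B)) (by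
            rw [map_sub, map_smul, hχ1, smul_eq_mul, mul_one, sub_self])
          have h5 := hδW' _ h4
          rw [map_sub, map_smul, smul_eq_mul, sub_eq_zero] at h5
          rw [map_add, map_add, hδA' a ha, hχA a ha, zero_add, zero_add, h5]
        rcases two_scalar h2 (δ w') with h4 | h4
        · apply hδ0
          apply LinearMap.ext
          intro v
          rw [h3, h4, mul_zero]
          rfl
        · apply hχ'0
          have h5 : χ' = δ + χ0 := by rw [hδ, sub_add_cancel]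
          have h2F : (2 : F) = 0 := by
            have := CharP.cast_eq_zero F 2
            exact_mod_cast this
          rw [h5]
          apply LinearMap.ext
          intro v
          rw [LinearMap.add_apply, h3, h4, LinearMap.zero_apply]
          linear_combination (χ0 v) * h2F
  -- all functionals vanishing on `A`
  have hEA : ∀ χ : Dual F V, (∀ a ∈ A, χ a = 0) → χ ∈ E0 h2 H := by
    intro χ hχA
    have h3 := E0_comp (hA (tv_mem_radL huA hχA (hχA u huA))) hψE
    have h4 : ψ ∘ₗ ((tv χ u (hχA u huA)).1 : V →ₗ[F] V) = ψ + χ := by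
      apply LinearMap.ext
      intro v
      show ψ (tv χ u (hχA u huA) v) = _
      rw [tv_apply, map_add, map_smul, hψu, smul_eq_mul, mul_one, LinearMap.add_apply]
    rw [h4] at h3
    have h5 := Submodule.sub_mem _ h3 hψE
    rwa [add_sub_cancel_left] at h5
  -- decomposition of functionals
  have hdec : ∀ χ : Dual F V, ∃ φ χ1 : Dual F V, (∀ b ∈ B, φ b = 0) ∧ (∀ a ∈ A, χ1 a = 0) ∧
      χ = φ + χ1 := by
    intro χ
    refine ⟨χ ∘ₗ A.projection B h.compl, χ ∘ₗ B.projection A h.compl.symm, ?_, ?_, ?_⟩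
    · intro b hb
      simp only [LinearMap.comp_apply, Submodule.projection_apply_of_mem_right h.compl hb,
        map_zero]
    · intro a ha
      simp only [LinearMap.comp_apply, Submodule.projection_apply_of_mem_right h.compl.symm ha,
        map_zero]
    · apply LinearMap.ext
      intro v
      obtain ⟨a, ha, b, hb, rfl⟩ := compl_dec h.compl v
      simp only [LinearMap.add_apply, LinearMap.comp_apply, map_add,
        Submodule.projection_apply_of_mem_left h.compl ha,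
        Submodule.projection_apply_of_mem_left h.compl.symm hb,
        Submodule.projection_apply_of_mem_right h.compl hb,
        Submodule.projection_apply_of_mem_right h.compl.symm ha, map_zero, add_zero, zero_add]
  have hEB : ∀ φ : Dual F V, (∀ b ∈ B, φ b = 0) → φ ∈ E0 h2 H := by
    obtain ⟨φ, χ1, hφB, hχ1A, hψdec⟩ := hdec ψ
    have hφE : φ ∈ E0 h2 H := by
      have h5 := Submodule.sub_mem _ hψE (hEA χ1 hχ1A)
      rwa [hψdec, add_sub_cancel_right] at h5
    have hφu : φ u = 1 := by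
      have h5 := hψu
      rwa [hψdec, LinearMap.add_apply, hχ1A u huA, add_zero] at h5
    rcases h.dual_irr (E := E0 h2 H ⊓ B.dualAnnihilator) (fun φ hφ =>
      (Submodule.mem_dualAnnihilator _).1 hφ.2) (by
      rintro φ ⟨h3, h4⟩
      refine ⟨E0_comp hxH h3, (Submodule.mem_dualAnnihilator _).2 ?_⟩
      intro b hb
      show φ (x b) = 0
      rw [h.xB b hb, (Submodule.mem_dualAnnihilator _).1 h4 b hb]) with h5 | h5
    · exfalso
      have h6 : φ ∈ E0 h2 H ⊓ B.dualAnnihilator :=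
        ⟨hφE, (Submodule.mem_dualAnnihilator _).2 hφB⟩
      rw [h5, Submodule.mem_bot] at h6
      rw [h6] at hφu
      exact zero_ne_one hφu
    · exact fun φ hφ => (h5 φ hφ).1
  apply hH
  apply eq_top_of_tv
  intro χ v hv
  have h3 : χ ∈ E0 h2 H := by
    obtain ⟨φ, χ1, hφB, hχ1A, hdecχ⟩ := hdec χ
    rw [hdecχ]
    exact Submodule.add_mem _ (hEB φ hφB) (hEA χ1 hχ1A)
  exact h3 v hv

end

end Cfsg.Agent.H435.Fpr
end

-- part: H435/Fpr/LinDual
section
/-!
# Linear groups over the field with two elements, 2: duality, fixed vectors, the uniform bound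
-/

set_option autoImplicit false
open Subgroup MulAction

namespace Cfsg.Agent.H435.Fpr

open Cfsg.Agent.H398.FPR Cfsg.Agent.H110.Fpr Cfsg.Agent.H221.PP Cfsg.Agent.H409
open Module (Dual finrank)

section

variable {F : Type*} [Field F] {V : Type*} [AddCommGroup V] [Module F V]
variable {A B : Submodule F V} {x : SpecialLinearGroup F V}

/-- the contragredient representation -/
def dHom [FiniteDimensional F V] :
    SpecialLinearGroup F V →* SpecialLinearGroup F (Dual F V) where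
  toFun g := SpecialLinearGroup.dualMap g⁻¹
  map_one' := by
    apply ext'
    intro χ
    rw [inv_one]
    rfl
  map_mul' g g' := by
    apply ext'
    intro χ
    rw [mul_inv_rev]
    rfl

theorem dHom_apply [FiniteDimensional F V] (g : SpecialLinearGroup F V) (χ : Dual F V) (v : V) :
    (dHom g χ : Dual F V) v = χ (g⁻¹ v) := rfl

theorem eq_of_dual {v w : V} (h : ∀ χ : Dual F V, χ v = χ w) : v = w := by
  by_contra hne
  have h1 : v - w ∉ (⊥ : Submodule F V) := by
    rw [Submodule.mem_bot, sub_eq_zero]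
    exact hne
  obtain ⟨χ, h2, -⟩ := exists_fun h1
  rw [map_sub, h χ, sub_self] at h2
  exact zero_ne_one h2

theorem dHom_injective [FiniteDimensional F V] :
    Function.Injective (dHom : SpecialLinearGroup F V →* SpecialLinearGroup F (Dual F V)) := by
  intro g g' h
  have h1 : g⁻¹ = g'⁻¹ := by
    apply ext'
    intro v
    apply eq_of_dual (F := F)
    intro χ
    rw [← dHom_apply, h, dHom_apply]
  exact inv_injective h1

theorem mem_of_ann {v : V} (h : ∀ χ : Dual F V, (∀ b ∈ B, χ b = 0) → χ v = 0) : v ∈ B := by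
  by_contra hv
  obtain ⟨χ, h1, h2⟩ := exists_fun hv
  rw [h χ h2] at h1
  exact zero_ne_one h1

theorem radL_ann_le [FiniteDimensional F V] {H : Subgroup (SpecialLinearGroup F V)}
    (hB : radL B ≤ H) : radL B.dualAnnihilator ≤ H.map dHom := by
  apply radL_le
  intro Λ φ hφ hΛ
  obtain ⟨w, hw⟩ : ∃ w : V, w = (Module.evalEquiv F V).symm Λ := ⟨_, rfl⟩
  have hwa : ∀ χ : Dual F V, χ w = Λ χ := fun χ => by
    rw [hw]
    exact Module.apply_evalEquiv_symm_apply F V χ Λ
  have hφB : ∀ b ∈ B, φ b = 0 := (Submodule.mem_dualAnnihilator _).1 hφ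
  have hwB : w ∈ B := mem_of_ann fun χ hχ => by
    rw [hwa]
    exact hΛ χ ((Submodule.mem_dualAnnihilator _).2 hχ)
  refine ⟨(tv φ w (hφB w hwB))⁻¹, H.inv_mem (hB (tv_mem_radL hwB hφB _)), ?_⟩
  apply ext'
  intro χ
  apply LinearMap.ext
  intro v
  rw [dHom_apply, inv_inv, tv_apply, tv_apply, map_add, map_smul, hwa, LinearMap.add_apply,
    LinearMap.smul_apply, smul_eq_mul, smul_eq_mul, mul_comm]

theorem map_radL [FiniteDimensional F V] : (radL B).map dHom = radL B.dualAnnihilator := by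
  apply le_antisymm
  · rintro _ ⟨g, hg, rfl⟩
    have hg' := (radL B).inv_mem hg
    refine ⟨fun χ hχ => ?_, fun χ => (Submodule.mem_dualAnnihilator _).2 fun b hb => ?_⟩
    · apply LinearMap.ext
      intro v
      rw [dHom_apply]
      have h1 := (Submodule.mem_dualAnnihilator _).1 hχ _ (hg'.2 v)
      rw [map_sub, sub_eq_zero] at h1
      exact h1
    · rw [LinearMap.sub_apply, dHom_apply, hg'.1 b hb, sub_self]
  · exact radL_ann_le le_rfl

theorem finrank_ann [FiniteDimensional F V] (h : IsCompl A B) :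
    finrank F B.dualAnnihilator = finrank F A := by
  have e1 := Submodule.finrank_add_eq_of_isCompl h
  have e2 := Subspace.finrank_add_finrank_dualAnnihilator_eq B
  omega

theorem LX.dual [Finite F] [Finite V] [FiniteDimensional F V] (h : LX A B x) :
    LX B.dualAnnihilator A.dualAnnihilator (dHom x) where
  compl := by
    constructor
    · rw [Submodule.disjoint_def]
      intro χ h1 h2
      exact ann_eq h.compl ((Submodule.mem_dualAnnihilator _).1 h2)
        ((Submodule.mem_dualAnnihilator _).1 h1)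
    · rw [codisjoint_iff, eq_top_iff]
      intro χ _
      have e1 : χ = χ ∘ₗ A.projection B h.compl + χ ∘ₗ B.projection A h.compl.symm := by
        apply LinearMap.ext
        intro v
        obtain ⟨a, ha, b, hb, rfl⟩ := compl_dec h.compl v
        simp only [LinearMap.add_apply, LinearMap.comp_apply, map_add,
          Submodule.projection_apply_of_mem_left h.compl ha,
          Submodule.projection_apply_of_mem_left h.compl.symm hb,
          Submodule.projection_apply_of_mem_right h.compl hb,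
          Submodule.projection_apply_of_mem_right h.compl.symm ha, map_zero, add_zero, zero_add]
      rw [e1]
      refine Submodule.add_mem_sup ((Submodule.mem_dualAnnihilator _).2 fun b hb => ?_)
        ((Submodule.mem_dualAnnihilator _).2 fun a ha => ?_)
      · simp only [LinearMap.comp_apply, Submodule.projection_apply_of_mem_right h.compl hb,
          map_zero]
      · simp only [LinearMap.comp_apply, Submodule.projection_apply_of_mem_right h.compl.symm ha,
          map_zero]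
  xA := by
    intro χ hχ
    refine (Submodule.mem_dualAnnihilator _).2 fun b hb => ?_
    rw [dHom_apply, h.xinvB b hb]
    exact (Submodule.mem_dualAnnihilator _).1 hχ b hb
  xB := by
    intro χ hχ
    have hχ' := (Submodule.mem_dualAnnihilator _).1 hχ
    apply LinearMap.ext
    intro v
    obtain ⟨a, ha, b, hb, rfl⟩ := compl_dec h.compl v
    rw [dHom_apply, app_add, map_add, map_add, h.xinvB b hb, hχ' a ha, hχ' _ (h.xinvA a ha)]
  fpf := by
    intro χ hχ hx
    refine ann_eq h.compl (fun a ha => ?_) ((Submodule.mem_dualAnnihilator _).1 hχ)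
    obtain ⟨a', ha', rfl⟩ := h.surj a ha
    have h1 := LinearMap.congr_fun hx (x a')
    rw [dHom_apply, inv_app_app] at h1
    rw [map_sub, h1, sub_self]
  irr := by
    intro T hT hTx
    -- `T` is invariant under `χ ↦ χ ∘ x`
    have hfinT : Finite (Dual F V) := Module.finite_of_finite F
    have h1 : ∀ φ ∈ T, φ ∘ₗ (x.1 : V →ₗ[F] V) ∈ T := by
      let f : T → T := fun χ => ⟨dHom x χ, hTx χ χ.2⟩
      have hf : Function.Injective f := fun χ χ' hχ =>
        Subtype.ext (app_inj (dHom x) (congrArg Subtype.val hχ))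
      intro φ hφ
      obtain ⟨χ, hχ⟩ := Finite.surjective_of_injective hf ⟨φ, hφ⟩
      have h2 : dHom x χ = φ := congrArg Subtype.val hχ
      have h3 : φ ∘ₗ (x.1 : V →ₗ[F] V) = χ := by
        apply LinearMap.ext
        intro v
        show φ (x v) = _
        rw [← h2, dHom_apply, inv_app_app]
      rw [h3]
      exact χ.2
    rcases h.dual_irr (E := T) (fun φ hφ => (Submodule.mem_dualAnnihilator _).1 (hT hφ)) h1 with
      h2 | h2
    · exact Or.inl h2
    · right
      apply le_antisymm hT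
      intro φ hφ
      exact h2 φ ((Submodule.mem_dualAnnihilator _).1 hφ)

/-- **The dual result**: `H` fixes a vector. -/
theorem LX.fix_vec [Finite F] [Finite V] [FiniteDimensional F V] [CharP F 2] (h : LX A B x)
    (h2 : Nat.card F = 2) {H : Subgroup (SpecialLinearGroup F V)} (hH : H ≠ ⊤) (hxH : x ∈ H)
    (hA0 : A ≠ ⊥) (hB0 : B ≠ ⊥)
    (hB : radL B ≤ H) (hidx : H.relIndex (radL A) ≤ Nat.card A)
    (hk2 : 2 ≤ finrank F A) :
    ∃ v : V, v ≠ 0 ∧ ∀ g ∈ H, g v = v := by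
  have hfinT : Finite (Dual F V) := Module.finite_of_finite F
  have f1 := finrank_ann h.compl
  have f2 := finrank_ann h.compl.symm
  have hpos : ∀ (W : Submodule F (Dual F V)) (W' : Submodule F V), finrank F W = finrank F W' →
      W' ≠ ⊥ → W ≠ ⊥ := by
    rintro W W' hW hW' rfl
    rw [finrank_bot, eq_comm, Submodule.finrank_eq_zero] at hW
    exact hW' hW
  have hH' : H.map (dHom : SpecialLinearGroup F V →* SpecialLinearGroup F (Dual F V)) ≠ ⊤ := by
    intro h1
    apply hH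
    rw [eq_top_iff]
    intro g _
    have h3 : dHom g ∈ H.map dHom := by rw [h1]; trivial
    obtain ⟨g', hg', h4⟩ := h3
    rw [← dHom_injective h4]
    exact hg'
  obtain ⟨Λ, hΛ0, hΛ⟩ := h.dual.fix_dual h2 hH' ⟨x, hxH, rfl⟩ (hpos _ _ f1 hA0)
    (hpos _ _ f2 hB0) (radL_ann_le hB) (by
      rw [← map_radL, relIndex_map_map_of_injective _ _ dHom_injective,
        Module.natCard_eq_pow_finrank (K := F) (V := B.dualAnnihilator), f1,
        ← Module.natCard_eq_pow_finrank (K := F) (V := A)]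
      exact hidx) (by rw [f1]; exact hk2)
  obtain ⟨w, hw⟩ : ∃ w : V, w = (Module.evalEquiv F V).symm Λ := ⟨_, rfl⟩
  have hwa : ∀ χ : Dual F V, χ w = Λ χ := fun χ => by
    rw [hw]
    exact Module.apply_evalEquiv_symm_apply F V χ Λ
  refine ⟨w, ?_, fun g hg => ?_⟩
  · rintro rfl
    apply hΛ0
    apply LinearMap.ext
    intro χ
    rw [← hwa, map_zero]
    rfl
  · apply eq_of_dual (F := F)
    intro χ
    have h3 := hΛ (dHom g⁻¹) ⟨g⁻¹, H.inv_mem hg, rfl⟩ χ
    rw [← hwa, ← hwa, dHom_apply, inv_inv] at h3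
    exact h3

/-- the number of fixed points, vectors -/
theorem ratio_vec [Finite V] [FiniteDimensional F V] (h : LX A B x) (hd : 2 ≤ finrank F V)
    {H : Subgroup (SpecialLinearGroup F V)} {v0 : V} (hv0 : v0 ≠ 0)
    (hfix : ∀ g ∈ H, g v0 = v0) :
    Nat.card A * Nat.card (fixedBy (SpecialLinearGroup F V ⧸ H) x) ≤
      Nat.card (SpecialLinearGroup F V ⧸ H) := by
  have hfin0 : Finite (V ≃ₗ[F] V) := instFin
  have hfin : Finite (SpecialLinearGroup F V) := inferInstance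
  have hne : ∀ (g : SpecialLinearGroup F V) (v : V), v ≠ 0 → g v ≠ 0 := by
    intro g v hv h1
    rw [← app_zero g] at h1
    exact hv (app_inj g h1)
  let act : MulAction (SpecialLinearGroup F V) {v : V // v ≠ 0} :=
    { smul := fun g v => ⟨g v, hne g v v.2⟩
      one_smul := fun v => rfl
      mul_smul := fun g g' v => rfl }
  have hact : ∀ (g : SpecialLinearGroup F V) (v : {v : V // v ≠ 0}), ((g • v : {v : V // v ≠ 0}) :
      V) = g v := fun _ _ => rfl
  have : IsPretransitive (SpecialLinearGroup F V) {v : V // v ≠ 0} := by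
    constructor
    intro v w
    obtain ⟨g, hg⟩ := exists_map hd v.2 w.2
    exact ⟨g, Subtype.ext hg⟩
  have h3 := fix_le_of_map (Ω := SpecialLinearGroup F V ⧸ H) (Ω' := {v : V // v ≠ 0})
    (MonoidHom.id (SpecialLinearGroup F V)) Function.surjective_id
    (Quotient.lift (fun g : SpecialLinearGroup F V => (⟨g v0, hne g v0 hv0⟩ : {v : V // v ≠ 0}))
      (by
        intro g g' hgg
        have h4 : g⁻¹ * g' ∈ H := QuotientGroup.leftRel_apply.1 hgg
        apply Subtype.ext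
        show g v0 = g' v0
        have h5 := hfix _ h4
        have h6 : g ((g⁻¹ * g') v0) = g v0 := by rw [h5]
        rw [← mul_app, mul_inv_cancel_left] at h6
        exact h6.symm)) (by
      intro g ω
      obtain ⟨g', rfl⟩ := QuotientGroup.mk_surjective ω
      rfl) x (a := Nat.card A) (b := 1) (by
      rw [one_mul]
      have h4 : Nat.card (fixedBy {v : V // v ≠ 0} x) ≤ ((B : Set V) \ {0}).ncard := by
        rw [← Nat.card_coe_set_eq]
        refine Nat.card_le_card_of_injective (fun v : fixedBy {v : V // v ≠ 0} x =>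
          (⟨v.1.1, ⟨?_, v.1.2⟩⟩ : ((B : Set V) \ {0} : Set V))) ?_
        · have h5 : x v.1.1 = v.1.1 := congrArg Subtype.val v.2
          obtain ⟨a, ha, b, hb, hab⟩ := compl_dec h.compl v.1.1
          rw [hab, app_add, h.xB b hb, add_left_inj] at h5
          rw [hab, h.fpf a ha h5, zero_add]
          exact hb
        · intro v w hvw
          have h6 : v.1.1 = w.1.1 :=
            congrArg (fun z : ((B : Set V) \ {0} : Set V) => (z : V)) hvw
          exact Subtype.ext (Subtype.ext h6)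
      have h5 : Nat.card {v : V // v ≠ 0} + 1 = Nat.card V := by
        have h6 := Set.ncard_add_ncard_compl ({0} : Set V)
        rw [Set.ncard_singleton, ← Nat.card_coe_set_eq ({0} : Set V)ᶜ] at h6
        rw [← h6, add_comm]
        rfl
      have h6 : ((B : Set V) \ {0}).ncard + 1 = Nat.card B := by
        rw [Set.ncard_sdiff_singleton_add_one B.zero_mem]
        exact Nat.card_coe_set_eq _
      have h7 : Nat.card V = Nat.card A * Nat.card B := by
        rw [← Nat.card_prod]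
        exact (Nat.card_congr (Submodule.prodEquivOfIsCompl A B h.compl).toEquiv).symm
      have h8 : 1 ≤ Nat.card A := Nat.card_pos
      have h9 := Nat.mul_le_mul_left (Nat.card A) h4
      rw [← h6, mul_add, mul_one] at h7
      show Nat.card A * Nat.card (fixedBy {v : V // v ≠ 0} x) ≤ Nat.card {v : V // v ≠ 0}
      omega)
  rw [one_mul] at h3
  exact h3

/-- the number of fixed points, functionals -/
theorem ratio_dual [Finite F] [Finite V] [FiniteDimensional F V] (h : LX A B x)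
    (hd : 2 ≤ finrank F V)
    {H : Subgroup (SpecialLinearGroup F V)} {χ0 : Dual F V} (hχ0 : χ0 ≠ 0)
    (hfix : ∀ g ∈ H, ∀ v, χ0 (g v) = χ0 v) :
    Nat.card A * Nat.card (fixedBy (SpecialLinearGroup F V ⧸ H) x) ≤
      Nat.card (SpecialLinearGroup F V ⧸ H) := by
  have hfin0 : Finite (V ≃ₗ[F] V) := instFin
  have hfin : Finite (SpecialLinearGroup F V) := inferInstance
  have hfinT : Finite (Dual F V) := Module.finite_of_finite F
  have hne : ∀ (g : SpecialLinearGroup F V) (χ : Dual F V), χ ≠ 0 → dHom g χ ≠ 0 := by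
    intro g v hv h1
    rw [← app_zero (dHom g)] at h1
    exact hv (app_inj (dHom g) h1)
  let act : MulAction (SpecialLinearGroup F V) {χ : Dual F V // χ ≠ 0} :=
    { smul := fun g v => ⟨dHom g v, hne g v v.2⟩
      one_smul := fun v => Subtype.ext (by
        show dHom 1 (v : Dual F V) = v
        rw [map_one]
        rfl)
      mul_smul := fun g g' v => Subtype.ext (by
        show dHom (g * g') (v : Dual F V) = dHom g (dHom g' v)
        rw [map_mul]
        rfl) }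
  have : IsPretransitive (SpecialLinearGroup F V) {χ : Dual F V // χ ≠ 0} := by
    constructor
    intro χ χ'
    obtain ⟨g, hg⟩ := exists_map_dual hd χ.2 χ'.2
    refine ⟨g, Subtype.ext ?_⟩
    show dHom g (χ : Dual F V) = χ'
    apply LinearMap.ext
    intro v
    rw [dHom_apply, ← hg, app_inv_app]
  have h3 := fix_le_of_map (Ω := SpecialLinearGroup F V ⧸ H) (Ω' := {χ : Dual F V // χ ≠ 0})
    (MonoidHom.id (SpecialLinearGroup F V)) Function.surjective_id
    (Quotient.lift (fun g : SpecialLinearGroup F V =>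
      (⟨dHom g χ0, hne g χ0 hχ0⟩ : {χ : Dual F V // χ ≠ 0}))
      (by
        intro g g' hgg
        have h4 : g⁻¹ * g' ∈ H := QuotientGroup.leftRel_apply.1 hgg
        apply Subtype.ext
        show dHom g χ0 = dHom g' χ0
        apply LinearMap.ext
        intro v
        rw [dHom_apply, dHom_apply]
        have h5 := hfix _ h4 (g'⁻¹ v)
        rw [← h5, ← mul_app, mul_assoc, mul_inv_cancel, mul_one])) (by
      intro g ω
      obtain ⟨g', rfl⟩ := QuotientGroup.mk_surjective ω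
      apply Subtype.ext
      show dHom (g * g') χ0 = dHom g (dHom g' χ0)
      rw [map_mul]
      rfl) x (a := Nat.card A) (b := 1) (by
      rw [one_mul]
      have h4 : Nat.card (fixedBy {χ : Dual F V // χ ≠ 0} x) ≤
          ((A.dualAnnihilator : Set (Dual F V)) \ {0}).ncard := by
        rw [← Nat.card_coe_set_eq]
        refine Nat.card_le_card_of_injective (fun v : fixedBy {χ : Dual F V // χ ≠ 0} x =>
          (⟨v.1.1, ⟨?_, v.1.2⟩⟩ : ((A.dualAnnihilator : Set (Dual F V)) \ {0} :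
            Set (Dual F V)))) ?_
        · have h5 : dHom x v.1.1 = v.1.1 := congrArg Subtype.val v.2
          apply (Submodule.mem_dualAnnihilator _).2
          intro a ha
          obtain ⟨a', ha', rfl⟩ := h.surj a ha
          have h6 := LinearMap.congr_fun h5 (x a')
          rw [dHom_apply, inv_app_app] at h6
          rw [map_sub, h6, sub_self]
        · intro v w hvw
          have h6 : v.1.1 = w.1.1 :=
            congrArg (fun z : ((A.dualAnnihilator : Set (Dual F V)) \ {0} : Set (Dual F V)) =>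
              (z : Dual F V)) hvw
          exact Subtype.ext (Subtype.ext h6)
      have h5 : Nat.card {χ : Dual F V // χ ≠ 0} + 1 = Nat.card V := by
        have h6 := Set.ncard_add_ncard_compl ({0} : Set (Dual F V))
        rw [Set.ncard_singleton, ← Nat.card_coe_set_eq ({0} : Set (Dual F V))ᶜ] at h6
        rw [Module.natCard_eq_pow_finrank (K := F) (V := V), ← Subspace.dual_finrank_eq,
          ← Module.natCard_eq_pow_finrank (K := F) (V := Dual F V), ← h6, add_comm]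
        rfl
      have h6 : ((A.dualAnnihilator : Set (Dual F V)) \ {0}).ncard + 1 = Nat.card B := by
        rw [Set.ncard_sdiff_singleton_add_one A.dualAnnihilator.zero_mem,
          Module.natCard_eq_pow_finrank (K := F) (V := B), ← finrank_ann h.compl.symm,
          ← Module.natCard_eq_pow_finrank (K := F) (V := A.dualAnnihilator)]
        exact Nat.card_coe_set_eq _
      have h7 : Nat.card V = Nat.card A * Nat.card B := by
        rw [← Nat.card_prod]
        exact (Nat.card_congr (Submodule.prodEquivOfIsCompl A B h.compl).toEquiv).symm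
      have h8 : 1 ≤ Nat.card A := Nat.card_pos
      have h9 := Nat.mul_le_mul_left (Nat.card A) h4
      rw [← h6, mul_add, mul_one] at h7
      show Nat.card A * Nat.card (fixedBy {χ : Dual F V // χ ≠ 0} x) ≤
        Nat.card {χ : Dual F V // χ ≠ 0}
      omega)
  rw [one_mul] at h3
  exact h3

/-- **Two opposite radicals**, `|F| = 2`. -/
theorem LX.uGood_two [Finite V] [FiniteDimensional F V] [Finite F] [CharP F 2] (h : LX A B x)
    (h2 : Nat.card F = 2)
    {p k : ℕ} (hp : p.Prime) (hM : ∀ t : ℕ, t ≠ 0 → 2 ^ t ≡ 1 [MOD p] → 2 ^ k ≤ 2 ^ t)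
    (hxp : x ^ p = 1) (hB0 : B ≠ ⊥) (hA : Nat.card A = 2 ^ k)
    (hk2 : 2 ≤ finrank F A) : UGood 1 (2 ^ k) x := by
  have hfin0 : Finite (V ≃ₗ[F] V) := instFin
  have hfin : Finite (SpecialLinearGroup F V) := inferInstance
  have hA0 : A ≠ ⊥ := by
    rintro rfl
    rw [finrank_bot] at hk2
    omega
  have hd : 2 ≤ finrank F V := by
    have := Submodule.finrank_add_eq_of_isCompl h.compl
    omega
  have hxp' : x ^ p ^ 1 = 1 := by rw [pow_one, hxp]
  have iA : IsPGroup 2 (radL A) := isPGroup_radL A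
  have iB : IsPGroup 2 (radL B) := isPGroup_radL B
  have pA := h.freeA.pairM hp Nat.prime_two hxp' iA hM
  have pB := h.freeB.pairM hp Nat.prime_two hxp' iB hM
  have key : ∀ t : ℕ, 2 ^ k < 2 ^ t → 2 * 2 ^ k ≤ 2 ^ t := by
    intro t ht
    have h1 : k < t := (Nat.pow_lt_pow_iff_right (by norm_num)).1 ht
    rw [← pow_succ']
    exact Nat.pow_le_pow_right (by norm_num) h1
  intro H hH
  rw [one_mul]
  by_cases c1 : ∃ χ : Dual F V, χ ≠ 0 ∧ ∀ g ∈ H, ∀ v, χ (g v) = χ v
  · obtain ⟨χ, hχ0, hχ⟩ := c1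
    rw [← hA]
    exact ratio_dual h hd hχ0 hχ
  by_cases c2 : ∃ v : V, v ≠ 0 ∧ ∀ g ∈ H, g v = v
  · obtain ⟨v, hv0, hv⟩ := c2
    rw [← hA]
    exact ratio_vec h hd hv0 hv
  refine two_free_one h.freeA h.freeB fun g hxg => ?_
  obtain ⟨H', hH'⟩ : ∃ H', H' = H.map (MulAut.conj g).toMonoidHom := ⟨_, rfl⟩
  rw [← hH'] at hxg ⊢
  have hmem : ∀ y ∈ H, g * y * g⁻¹ ∈ H' := by
    intro y hy
    rw [hH']
    exact ⟨y, hy, rfl⟩
  have hH'top : H' ≠ ⊤ := by
    intro h1
    apply hH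
    rw [eq_top_iff]
    intro y _
    have h3 : g * y * g⁻¹ ∈ H' := by rw [h1]; trivial
    rw [hH'] at h3
    obtain ⟨y', hy', h4⟩ := h3
    have h5 : y' = y := mul_left_cancel (mul_right_cancel (h4 : g * y' * g⁻¹ = g * y * g⁻¹))
    rw [← h5]
    exact hy'
  by_cases a1 : radL A ≤ H'
  · rcases Nat.lt_or_ge (Nat.card A) (H'.relIndex (radL B)) with h1 | h1
    · obtain ⟨t, ht⟩ := relIndex_eq_pow Nat.prime_two iB H'
      have h3 := key t (by rw [← ht, ← hA]; exact h1)
      omega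
    · exfalso
      obtain ⟨χ, hχ0, hχ⟩ := h.fix_dual h2 hH'top hxg hA0 hB0 a1 h1 hk2
      apply c1
      refine ⟨χ ∘ₗ (g.1 : V →ₗ[F] V), ?_, fun y hy v => ?_⟩
      · intro h3
        apply hχ0
        apply LinearMap.ext
        intro v
        have h4 : χ (g (g⁻¹ v)) = 0 := LinearMap.congr_fun h3 (g⁻¹ v)
        rw [app_inv_app] at h4
        exact h4
      · show χ (g (y v)) = χ (g v)
        have h3 := hχ _ (hmem y hy) (g v)
        rw [mul_app, mul_app, inv_app_app] at h3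
        exact h3
  · by_cases a2 : radL B ≤ H'
    · rcases Nat.lt_or_ge (Nat.card A) (H'.relIndex (radL A)) with h1 | h1
      · obtain ⟨t, ht⟩ := relIndex_eq_pow Nat.prime_two iA H'
        have h3 := key t (by rw [← ht, ← hA]; exact h1)
        omega
      · exfalso
        obtain ⟨v, hv0, hv⟩ := h.fix_vec h2 hH'top hxg hA0 hB0 a2 h1 hk2
        apply c2
        refine ⟨g⁻¹ v, ?_, fun y hy => ?_⟩
        · intro h3
          apply hv0
          rw [← app_inv_app g v, h3, app_zero]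
        · have h3 := hv _ (hmem y hy)
          rw [mul_app, mul_app] at h3
          apply app_inj g
          rw [h3, app_inv_app]
    · have b1 := le_relIndex_of_pairM pA hxg a1
      have b2 := le_relIndex_of_pairM pB hxg a2
      omega

end

end Cfsg.Agent.H435.Fpr
end

-- part: H435/Fpr/LinHeis
section
/-!
# Linear groups in characteristic two, `p ∣ q - 1`: two Heisenberg radicals
-/

set_option autoImplicit false
open Subgroup MulAction

namespace Cfsg.Agent.H435.Fpr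

open Cfsg.Agent.H398.FPR Cfsg.Agent.H110.Fpr Cfsg.Agent.H221.PP
open Module (Dual finrank)

section

variable {F : Type*} [Field F] {V : Type*} [AddCommGroup V] [Module F V]

/-- Dual vectors. -/
structure HD (e f : V) (ε δ : Dual F V) : Prop where
  ee : ε e = 1
  ef : ε f = 0
  de : δ e = 0
  df : δ f = 1

theorem HD.symm {e f : V} {ε δ : Dual F V} (h : HD e f ε δ) : HD f e δ ε :=
  ⟨h.df, h.de, h.ef, h.ee⟩

/-- The radical of the stabiliser of the flag `⟨e⟩ ≤ ker δ`. -/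
def flagQ (e : V) (δ : Dual F V) (h : δ e = 0) : Subgroup (SpecialLinearGroup F V) where
  carrier := {g | ∃ (α : Dual F V) (w : V), α e = 0 ∧ δ w = 0 ∧ ∀ v, g v = v + α v • e + δ v • w}
  mul_mem' := by
    rintro g g' ⟨α, w, h1, h2, h3⟩ ⟨β, u, k1, k2, k3⟩
    refine ⟨α + β + α u • δ, w + u, ?_, ?_, fun v => ?_⟩
    · simp [h1, k1, h]
    · rw [map_add, h2, k2, add_zero]
    · rw [mul_app, k3, h3]
      simp only [map_add, map_smul, h1, h, k2, LinearMap.add_apply, LinearMap.smul_apply,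
        smul_eq_mul]
      module
  one_mem' := ⟨0, 0, rfl, map_zero _, fun v => by
    rw [one_app, LinearMap.zero_apply, zero_smul, smul_zero, add_zero, add_zero]⟩
  inv_mem' := by
    rintro g ⟨α, w, h1, h2, h3⟩
    refine ⟨-α + α w • δ, -w, ?_, ?_, fun v => ?_⟩
    · simp only [h1, h, _root_.LinearMap.add_apply, _root_.LinearMap.neg_apply, _root_.neg_zero, _root_.LinearMap.smul_apply, _root_.smul_eq_mul, _root_.MulZeroClass.mul_zero, _root_.add_zero]
    · rw [map_neg, h2, neg_zero]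
    · apply app_inj g
      rw [app_inv_app, h3]
      simp only [map_add, map_neg, map_smul, h1, h, h2, LinearMap.add_apply, LinearMap.neg_apply,
        LinearMap.smul_apply, smul_eq_mul]
      module

/-- Its derived group. -/
def flagZ (e : V) (δ : Dual F V) (h : δ e = 0) : Subgroup (SpecialLinearGroup F V) where
  carrier := {g | ∃ c : F, ∀ v, g v = v + (c * δ v) • e}
  mul_mem' := by
    rintro g g' ⟨c, hc⟩ ⟨d, hd⟩
    refine ⟨c + d, fun v => ?_⟩
    rw [mul_app, hd, hc]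
    simp only [map_add, map_smul, h, smul_eq_mul]
    module
  one_mem' := ⟨0, fun v => by rw [one_app, zero_mul, zero_smul, add_zero]⟩
  inv_mem' := by
    rintro g ⟨c, hc⟩
    refine ⟨-c, fun v => ?_⟩
    apply app_inj g
    rw [app_inv_app, hc]
    simp only [map_add, map_smul, h, smul_eq_mul]
    module

theorem tv_mem_flagQ {e : V} {δ : Dual F V} {h : δ e = 0} {α : Dual F V} (hα : α e = 0) :
    tv α e hα ∈ flagQ e δ h :=
  ⟨α, 0, hα, map_zero _, fun v => by rw [tv_apply, smul_zero, add_zero]⟩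

theorem tv_mem_flagQ' {e : V} {δ : Dual F V} {h : δ e = 0} {w : V} (hw : δ w = 0) :
    tv δ w hw ∈ flagQ e δ h :=
  ⟨0, w, rfl, hw, fun v => by rw [tv_apply, LinearMap.zero_apply, zero_smul, add_zero]⟩

theorem flagZ_le {e : V} {δ : Dual F V} (h : δ e = 0) : flagZ e δ h ≤ flagQ e δ h := by
  rintro g ⟨c, hc⟩
  exact ⟨c • δ, 0, by rw [LinearMap.smul_apply, h, smul_zero], map_zero _, fun v => by
    rw [hc, LinearMap.smul_apply, smul_zero, add_zero, smul_eq_mul]⟩

theorem flagZ_central {e : V} {δ : Dual F V} (h : δ e = 0) :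
    ∀ z ∈ flagZ e δ h, ∀ g ∈ flagQ e δ h, z * g = g * z := by
  rintro z ⟨c, hc⟩ g ⟨α, w, h1, h2, h3⟩
  apply ext'
  intro v
  rw [mul_app, mul_app, hc, h3, h3, hc]
  simp only [map_add, map_smul, h, h1, h2, smul_eq_mul]
  module

theorem flagQ_comm {e : V} {δ : Dual F V} (h : δ e = 0) :
    ∀ a ∈ flagQ e δ h, ∀ b ∈ flagQ e δ h, a * b * a⁻¹ * b⁻¹ ∈ flagZ e δ h := by
  rintro a ⟨α, w, h1, h2, h3⟩ b ⟨β, u, k1, k2, k3⟩
  refine ⟨α u - β w, fun v => ?_⟩
  obtain ⟨v', rfl⟩ : ∃ v', v = b (a v') := ⟨a⁻¹ (b⁻¹ v), by rw [app_inv_app, app_inv_app]⟩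
  have e1 : (a * b * a⁻¹ * b⁻¹) (b (a v')) = a (b v') := by
    simp only [mul_app, inv_app_app]
  rw [e1, k3, h3, h3, k3]
  simp only [map_add, map_smul, h, h1, h2, k1, k2, smul_eq_mul]
  module

/-- a vector outside -/
theorem flagQ_nonab {e f : V} {ε δ : Dual F V} (d : HD e f ε δ) {w0 : V} (hw0 : w0 ≠ 0)
    (h1 : ε w0 = 0) (h2 : δ w0 = 0) :
    ¬ ∀ a ∈ flagQ e δ d.de, ∀ b ∈ flagQ e δ d.de, a * b = b * a := by
  intro hc
  have he0 : e ≠ 0 := by
    rintro rfl
    have := d.ee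
    rw [map_zero] at this
    exact zero_ne_one this
  have hn : w0 ∉ Submodule.span F {e} := by
    intro hm
    obtain ⟨c, rfl⟩ := Submodule.mem_span_singleton.1 hm
    rw [map_smul, d.ee, smul_eq_mul, mul_one] at h1
    rw [h1, zero_smul] at hw0
    exact hw0 rfl
  obtain ⟨α, hα1, hα2⟩ := exists_fun hn
  have hαe : α e = 0 := hα2 e (Submodule.mem_span_singleton_self e)
  have h3 := hc _ (tv_mem_flagQ (h := d.de) hαe) _ (tv_mem_flagQ' (h := d.de) h2)
  have h4 := congrArg (fun g : SpecialLinearGroup F V => g f) h3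
  simp only [mul_app, tv_apply, map_add, map_smul, d.df, hα1, d.de, one_smul] at h4
  apply he0
  have h5 : e = (f + α f • e + (w0 + e)) - (f + w0 + α f • (e + (0 : F) • w0)) := by module
  rw [h5, h4, sub_self]

theorem flagQ_isPGroup [CharP F 2] {e : V} {δ : Dual F V} (h : δ e = 0) :
    IsPGroup 2 (flagQ e δ h) := by
  have h2F : (2 : F) = 0 := by
    have := CharP.cast_eq_zero F 2
    exact_mod_cast this
  rintro ⟨g, α, w, h1, h2, h3⟩
  refine ⟨2, Subtype.ext ?_⟩
  have hg2 : ∀ v, g (g v) = v + (α w * δ v) • e := by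
    intro v
    rw [h3, h3]
    simp only [map_add, map_smul, h, h1, h2, smul_eq_mul]
    have e1 : v + α v • e + δ v • w + (α v + α v * 0 + δ v * α w) • e +
        (δ v + α v * 0 + δ v * 0) • w = v + (α w * δ v) • e + (2 : F) • (α v • e + δ v • w) := by
      module
    rw [e1, h2F, zero_smul, add_zero]
  change g ^ 2 ^ 2 = 1
  apply ext'
  intro v
  have e4 : g ^ 2 ^ 2 = g * g * (g * g) := by
    rw [show (2 : ℕ) ^ 2 = 4 from rfl]
    simp only [pow_succ, pow_zero, one_mul, mul_assoc]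
  rw [e4, one_app, mul_app, mul_app, mul_app, hg2, hg2]
  simp only [map_add, map_smul, h, smul_eq_mul]
  have e1 : v + (α w * δ v) • e + (α w * (δ v + α w * δ v * 0)) • e =
      v + (2 : F) • ((α w * δ v) • e) := by module
  rw [e1, h2F, zero_smul, add_zero]

theorem le_card_flagZ [Finite F] [Finite V] {e f : V} {ε δ : Dual F V} (d : HD e f ε δ) :
    Nat.card F ≤ Nat.card (flagZ e δ d.de) := by
  have hfin0 : Finite (V ≃ₗ[F] V) := instFin
  have hfin : Finite (SpecialLinearGroup F V) := inferInstance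
  have hz : ∀ c : F, (c • δ) e = 0 := fun c => by rw [LinearMap.smul_apply, d.de, smul_zero]
  refine Nat.card_le_card_of_injective
    (fun c : F => (⟨tv (c • δ) e (hz c), c, fun v => by
      rw [tv_apply, LinearMap.smul_apply, smul_eq_mul]⟩ : flagZ e δ d.de)) ?_
  intro a b hab
  have h1 : tv (a • δ) e (hz a) = tv (b • δ) e (hz b) := congrArg Subtype.val hab
  have h2 := congrArg (fun g : SpecialLinearGroup F V => ε (g f)) h1
  simp only [tv_apply, LinearMap.smul_apply, map_add, map_smul, d.df, d.ee, d.ef, smul_eq_mul,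
    mul_one, zero_add] at h2
  exact h2

/-- The element `x`. -/
structure HX (lam : F) (e f : V) (ε δ : Dual F V) (x : SpecialLinearGroup F V) : Prop where
  l0 : lam ≠ 0
  l1 : lam ≠ 1
  l2 : lam ^ 2 ≠ 1
  eq : ∀ v, x v = v + ((lam - 1) * ε v) • e + ((lam⁻¹ - 1) * δ v) • f

theorem HX.symm {lam : F} {e f : V} {ε δ : Dual F V} {x : SpecialLinearGroup F V}
    (h : HX lam e f ε δ x) : HX lam⁻¹ f e δ ε x where
  l0 := inv_ne_zero h.l0
  l1 := fun h1 => h.l1 (inv_eq_one.1 h1)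
  l2 := fun h1 => h.l2 (by rw [inv_pow, inv_eq_one] at h1; exact h1)
  eq := fun v => by rw [h.eq, inv_inv]; abel

theorem flagQ_freeOn {lam : F} {e f : V} {ε δ : Dual F V} {x : SpecialLinearGroup F V}
    (d : HD e f ε δ) (hx : HX lam e f ε δ x) : FreeOn x (flagQ e δ d.de) := by
  have hl : lam * lam⁻¹ = 1 := mul_inv_cancel₀ hx.l0
  have hxe : x e = lam • e := by
    rw [hx.eq, d.ee, d.de]
    module
  have hxf : x f = lam⁻¹ • f := by
    rw [hx.eq, d.ef, d.df]
    module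
  have hδx : ∀ v, δ (x v) = lam⁻¹ * δ v := by
    intro v
    rw [hx.eq]
    simp only [map_add, map_smul, d.de, d.df, smul_eq_mul]
    ring
  have hδx' : ∀ v, δ (x⁻¹ v) = lam * δ v := by
    intro v
    have h1 := hδx (x⁻¹ v)
    rw [app_inv_app] at h1
    rw [h1, ← mul_assoc, hl, one_mul]
  have hxe' : x⁻¹ e = lam⁻¹ • e := by
    apply app_inj x
    rw [app_inv_app, app_smul, hxe, smul_smul, mul_comm, hl, one_smul]
  constructor
  · rw [mem_normalizer_iff]
    have key : ∀ g ∈ flagQ e δ d.de, x * g * x⁻¹ ∈ flagQ e δ d.de := by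
      rintro g ⟨α, w, h1, h2, h3⟩
      refine ⟨lam • (α ∘ₗ ((x⁻¹ : SpecialLinearGroup F V).1 : V →ₗ[F] V)), lam • x w, ?_, ?_,
        fun v => ?_⟩
      · show lam • (α (x⁻¹ e)) = 0
        rw [hxe', map_smul, h1, smul_zero, smul_zero]
      · rw [map_smul, hδx, h2, mul_zero, smul_zero]
      · rw [mul_app, mul_app, h3, app_add, app_add, app_smul, app_smul, app_inv_app, hxe, hδx']
        show v + α (x⁻¹ v) • lam • e + (lam * δ v) • x w =
          v + (lam • α (x⁻¹ v)) • e + δ v • lam • x w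
        rw [smul_eq_mul]
        module
    have key' : ∀ g ∈ flagQ e δ d.de, x⁻¹ * g * x ∈ flagQ e δ d.de := by
      rintro g ⟨α, w, h1, h2, h3⟩
      refine ⟨lam⁻¹ • (α ∘ₗ (x.1 : V →ₗ[F] V)), lam⁻¹ • x⁻¹ w, ?_, ?_, fun v => ?_⟩
      · show lam⁻¹ • (α (x e)) = 0
        rw [hxe, map_smul, h1, smul_zero, smul_zero]
      · rw [map_smul, hδx', h2, mul_zero, smul_zero]
      · rw [mul_app, mul_app, h3, app_add, app_add, app_smul, app_smul, inv_app_app, hxe', hδx]
        show v + α (x v) • lam⁻¹ • e + (lam⁻¹ * δ v) • x⁻¹ w =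
          v + (lam⁻¹ • α (x v)) • e + δ v • lam⁻¹ • x⁻¹ w
        rw [smul_eq_mul]
        module
    intro g
    refine ⟨key g, fun hg => ?_⟩
    have h1 := key' _ hg
    have h2 : x⁻¹ * (x * g * x⁻¹) * x = g := by group
    rwa [h2] at h1
  · rintro g ⟨α, w, h1, h2, h3⟩ hc
    have hcomm : ∀ v, x (g v) = g (x v) := by
      intro v
      have h4 : x * g = g * x := by rwa [mul_inv_eq_iff_eq_mul] at hc
      rw [← mul_app, h4, mul_app]
    have he0 : e ≠ 0 := by
      rintro rfl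
      have := d.ee
      rw [map_zero] at this
      exact zero_ne_one this
    -- `α` vanishes on the kernel of `δ`
    have hα : ∀ v, δ v = 0 → α v = 0 := by
      intro v hv
      have h4 := hcomm v
      rw [h3, h3 (x v), hδx, hv, mul_zero, zero_smul, add_zero, add_zero, app_add, app_smul,
        hxe] at h4
      have h5 : α (x v) = α v := by
        rw [hx.eq, hv]
        simp only [map_add, map_smul, h1, mul_zero, zero_smul, smul_zero, add_zero]
      rw [h5] at h4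
      have h6 : (α v * (lam - 1)) • e = 0 := by
        have h7 := add_left_cancel h4
        rw [smul_smul] at h7
        rw [mul_sub, sub_smul, mul_one, h7, sub_self]
      rcases smul_eq_zero.1 h6 with h7 | h7
      · rcases mul_eq_zero.1 h7 with h8 | h8
        · exact h8
        · exact absurd (sub_eq_zero.1 h8) hx.l1
      · exact absurd h7 he0
    -- the vector `g f - f`
    have hxw : x w = w + ((lam - 1) * ε w) • e := by
      rw [hx.eq, h2, mul_zero, zero_smul, add_zero]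
    have h4 := hcomm f
    rw [hxf, app_smul, h3, app_add, app_add, app_smul, app_smul, hxe, hxf, d.df, hxw] at h4
    have h5 : (1 - lam⁻¹) • w = (lam⁻¹ * α f - lam * α f - (lam - 1) * ε w) • e := by
      have h6 : (1 - lam⁻¹) • w = (lam⁻¹ • f + α f • lam • e + (1 : F) • (w + ((lam - 1) * ε w) • e))
          - lam⁻¹ • (f + α f • e + (1 : F) • w) + (lam⁻¹ * α f - lam * α f - (lam - 1) * ε w) • e := by
        module
      rw [h6, h4, sub_self, zero_add]
    have h6 : (1 - lam⁻¹) ≠ 0 := by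
      intro h7
      exact hx.l1 (inv_eq_one.1 (sub_eq_zero.1 h7).symm)
    obtain ⟨b, hb⟩ : ∃ b : F, w = b • e := by
      refine ⟨(1 - lam⁻¹)⁻¹ * (lam⁻¹ * α f - lam * α f - (lam - 1) * ε w), ?_⟩
      rw [mul_smul, ← h5, smul_smul, inv_mul_cancel₀ h6, one_smul]
    have hεw : ε w = b := by rw [hb, map_smul, d.ee, smul_eq_mul, mul_one]
    rw [hεw, hb] at h5
    have h7 : (lam - lam⁻¹) * (α f + b) = 0 := by
      have h8 : ((1 - lam⁻¹) * b) • e =
          (lam⁻¹ * α f - lam * α f - (lam - 1) * b) • e := by rw [mul_smul, h5]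
      have h9 := congrArg ε h8
      rw [map_smul, map_smul, d.ee, smul_eq_mul, smul_eq_mul, mul_one, mul_one] at h9
      linear_combination h9
    have h8 : lam - lam⁻¹ ≠ 0 := by
      intro h9
      apply hx.l2
      rw [sq]
      nth_rewrite 2 [sub_eq_zero.1 h9]
      exact hl
    have h9 : α f + b = 0 := (mul_eq_zero.1 h7).resolve_left h8
    apply ext'
    intro v
    rw [h3, one_app, hb]
    have h10 : α v = δ v * α f := by
      have h11 := hα (v - δ v • f) (by rw [map_sub, map_smul, d.df, smul_eq_mul, mul_one, sub_self])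
      rw [map_sub, map_smul, smul_eq_mul] at h11
      exact sub_eq_zero.1 h11
    rw [h10, add_assoc, smul_smul, ← add_smul, ← mul_add, h9, mul_zero, zero_smul, add_zero]

/-- The generation statement. -/
theorem flagQ_gen [FiniteDimensional F V] {e f : V} {ε δ : Dual F V} (d : HD e f ε δ) {w0 : V}
    (hw0 : w0 ≠ 0) (h1 : ε w0 = 0) (h2 : δ w0 = 0) {H : Subgroup (SpecialLinearGroup F V)}
    (hQ : flagQ e δ d.de ≤ H) {z : SpecialLinearGroup F V} (hz : z ∈ flagZ f ε d.ef) (hz1 : z ≠ 1)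
    (hzH : z ∈ H) : H = ⊤ := by
  obtain ⟨c, hc⟩ := hz
  have hc0 : c ≠ 0 := by
    rintro rfl
    apply hz1
    apply ext'
    intro v
    rw [hc, zero_mul, zero_smul, add_zero, one_app]
  have he0 : e ≠ 0 := by
    rintro rfl
    have := d.ee
    rw [map_zero] at this
    exact zero_ne_one this
  -- transvections of `radL (ker ε)`, first kind
  have s1 : ∀ (w : V) (hw : ε w = 0), δ w = 0 → tv ε w hw ∈ H := by
    intro w hw hδw
    obtain ⟨u, hu⟩ : ∃ u : V, u = (-c⁻¹) • w := ⟨_, rfl⟩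
    have hεu : ε u = 0 := by rw [hu, map_smul, hw, smul_zero]
    have hδu : δ u = 0 := by rw [hu, map_smul, hδw, smul_zero]
    have hw' : w = -(c • u) := by
      rw [hu, smul_smul, mul_neg, mul_inv_cancel₀ hc0, neg_smul, one_smul, neg_neg]
    have m1 : tv δ u hδu ∈ H := hQ (tv_mem_flagQ' hδu)
    have e1 : z * tv δ u hδu * z⁻¹ * (tv δ u hδu)⁻¹ = tv ε w hw := by
      rw [mul_inv_eq_iff_eq_mul, mul_inv_eq_iff_eq_mul]
      apply ext'
      intro v
      simp only [mul_app, hc, tv_apply, map_add, map_smul, hεu, hδu, d.ef, d.df, smul_eq_mul, hw']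
      module
    rw [← e1]
    exact H.mul_mem (H.mul_mem (H.mul_mem hzH m1) (H.inv_mem hzH)) (H.inv_mem m1)
  -- second kind
  have s2 : ∀ (b : F) (hb : ε (b • f) = 0), tv ε (b • f) hb ∈ H := by
    intro b hb
    have hn : w0 ∉ Submodule.span F {e, f} := by
      intro hm
      obtain ⟨a, b, hab⟩ := Submodule.mem_span_pair.1 hm
      have h3 : ε (a • e + b • f) = a := by
        rw [map_add, map_smul, map_smul, d.ee, d.ef, smul_eq_mul, smul_eq_mul]; ring
      have h4 : δ (a • e + b • f) = b := by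
        rw [map_add, map_smul, map_smul, d.de, d.df, smul_eq_mul, smul_eq_mul]; ring
      rw [hab, h1] at h3
      rw [hab, h2] at h4
      apply hw0
      rw [← hab, ← h3, ← h4, zero_smul, zero_smul, add_zero]
    obtain ⟨χ, hχ1, hχ2⟩ := exists_fun hn
    have hχe : χ e = 0 := hχ2 e (Submodule.subset_span (by simp))
    have hχf : χ f = 0 := hχ2 f (Submodule.subset_span (by simp))
    have m1 : tv χ e hχe ∈ H := hQ (tv_mem_flagQ hχe)
    have hχcf : χ (c • f) = 0 := by rw [map_smul, hχf, smul_zero]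
    have e1 : z * tv χ e hχe * z⁻¹ * (tv χ e hχe)⁻¹ = tv χ (c • f) hχcf := by
      rw [mul_inv_eq_iff_eq_mul, mul_inv_eq_iff_eq_mul]
      apply ext'
      intro v
      simp only [mul_app, hc, tv_apply, map_add, map_smul, hχe, hχf, d.ee, d.ef, smul_eq_mul]
      module
    have m2 : tv χ (c • f) hχcf ∈ H := by
      rw [← e1]
      exact H.mul_mem (H.mul_mem (H.mul_mem hzH m1) (H.inv_mem hzH)) (H.inv_mem m1)
    have hεu : ε ((c⁻¹ * b) • w0) = 0 := by rw [map_smul, h1, smul_zero]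
    have hδu : δ ((c⁻¹ * b) • w0) = 0 := by rw [map_smul, h2, smul_zero]
    have m3 := s1 ((c⁻¹ * b) • w0) hεu hδu
    have e2 : tv χ (c • f) hχcf * tv ε ((c⁻¹ * b) • w0) hεu * (tv χ (c • f) hχcf)⁻¹ *
        (tv ε ((c⁻¹ * b) • w0) hεu)⁻¹ = tv ε (b • f) hb := by
      rw [mul_inv_eq_iff_eq_mul, mul_inv_eq_iff_eq_mul]
      apply ext'
      intro v
      simp only [mul_app, tv_apply, map_add, map_smul, hχ1, hχf, h1, d.ef, smul_eq_mul]
      have e3 : ε v • (c⁻¹ * b) • (w0 + (1 : F) • c • f) =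
          ε v • (c⁻¹ * b) • w0 + (ε v * (c * c⁻¹) * b) • f := by module
      rw [e3, mul_inv_cancel₀ hc0]
      module
    rw [← e2]
    exact H.mul_mem (H.mul_mem (H.mul_mem m2 m3) (H.inv_mem m2)) (H.inv_mem m3)
  have hAB : IsCompl (Submodule.span F {e}) (LinearMap.ker ε) := by
    constructor
    · rw [Submodule.disjoint_def]
      intro v hv hv'
      obtain ⟨a, rfl⟩ := Submodule.mem_span_singleton.1 hv
      rw [LinearMap.mem_ker, map_smul, d.ee, smul_eq_mul, mul_one] at hv'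
      rw [hv', zero_smul]
    · rw [codisjoint_iff, eq_top_iff]
      intro v _
      have e1 : v = ε v • e + (v - ε v • e) := by abel
      rw [e1]
      refine Submodule.add_mem_sup (Submodule.smul_mem _ _ (Submodule.mem_span_singleton_self e)) ?_
      rw [LinearMap.mem_ker, map_sub, map_smul, d.ee, smul_eq_mul, mul_one, sub_self]
  refine lin_gen hAB ?_ ?_ ?_ ?_
  · rw [Submodule.ne_bot_iff]
    exact ⟨e, Submodule.mem_span_singleton_self e, he0⟩
  · rw [Submodule.ne_bot_iff]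
    exact ⟨w0, h1, hw0⟩
  · rintro g ⟨g1, g2⟩
    obtain ⟨α, hα, rfl⟩ := eq_tv (v := e) (g := g) (g1 e (Submodule.mem_span_singleton_self e)) (by
      intro v
      rw [Submodule.mkQ_apply, Submodule.mkQ_apply, Submodule.Quotient.eq]
      exact g2 v)
    exact hQ (tv_mem_flagQ hα)
  · rintro g ⟨g1, g2⟩
    obtain ⟨u, hu⟩ : ∃ u, u = g e - e := ⟨_, rfl⟩
    have hεu : ε u = 0 := by
      rw [hu]
      exact g2 e
    have hg : g = tv ε u hεu := by
      apply ext'
      intro v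
      have e1 : v = (v - ε v • e) + ε v • e := by abel
      have e2 : g (v - ε v • e) = v - ε v • e := g1 _ (by
        rw [LinearMap.mem_ker, map_sub, map_smul, d.ee, smul_eq_mul, mul_one, sub_self])
      rw [tv_apply, hu]
      conv_lhs => rw [e1, app_add, e2, app_smul]
      rw [smul_sub]
      abel
    have hεf : ε (δ u • f) = 0 := by rw [map_smul, d.ef, smul_zero]
    have hεw : ε (u - δ u • f) = 0 := by rw [map_sub, hεu, hεf, sub_zero]
    have hδw : δ (u - δ u • f) = 0 := by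
      rw [map_sub, map_smul, d.df, smul_eq_mul, mul_one, sub_self]
    have h3 : ε ((u - δ u • f) + δ u • f) = 0 := by rw [map_add, hεw, hεf, add_zero]
    have e1 : g = tv ε (u - δ u • f) hεw * tv ε (δ u • f) hεf := by
      rw [hg, ← tv_add_right hεw hεf h3]
      exact tv_congr rfl (by abel)
    rw [e1]
    exact H.mul_mem (s1 _ _ hδw) (s2 _ _)

/-- **`p ∣ q - 1`.** -/
theorem lin_heis_uGood [Finite F] [Finite V] [FiniteDimensional F V] [CharP F 2] {p M : ℕ}
    (hp : p.Prime) (hM : ∀ t : ℕ, t ≠ 0 → 2 ^ t ≡ 1 [MOD p] → M ≤ 2 ^ t) (hMF : M ≤ Nat.card F)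
    {lam : F} {e f : V} {ε δ : Dual F V} (d : HD e f ε δ) {x : SpecialLinearGroup F V}
    (hx : HX lam e f ε δ x) (hxp : x ^ p = 1) {w0 : V} (hw0 : w0 ≠ 0) (h1 : ε w0 = 0)
    (h2 : δ w0 = 0) : UGood 1 M x := by
  have hfin0 : Finite (V ≃ₗ[F] V) := instFin
  have hfin : Finite (SpecialLinearGroup F V) := inferInstance
  have f1 := flagQ_freeOn d hx
  have f2 := flagQ_freeOn d.symm hx.symm
  have hxp' : x ^ p ^ 1 = 1 := by rw [pow_one, hxp]
  exact heis_uGood f1 f2
    (f1.pairM hp Nat.prime_two hxp' (flagQ_isPGroup _) hM)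
    (f2.pairM hp Nat.prime_two hxp' (flagQ_isPGroup _) hM)
    (flagZ_le _) (flagZ_le _) (flagZ_central _) (flagZ_central _) (flagQ_comm _) (flagQ_comm _)
    (flagQ_nonab d hw0 h1 h2) (flagQ_nonab d.symm hw0 h2 h1)
    (hMF.trans (le_card_flagZ d)) (hMF.trans (le_card_flagZ d.symm))
    (fun H hQ z hz hz1 hzH => flagQ_gen d hw0 h1 h2 hQ hz hz1 hzH)
    (fun H hQ z hz hz1 hzH => flagQ_gen d.symm hw0 h2 h1 hQ hz hz1 hzH)

end

end Cfsg.Agent.H435.Fpr
end

-- part: H435/Fpr/LinRow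
section
/-!
# The row of S3578 for `PSL_n(q)`, `q` even, `p` a Mersenne prime, `n > ord_p(q)`
-/

set_option autoImplicit false
open Subgroup MulAction

namespace Cfsg.Agent.H435.Fpr

open Cfsg.Agent.H398.FPR Cfsg.Agent.H110.Fpr Cfsg.Agent.H221.PP Cfsg.Agent.H409
open Module (Dual finrank)

section

variable {F : Type*} [Field F] {V : Type*} [AddCommGroup V] [Module F V]

theorem HD.exists_HX {e f : V} {ε δ : Dual F V} (d : HD e f ε δ) {lam : F} (l0 : lam ≠ 0)
    (l1 : lam ≠ 1) (l2 : lam ^ 2 ≠ 1) : ∃ x : SpecialLinearGroup F V, HX lam e f ε δ x := by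
  have hl : lam * lam⁻¹ = 1 := mul_inv_cancel₀ l0
  have k1 : δ ((lam - 1) • e) = 0 := by rw [map_smul, d.de, smul_zero]
  have k2 : δ ((lam⁻¹ - 1) • e) = 0 := by rw [map_smul, d.de, smul_zero]
  have k3 : ε ((-lam) • f) = 0 := by rw [map_smul, d.ef, smul_zero]
  refine ⟨tv δ ((lam - 1) • e) k1 * tv ε f d.ef * tv δ ((lam⁻¹ - 1) • e) k2 *
    tv ε ((-lam) • f) k3, l0, l1, l2, fun v => ?_⟩
  have e1 : tv ε ((-lam) • f) k3 v = v + (-lam * ε v) • f := by
    rw [tv_apply]; module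
  have e2 : tv δ ((lam⁻¹ - 1) • e) k2 (v + (-lam * ε v) • f) =
      v + ((lam⁻¹ - 1) * (δ v - lam * ε v)) • e + (-lam * ε v) • f := by
    rw [tv_apply, map_add, map_smul, d.df, smul_eq_mul]
    module
  have e3 : tv ε f d.ef (v + ((lam⁻¹ - 1) * (δ v - lam * ε v)) • e + (-lam * ε v) • f) =
      v + ((lam⁻¹ - 1) * (δ v - lam * ε v)) • e +
        (-lam * ε v + ε v + (lam⁻¹ - 1) * (δ v - lam * ε v)) • f := by
    rw [tv_apply, map_add, map_add, map_smul, map_smul, d.ee, d.ef, smul_eq_mul, smul_eq_mul]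
    module
  have e4 : -lam * ε v + ε v + (lam⁻¹ - 1) * (δ v - lam * ε v) = (lam⁻¹ - 1) * δ v := by
    linear_combination (-ε v) * hl
  rw [mul_app, mul_app, mul_app, e1, e2, e3, e4, tv_apply, map_add, map_add, map_smul, map_smul,
    d.df, d.de, smul_eq_mul, smul_eq_mul]
  have e5 : (lam⁻¹ - 1) * (δ v - lam * ε v) +
      (δ v + (lam⁻¹ - 1) * (δ v - lam * ε v) * 0 + (lam⁻¹ - 1) * δ v * 1) * (lam - 1) =
      (lam - 1) * ε v := by
    linear_combination (δ v - ε v) * hl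
  rw [← e5]
  module

theorem HX.pow {lam : F} {e f : V} {ε δ : Dual F V} (d : HD e f ε δ)
    {x : SpecialLinearGroup F V} (h : HX lam e f ε δ x) (n : ℕ) (v : V) :
    (x ^ n) v = v + ((lam ^ n - 1) * ε v) • e + ((lam⁻¹ ^ n - 1) * δ v) • f := by
  induction n with
  | zero =>
    rw [pow_zero, pow_zero, pow_zero, one_app]
    module
  | succ n ih =>
    rw [pow_succ', mul_app, ih, h.eq]
    simp only [map_add, map_smul, d.ee, d.ef, d.de, d.df, smul_eq_mul]
    rw [pow_succ lam, pow_succ lam⁻¹]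
    module

theorem HX.pow_eq_one {lam : F} {e f : V} {ε δ : Dual F V} (d : HD e f ε δ)
    {x : SpecialLinearGroup F V} (h : HX lam e f ε δ x) {p : ℕ} (hl : lam ^ p = 1) :
    x ^ p = 1 := by
  apply ext'
  intro v
  rw [h.pow d, inv_pow, hl, one_app, inv_one, sub_self, zero_mul, zero_mul, zero_smul, zero_smul,
    add_zero, add_zero]

end

section

variable {F : Type*} [Field F] [Finite F] [CharP F 2] {n : ℕ}

theorem exists_card_eq : ∃ a : ℕ, a ≠ 0 ∧ Nat.card F = 2 ^ a := by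
  have := Fintype.ofFinite F
  obtain ⟨a, -, ha⟩ := FiniteField.card F 2
  exact ⟨a, a.2.ne', by rw [Nat.card_eq_fintype_card, ha]⟩

/-- `p ∣ q - 1`. -/
theorem exists_uGood_one (hn : 3 ≤ n) {p M : ℕ} (hp : p.Prime) (hp2 : p ≠ 2)
    (hd : p ∣ Nat.card F - 1) (hM : ∀ t : ℕ, t ≠ 0 → 2 ^ t ≡ 1 [MOD p] → M ≤ 2 ^ t) :
    ∃ x : SpecialLinearGroup F (Fin n → F), x ^ p = 1 ∧ UGood 1 M x := by
  have hfin0 : Finite ((Fin n → F) ≃ₗ[F] (Fin n → F)) := instFin
  have hfin : Finite (SpecialLinearGroup F (Fin n → F)) := inferInstance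
  have := Fact.mk hp
  -- the scalar
  obtain ⟨u, hu⟩ : ∃ u : Fˣ, orderOf u = p := by
    have := Fintype.ofFinite F
    classical
    apply exists_prime_orderOf_dvd_card' p
    rw [Nat.card_eq_fintype_card, Fintype.card_units]
    rwa [Nat.card_eq_fintype_card] at hd
  have l0 : (u : F) ≠ 0 := u.ne_zero
  have l1 : (u : F) ≠ 1 := by
    intro h
    have h1 : u = 1 := Units.ext h
    rw [h1, orderOf_one] at hu
    exact hp.one_lt.ne hu
  have l2 : (u : F) ^ 2 ≠ 1 := by
    intro h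
    have h1 : u ^ 2 = 1 := Units.ext (by push_cast; exact h)
    have h2 := orderOf_dvd_of_pow_eq_one h1
    rw [hu] at h2
    exact hp2 ((Nat.prime_dvd_prime_iff_eq hp Nat.prime_two).1 h2)
  have lp : (u : F) ^ p = 1 := by
    rw [← hu, ← Units.val_pow_eq_pow_val, pow_orderOf_eq_one, Units.val_one]
  -- the vectors
  obtain ⟨i0, h0⟩ : ∃ i : Fin n, i = ⟨0, by omega⟩ := ⟨_, rfl⟩
  obtain ⟨i1, h1⟩ : ∃ i : Fin n, i = ⟨1, by omega⟩ := ⟨_, rfl⟩
  obtain ⟨i2, h3⟩ : ∃ i : Fin n, i = ⟨2, by omega⟩ := ⟨_, rfl⟩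
  have h01 : i0 ≠ i1 := by rw [h0, h1]; simp
  have h20 : i2 ≠ i0 := by rw [h0, h3]; simp
  have h21 : i2 ≠ i1 := by rw [h1, h3]; simp
  clear h0 h1 h3
  have d : HD (F := F) (V := Fin n → F) (Pi.single i0 1) (Pi.single i1 1) (LinearMap.proj i0)
      (LinearMap.proj i1) := by
    refine ⟨?_, ?_, ?_, ?_⟩
    · simp
    · simp [h01]
    · simp [h01.symm]
    · simp
  obtain ⟨x, hx⟩ := d.exists_HX l0 l1 l2
  have hxp := hx.pow_eq_one d lp
  refine ⟨x, hxp, ?_⟩
  refine lin_heis_uGood hp hM ?_ d hx hxp (w0 := Pi.single i2 1) ?_ ?_ ?_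
  · obtain ⟨a, ha0, ha⟩ := exists_card_eq (F := F)
    rw [ha] at hd ⊢
    exact hM a ha0 ((Nat.modEq_iff_dvd' Nat.one_le_two_pow).2 hd).symm
  · intro h
    have := congrFun h i2
    simp at this
  · simp [h20.symm]
  · simp [h21.symm]

/-- `p ∤ q - 1`. -/
theorem exists_LX {p : ℕ} (hp : p.Prime) (hpF : (p : F) ≠ 0) (hd : ¬ p ∣ Nat.card F - 1)
    (hdvd : p ∣ Nat.card (SpecialLinearGroup F (Fin n → F))) :
    (∃ (x : SpecialLinearGroup F (Fin n → F)) (A B : Submodule F (Fin n → F)), x ^ p = 1 ∧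
      LX A B x ∧ B ≠ ⊥ ∧ finrank F A = orderOf ((Nat.card F : ℕ) : ZMod p)) ∨
      ∀ k, p ∣ Nat.card F ^ k - 1 → n ∣ k := by
  have hfin0 : Finite ((Fin n → F) ≃ₗ[F] (Fin n → F)) := instFin
  have hfin : Finite (SpecialLinearGroup F (Fin n → F)) := inferInstance
  have := Fact.mk hp
  obtain ⟨x, hx⟩ := exists_prime_orderOf_dvd_card' p hdvd
  have hxp : x ^ p = 1 := by rw [← hx]; exact pow_orderOf_eq_one x
  have hx1 : x.1 ≠ 1 := by
    intro h
    have h2 : x = 1 := Subtype.ext h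
    rw [h2, orderOf_one] at hx
    exact hp.one_lt.ne hx
  have hxp' : x.1 ^ p = 1 := congrArg Subtype.val hxp
  have hU0 : movS p x.1 ≠ ⊥ := by
    intro h
    obtain ⟨w, hw, hw1⟩ := exists_moved hpF hxp' hx1
    rw [h, Submodule.mem_bot] at hw
    exact hw1 (by rw [hw, map_zero])
  obtain ⟨T, hTU, hT⟩ := exists_isMin (x := x.1) (movS_inv rfl) hU0
  have hfpf : ∀ v ∈ T, x.1 v = v → v = 0 := fun v hv h => eq_zero_of_mem hpF (hTU hv) h
  have hmov : ∃ v ∈ T, x.1 v ≠ v := by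
    obtain ⟨v, hv, hv0⟩ := (Submodule.ne_bot_iff T).1 hT.ne
    exact ⟨v, hv, fun h => hv0 (hfpf v hv h)⟩
  obtain ⟨C, -, hCi, hC1, hC2⟩ := exists_compl hp hpF hxp' hT.inv
    (show _root_.Cfsg.Agent.H110.Fpr.Inv x.1 (⊤ : Submodule F (Fin n → F)) from fun _ _ => trivial) le_top
  by_cases hC0 : C = ⊥
  · right
    intro k hk
    have h1 := hT.finrank_dvd hp hxp' hmov hpF hk
    rw [hC0, sup_bot_eq] at hC2
    rwa [hC2, finrank_top, Module.finrank_fintype_fun_eq_card, Fintype.card_fin] at h1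
  · left
    have hcompl : IsCompl T C := ⟨disjoint_iff.2 hC1, codisjoint_iff.2 hC2⟩
    obtain ⟨y, hy1, hy2⟩ := exists_trunc x.1 hcompl hT.inv
    have hyp := trunc_pow_eq_one hxp' hC2 hT.inv hy1 hy2
    have hdet : LinearEquiv.det y = 1 := by
      have h1 : (LinearEquiv.det y) ^ p = 1 := by rw [← map_pow, hyp, map_one]
      have h2 : (LinearEquiv.det y) ^ (Nat.card F - 1) = 1 := by
        classical
        have := Fintype.ofFinite F
        have h3 : Nat.card F - 1 = Fintype.card Fˣ := by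
          rw [Nat.card_eq_fintype_card, Fintype.card_units]
        rw [h3]
        exact pow_card_eq_one
      have h3 : orderOf (LinearEquiv.det y) ∣ p := orderOf_dvd_of_pow_eq_one h1
      have h4 : orderOf (LinearEquiv.det y) ∣ Nat.card F - 1 := orderOf_dvd_of_pow_eq_one h2
      rcases (Nat.dvd_prime hp).1 h3 with h5 | h5
      · exact orderOf_eq_one_iff.1 h5
      · exfalso
        rw [h5] at h4
        exact hd h4
    obtain ⟨z, hz⟩ : ∃ z : SpecialLinearGroup F (Fin n → F), z.1 = y := ⟨⟨y, hdet⟩, rfl⟩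
    have hzv : ∀ v, z v = y v := by
      intro v
      rw [← hz]
    refine ⟨z, T, C, ?_, ⟨hcompl, ?_, ?_, ?_, ?_⟩, hC0, hT.finrank_eq hp hxp' hmov hpF⟩
    · apply Subtype.ext
      have h5 : (z ^ p).1 = z.1 ^ p := rfl
      rw [h5, hz, hyp]
      rfl
    · intro v hv
      rw [hzv, hy1 v hv]
      exact hT.inv v hv
    · intro v hv
      rw [hzv]
      exact hy2 v hv
    · intro v hv hzz
      rw [hzv, hy1 v hv] at hzz
      exact hfpf v hv hzz
    · intro S hS hSz
      by_cases hS0 : S = ⊥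
      · exact Or.inl hS0
      · right
        refine hT.min S hS ?_ hS0
        intro v hv
        have h5 := hSz v hv
        rwa [hzv, hy1 v (hS hv)] at h5

/-- **Mersenne primes**, uniform version. -/
theorem mersenne_uGood (hn : 3 ≤ n) {p k : ℕ} (hp : p.Prime) (hk : p + 1 = 2 ^ k)
    (hdvd : p ∣ Nat.card (SpecialLinearGroup F (Fin n → F))) :
    (∃ x : SpecialLinearGroup F (Fin n → F), x ^ p = 1 ∧ UGood 1 (p + 1) x) ∨
      ∀ k, p ∣ Nat.card F ^ k - 1 → n ∣ k := by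
  have := Fact.mk hp
  have hk0 : k ≠ 0 := by
    rintro rfl
    have := hp.pos
    omega
  have hp2 : p ≠ 2 := by
    rintro rfl
    obtain ⟨j, rfl⟩ := Nat.exists_eq_succ_of_ne_zero hk0
    rw [pow_succ] at hk
    omega
  have hk1 : k ≠ 1 := by
    rintro rfl
    have := hp.one_lt
    omega
  have hkp : k.Prime := by
    have h1 : 2 ^ k - 1 = p := by omega
    exact (Nat.prime_of_pow_sub_one_prime hk1 (by rw [h1]; exact hp)).2
  -- the order of `2`
  have hmod : ∀ t : ℕ, 2 ^ t ≡ 1 [MOD p] ↔ k ∣ t := by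
    have h1 : ((2 : ℕ) : ZMod p) ^ k = 1 := by
      have h3 : ((2 ^ k : ℕ) : ZMod p) = ((p + 1 : ℕ) : ZMod p) := by rw [hk]
      rw [Nat.cast_pow] at h3
      rw [h3]
      simp
    have h2 : orderOf ((2 : ℕ) : ZMod p) = k := by
      refine (Nat.dvd_prime hkp).1 (orderOf_dvd_of_pow_eq_one h1) |>.resolve_left ?_
      intro h3
      rw [orderOf_eq_one_iff] at h3
      have h4 : ((2 : ℕ) : ZMod p) = ((1 : ℕ) : ZMod p) := by rw [h3, Nat.cast_one]
      rw [ZMod.natCast_eq_natCast_iff] at h4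
      have h5 := (Nat.modEq_iff_dvd' (by norm_num : 1 ≤ 2)).1 h4.symm
      exact hp.one_lt.ne' (Nat.dvd_one.1 h5)
    intro t
    rw [← h2, orderOf_dvd_iff_pow_eq_one, ← ZMod.natCast_eq_natCast_iff, Nat.cast_pow,
      Nat.cast_one]
  have hM : ∀ t : ℕ, t ≠ 0 → 2 ^ t ≡ 1 [MOD p] → 2 ^ k ≤ 2 ^ t := by
    intro t ht h
    exact Nat.pow_le_pow_right (by norm_num) (Nat.le_of_dvd (Nat.pos_of_ne_zero ht)
      ((hmod t).1 h))
  obtain ⟨a, ha0, ha⟩ := exists_card_eq (F := F)
  by_cases hd : p ∣ Nat.card F - 1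
  · left
    rw [hk]
    exact exists_uGood_one hn hp hp2 hd hM
  have hpF : (p : F) ≠ 0 := by
    intro h
    rw [CharP.cast_eq_zero_iff F 2] at h
    exact hp2 ((Nat.prime_dvd_prime_iff_eq Nat.prime_two hp).1 h).symm
  refine (exists_LX hp hpF hd hdvd).imp_left ?_
  rintro ⟨x, A, B, hxp, h, hB0, hA⟩
  refine ⟨x, hxp, ?_⟩
  rw [hk]
  -- the dimension of `A`
  have hq1 : (1 : ℕ) ≤ 2 ^ a := Nat.one_le_two_pow
  have hq0 : ((Nat.card F : ℕ) : ZMod p) ≠ 0 := by
    rw [Ne, ZMod.natCast_eq_zero_iff, ha]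
    intro h1
    exact hp2 ((Nat.prime_dvd_prime_iff_eq hp Nat.prime_two).1 (hp.dvd_of_dvd_pow h1))
  have he0 : finrank F A ≠ 0 := by
    rw [hA, ← Units.val_mk0 hq0, orderOf_units]
    exact (orderOf_pos _).ne'
  have he1 : finrank F A ≠ 1 := by
    rw [hA]
    intro h1
    rw [orderOf_eq_one_iff] at h1
    apply hd
    have h4 : ((Nat.card F : ℕ) : ZMod p) = ((1 : ℕ) : ZMod p) := by rw [h1, Nat.cast_one]
    rw [ZMod.natCast_eq_natCast_iff] at h4
    exact (Nat.modEq_iff_dvd' Nat.card_pos).1 h4.symm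
  have hcA : Nat.card A = 2 ^ (a * finrank F A) := by
    rw [Module.natCard_eq_pow_finrank (K := F) (V := A), ha, ← pow_mul]
  have hkd : k ∣ a * finrank F A := by
    rw [← hmod, ← ZMod.natCast_eq_natCast_iff, Nat.cast_one, pow_mul, ← ha, Nat.cast_pow, hA]
    exact pow_orderOf_eq_one _
  by_cases ha1 : a = 1
  · subst ha1
    rw [one_mul] at hkd hcA
    have h2 : Nat.card F = 2 := by rw [ha, pow_one]
    have hAk : finrank F A = k := by
      apply Nat.dvd_antisymm _ hkd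
      rw [hA, h2]
      apply orderOf_dvd_of_pow_eq_one
      rw [← Nat.cast_pow, ← hk]
      simp
    exact h.uGood_two h2 hp hM hxp hB0 (by rw [hcA, hAk]) (by omega)
  · refine h.uGood hp hM hxp hB0 ?_
    rw [hcA]
    apply Nat.pow_lt_pow_right (by norm_num)
    refine lt_of_le_of_ne (Nat.le_of_dvd (Nat.mul_pos (by omega) (by omega)) hkd) ?_
    intro h1
    rw [h1] at hkp
    exact Nat.not_prime_mul ha1 he1 hkp

/-- **The row of S3578 for `SL_n(q)`**, Mersenne primes. -/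
theorem mersenne_SL (hn : 3 ≤ n) {p k : ℕ} (hp : p.Prime) (hk : p + 1 = 2 ^ k)
    (hdvd : p ∣ Nat.card (SpecialLinearGroup F (Fin n → F))) :
    FprRow (p + 1) 1 p (SpecialLinearGroup F (Fin n → F)) ∨
      ∀ k, p ∣ Nat.card F ^ k - 1 → n ∣ k := by
  refine (mersenne_uGood hn hp hk hdvd).imp_left ?_
  rintro ⟨x, hxp, h⟩ H hH
  obtain ⟨m, -, hm⟩ := (Nat.dvd_prime_pow hp).1
    (orderOf_dvd_of_pow_eq_one (show x ^ p ^ 1 = 1 by rw [pow_one, hxp]))
  exact ⟨x, ⟨m, hm⟩, h H hH⟩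

/-- **The row of S3578 for `PSL_n(q)`**, `n ≥ 3`, `q` even, Mersenne primes. -/
theorem mersenne_PSL (hn : 3 ≤ n) {p k : ℕ} (hp : p.Prime) (hk : p + 1 = 2 ^ k)
    (hdvd : p ∣ Nat.card (Matrix.ProjectiveSpecialLinearGroup (Fin n) F)) :
    FprRow (p + 1) 1 p (Matrix.ProjectiveSpecialLinearGroup (Fin n) F) ∨
      ∀ k, p ∣ Nat.card F ^ k - 1 → n ∣ k := by
  have hfin0 : Finite ((Fin n → F) ≃ₗ[F] (Fin n → F)) := instFin
  have hfin : Finite (SpecialLinearGroup F (Fin n → F)) := inferInstance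
  let e : SpecialLinearGroup F (Fin n → F) ≃* Matrix.SpecialLinearGroup (Fin n) F :=
    Matrix.SpecialLinearGroup.toLin'_equiv.symm
  let f : SpecialLinearGroup F (Fin n → F) →* Matrix.ProjectiveSpecialLinearGroup (Fin n) F :=
    (QuotientGroup.mk' (Subgroup.center (Matrix.SpecialLinearGroup (Fin n) F))).comp e.toMonoidHom
  have hf : Function.Surjective f := (QuotientGroup.mk'_surjective _).comp e.surjective
  refine (mersenne_SL hn hp hk (hdvd.trans ?_)).imp_left (FprRow.of_surjective hp f hf)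
  exact Subgroup.card_dvd_of_surjective f hf

end

end Cfsg.Agent.H435.Fpr
end

private theorem dce_6d065233b275 : _root_.True := by
  try have : _root_.True := by simp only [_root_.Cfsg.Agent.H435.Fpr.W0.congr_simp]
  exact _root_.True.intro
end

-- part: H452/FprHeisE
section
prune_inst 0x11000400262000000180580110000144c00019200230000c8000b400240630220020741048010120008220000000000010000e00040000004000400000400000088000010000100200006000084000000000000000000000000000000010004000000000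
set_option linter.all false
open scoped Cfsg.Agent.FastGrp

-- part: H452/FprHeisM
section
/-!
# Two Heisenberg radicals, Mersenne primes, exact ratio

`x` is a `p`-element, `p = 2 ^ k - 1`, centralises `Z`, normalises the Heisenberg group `Q` and has no
fixed points on `Q / Z`. With two opposite such groups the ratio is at most `1 / (p + 1)`.
-/

set_option autoImplicit false
open Subgroup MulAction
open scoped Pointwise

namespace Cfsg.Agent.H452.FprHeis

open Cfsg.Agent.H398.FPR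

section

variable {G X : Type*} [Group G] [MulAction G X] {x : G} {Q Z : Subgroup G}

/-- The weight is at least `p + 1` unless `Q` fixes the point. -/
theorem Heis.succ_le_wt [Finite G] [Finite X] (h : Heis x Q Z) {p k : ℕ} (hp : p.Prime)
    (hx : x ^ p ^ k = 1)
    (hcomm : ∀ z ∈ Z, ∃ a ∈ Q, ∃ b ∈ Q, z = a * b * a⁻¹ * b⁻¹) {ω : X} (hω : x • ω = ω)
    (hQ : ¬ Q ≤ stabilizer G ω) : ((p + 1 : ℕ) : ℚ) ≤ wt Q Z ω := by
  obtain ⟨S, hS⟩ : ∃ S : Subgroup G, S = Q ⊓ stabilizer G ω := ⟨_, rfl⟩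
  have hSQ : S ≤ Q := by rw [hS]; exact inf_le_left
  have hxS : x ∈ normalizer (S : Set G) := by rw [hS]; exact norm_inf h hω
  have hxB := norm_SZ (h := h) (hS := hSQ) hxS
  have h1 : ∃ r ∈ Q, r ∉ SZ h S hSQ := by
    by_contra hcon
    push Not at hcon
    apply hQ
    have := le_of_SZ_eq (h := h) (hS := hSQ) hcomm hcon
    rw [hS] at this
    exact this.trans inf_le_right
  obtain ⟨r, hrQ, hrB⟩ := h1
  have hQB : Q ≤ normalizer ((SZ h S hSQ : Subgroup G) : Set G) := by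
    have aux : ∀ g ∈ Q, ∀ b ∈ SZ h S hSQ, g * b * g⁻¹ ∈ SZ h S hSQ := by
      intro g hg b hb
      have h2 := mul_mem (Z_le_SZ (h := h) (hS := hSQ) (h.der g hg b (SZ_le hb))) hb
      have h3 : g * b * g⁻¹ * b⁻¹ * b = g * b * g⁻¹ := by group
      rwa [h3] at h2
    intro g hg
    rw [mem_normalizer_iff]
    intro b
    constructor
    · exact aux g hg b
    · intro hb
      have h2 := aux g⁻¹ (inv_mem hg) _ hb
      have h3 : g⁻¹ * (g * b * g⁻¹) * g⁻¹⁻¹ = b := by group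
      rwa [h3] at h2
  have hcard := card_coset_ge (j := 0) hp hx SZ_le h.norm hxB hQB hrQ (by
    intro h2
    rw [pow_zero, pow_one] at h2
    exact hrB (h.free_mod Z_le_SZ SZ_le hxB hrQ h2.2))
  have h2 := card_orbit_mul (T := Q) hS hSQ le_rfl
  have h3 := card_orbit_mul (T := SZ h S hSQ) hS le_SZ SZ_le
  rw [orbit_SZ (by rw [hS]; exact inf_le_right)] at h3
  rw [← h2, ← h3] at hcard
  have h4 : (p + 1) * (orbit Z ω).ncard ≤ (orbit Q ω).ncard := by
    have h5 : 0 < Nat.card S := Nat.card_pos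
    apply Nat.le_of_mul_le_mul_right _ h5
    calc (p + 1) * (orbit Z ω).ncard * Nat.card S =
          (p ^ (0 + 1) + 1) * ((orbit Z ω).ncard * Nat.card S) := by
          ring
      _ ≤ _ := hcard
  rw [wt, le_div_iff₀ (by exact_mod_cast orbit_ncard_pos Z ω)]
  exact_mod_cast h4

/-- A subgroup of index less than `2 ^ (k + 1)` and `k` elements generate. -/
theorem exists_gens [Finite G] {Q : Subgroup G} (k : ℕ) : ∀ {B : Subgroup G}, B ≤ Q →
    Nat.card Q < 2 ^ (k + 1) * Nat.card B →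
    ∃ g : Fin k → G, (∀ i, g i ∈ Q) ∧ Q ≤ B ⊔ Subgroup.closure (Set.range g) := by
  induction k with
  | zero =>
    intro B hB hlt
    refine ⟨fun _ => 1, fun i => i.elim0, ?_⟩
    by_contra hcon
    have h1 : B < Q := lt_of_le_of_ne hB (fun h => hcon (h ▸ le_sup_left))
    have := two_mul_card_le h1
    omega
  | succ k ih =>
    intro B hB hlt
    by_cases h1 : Q ≤ B
    · exact ⟨fun _ => 1, fun _ => one_mem _, h1.trans le_sup_left⟩
    obtain ⟨g0, hg0, hg0B⟩ := SetLike.not_le_iff_exists.1 h1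
    have hB1 : B < B ⊔ zpowers g0 := by
      refine lt_of_le_of_ne le_sup_left ?_
      intro h
      apply hg0B
      rw [h]
      exact (le_sup_right : zpowers g0 ≤ _) (mem_zpowers g0)
    have hB1Q : B ⊔ zpowers g0 ≤ Q := sup_le hB (by rwa [zpowers_le])
    have a1 := two_mul_card_le hB1
    obtain ⟨g, hg, hgen⟩ := ih hB1Q (by
      calc Nat.card Q < 2 ^ (k + 1 + 1) * Nat.card B := hlt
        _ = 2 ^ (k + 1) * (2 * Nat.card B) := by ring
        _ ≤ _ := Nat.mul_le_mul_left _ a1)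
    refine ⟨Fin.cons g0 g, ?_, ?_⟩
    · intro i
      refine Fin.cases hg0 (fun i => hg i) i
    · refine hgen.trans (sup_le (sup_le le_sup_left ?_) ?_)
      · rw [zpowers_le]
        exact (le_sup_right : Subgroup.closure _ ≤ _) (subset_closure ⟨0, rfl⟩)
      · refine le_trans (_root_.Subgroup.closure_mono ?_) le_sup_right
        rintro _ ⟨i, rfl⟩
        exact ⟨i.succ, rfl⟩

/-- The index of `S Z` in `Q` is at least `2 ^ (k + 1)` if `S ∩ Z = 1`. -/
theorem Heis.pow_le [Finite G] (h : Heis x Q Z) {Z0 : Subgroup G} {k : ℕ}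
    (hcen : ∀ g ∈ Q, (∀ a ∈ Q, g * a = a * g) → g ∈ Z0)
    (hbig : 2 ^ (k + 1) * (Nat.card Z ^ k * Nat.card Z0) ≤ Nat.card Q) {S : Subgroup G}
    {hS : S ≤ Q}
    (hSZ : ∀ z ∈ Z, z ∈ S → z = 1) : 2 ^ (k + 1) * Nat.card (SZ h S hS) ≤ Nat.card Q := by
  classical
  by_contra hcon
  push Not at hcon
  obtain ⟨g, hg, hgen⟩ := exists_gens k SZ_le hcon
  obtain ⟨B, hBdef⟩ : ∃ B, B = SZ h S hS := ⟨_, rfl⟩
  rw [← hBdef] at hcon hgen
  have hBQ : B ≤ Q := by rw [hBdef]; exact SZ_le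
  have hcommS : ∀ a ∈ S, ∀ b ∈ S, a * b = b * a := by
    intro a ha b hb
    have h2 := hSZ _ (h.der a (hS ha) b (hS hb))
      (mul_mem (mul_mem (mul_mem ha hb) (inv_mem ha)) (inv_mem hb))
    rw [mul_inv_eq_one, mul_inv_eq_iff_eq_mul] at h2
    exact h2
  have hcommB : ∀ a ∈ B, ∀ b ∈ B, a * b = b * a := by
    rw [hBdef]
    rintro _ ⟨s, hs, z1, hz1, rfl⟩ _ ⟨t, ht, z2, hz2, rfl⟩
    have e1 := h.cent z1 hz1 t (hS ht)
    have e2 := h.cent z2 hz2 s (hS hs)
    have e3 := h.cent z1 hz1 z2 (h.le hz2)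
    calc s * z1 * (t * z2) = s * (z1 * t) * z2 := by group
      _ = (s * t) * (z1 * z2) := by rw [e1]; group
      _ = (t * s) * (z2 * z1) := by rw [hcommS s hs t ht, e3]
      _ = t * (s * z2) * z1 := by group
      _ = t * z2 * (s * z1) := by rw [← e2]; group
  -- central elements
  have hC : ∀ b ∈ B, (∀ i, b * g i = g i * b) → b ∈ Z0 := by
    intro b hb hbg
    apply hcen b (hBQ hb)
    intro a ha
    have h1 : B ⊔ Subgroup.closure (Set.range g) ≤ Subgroup.centralizer {b} := by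
      refine sup_le ?_ ?_
      · intro c hc
        rw [mem_centralizer_singleton_iff]
        exact hcommB c hc b hb
      · rw [closure_le]
        rintro _ ⟨i, rfl⟩
        change g i ∈ Subgroup.centralizer {b}
        rw [mem_centralizer_singleton_iff]
        exact (hbg i).symm
    have h2 := h1 (hgen ha)
    rw [mem_centralizer_singleton_iff] at h2
    exact h2.symm
  -- counting
  let f : B → (Fin k → Z) := fun b i => ⟨b * g i * (b : G)⁻¹ * (g i)⁻¹, h.der b (hBQ b.2) _ (hg i)⟩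
  have := Fintype.ofFinite B
  have := Fintype.ofFinite Z
  have := Fintype.ofFinite Z0
  have hfib : ∀ v ∈ (Finset.univ : Finset B).image f,
      (Finset.univ.filter fun b : B => f b = v).card ≤ Nat.card Z0 := by
    intro v hv
    obtain ⟨b0, -, rfl⟩ := Finset.mem_image.1 hv
    rw [Nat.card_eq_fintype_card, ← Finset.card_univ]
    apply Finset.card_le_card_of_injOn (fun b : B => if hb : (b0 : G)⁻¹ * b ∈ Z0 then
      (⟨(b0 : G)⁻¹ * b, hb⟩ : Z0) else 1) (fun _ _ => Finset.mem_univ _)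
    have key : ∀ b : B, f b = f b0 → (b0 : G)⁻¹ * b ∈ Z0 := by
      intro b hb
      have e1 : ∀ i, (b : G) * g i * (b : G)⁻¹ * (g i)⁻¹ = b0 * g i * (b0 : G)⁻¹ * (g i)⁻¹ :=
        fun i => congrArg (fun v : Fin k → Z => (v i : G)) hb
      have aux : ∀ g : G, (b : G) * g * (b : G)⁻¹ * g⁻¹ = b0 * g * (b0 : G)⁻¹ * g⁻¹ →
          (b0 : G)⁻¹ * b * g = g * ((b0 : G)⁻¹ * b) := by
        intro g hg
        have h1 : (b : G) * g * (b : G)⁻¹ = b0 * g * (b0 : G)⁻¹ := mul_right_cancel hg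
        calc (b0 : G)⁻¹ * b * g = (b0 : G)⁻¹ * (b * g * (b : G)⁻¹) * b := by group
          _ = (b0 : G)⁻¹ * (b0 * g * (b0 : G)⁻¹) * b := by rw [h1]
          _ = _ := by group
      exact hC _ (mul_mem (inv_mem b0.2) b.2) (fun i => aux (g i) (e1 i))
    intro b hb c hc hbc
    have hb' := key b (Finset.mem_filter.1 hb).2
    have hc' := key c (Finset.mem_filter.1 hc).2
    simp only [hb', hc', dif_pos] at hbc
    have h1 : (b0 : G)⁻¹ * b = (b0 : G)⁻¹ * c := congrArg Subtype.val hbc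
    exact Subtype.ext (mul_left_cancel h1)
  have h1 := Finset.card_le_mul_card_image (Finset.univ : Finset B) _ hfib
  have h2 : ((Finset.univ : Finset B).image f).card ≤ Nat.card Z ^ k := by
    calc ((Finset.univ : Finset B).image f).card ≤ (Finset.univ : Finset (Fin k → Z)).card :=
          Finset.card_le_card (Finset.subset_univ _)
      _ = Nat.card Z ^ k := by
        rw [Finset.card_univ, Fintype.card_fun, Fintype.card_fin, Nat.card_eq_fintype_card]
  rw [Finset.card_univ, ← Nat.card_eq_fintype_card] at h1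
  have h3 : Nat.card B ≤ Nat.card Z ^ k * Nat.card Z0 := by
    calc Nat.card B ≤ _ := h1
      _ ≤ Nat.card Z0 * (Nat.card Z ^ k) := Nat.mul_le_mul_left _ h2
      _ = _ := by ring
  have h4 : 2 ^ (k + 1) * Nat.card B ≤ 2 ^ (k + 1) * (Nat.card Z ^ k * Nat.card Z0) :=
    Nat.mul_le_mul_left _ h3
  omega

theorem Heis.pow_le_wt [Finite G] [Finite X] (h : Heis x Q Z) {Z0 : Subgroup G} {k : ℕ}
    (hcen : ∀ g ∈ Q, (∀ a ∈ Q, g * a = a * g) → g ∈ Z0)
    (hbig : 2 ^ (k + 1) * (Nat.card Z ^ k * Nat.card Z0) ≤ Nat.card Q) {ω : X}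
    (hSZ : ∀ z ∈ Z, z ∈ stabilizer G ω → z = 1) : ((2 ^ (k + 1) : ℕ) : ℚ) ≤ wt Q Z ω := by
  obtain ⟨S, hS⟩ : ∃ S : Subgroup G, S = Q ⊓ stabilizer G ω := ⟨_, rfl⟩
  have hSQ : S ≤ Q := by rw [hS]; exact inf_le_left
  have hcard := h.pow_le hcen hbig (S := S) (hS := hSQ) (fun z hz hzS => by
    rw [hS] at hzS
    exact hSZ z hz hzS.2)
  have h2 := card_orbit_mul (T := Q) hS hSQ le_rfl
  have h3 := card_orbit_mul (T := SZ h S hSQ) hS le_SZ SZ_le
  rw [orbit_SZ (by rw [hS]; exact inf_le_right)] at h3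
  rw [← h2, ← h3] at hcard
  have h4 : 2 ^ (k + 1) * (orbit Z ω).ncard ≤ (orbit Q ω).ncard := by
    have h5 : 0 < Nat.card S := Nat.card_pos
    apply Nat.le_of_mul_le_mul_right _ h5
    calc 2 ^ (k + 1) * (orbit Z ω).ncard * Nat.card S =
        2 ^ (k + 1) * ((orbit Z ω).ncard * Nat.card S) := by ring
      _ ≤ _ := hcard
  rw [wt, le_div_iff₀ (by exact_mod_cast orbit_ncard_pos Z ω)]
  exact_mod_cast h4

end

/-- **The ratio `1 / (p + 1)`, `p = 2 ^ k - 1`, from two opposite Heisenberg radicals.** -/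
theorem heis_mersenne {G : Type*} [Group G] [Finite G] {x : G} {Q1 Q2 Z1 Z2 W1 W2 : Subgroup G}
    {p k j : ℕ} (hp : p.Prime) (hpk : p + 1 = 2 ^ k)
    (hx : x ^ p ^ j = 1) (h1 : Heis x Q1 Z1) (h2 : Heis x Q2 Z2)
    (hcomm1 : ∀ z ∈ Z1, ∃ a ∈ Q1, ∃ b ∈ Q1, z = a * b * a⁻¹ * b⁻¹)
    (hcomm2 : ∀ z ∈ Z2, ∃ a ∈ Q2, ∃ b ∈ Q2, z = a * b * a⁻¹ * b⁻¹)
    (hcen1 : ∀ g ∈ Q1, (∀ a ∈ Q1, g * a = a * g) → g ∈ W1)
    (hcen2 : ∀ g ∈ Q2, (∀ a ∈ Q2, g * a = a * g) → g ∈ W2)
    (hbig1 : 2 ^ (k + 1) * (Nat.card Z1 ^ k * Nat.card W1) ≤ Nat.card Q1)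
    (hbig2 : 2 ^ (k + 1) * (Nat.card Z2 ^ k * Nat.card W2) ≤ Nat.card Q2)
    (hg1 : ∀ H : Subgroup G, Q1 ≤ H → ∀ z ∈ Z2, z ≠ 1 → z ∈ H → H = ⊤)
    (hg2 : ∀ H : Subgroup G, Q2 ≤ H → ∀ z ∈ Z1, z ≠ 1 → z ∈ H → H = ⊤) : UGood 1 (p + 1) x := by
  classical
  intro H hH
  have := Fintype.ofFinite (G ⧸ H)
  have a1 := h1.sum_wt (X := G ⧸ H)
  have a2 := h2.sum_wt (X := G ⧸ H)
  have e2 : ((2 ^ (k + 1) : ℕ) : ℚ) = 2 * ((p + 1 : ℕ) : ℚ) := by
    rw [hpk]; push_cast; ring
  have hw : ∀ ω ∈ Finset.univ.filter (fun ω : G ⧸ H => x • ω = ω),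
      2 * ((p + 1 : ℕ) : ℚ) ≤ wt Q1 Z1 ω + wt Q2 Z2 ω := by
    intro ω hω
    have hxω : x • ω = ω := (Finset.mem_filter.1 hω).2
    have hst := stabilizer_ne_top' hH ω
    have w1 := one_le_wt h1.le ω
    have w2 := one_le_wt h2.le ω
    by_cases b1 : Q1 ≤ stabilizer G ω
    · have := h2.pow_le_wt hcen2 hbig2 (ω := ω) (fun z hz hzH => by
        by_contra hz1
        exact hst (hg1 _ b1 z hz hz1 hzH))
      rw [e2] at this
      linarith only [w1, this]
    · by_cases b2 : Q2 ≤ stabilizer G ω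
      · have := h1.pow_le_wt hcen1 hbig1 (ω := ω) (fun z hz hzH => by
          by_contra hz1
          exact hst (hg2 _ b2 z hz hz1 hzH))
        rw [e2] at this
        linarith only [w2, this]
      · have c1 := h1.succ_le_wt hp hx hcomm1 hxω b1
        have c2 := h2.succ_le_wt hp hx hcomm2 hxω b2
        linarith only [c1, c2]
  have h3 := Finset.sum_le_sum hw
  rw [Finset.sum_add_distrib, Finset.sum_const, nsmul_eq_mul] at h3
  have h4 : (Finset.univ.filter (fun ω : G ⧸ H => x • ω = ω)).card =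
      Nat.card (fixedBy (G ⧸ H) x) := by
    rw [Nat.card_coe_set_eq, Set.ncard_eq_toFinset_card']
    congr 1
    ext y
    simp [mem_fixedBy]
  rw [h4] at h3
  rw [← Nat.card_eq_fintype_card] at a1 a2
  have h5 : (Nat.card (fixedBy (G ⧸ H) x) : ℚ) * (2 * ((p + 1 : ℕ) : ℚ)) ≤
      2 * (Nat.card (G ⧸ H) : ℚ) := by linarith only [a1, a2, h3]
  have h6 : Nat.card (fixedBy (G ⧸ H) x) * (2 * (p + 1)) ≤ 2 * Nat.card (G ⧸ H) := by
    exact_mod_cast h5
  linarith only [h6]

end Cfsg.Agent.H452.FprHeis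
end

-- part: H452/FprHeisT
section
/-!
# Heisenberg groups from generators

Criteria for `Heis x (closure T) Z` from properties of the generators, the number of elements, and the
toggling calculus for the action on an elementary abelian quotient.
-/

set_option autoImplicit false
open Subgroup MulAction

namespace Cfsg.Agent.H452.HeisT

open Cfsg.Agent.H452.FprHeis

section

variable {G : Type*} [Group G] {T : Set G} {Z : Subgroup G}

theorem cent_of (hZ : ∀ z ∈ Z, ∀ t ∈ T, z * t = t * z) :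
    ∀ z ∈ Z, ∀ g ∈ Subgroup.closure T, z * g = g * z := by
  intro z hz g hg
  have h1 : Subgroup.closure T ≤ Subgroup.centralizer {z} := by
    rw [closure_le]
    intro t ht
    change t ∈ Subgroup.centralizer {z}
    rw [mem_centralizer_singleton_iff]
    exact (hZ z hz t ht).symm
  have h2 := h1 hg
  rw [mem_centralizer_singleton_iff] at h2
  exact h2.symm

theorem der_of (hZ : ∀ z ∈ Z, ∀ t ∈ T, z * t = t * z)
    (hT : ∀ s ∈ T, ∀ t ∈ T, s * t * s⁻¹ * t⁻¹ ∈ Z) :
    ∀ a ∈ Subgroup.closure T, ∀ b ∈ Subgroup.closure T, a * b * a⁻¹ * b⁻¹ ∈ Z := by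
  have hc := cent_of hZ
  have h1 : ∀ t ∈ T, ∀ a ∈ Subgroup.closure T, a * t * a⁻¹ * t⁻¹ ∈ Z := by
    intro t ht a ha
    refine Subgroup.closure_induction (p := fun a _ => a * t * a⁻¹ * t⁻¹ ∈ Z) ?_ ?_ ?_ ?_ ha
    · intro s hs
      exact hT s hs t ht
    · have : (1 : G) * t * 1⁻¹ * t⁻¹ = 1 := by group
      rw [this]
      exact one_mem _
    · intro a b ha hb ha' hb'
      have h2 := hc _ hb' a ha
      have h3 : a * b * t * (a * b)⁻¹ * t⁻¹ = (b * t * b⁻¹ * t⁻¹) * (a * t * a⁻¹ * t⁻¹) := by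
        calc a * b * t * (a * b)⁻¹ * t⁻¹ = a * (b * t * b⁻¹ * t⁻¹) * (t * a⁻¹ * t⁻¹) := by group
          _ = (b * t * b⁻¹ * t⁻¹) * a * (t * a⁻¹ * t⁻¹) := by rw [h2]
          _ = _ := by group
      rw [h3]
      exact mul_mem hb' ha'
    · intro a ha ha'
      have h2 := hc _ ha' a ha
      have h3 : a⁻¹ * t * a⁻¹⁻¹ * t⁻¹ = (a * t * a⁻¹ * t⁻¹)⁻¹ := by
        have h4 : a⁻¹ * (a * t * a⁻¹ * t⁻¹) * a = a * t * a⁻¹ * t⁻¹ := by
          rw [mul_assoc, h2, ← mul_assoc, inv_mul_cancel, one_mul]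
        rw [← h4]
        group
      rw [h3]
      exact inv_mem ha'
  intro a ha b hb
  refine Subgroup.closure_induction (p := fun b _ => a * b * a⁻¹ * b⁻¹ ∈ Z) ?_ ?_ ?_ ?_ hb
  · intro t ht
    exact h1 t ht a ha
  · have : a * 1 * a⁻¹ * (1 : G)⁻¹ = 1 := by group
    rw [this]
    exact one_mem _
  · intro b c hb hc1 hb' hc'
    have h2 := hc _ hc' b hb
    have h3 : a * (b * c) * a⁻¹ * (b * c)⁻¹ = (a * b * a⁻¹ * b⁻¹) * (a * c * a⁻¹ * c⁻¹) := by
      calc a * (b * c) * a⁻¹ * (b * c)⁻¹ = a * b * a⁻¹ * ((a * c * a⁻¹ * c⁻¹) * b⁻¹) := by group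
        _ = a * b * a⁻¹ * (b⁻¹ * (a * c * a⁻¹ * c⁻¹)) := by
          have h4 : (a * c * a⁻¹ * c⁻¹) * b⁻¹ = b⁻¹ * (a * c * a⁻¹ * c⁻¹) :=
            hc _ hc' _ (inv_mem hb)
          rw [h4]
        _ = _ := by group
    rw [h3]
    exact mul_mem hb' hc'
  · intro b hb hb'
    have h2 := hc _ hb' b hb
    have h3 : a * b⁻¹ * a⁻¹ * b⁻¹⁻¹ = (a * b * a⁻¹ * b⁻¹)⁻¹ := by
      have h4 : b⁻¹ * (a * b * a⁻¹ * b⁻¹) * b = a * b * a⁻¹ * b⁻¹ := by
        rw [mul_assoc, h2, ← mul_assoc, inv_mul_cancel, one_mul]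
      rw [← h4]
      group
    rw [h3]
    exact inv_mem hb'

/-- **`Heis` from generators.** -/
theorem heis_of [Finite G] {x : G} (hle : Z ≤ Subgroup.closure T)
    (hZ : ∀ z ∈ Z, ∀ t ∈ T, z * t = t * z)
    (hT : ∀ s ∈ T, ∀ t ∈ T, s * t * s⁻¹ * t⁻¹ ∈ Z) (hfix : ∀ z ∈ Z, x * z = z * x)
    (hnorm : ∀ t ∈ T, x * t * x⁻¹ ∈ Subgroup.closure T)
    (hsurj : ∀ t ∈ T, ∃ s ∈ Subgroup.closure T, (x * s * x⁻¹ * s⁻¹) * t⁻¹ ∈ Z) :
    Heis x (Subgroup.closure T) Z := by
  classical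
  have hc := cent_of hZ
  have hd := der_of hZ hT
  obtain ⟨R, hR⟩ : ∃ R, R = Subgroup.closure T := ⟨_, rfl⟩
  have hn : ∀ r ∈ Subgroup.closure T, x * r * x⁻¹ ∈ Subgroup.closure T := by
    have h1 : Subgroup.closure T ≤ (Subgroup.closure T).comap (MulAut.conj x).toMonoidHom := by
      rw [closure_le]
      intro t ht
      exact hnorm t ht
    exact fun r hr => h1 hr
  rw [← hR] at hle hc hd hn hsurj ⊢
  -- the commutator is surjective modulo `Z`
  have hS : ∀ b ∈ R, ∃ c ∈ R, (x * c * x⁻¹ * c⁻¹) * b⁻¹ ∈ Z := by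
    intro b hb
    rw [hR] at hb
    have hTR : ∀ t ∈ Subgroup.closure T, t ∈ R := by rw [hR]; exact fun t ht => ht
    refine Subgroup.closure_induction
      (p := fun b _ => ∃ c ∈ R, (x * c * x⁻¹ * c⁻¹) * b⁻¹ ∈ Z) ?_ ?_ ?_ ?_ hb
    · intro t ht
      exact hsurj t ht
    · refine ⟨1, one_mem _, ?_⟩
      have : x * 1 * x⁻¹ * (1 : G)⁻¹ * (1 : G)⁻¹ = 1 := by group
      rw [this]
      exact one_mem _
    · rintro a b ha hb ⟨c, hcR, hcz⟩ ⟨d, hdR, hdz⟩
      refine ⟨c * d, mul_mem hcR hdR, ?_⟩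
      have ha' := hTR a ha
      have hb' := hTR b hb
      -- modulo `Z` everything commutes
      obtain ⟨c', hc'⟩ : ∃ c', c' = x * c * x⁻¹ := ⟨_, rfl⟩
      obtain ⟨d', hd'⟩ : ∃ d', d' = x * d * x⁻¹ := ⟨_, rfl⟩
      have hc'R : c' ∈ R := hc' ▸ hn c hcR
      have hd'R : d' ∈ R := hd' ▸ hn d hdR
      rw [← hc'] at hcz
      rw [← hd'] at hdz
      have e1 : x * (c * d) * x⁻¹ = c' * d' := by rw [hc', hd']; group
      rw [e1]
      obtain ⟨u, hu⟩ : ∃ u, u = c' * c⁻¹ * a⁻¹ := ⟨_, rfl⟩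
      obtain ⟨v, hv⟩ : ∃ v, v = d' * d⁻¹ * b⁻¹ := ⟨_, rfl⟩
      rw [← hu] at hcz
      rw [← hv] at hdz
      have eu : c' = u * a * c := by rw [hu]; group
      have ev : d' = v * b * d := by rw [hv]; group
      -- `c' d' (c d)⁻¹ (a b)⁻¹ = u a c v b d d⁻¹ c⁻¹ b⁻¹ a⁻¹ = u v a [c, b] a⁻¹`
      have k1 := hd c hcR b hb'
      have k2 : c' * d' * (c * d)⁻¹ * (a * b)⁻¹ = u * v * (c * b * c⁻¹ * b⁻¹) := by
        calc c' * d' * (c * d)⁻¹ * (a * b)⁻¹ = u * (a * c) * v * b * c⁻¹ * b⁻¹ * a⁻¹ := by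
              rw [eu, ev]; group
          _ = u * (v * (a * c)) * b * c⁻¹ * b⁻¹ * a⁻¹ := by
            rw [hc v hdz (a * c) (mul_mem ha' hcR)]; group
          _ = u * v * (a * (c * b * c⁻¹ * b⁻¹)) * a⁻¹ := by group
          _ = u * v * ((c * b * c⁻¹ * b⁻¹) * a) * a⁻¹ := by rw [hc _ k1 a ha']
          _ = _ := by group
      rw [k2]
      exact mul_mem (mul_mem hcz hdz) k1
    · rintro a ha ⟨c, hcR, hcz⟩
      have ha' := hTR a ha
      refine ⟨c⁻¹, inv_mem hcR, ?_⟩
      obtain ⟨c', hc'⟩ : ∃ c', c' = x * c * x⁻¹ := ⟨_, rfl⟩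
      have hc'R : c' ∈ R := hc' ▸ hn c hcR
      rw [← hc'] at hcz
      obtain ⟨u, hu⟩ : ∃ u, u = c' * c⁻¹ * a⁻¹ := ⟨_, rfl⟩
      rw [← hu] at hcz
      have eu : c' = u * a * c := by rw [hu]; group
      have e1 : x * c⁻¹ * x⁻¹ = c'⁻¹ := by rw [hc']; group
      rw [e1]
      -- `c⁻¹ a⁻¹ u⁻¹ c a = u⁻¹ c⁻¹ a⁻¹ c a`
      have k1 := hd c⁻¹ (inv_mem hcR) a⁻¹ (inv_mem ha')
      have k2 : c'⁻¹ * c⁻¹⁻¹ * a⁻¹⁻¹ = u⁻¹ * (c⁻¹ * a⁻¹ * c⁻¹⁻¹ * a⁻¹⁻¹) := by
        calc c'⁻¹ * c⁻¹⁻¹ * a⁻¹⁻¹ = c⁻¹ * a⁻¹ * u⁻¹ * (c * a) := by rw [eu]; group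
          _ = u⁻¹ * (c⁻¹ * a⁻¹) * (c * a) := by
            rw [hc _ (inv_mem hcz) (c⁻¹ * a⁻¹) (mul_mem (inv_mem hcR) (inv_mem ha'))]
          _ = _ := by group
      rw [k2]
      exact mul_mem (inv_mem hcz) k1
  refine ⟨hle, hc, hd, ?_, hfix, ?_⟩
  · -- normaliser
    let f : R → R := fun y => ⟨x * y * x⁻¹, hn y y.2⟩
    have hf : Function.Injective f := by
      intro a b hab
      have h1 : x * a * x⁻¹ = x * b * x⁻¹ := congrArg Subtype.val hab
      exact Subtype.ext (mul_left_cancel (mul_right_cancel h1))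
    rw [mem_normalizer_iff]
    intro y
    refine ⟨hn y, fun hy => ?_⟩
    obtain ⟨z, hz⟩ := (Finite.injective_iff_surjective.1 hf) ⟨_, hy⟩
    have h1 : x * z * x⁻¹ = x * y * x⁻¹ := congrArg Subtype.val hz
    have h2 : (z : G) = y := mul_left_cancel (mul_right_cancel h1)
    rw [← h2]
    exact z.2
  · -- injectivity modulo `Z`
    let N : Subgroup R := Z.subgroupOf R
    have hmem : ∀ c : R, x * c * x⁻¹ * (c : G)⁻¹ ∈ R := fun c =>
      mul_mem (hn c c.2) (inv_mem c.2)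
    -- `[x, c z] = [x, c]`
    have hz1 : ∀ c ∈ R, ∀ z ∈ Z, x * (c * z) * x⁻¹ * (c * z)⁻¹ = x * c * x⁻¹ * c⁻¹ := by
      intro c hcR z hz
      have hxz : x * z * x⁻¹ = z := by rw [hfix z hz]; group
      calc x * (c * z) * x⁻¹ * (c * z)⁻¹ = x * c * x⁻¹ * (x * z * x⁻¹) * z⁻¹ * c⁻¹ := by group
        _ = x * c * x⁻¹ * c⁻¹ := by rw [hxz]; group
    let f : R ⧸ N → R ⧸ N := Quotient.map' (fun c : R => ⟨x * c * x⁻¹ * (c : G)⁻¹, hmem c⟩)
      (by
        intro a c hac
        rw [QuotientGroup.leftRel_apply] at hac ⊢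
        rw [mem_subgroupOf] at hac ⊢
        have hz : (a : G)⁻¹ * c ∈ Z := hac
        have e0 : (c : G) = a * ((a : G)⁻¹ * c) := by group
        have e : x * (c : G) * x⁻¹ * (c : G)⁻¹ = x * (a : G) * x⁻¹ * (a : G)⁻¹ := by
          rw [e0]
          exact hz1 a a.2 _ hz
        have e2 : (((⟨x * a * x⁻¹ * (a : G)⁻¹, hmem a⟩ : R)⁻¹ *
            ⟨x * c * x⁻¹ * (c : G)⁻¹, hmem c⟩ : R) : G) = 1 := by
          push_cast
          rw [e]
          group
        rw [e2]
        exact one_mem _)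
    have hsf : Function.Surjective f := by
      intro v
      obtain ⟨b, rfl⟩ := QuotientGroup.mk_surjective v
      obtain ⟨c, hcR, hcz⟩ := hS b b.2
      refine ⟨((⟨c, hcR⟩ : R) : R ⧸ N), ?_⟩
      change (((⟨x * c * x⁻¹ * (c : G)⁻¹, hmem ⟨c, hcR⟩⟩ : R) : R ⧸ N)) = ((b : R) : R ⧸ N)
      rw [eq_comm, QuotientGroup.eq, mem_subgroupOf]
      change (b : G)⁻¹ * (x * c * x⁻¹ * c⁻¹) ∈ Z
      have h5 := hc _ hcz b b.2
      have h6 : (b : G)⁻¹ * (x * c * x⁻¹ * c⁻¹) = x * c * x⁻¹ * c⁻¹ * (b : G)⁻¹ := by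
        calc (b : G)⁻¹ * (x * c * x⁻¹ * c⁻¹) = (b : G)⁻¹ * ((x * c * x⁻¹ * c⁻¹ * (b : G)⁻¹) * b) := by
              group
          _ = (b : G)⁻¹ * (b * (x * c * x⁻¹ * c⁻¹ * (b : G)⁻¹)) := by rw [h5]
          _ = _ := by group
      rw [h6]
      exact hcz
    have hinj := Finite.injective_iff_surjective.2 hsf
    intro r hr hrz
    have h7 : f ((⟨r, hr⟩ : R) : R ⧸ N) = f ((1 : R) : R ⧸ N) := by
      change (((⟨x * r * x⁻¹ * (r : G)⁻¹, hmem ⟨r, hr⟩⟩ : R) : R ⧸ N)) =
        (((⟨x * ((1 : R) : G) * x⁻¹ * ((1 : R) : G)⁻¹, hmem 1⟩ : R) : R ⧸ N))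
      rw [QuotientGroup.eq, mem_subgroupOf]
      change (x * r * x⁻¹ * (r : G)⁻¹)⁻¹ * (x * ((1 : R) : G) * x⁻¹ * ((1 : R) : G)⁻¹) ∈ Z
      have e1 : x * ((1 : R) : G) * x⁻¹ * ((1 : R) : G)⁻¹ = 1 := by push_cast; group
      rw [e1, mul_one]
      exact inv_mem hrz
    have h8 := hinj h7
    rw [QuotientGroup.eq, mem_subgroupOf] at h8
    have h9 : (r : G)⁻¹ * 1 ∈ Z := h8
    rw [mul_one] at h9
    exact inv_mem_iff.1 h9

/-- **The order of a Heisenberg group.** -/
theorem big_of [Finite G] {R Z : Subgroup G} (hc : ∀ z ∈ Z, ∀ g ∈ R, z * g = g * z)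
    (hd : ∀ a ∈ R, ∀ b ∈ R, a * b * a⁻¹ * b⁻¹ ∈ Z) {N : ℕ} {c : Fin N → G} (hcR : ∀ i, c i ∈ R)
    (hs : ∀ i, ∀ z ∈ Z, ∃ g ∈ R, g * c i * g⁻¹ * (c i)⁻¹ = z ∧ ∀ j, j ≠ i → g * c j = c j * g) :
    Nat.card Z ^ N * Nat.card ↥(R ⊓ Subgroup.centralizer (R : Set G)) ≤ Nat.card R := by
  classical
  have hmul : ∀ a ∈ R, ∀ b ∈ R, ∀ c ∈ R,
      a * b * c * (a * b)⁻¹ * c⁻¹ = (a * c * a⁻¹ * c⁻¹) * (b * c * b⁻¹ * c⁻¹) := by
    intro a ha b hb c hcc
    have h2 := hc _ (hd b hb c hcc) a ha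
    have h3 := hc _ (hd b hb c hcc) (a * c * a⁻¹ * c⁻¹)
      (mul_mem (mul_mem (mul_mem ha hcc) (inv_mem ha)) (inv_mem hcc))
    calc a * b * c * (a * b)⁻¹ * c⁻¹ = a * (b * c * b⁻¹ * c⁻¹) * (c * a⁻¹ * c⁻¹) := by group
      _ = (b * c * b⁻¹ * c⁻¹) * a * (c * a⁻¹ * c⁻¹) := by rw [h2]
      _ = (b * c * b⁻¹ * c⁻¹) * (a * c * a⁻¹ * c⁻¹) := by group
      _ = _ := h3
  let θ : R →* (Fin N → R) :=
    { toFun := fun g i => ⟨g * c i * (g : G)⁻¹ * (c i)⁻¹,
        mul_mem (mul_mem (mul_mem g.2 (hcR i)) (inv_mem g.2)) (inv_mem (hcR i))⟩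
      map_one' := by
        funext i
        apply Subtype.ext
        change ((1 : R) : G) * c i * ((1 : R) : G)⁻¹ * (c i)⁻¹ = 1
        push_cast
        group
      map_mul' := by
        intro a b
        funext i
        apply Subtype.ext
        change ((a : G) * b) * c i * ((a : G) * b)⁻¹ * (c i)⁻¹ = _
        exact hmul a a.2 b b.2 _ (hcR i) }
  have hθ : ∀ (g : R) (i : Fin N), ((θ g i : R) : G) = g * c i * (g : G)⁻¹ * (c i)⁻¹ := fun _ _ => rfl
  -- the image
  have h1 : ∀ v : Fin N → Z, ∃ g : R, ∀ i, ((θ g i : R) : G) = v i := by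
    intro v
    have key : ∀ s : Finset (Fin N), ∃ g : R, ∀ i, ((θ g i : R) : G) = if i ∈ s then (v i : G) else 1 := by
      intro s
      induction s using Finset.induction_on with
      | empty =>
        refine ⟨1, fun i => ?_⟩
        rw [map_one]
        simp
      | insert j s hj ih =>
        obtain ⟨g, hg⟩ := ih
        obtain ⟨h, hhR, hh1, hh2⟩ := hs j (v j) (v j).2
        refine ⟨g * ⟨h, hhR⟩, fun i => ?_⟩
        rw [map_mul, Pi.mul_apply]
        push_cast
        rw [hg i, hθ]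
        by_cases hij : i = j
        · subst hij
          rw [if_neg hj, if_pos (Finset.mem_insert_self _ _), one_mul]
          exact hh1
        · have h3 := hh2 i hij
          have h4 : ((⟨h, hhR⟩ : R) : G) * c i * ((⟨h, hhR⟩ : R) : G)⁻¹ * (c i)⁻¹ = 1 := by
            change h * c i * h⁻¹ * (c i)⁻¹ = 1
            rw [h3]
            group
          rw [h4, mul_one]
          have h5 : i ∈ insert j s ↔ i ∈ s := by
            rw [Finset.mem_insert]
            exact ⟨fun h => h.resolve_left hij, Or.inr⟩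
          simp only [h5]
    obtain ⟨g, hg⟩ := key Finset.univ
    exact ⟨g, fun i => by rw [hg i, if_pos (Finset.mem_univ i)]⟩
  have h2 : Nat.card Z ^ N ≤ Nat.card θ.range := by
    have h3 : Nat.card (Fin N → Z) = Nat.card Z ^ N := by
      rw [Nat.card_fun, Nat.card_fin]
    rw [← h3]
    choose g hg using h1
    refine Nat.card_le_card_of_injective (fun v : Fin N → Z => (⟨θ (g v), g v, rfl⟩ : θ.range)) ?_
    intro v w hvw
    funext i
    apply Subtype.ext
    rw [← hg v i, ← hg w i]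
    exact congrArg (fun u : θ.range => ((u.1 i : R) : G)) hvw
  have h4 : Nat.card ↥(R ⊓ Subgroup.centralizer (R : Set G)) ≤ Nat.card θ.ker := by
    refine Nat.card_le_card_of_injective (fun w => (⟨⟨w.1, w.2.1⟩, ?_⟩ : θ.ker)) ?_
    · rw [MonoidHom.mem_ker]
      funext i
      apply Subtype.ext
      rw [hθ]
      change (w : G) * c i * (w : G)⁻¹ * (c i)⁻¹ = 1
      have h5 := (mem_centralizer_iff.1 w.2.2) (c i) (hcR i)
      rw [← h5]
      group
    · intro v w hvw
      have h6 := congrArg (fun u : θ.ker => ((u.1 : R) : G)) hvw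
      exact Subtype.ext h6
  have h5 : Nat.card θ.ker * Nat.card θ.range = Nat.card R := by
    rw [← Subgroup.index_ker, Subgroup.card_mul_index]
  rw [← h5, mul_comm (Nat.card θ.ker)]
  exact Nat.mul_le_mul h2 h4

end

/-! ### Toggling -/

/-- add or remove -/
def toggle (γ : ℕ) (S : List ℕ) : List ℕ := if γ ∈ S then S.erase γ else γ :: S

/-- the action of a root element on a set of roots -/
def act1 (m : ℕ → Option ℕ) (S : List ℕ) : List ℕ :=
  S.foldr (fun γ acc => toggle γ ((m γ).elim acc fun k => toggle k acc)) []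

/-- the action of a word -/
def acts (m : ℕ → ℕ → Option ℕ) (w : List ℕ) (S : List ℕ) : List ℕ :=
  w.foldr (fun a acc => act1 (m a) acc) S

section

variable {A : Type*} [CommGroup A] {e : ℕ → A}

theorem prod_toggle (he : ∀ γ, e γ * e γ = 1) (γ : ℕ) (S : List ℕ) :
    ((toggle γ S).map e).prod = e γ * (S.map e).prod := by
  unfold toggle
  split_ifs with h
  · have h1 : (S.map e).prod = e γ * ((S.erase γ).map e).prod := by
      rw [← List.prod_cons, ← List.map_cons]
      exact ((List.perm_cons_erase h).map e).prod_eq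
    rw [h1, ← mul_assoc, he, one_mul]
  · rw [List.map_cons, List.prod_cons]

theorem prod_foldr_toggle (he : ∀ γ, e γ * e γ = 1) (V S : List ℕ) :
    ((V.foldr toggle S).map e).prod = (V.map e).prod * (S.map e).prod := by
  induction V with
  | nil => simp
  | cons a V ih =>
    rw [List.foldr_cons, prod_toggle he, ih, List.map_cons, List.prod_cons, mul_assoc]

theorem prod_act1 (he : ∀ γ, e γ * e γ = 1) (m : ℕ → Option ℕ) (S : List ℕ) :
    ((act1 m S).map e).prod = (S.map fun γ => e γ * (m γ).elim 1 e).prod := by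
  unfold act1
  induction S with
  | nil => simp
  | cons a S ih =>
    rw [List.foldr_cons, prod_toggle he, List.map_cons, List.prod_cons, ← ih, mul_assoc]
    congr 1
    cases h : m a with
    | none =>
      change _ = 1 * _
      rw [one_mul]
      rfl
    | some k => exact prod_toggle he k _

end

end Cfsg.Agent.H452.HeisT
end

-- part: H452/FprHeisU
section
/-!
# The toggling calculus: surjectivity of `[y, ·]` modulo `Z`
-/

set_option autoImplicit false
open Subgroup MulAction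

namespace Cfsg.Agent.H452.HeisT

open Cfsg.Agent.H452.FprHeis

universe u

/-- the commutative quotient -/
theorem exists_quot {G : Type u} [Group G] {R Z : Subgroup G}
    (hc : ∀ z ∈ Z, ∀ g ∈ R, z * g = g * z) (hd : ∀ a ∈ R, ∀ b ∈ R, a * b * a⁻¹ * b⁻¹ ∈ Z) :
    ∃ (A : Type u) (_ : CommGroup A) (π : R →* A), ∀ r : R, π r = 1 ↔ (r : G) ∈ Z := by
  let N : Subgroup R := Z.subgroupOf R
  have hN : N.Normal := by
    constructor
    intro n hn g
    rw [mem_subgroupOf] at hn ⊢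
    change (g : G) * n * (g : G)⁻¹ ∈ Z
    rw [← hc _ hn g g.2, mul_inv_cancel_right]
    exact hn
  refine ⟨R ⧸ N, { (inferInstance : Group (R ⧸ N)) with mul_comm := ?_ }, QuotientGroup.mk' N, ?_⟩
  · intro a b
    obtain ⟨a, rfl⟩ := QuotientGroup.mk_surjective a
    obtain ⟨b, rfl⟩ := QuotientGroup.mk_surjective b
    change ((a * b : R) : R ⧸ N) = ((b * a : R) : R ⧸ N)
    rw [QuotientGroup.eq, mem_subgroupOf]
    have h1 := hd (b : G)⁻¹ (inv_mem b.2) (a : G)⁻¹ (inv_mem a.2)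
    have h2 : (((a * b)⁻¹ * (b * a) : R) : G) = (b : G)⁻¹ * (a : G)⁻¹ * (b : G)⁻¹⁻¹ * (a : G)⁻¹⁻¹ := by
      push_cast
      group
    rw [h2]
    exact h1
  · intro r
    change ((r : R) : R ⧸ N) = 1 ↔ _
    rw [QuotientGroup.eq_one_iff, mem_subgroupOf]

section

variable {G : Type*} [Group G] {R Z : Subgroup G} {A : Type*} [CommGroup A] {π : R →* A}

theorem prodR {f : ℕ → G} {e : ℕ → A} {S : List ℕ}
    (h : ∀ γ ∈ S, ∃ hγ : f γ ∈ R, π ⟨f γ, hγ⟩ = e γ) :
    ∃ hS : (S.map f).prod ∈ R, π ⟨(S.map f).prod, hS⟩ = (S.map e).prod := by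
  induction S with
  | nil => exact ⟨one_mem _, map_one π⟩
  | cons a S ih =>
    obtain ⟨h1, h2⟩ := ih fun γ hγ => h γ (List.mem_cons_of_mem _ hγ)
    obtain ⟨h3, h4⟩ := h a List.mem_cons_self
    refine ⟨mul_mem h3 h1, ?_⟩
    have h5 : (⟨((a :: S).map f).prod, mul_mem h3 h1⟩ : R) = ⟨f a, h3⟩ * ⟨(S.map f).prod, h1⟩ := rfl
    rw [h5, map_mul, h2, h4]
    rfl

theorem conj_prod (x : G) (f : ℕ → G) (S : List ℕ) :
    x * (S.map f).prod * x⁻¹ = (S.map fun γ => x * f γ * x⁻¹).prod := by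
  induction S with
  | nil => simp
  | cons a S ih =>
    rw [List.map_cons, List.prod_cons, List.map_cons, List.prod_cons, ← ih]
    group

variable (hπ : ∀ r : R, π r = 1 ↔ (r : G) ∈ Z)

include hπ

theorem act_of {Γ : List ℕ} {f : ℕ → G} {e : ℕ → A}
    (hf : ∀ γ ∈ Γ, ∃ hγ : f γ ∈ R, π ⟨f γ, hγ⟩ = e γ) (he : ∀ γ, e γ * e γ = 1)
    {x : G} {m : ℕ → Option ℕ} (hx : ∀ γ ∈ Γ, ∀ k, m γ = some k → k ∈ Γ)
    (hx1 : ∀ γ ∈ Γ, x * f γ * x⁻¹ = f γ * (m γ).elim 1 f)
    (hxZ : ∀ z ∈ Z, x * z = z * x) (hle : Z ≤ R) {S : List ℕ} (hS : ∀ γ ∈ S, γ ∈ Γ)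
    {g : G} (hg : ∃ hgR : g ∈ R, π ⟨g, hgR⟩ = (S.map e).prod) :
    ∃ hgR : x * g * x⁻¹ ∈ R, π ⟨x * g * x⁻¹, hgR⟩ = ((act1 m S).map e).prod := by
  obtain ⟨hgR, hg1⟩ := hg
  obtain ⟨hP, hP1⟩ := prodR (π := π) (f := f) (e := e) (S := S) fun γ hγ => hf γ (hS γ hγ)
  -- `g = P z`
  obtain ⟨z, hz⟩ : ∃ z, z = ((S.map f).prod)⁻¹ * g := ⟨_, rfl⟩
  have hzZ : z ∈ Z := by
    have h1 : π ((⟨(S.map f).prod, hP⟩ : R)⁻¹ * ⟨g, hgR⟩) = 1 := by
      rw [map_mul, map_inv, hP1, hg1, inv_mul_cancel]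
    rw [hπ] at h1
    rw [hz]
    exact h1
  have hg2 : g = (S.map f).prod * z := by rw [hz]; group
  have hxz : x * z * x⁻¹ = z := by rw [hxZ z hzZ]; group
  obtain ⟨hQ, hQ1⟩ := prodR (π := π) (f := fun γ => x * f γ * x⁻¹)
    (e := fun γ => e γ * (m γ).elim 1 e) (S := S) (by
      intro γ hγ
      have hγΓ := hS γ hγ
      have h1 := hx1 γ hγΓ
      obtain ⟨h2, h3⟩ := hf γ hγΓ
      cases hm : m γ with
      | none =>
        rw [hm] at h1
        have h1' : x * f γ * x⁻¹ = f γ := by rw [h1]; exact mul_one _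
        refine ⟨?_, ?_⟩
        · change x * f γ * x⁻¹ ∈ R
          rw [h1']; exact h2
        · have h4 : (⟨x * f γ * x⁻¹, by rw [h1']; exact h2⟩ : R) = ⟨f γ, h2⟩ := Subtype.ext h1'
          change π ⟨x * f γ * x⁻¹, _⟩ = e γ * 1
          rw [h4, h3, mul_one]
      | some k =>
        rw [hm] at h1
        have h1' : x * f γ * x⁻¹ = f γ * f k := h1
        obtain ⟨h5, h6⟩ := hf k (hx γ hγΓ k hm)
        refine ⟨?_, ?_⟩
        · change x * f γ * x⁻¹ ∈ R
          rw [h1']; exact mul_mem h2 h5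
        · have h4 : (⟨x * f γ * x⁻¹, by rw [h1']; exact mul_mem h2 h5⟩ : R) = ⟨f γ, h2⟩ * ⟨f k, h5⟩ :=
            Subtype.ext h1'
          change π ⟨x * f γ * x⁻¹, _⟩ = e γ * e k
          rw [h4, map_mul, h3, h6])
  rw [← prod_act1 he] at hQ1
  have e1 : x * g * x⁻¹ = (S.map fun γ => x * f γ * x⁻¹).prod * z := by
    rw [hg2, ← conj_prod]
    calc x * ((S.map f).prod * z) * x⁻¹ = x * (S.map f).prod * x⁻¹ * (x * z * x⁻¹) := by group
      _ = _ := by rw [hxz]
  have hR : x * g * x⁻¹ ∈ R := by rw [e1]; exact mul_mem hQ (hle hzZ)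
  refine ⟨hR, ?_⟩
  have e2 : (⟨x * g * x⁻¹, hR⟩ : R) = ⟨(S.map fun γ => x * f γ * x⁻¹).prod, hQ⟩ * ⟨z, hle hzZ⟩ :=
    Subtype.ext e1
  rw [e2, map_mul, hQ1, (hπ ⟨z, hle hzZ⟩).2 hzZ, mul_one]

omit hπ in
theorem mem_act1 {Γ : List ℕ} {m : ℕ → Option ℕ} (hx : ∀ γ ∈ Γ, ∀ k, m γ = some k → k ∈ Γ) {S : List ℕ}
    (hS : ∀ γ ∈ S, γ ∈ Γ) : ∀ k ∈ act1 m S, k ∈ Γ := by
  have aux : ∀ {γ : ℕ}, γ ∈ Γ → ∀ {S : List ℕ}, (∀ γ ∈ S, γ ∈ Γ) → ∀ k ∈ toggle γ S, k ∈ Γ := by
    intro γ hγ S hS k hk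
    unfold toggle at hk
    split_ifs at hk with h
    · exact hS k (List.mem_of_mem_erase hk)
    · rcases List.mem_cons.1 hk with rfl | hk
      · exact hγ
      · exact hS k hk
  unfold act1
  induction S with
  | nil => intro k hk; simp at hk
  | cons a S ih =>
    rw [List.foldr_cons]
    have h1 := ih fun γ hγ => hS γ (List.mem_cons_of_mem _ hγ)
    have ha := hS a List.mem_cons_self
    apply aux ha
    cases hm : m a with
    | none => exact h1
    | some k => exact aux (hx a ha k hm) h1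

/-- **Surjectivity of `[y, ·]` modulo `Z`.** -/
theorem surj_of' {Γ : List ℕ} {f : ℕ → G} {e : ℕ → A}
    (hf : ∀ γ ∈ Γ, ∃ hγ : f γ ∈ R, π ⟨f γ, hγ⟩ = e γ) (he : ∀ γ, e γ * e γ = 1)
    {W : List ℕ} {x : ℕ → G} {m : ℕ → ℕ → Option ℕ}
    (hx : ∀ a ∈ W, ∀ γ ∈ Γ, ∀ k, m a γ = some k → k ∈ Γ)
    (hx1 : ∀ a ∈ W, ∀ γ ∈ Γ, x a * f γ * (x a)⁻¹ = f γ * (m a γ).elim 1 f)
    (hxZ : ∀ a ∈ W, ∀ z ∈ Z, x a * z = z * x a) (hle : Z ≤ R) {w : List ℕ} (hw : ∀ a ∈ w, a ∈ W)
    {v : List ℕ} (hv : ∀ γ ∈ v, γ ∈ Γ) {β : ℕ} (hβ : β ∈ Γ) (hV : v.foldr toggle (acts m w v) = [β]) :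
    (v.map f).prod ∈ R ∧
      ((w.map x).prod * (v.map f).prod * (w.map x).prod⁻¹ * (v.map f).prod⁻¹) * (f β)⁻¹ ∈ Z := by
  obtain ⟨hP, hP1⟩ := prodR (π := π) (f := f) (e := e) (S := v) fun γ hγ => hf γ (hv γ hγ)
  refine ⟨hP, ?_⟩
  have key : ∀ w : List ℕ, (∀ a ∈ w, a ∈ W) → (∀ γ ∈ acts m w v, γ ∈ Γ) ∧
      ∃ hgR : (w.map x).prod * (v.map f).prod * (w.map x).prod⁻¹ ∈ R,
        π ⟨(w.map x).prod * (v.map f).prod * (w.map x).prod⁻¹, hgR⟩ = ((acts m w v).map e).prod := by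
    intro w
    induction w with
    | nil =>
      intro _
      refine ⟨hv, ?_⟩
      have h1 : (([] : List ℕ).map x).prod * (v.map f).prod * (([] : List ℕ).map x).prod⁻¹ =
          (v.map f).prod := by simp
      refine ⟨by rw [h1]; exact hP, ?_⟩
      have h2 : (⟨(([] : List ℕ).map x).prod * (v.map f).prod * (([] : List ℕ).map x).prod⁻¹,
        by rw [h1]; exact hP⟩ : R) = ⟨(v.map f).prod, hP⟩ := Subtype.ext h1
      rw [h2]
      exact hP1
    | cons a w ih =>
      intro hw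
      obtain ⟨h1, h2⟩ := ih fun b hb => hw b (List.mem_cons_of_mem _ hb)
      have ha := hw a List.mem_cons_self
      refine ⟨mem_act1 (hx a ha) h1, ?_⟩
      obtain ⟨h3, h4⟩ := act_of hπ hf he (hx a ha) (hx1 a ha) (hxZ a ha) hle h1 h2
      have h5 : ((a :: w).map x).prod * (v.map f).prod * ((a :: w).map x).prod⁻¹ =
          x a * ((w.map x).prod * (v.map f).prod * (w.map x).prod⁻¹) * (x a)⁻¹ := by
        rw [List.map_cons, List.prod_cons]
        group
      refine ⟨by rw [h5]; exact h3, ?_⟩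
      have h6 : (⟨((a :: w).map x).prod * (v.map f).prod * ((a :: w).map x).prod⁻¹,
        by rw [h5]; exact h3⟩ : R) = ⟨_, h3⟩ := Subtype.ext h5
      rw [h6]
      exact h4
  obtain ⟨-, hY, hY1⟩ := key w hw
  obtain ⟨hβR, hβ1⟩ := hf β hβ
  have h1 := prod_foldr_toggle he v (acts m w v)
  rw [hV, List.map_cons, List.map_nil, List.prod_cons, List.prod_nil, mul_one] at h1
  have h2 : π (⟨_, hY⟩ * (⟨(v.map f).prod, hP⟩ : R)⁻¹ * (⟨f β, hβR⟩ : R)⁻¹) = 1 := by
    rw [map_mul, map_mul, map_inv, map_inv, hY1, hP1, hβ1, h1]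
    have hsq : (v.map e).prod * (v.map e).prod = 1 := by
      rw [← List.prod_map_mul]
      apply List.prod_eq_one
      intro y hy
      obtain ⟨c, -, rfl⟩ := List.mem_map.1 hy
      exact he c
    have hinv : ((v.map e).prod)⁻¹ = (v.map e).prod := inv_eq_of_mul_eq_one_left hsq
    rw [hinv, mul_comm ((acts m w v).map e).prod, ← h1, mul_inv_cancel]
  exact (hπ _).1 h2

end

end Cfsg.Agent.H452.HeisT
end

-- part: H452/FprHeisC
section
/-!
# Heisenberg subgroups of Chevalley groups of characteristic two (table check)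
-/

set_option autoImplicit false

namespace Cfsg.Agent.H452.HeisC

open Cfsg.Lie Cfsg.Agent.ChevalleyStructure Cfsg.Agent.ChevalleyStructure.Elts Cfsg.Agent.H79.SimpleGen
open Cfsg.Agent.H398.FPR Cfsg.Agent.H441.FPR Cfsg.Agent.H452.HeisT Cfsg.Agent.H452.FprHeis
open Subgroup

universe u

/-- one term with a sign -/
def isOne (D : ChevalleyDatum) (a b k : ℕ) : Bool :=
  match D.commTerms a b with
  | [(k', N, 1, 1)] => k' == k && (N == 1 || N == -1)
  | _ => false

theorem isOne_spec {D : ChevalleyDatum} {a b k : ℕ} (h : isOne D a b k = true) :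
    ∃ N : ℤ, (N = 1 ∨ N = -1) ∧ D.commTerms a b = [(k, N, 1, 1)] := by
  unfold isOne at h
  split at h
  · rename_i k' N hk
    rw [Bool.and_eq_true, Bool.or_eq_true, beq_iff_eq, beq_iff_eq, beq_iff_eq] at h
    refine ⟨N, h.2, ?_⟩
    rw [hk, h.1]
  · exact absurd h (by simp)

/-- no term -/
def isNil (D : ChevalleyDatum) (a b : ℕ) : Bool :=
  match D.commTerms a b with
  | [] => true
  | _ => false

theorem isNil_spec {D : ChevalleyDatum} {a b : ℕ} (h : isNil D a b = true) : D.commTerms a b = [] := by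
  unfold isNil at h
  split at h
  · assumption
  · exact absurd h (by simp)

/-- no term or one term with a sign -/
def isLe (D : ChevalleyDatum) (a b k : ℕ) : Bool :=
  match D.commTerms a b with
  | [] => true
  | [(k', N, 1, 1)] => k' == k && (N == 1 || N == -1)
  | _ => false

theorem isLe_spec {D : ChevalleyDatum} {a b k : ℕ} (h : isLe D a b k = true) :
    D.commTerms a b = [] ∨ ∃ N : ℤ, (N = 1 ∨ N = -1) ∧ D.commTerms a b = [(k, N, 1, 1)] := by
  unfold isLe at h
  split at h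
  · exact Or.inl (by assumption)
  · rename_i k' N hk
    rw [Bool.and_eq_true, Bool.or_eq_true, beq_iff_eq, beq_iff_eq, beq_iff_eq] at h
    refine Or.inr ⟨N, h.2, ?_⟩
    rw [hk, h.1]
  · exact absurd h (by simp)

/-- lookup in a table -/
def look (M : List (ℕ × List (ℕ × ℕ))) (a γ : ℕ) : Option ℕ :=
  (M.lookup a).bind fun L => L.lookup γ

/-- the table check -/
structure HOK (D : ChevalleyDatum) (z : ℕ) (Γ : List ℕ) (M : List (ℕ × List (ℕ × ℕ))) (w : List ℕ)
    (V : List (ℕ × List ℕ)) {N : ℕ} (bs cs : Fin N → ℕ) : Prop where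
  zlt : z < D.nroots
  gam : ∀ γ ∈ Γ, γ < D.nroots ∧ γ ≠ z ∧ γ ≠ D.neg z ∧ isNil D z γ = true
  blk : ∀ e ∈ M, e.1 < D.nroots ∧ z ≠ e.1 ∧ z ≠ D.neg e.1 ∧ isNil D e.1 z = true
  act : ∀ e ∈ M, ∀ γ ∈ Γ, γ ≠ e.1 ∧ γ ≠ D.neg e.1 ∧
    (look M e.1 γ).elim (isNil D e.1 γ) (fun k => (decide (k ∈ Γ) && (look M e.1 k == none)) &&
      isOne D e.1 γ k) = true
  pair : ∀ β ∈ Γ, ∀ γ ∈ Γ, β < γ → γ ≠ D.neg β ∧ isLe D β γ z = true
  wW : ∀ a ∈ w, a ∈ M.map Prod.fst
  V1 : ∀ e ∈ V, (∀ γ ∈ e.2, γ ∈ Γ) ∧ e.2.foldr toggle (acts (look M) w e.2) = [e.1]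
  V2 : Γ = V.map Prod.fst
  bc : ∀ i, bs i ∈ Γ ∧ cs i ∈ Γ ∧ cs i ≠ bs i ∧ cs i ≠ D.neg (bs i) ∧ isOne D (bs i) (cs i) z = true
  bc' : ∀ i j, j ≠ i → cs j ≠ D.neg (bs i) ∧ (cs j = bs i ∨ isNil D (bs i) (cs j) = true)

section

variable {K : Type u} [Field K] {D : ChevalleyDatum} (hD : InList D)

/-- the root subgroup -/
def XR (K : Type u) [Field K] (z : ℕ) : Subgroup ↥(D.group K) := (rootHom hD z (1 : K)).range

theorem mem_XR {z : ℕ} {g : ↥(D.group K)} : g ∈ XR hD K z ↔ ∃ t : K, g = xS hD z t := by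
  constructor
  · rintro ⟨t, rfl⟩
    refine ⟨t.toAdd, ?_⟩
    change xS hD z (1 * t.toAdd) = _
    rw [one_mul]
  · rintro ⟨t, rfl⟩
    refine ⟨Multiplicative.ofAdd t, ?_⟩
    change xS hD z (1 * t) = _
    rw [one_mul]

/-- the generators -/
def TT (K : Type u) [Field K] (Γ : List ℕ) : Set ↥(D.group K) := {g | ∃ γ ∈ Γ, ∃ t : K, g = xS hD γ t}

theorem mem_TT {Γ : List ℕ} {γ : ℕ} (h : γ ∈ Γ) (t : K) : xS hD γ t ∈ Subgroup.closure (TT hD K Γ) :=
  subset_closure ⟨γ, h, t, rfl⟩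

theorem xS_conj_one {a γ k : ℕ} {N : ℤ} (h2 : (2 : K) = 0) (hN : N = 1 ∨ N = -1) (ha : a < D.nroots)
    (hγ : γ < D.nroots) (h1 : γ ≠ a) (hn : γ ≠ D.neg a) (h : D.commTerms a γ = [(k, N, 1, 1)])
    (hk : k < D.nroots) (h3 : k ≠ a) (h4 : k ≠ D.neg a) (h5 : D.commTerms a k = []) (s t : K) :
    xS hD a s * xS hD γ t * (xS hD a s)⁻¹ = xS hD γ t * xS hD k (s * t) := by
  have hNK : (N : K) = 1 := by
    rcases hN with rfl | rfl
    · exact Int.cast_one
    · rw [Int.cast_neg, Int.cast_one, neg_eq_iff_add_eq_zero, one_add_one_eq_two, h2]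
  have h6 := xS_one hD (K := K) ha hγ h1 hn h s t
  rw [hNK, one_mul] at h6
  have h7 := xS_comm hD (K := K) ha hk h3 h4 h5 s (s * t)
  calc xS hD a s * xS hD γ t * (xS hD a s)⁻¹ = xS hD γ t * (xS hD a s * xS hD k (s * t)) * (xS hD a s)⁻¹ := by
        rw [h6]; group
    _ = _ := by rw [h7]; group

/-- commutator with one term, second root central -/
theorem xS_commutator {a γ k : ℕ} {N : ℤ} (ha : a < D.nroots)
    (hγ : γ < D.nroots) (h1 : γ ≠ a) (hn : γ ≠ D.neg a) (h : D.commTerms a γ = [(k, N, 1, 1)])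
    (hk1 : ∀ s t : K, xS hD k s * xS hD a t = xS hD a t * xS hD k s)
    (hk2 : ∀ s t : K, xS hD k s * xS hD γ t = xS hD γ t * xS hD k s) (s t : K) :
    xS hD a s * xS hD γ t * (xS hD a s)⁻¹ * (xS hD γ t)⁻¹ = xS hD k ((N : K) * s * t) := by
  have h6 := xS_one hD (K := K) ha hγ h1 hn h s t
  calc xS hD a s * xS hD γ t * (xS hD a s)⁻¹ * (xS hD γ t)⁻¹ =
        xS hD γ t * (xS hD a s * xS hD k ((N : K) * s * t)) * (xS hD a s)⁻¹ * (xS hD γ t)⁻¹ := by
        rw [h6]; group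
    _ = (xS hD γ t * xS hD k ((N : K) * s * t)) * (xS hD γ t)⁻¹ := by rw [← hk1]; group
    _ = _ := by rw [← hk2]; group

variable {z : ℕ} {Γ : List ℕ} {M : List (ℕ × List (ℕ × ℕ))} {w : List ℕ} {V : List (ℕ × List ℕ)} {N : ℕ}
  {bs cs : Fin N → ℕ}

include hD in
theorem HOK.cent (h : HOK D z Γ M w V bs cs) :
    ∀ y ∈ XR hD K z, ∀ t ∈ TT hD K Γ, y * t = t * y := by
  rintro y hy _ ⟨γ, hγ, t, rfl⟩
  obtain ⟨s, rfl⟩ := (mem_XR hD).1 hy
  obtain ⟨h1, h2, h3, h4⟩ := h.gam γ hγ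
  exact xS_comm hD h.zlt h1 h2 h3 (isNil_spec h4) s t

theorem HOK.cent' (h : HOK D z Γ M w V bs cs) {γ : ℕ} (hγ : γ ∈ Γ) (s t : K) :
    xS hD z s * xS hD γ t = xS hD γ t * xS hD z s :=
  h.cent hD _ ((mem_XR hD).2 ⟨s, rfl⟩) _ ⟨γ, hγ, t, rfl⟩

theorem commutator_inv_mem {G : Type*} [Group G] {Z : Subgroup G} {a b : G} (h : a * b * a⁻¹ * b⁻¹ ∈ Z) :
    b * a * b⁻¹ * a⁻¹ ∈ Z := by
  have h1 := inv_mem h
  have h2 : (a * b * a⁻¹ * b⁻¹)⁻¹ = b * a * b⁻¹ * a⁻¹ := by group
  rwa [h2] at h1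

theorem HOK.comm (h : HOK D z Γ M w V bs cs) :
    ∀ s ∈ TT hD K Γ, ∀ t ∈ TT hD K Γ, s * t * s⁻¹ * t⁻¹ ∈ XR hD K z := by
  have key : ∀ β ∈ Γ, ∀ γ ∈ Γ, β < γ → ∀ s t : K,
      xS hD β s * xS hD γ t * (xS hD β s)⁻¹ * (xS hD γ t)⁻¹ ∈ XR hD K z := by
    intro β hβ γ hγ hlt s t
    obtain ⟨h1, h2⟩ := h.pair β hβ γ hγ hlt
    rcases isLe_spec h2 with h3 | ⟨N, -, h3⟩
    · have h4 := xS_comm hD (K := K) (h.gam β hβ).1 (h.gam γ hγ).1 hlt.ne' h1 h3 s t
      have h5 : xS hD β s * xS hD γ t * (xS hD β s)⁻¹ * (xS hD γ t)⁻¹ = 1 := by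
        rw [h4]; group
      rw [h5]
      exact one_mem _
    · rw [xS_commutator hD (h.gam β hβ).1 (h.gam γ hγ).1 hlt.ne' h1 h3 (fun s t => h.cent' hD hβ s t)
        (fun s t => h.cent' hD hγ s t)]
      exact (mem_XR hD).2 ⟨_, rfl⟩
  rintro _ ⟨β, hβ, s, rfl⟩ _ ⟨γ, hγ, t, rfl⟩
  rcases lt_trichotomy β γ with hlt | rfl | hlt
  · exact key β hβ γ hγ hlt s t
  · have h5 : xS hD β s * xS hD β t * (xS hD β s)⁻¹ * (xS hD β t)⁻¹ = 1 := by
      rw [xS_mul, add_comm, ← xS_mul]; group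
    rw [h5]
    exact one_mem _
  · exact commutator_inv_mem (key γ hγ β hβ hlt t s)

/-- every element of the centre is a commutator -/
theorem HOK.exists_comm (h : HOK D z Γ M w V bs cs) (i : Fin N) (t : K) :
    ∃ s : K, xS hD (bs i) s * xS hD (cs i) 1 * (xS hD (bs i) s)⁻¹ * (xS hD (cs i) 1)⁻¹ = xS hD z t := by
  obtain ⟨h1, h2, h3, h4, h5⟩ := h.bc i
  obtain ⟨N, hN, h6⟩ := isOne_spec h5
  refine ⟨(N : K) * t, ?_⟩
  rw [xS_commutator hD (h.gam _ h1).1 (h.gam _ h2).1 h3 h4 h6 (fun s t => h.cent' hD h1 s t)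
        (fun s t => h.cent' hD h2 s t)]
  congr 1
  have hNN : (N : K) * (N : K) = 1 := by
    rcases hN with rfl | rfl
    · rw [Int.cast_one, one_mul]
    · rw [Int.cast_neg, Int.cast_one]; ring
  rw [mul_one, ← mul_assoc, hNN, one_mul]

theorem HOK.le (h : HOK D z Γ M w V bs cs) (i : Fin N) : XR hD K z ≤ Subgroup.closure (TT hD K Γ) := by
  intro y hy
  obtain ⟨t, rfl⟩ := (mem_XR hD).1 hy
  obtain ⟨s, hs⟩ := h.exists_comm hD i t
  rw [← hs]
  have h1 := mem_TT hD (h.bc i).1 s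
  have h2 := mem_TT hD (h.bc i).2.1 (1 : K)
  exact mul_mem (mul_mem (mul_mem h1 h2) (inv_mem h1)) (inv_mem h2)

theorem HOK.conj (h : HOK D z Γ M w V bs cs) (h2 : (2 : K) = 0) {a : ℕ} (ha : a ∈ M.map Prod.fst) {γ : ℕ}
    (hγ : γ ∈ Γ) (t : K) : xS hD a 1 * xS hD γ t * (xS hD a 1)⁻¹ =
      xS hD γ t * (look M a γ).elim 1 (fun k => xS hD k t) := by
  obtain ⟨e, he, rfl⟩ := List.mem_map.1 ha
  obtain ⟨h1, h3, h4⟩ := h.act e he γ hγ
  obtain ⟨b1, b2, b3, b4⟩ := h.blk e he
  cases hm : look M e.1 γ with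
  | none =>
    rw [hm] at h4
    have h5 := xS_comm hD (K := K) b1 (h.gam γ hγ).1 h1 h3 (isNil_spec h4) 1 t
    rw [h5]
    change _ = _ * 1
    group
  | some k =>
    rw [hm] at h4
    have h5 : ((decide (k ∈ Γ) && (look M e.1 k == none)) && isOne D e.1 γ k) = true := h4
    rw [Bool.and_eq_true, Bool.and_eq_true, decide_eq_true_iff, beq_iff_eq] at h5
    obtain ⟨⟨h6, h7⟩, h8⟩ := h5
    obtain ⟨N, hN, h9⟩ := isOne_spec h8
    obtain ⟨k1, k3, k4⟩ := h.act e he k h6
    rw [h7] at k4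
    rw [xS_conj_one hD h2 hN b1 (h.gam γ hγ).1 h1 h3 h9 (h.gam k h6).1 k1 k3 (isNil_spec k4), one_mul]
    rfl

theorem HOK.look_mem (h : HOK D z Γ M w V bs cs) {a : ℕ} (ha : a ∈ M.map Prod.fst) {γ : ℕ}
    (hγ : γ ∈ Γ) {k : ℕ} (hk : look M a γ = some k) : k ∈ Γ := by
  obtain ⟨e, he, rfl⟩ := List.mem_map.1 ha
  obtain ⟨h1, h3, h4⟩ := h.act e he γ hγ
  rw [hk] at h4
  have h5 : ((decide (k ∈ Γ) && (look M e.1 k == none)) && isOne D e.1 γ k) = true := h4
  rw [Bool.and_eq_true, Bool.and_eq_true, decide_eq_true_iff] at h5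
  exact h5.1.1

/-- the element of the word -/
def yy (K : Type u) [Field K] (w : List ℕ) : ↥(D.group K) := (w.map fun a => xS hD a 1).prod

theorem HOK.conj_mem (h : HOK D z Γ M w V bs cs) (h2 : (2 : K) = 0) {a : ℕ} (ha : a ∈ M.map Prod.fst) :
    ∀ r ∈ Subgroup.closure (TT hD K Γ), xS hD a 1 * r * (xS hD a 1)⁻¹ ∈ Subgroup.closure (TT hD K Γ) := by
  have h1 : Subgroup.closure (TT hD K Γ) ≤
      (Subgroup.closure (TT hD K Γ)).comap (MulAut.conj (xS hD a (1 : K))).toMonoidHom := by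
    rw [closure_le]
    rintro _ ⟨γ, hγ, t, rfl⟩
    change xS hD a 1 * xS hD γ t * (xS hD a 1)⁻¹ ∈ Subgroup.closure (TT hD K Γ)
    rw [h.conj hD h2 ha hγ]
    refine mul_mem (mem_TT hD hγ t) ?_
    cases hm : look M a γ with
    | none => exact one_mem _
    | some k => exact mem_TT hD (h.look_mem ha hγ hm) t
  exact fun r hr => h1 hr

theorem HOK.yy_conj_mem (h : HOK D z Γ M w V bs cs) (h2 : (2 : K) = 0) :
    ∀ r ∈ Subgroup.closure (TT hD K Γ), yy hD K w * r * (yy hD K w)⁻¹ ∈ Subgroup.closure (TT hD K Γ) := by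
  have key : ∀ w' : List ℕ, (∀ a ∈ w', a ∈ M.map Prod.fst) → ∀ r ∈ Subgroup.closure (TT hD K Γ),
      yy hD K w' * r * (yy hD K w')⁻¹ ∈ Subgroup.closure (TT hD K Γ) := by
    intro w'
    induction w' with
    | nil =>
      intro _ r hr
      have : yy hD K [] * r * (yy hD K [])⁻¹ = r := by simp [yy]
      rwa [this]
    | cons a w' ih =>
      intro hw r hr
      have h3 := h.conj_mem hD h2 (hw a List.mem_cons_self) _ (ih (fun b hb => hw b (List.mem_cons_of_mem _ hb)) r hr)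
      have h4 : yy hD K (a :: w') = xS hD a 1 * yy hD K w' := rfl
      rw [h4]
      have h5 : xS hD a 1 * yy hD K w' * r * (xS hD a 1 * yy hD K w')⁻¹ =
        xS hD a 1 * (yy hD K w' * r * (yy hD K w')⁻¹) * (xS hD a 1)⁻¹ := by group
      rwa [h5]
  exact key w h.wW

theorem HOK.fix1 (h : HOK D z Γ M w V bs cs) {a : ℕ} (ha : a ∈ M.map Prod.fst) :
    ∀ y ∈ XR hD K z, xS hD a 1 * y = y * xS hD a 1 := by
  intro y hy
  obtain ⟨t, rfl⟩ := (mem_XR hD).1 hy
  obtain ⟨e, he, rfl⟩ := List.mem_map.1 ha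
  obtain ⟨b1, b2, b3, b4⟩ := h.blk e he
  exact xS_comm hD (K := K) b1 h.zlt b2 b3 (isNil_spec b4) 1 t

theorem HOK.fix (h : HOK D z Γ M w V bs cs) : ∀ y ∈ XR hD K z, yy hD K w * y = y * yy hD K w := by
  intro y hy
  have key : ∀ w' : List ℕ, (∀ a ∈ w', a ∈ M.map Prod.fst) → yy hD K w' * y = y * yy hD K w' := by
    intro w'
    induction w' with
    | nil => intro _; simp [yy]
    | cons a w' ih =>
      intro hw
      have h3 := h.fix1 hD (hw a List.mem_cons_self) y hy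
      have h4 := ih fun b hb => hw b (List.mem_cons_of_mem _ hb)
      have h5 : yy hD K (a :: w') = xS hD a 1 * yy hD K w' := rfl
      rw [h5, mul_assoc, h4, ← mul_assoc, h3, mul_assoc]
  exact key w h.wW

/-- **The Heisenberg group of a table.** -/
theorem HOK.heis [Finite K] (h : HOK D z Γ M w V bs cs) (h2 : (2 : K) = 0) (i : Fin N) :
    Heis (yy hD K w) (Subgroup.closure (TT hD K Γ)) (XR hD K z) := by
  classical
  have hfin : Finite ↥(D.group K) := inferInstance
  refine heis_of (h.le hD i) (h.cent hD) (h.comm hD) (h.fix hD) ?_ ?_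
  · intro t ht
    exact h.yy_conj_mem hD h2 t (_root_.Subgroup.subset_closure ht)
  · rintro _ ⟨β, hβ, t, rfl⟩
    obtain ⟨A, hA, π, hπ⟩ := exists_quot (cent_of (h.cent (K := K) hD)) (der_of (h.cent (K := K) hD) (h.comm hD))
    let e : ℕ → A := fun γ => if hγ : γ ∈ Γ then π ⟨xS hD γ t, mem_TT hD hγ t⟩ else 1
    have hf : ∀ γ ∈ Γ, ∃ hγ : xS hD γ t ∈ Subgroup.closure (TT hD K Γ), π ⟨xS hD γ t, hγ⟩ = e γ := by
      intro γ hγ
      refine ⟨mem_TT hD hγ t, ?_⟩
      change _ = dite _ _ _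
      rw [dif_pos hγ]
    have he : ∀ γ, e γ * e γ = 1 := by
      intro γ
      by_cases hγ : γ ∈ Γ
      · have h3 : e γ = π ⟨xS hD γ t, mem_TT hD hγ t⟩ := dif_pos hγ
        rw [h3, ← map_mul]
        have h4 : (⟨xS hD γ t, mem_TT hD hγ t⟩ * ⟨xS hD γ t, mem_TT hD hγ t⟩ :
            ↥(Subgroup.closure (TT hD K Γ))) = 1 := by
          apply Subtype.ext
          change xS hD γ t * xS hD γ t = 1
          rw [xS_mul, ← two_mul, h2, zero_mul, xS_zero]
        rw [h4, map_one]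
      · have h3 : e γ = 1 := dif_neg hγ
        rw [h3, mul_one]
    rw [h.V2] at hβ
    obtain ⟨v, hv, hvβ⟩ := List.mem_map.1 hβ
    obtain ⟨v1, v2⟩ := h.V1 v hv
    rw [hvβ] at v2
    have h5 := surj_of' (π := π) hπ (f := fun γ => xS hD γ t) (e := e) hf he (W := M.map Prod.fst)
      (x := fun a => xS hD a 1) (m := look M) (fun a ha γ hγ k hk => h.look_mem ha hγ hk)
      (fun a ha γ hγ => h.conj hD h2 ha hγ t) (fun a ha => h.fix1 hD ha) (h.le hD i) (w := w) h.wW
      (v := v.2) v1 (β := β) (by rw [h.V2]; exact hβ) v2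
    exact ⟨_, h5.1, h5.2⟩

theorem card_XR [Finite K] {z : ℕ} (hz : z < D.nroots) : 2 ≤ Nat.card (XR hD K z) := by
  have hfin : Finite ↥(D.group K) := inferInstance
  have : Nontrivial (XR hD K z) := by
    refine ⟨⟨⟨xS hD z 0, (mem_XR hD).2 ⟨0, rfl⟩⟩, ⟨xS hD z 1, (mem_XR hD).2 ⟨1, rfl⟩⟩, ?_⟩⟩
    intro h
    have h1 := xS_injective hD hz (congrArg Subtype.val h)
    exact zero_ne_one h1
  exact Finite.one_lt_card

theorem HOK.big [Finite K] (h : HOK D z Γ M w V bs cs) {k : ℕ} (hk : 2 * k + 1 ≤ N) :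
    2 ^ (k + 1) * (Nat.card (XR hD K z) ^ k * Nat.card ↥(Subgroup.closure (TT hD K Γ) ⊓
      Subgroup.centralizer (Subgroup.closure (TT hD K Γ) : Set ↥(D.group K)))) ≤
      Nat.card ↥(Subgroup.closure (TT hD K Γ)) := by
  have hfin : Finite ↥(D.group K) := inferInstance
  have h1 := big_of (R := Subgroup.closure (TT hD K Γ)) (Z := XR hD K z) (cent_of (h.cent (K := K) hD))
    (der_of (h.cent (K := K) hD) (h.comm hD)) (N := N) (c := fun i => xS hD (cs i) (1 : K))
    (fun i => mem_TT hD (h.bc i).2.1 1) (by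
      intro i y hy
      obtain ⟨t, rfl⟩ := (mem_XR hD).1 hy
      obtain ⟨s, hs⟩ := h.exists_comm hD i t
      refine ⟨_, mem_TT hD (h.bc i).1 s, hs, ?_⟩
      intro j hj
      obtain ⟨h3, h4⟩ := h.bc' i j hj
      rcases h4 with h4 | h4
      · rw [h4, xS_mul, add_comm, ← xS_mul]
      · by_cases h5 : cs j = bs i
        · rw [h5, xS_mul, add_comm, ← xS_mul]
        · exact xS_comm hD (K := K) (h.gam _ (h.bc i).1).1 (h.gam _ (h.bc j).2.1).1 h5 h3 (isNil_spec h4) s 1)
  obtain ⟨W, hW⟩ : ∃ W, W = Nat.card ↥(Subgroup.closure (TT hD K Γ) ⊓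
      Subgroup.centralizer (Subgroup.closure (TT hD K Γ) : Set ↥(D.group K))) := ⟨_, rfl⟩
  obtain ⟨q, hq⟩ : ∃ q, q = Nat.card (XR hD K z) := ⟨_, rfl⟩
  have h2 := card_XR hD (K := K) h.zlt
  rw [← hW, ← hq] at h1 ⊢
  rw [← hq] at h2
  calc 2 ^ (k + 1) * (q ^ k * W) ≤ q ^ (k + 1) * (q ^ k * W) :=
        Nat.mul_le_mul_right _ (Nat.pow_le_pow_left h2 _)
    _ = q ^ (2 * k + 1) * W := by rw [← mul_assoc, ← pow_add]; congr 2; ring
    _ ≤ q ^ N * W := Nat.mul_le_mul_right _ (Nat.pow_le_pow_right (by omega) hk)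
    _ ≤ _ := h1

/-- **The ratio from two tables.** -/
theorem uGood_of [Finite K] {P : List (ℕ × ℕ)} {z z' : ℕ} {M M' : List (ℕ × List (ℕ × ℕ))} {w : List ℕ}
    {V V' : List (ℕ × List ℕ)}
    {bs cs bs' cs' : Fin N → ℕ} (h : HOK D z (P.map Prod.fst) M w V bs cs)
    (h' : HOK D z' (P.map Prod.snd) M' w V' bs' cs')
    (hP : ∀ e ∈ P, e.1 ≠ z' ∧ e.1 ≠ D.neg z' ∧ e.2 ≠ z ∧ e.2 ≠ D.neg z ∧
      isOne D z' e.1 e.2 = true ∧ isOne D z e.2 e.1 = true)
    {steps : List (ℕ × ℕ)} (hg : GenOK D (P.map Prod.fst ++ P.map Prod.snd) steps)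
    (h2 : (2 : K) = 0) {p k j : ℕ} (hp : p.Prime) (hpk : p + 1 = 2 ^ k) (hk : 2 * k + 1 ≤ N)
    (hy : yy hD K w ^ p ^ j = 1) : UGood 1 (p + 1) (yy hD K w) := by
  have hfin : Finite ↥(D.group K) := inferInstance
  have i0 : Fin N := ⟨0, by omega⟩
  have hcomm : ∀ {z : ℕ} {Γ : List ℕ} {M : List (ℕ × List (ℕ × ℕ))} {V : List (ℕ × List ℕ)}
      {bs cs : Fin N → ℕ}, HOK D z Γ M w V bs cs → ∀ y ∈ XR hD K z,
        ∃ a ∈ Subgroup.closure (TT hD K Γ), ∃ b ∈ Subgroup.closure (TT hD K Γ), y = a * b * a⁻¹ * b⁻¹ := by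
    intro z Γ M V bs cs h y hy
    obtain ⟨t, rfl⟩ := (mem_XR hD).1 hy
    obtain ⟨s, hs⟩ := h.exists_comm hD i0 t
    exact ⟨_, mem_TT hD (h.bc i0).1 s, _, mem_TT hD (h.bc i0).2.1 1, hs.symm⟩
  -- generation
  have hgen : ∀ H : Subgroup ↥(D.group K), (∀ e ∈ P, (∀ t : K, xS hD e.1 t ∈ H) ∧ (∀ t : K, xS hD e.2 t ∈ H)) →
      H = ⊤ := by
    intro H hH
    apply GenOK.top hD hg
    intro k hk t
    rcases List.mem_append.1 hk with hk | hk
    · obtain ⟨e, he, rfl⟩ := List.mem_map.1 hk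
      exact (hH e he).1 t
    · obtain ⟨e, he, rfl⟩ := List.mem_map.1 hk
      exact (hH e he).2 t
  have step : ∀ {z a b : ℕ}, z < D.nroots → a < D.nroots → a ≠ z → a ≠ D.neg z → isOne D z a b = true →
      ∀ H : Subgroup ↥(D.group K), (∀ t : K, xS hD a t ∈ H) → ∀ c : K, c ≠ 0 → xS hD z c ∈ H →
        ∀ t : K, xS hD b t ∈ H := by
    intro z a b hz ha h3 h4 h5 H hH c hc hcH t
    obtain ⟨N, hN, h6⟩ := isOne_spec h5
    have hNN : (N : K) * (N : K) = 1 := by
      rcases hN with rfl | rfl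
      · rw [Int.cast_one, one_mul]
      · rw [Int.cast_neg, Int.cast_one]; ring
    have h7 := xS_one hD (K := K) hz ha h3 h4 h6 c ((N : K) * c⁻¹ * t)
    have h8 : (N : K) * c * ((N : K) * c⁻¹ * t) = t := by
      calc (N : K) * c * ((N : K) * c⁻¹ * t) = ((N : K) * (N : K)) * (c * c⁻¹) * t := by ring
        _ = t := by rw [hNN, mul_inv_cancel₀ hc]; ring
    rw [h8] at h7
    have h9 : xS hD b t = (xS hD a ((N : K) * c⁻¹ * t) * xS hD z c)⁻¹ * (xS hD z c * xS hD a ((N : K) * c⁻¹ * t)) := by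
      rw [h7]; group
    rw [h9]
    exact mul_mem (inv_mem (mul_mem (hH _) hcH)) (mul_mem hcH (hH _))
  have hmem1 : ∀ e ∈ P, e.1 ∈ P.map Prod.fst := fun e he => List.mem_map.2 ⟨e, he, rfl⟩
  have hmem2 : ∀ e ∈ P, e.2 ∈ P.map Prod.snd := fun e he => List.mem_map.2 ⟨e, he, rfl⟩
  refine heis_mersenne (k := k) (j := j) hp hpk hy (h.heis hD h2 i0) (h'.heis hD h2 i0) (hcomm h) (hcomm h')
    (fun g hg ha => mem_inf.2 ⟨hg, mem_centralizer_iff.2 fun a haR => (ha a haR).symm⟩)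
    (fun g hg ha => mem_inf.2 ⟨hg, mem_centralizer_iff.2 fun a haR => (ha a haR).symm⟩)
    (h.big hD hk) (h'.big hD hk) ?_ ?_
  · intro H hH y hy hy1 hyH
    obtain ⟨c, rfl⟩ := (mem_XR hD).1 hy
    have hc : c ≠ 0 := by
      rintro rfl
      exact hy1 (xS_zero hD z')
    apply hgen
    intro e he
    obtain ⟨e1, e2, e3, e4, e5, e6⟩ := hP e he
    have hH1 : ∀ t : K, xS hD e.1 t ∈ H := fun t => hH (mem_TT hD (hmem1 e he) t)
    exact ⟨hH1, step h'.zlt (h.gam _ (hmem1 e he)).1 e1 e2 e5 H hH1 c hc hyH⟩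
  · intro H hH y hy hy1 hyH
    obtain ⟨c, rfl⟩ := (mem_XR hD).1 hy
    have hc : c ≠ 0 := by
      rintro rfl
      exact hy1 (xS_zero hD z)
    apply hgen
    intro e he
    obtain ⟨e1, e2, e3, e4, e5, e6⟩ := hP e he
    have hH1 : ∀ t : K, xS hD e.2 t ∈ H := fun t => hH (mem_TT hD (hmem2 e he) t)
    exact ⟨step h.zlt (h'.gam _ (hmem2 e he)).1 e3 e4 e6 H hH1 c hc hyH, hH1⟩

end

end Cfsg.Agent.H452.HeisC
end

-- part: H452/FprHeisD
section
/-!
# Elements of order `2 ^ k - 1` of `SL_k(2)` in the Chevalley groups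
-/

set_option autoImplicit false

namespace Cfsg.Agent.H452.HeisC

open Cfsg.Lie Cfsg.Agent.ChevalleyStructure Cfsg.Agent.ChevalleyStructure.Elts Cfsg.Agent.H79.SimpleGen
open Cfsg.Agent.H398.FPR Cfsg.Agent.H441.FPR Cfsg.Agent.H452.HeisT Cfsg.Agent.H452.FprHeis
open Cfsg.Agent.TitsThree.KExcRT Cfsg.Agent.ChevalleyStructure.RootVec Cfsg.Agent.Nodes.RGDChev
open Cfsg.Agent.H162.GaussExcMain Cfsg.Agent.KFacts.RgdChevCoord
open Subgroup

universe u

/-- transvections of a word -/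
def tv {n : ℕ} (F : Type*) [Field F] (e : Fin n × Fin n) : Matrix.SpecialLinearGroup (Fin n) F :=
  if h : e.1 ≠ e.2 then Matrix.SpecialLinearGroup.transvection h 1 else 1

/-- the element of a word -/
def tw {n : ℕ} (F : Type*) [Field F] (wp : List (Fin n × Fin n)) : Matrix.SpecialLinearGroup (Fin n) F :=
  (wp.map (tv F)).prod

theorem map_tv {n : ℕ} {E F : Type*} [Field E] [Field F] (f : E →+* F) (e : Fin n × Fin n) :
    Matrix.SpecialLinearGroup.map f (tv E e) = tv F e := by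
  unfold tv
  split_ifs with h
  · apply Subtype.ext
    change f.mapMatrix (Matrix.transvection e.1 e.2 1) = Matrix.transvection e.1 e.2 1
    rw [Matrix.transvection, Matrix.transvection, map_add, map_one]
    congr 1
    rw [RingHom.mapMatrix_apply, Matrix.map_single _ _ _ f, map_one]
  · rw [map_one]

theorem map_tw {n : ℕ} {E F : Type*} [Field E] [Field F] (f : E →+* F) (wp : List (Fin n × Fin n)) :
    Matrix.SpecialLinearGroup.map f (tw E wp) = tw F wp := by
  unfold tw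
  rw [map_list_prod, List.map_map]
  congr 1
  apply List.map_congr_left
  intro e _
  exact map_tv f e

theorem tw_pow {n : ℕ} {wp : List (Fin n × Fin n)} {k : ℕ}
    {B : Fin (k + 1) → Matrix (Fin n) (Fin n) (ZMod 2)}
    (h0 : (wp.map fun e => if e.1 ≠ e.2 then Matrix.transvection e.1 e.2 (1 : ZMod 2) else 1).prod = B 0)
    (hB : ∀ i : Fin k, B i.castSucc * B i.castSucc = B i.succ)
    (hk : B (Fin.last k) = B 0) : tw (ZMod 2) wp ^ (2 ^ k - 1) = 1 := by
  have h1 : ((tw (ZMod 2) wp : Matrix.SpecialLinearGroup (Fin n) (ZMod 2)) :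
      Matrix (Fin n) (Fin n) (ZMod 2)) = B 0 := by
    rw [← h0]
    unfold tw
    clear h0
    induction wp with
    | nil => rfl
    | cons e wp ih =>
      rw [List.map_cons, List.prod_cons, List.map_cons, List.prod_cons, ← ih]
      change (tv (ZMod 2) e).1 * _ = _
      congr 1
      unfold tv
      split_ifs <;> rfl
  have h2 : ∀ i : ℕ, ∀ hi : i < k + 1, ((tw (ZMod 2) wp : Matrix.SpecialLinearGroup (Fin n) (ZMod 2)) :
      Matrix (Fin n) (Fin n) (ZMod 2)) ^ 2 ^ i = B ⟨i, hi⟩ := by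
    intro i
    induction i with
    | zero =>
      intro hi
      rw [pow_zero, pow_one]
      exact h1
    | succ i ih =>
      intro hi
      rw [pow_succ, pow_mul, ih (by omega), pow_two]
      exact hB ⟨i, by omega⟩
  have h3 : tw (ZMod 2) wp ^ 2 ^ k = tw (ZMod 2) wp := by
    apply Subtype.ext
    change ((tw (ZMod 2) wp : Matrix.SpecialLinearGroup (Fin n) (ZMod 2)) :
      Matrix (Fin n) (Fin n) (ZMod 2)) ^ 2 ^ k = _
    rw [h2 k (by omega)]
    exact hk.trans h1.symm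
  have h4 : 2 ^ k = (2 ^ k - 1) + 1 := by
    have := Nat.one_le_two_pow (n := k)
    omega
  rw [h4, pow_succ] at h3
  have h5 := mul_eq_right.1 h3
  exact h5

section

variable {K : Type u} [Field K] {D : ChevalleyDatum} (hD : InList D)

theorem phi_tw {n : ℕ} {r : Fin n → Fin n → ℕ} {φ : Matrix.SpecialLinearGroup (Fin n) K →* ↥(D.group K)}
    (hφ : ∀ a b (hab : a ≠ b) c, φ (Matrix.SpecialLinearGroup.transvection hab c) = xS hD (r a b) c)
    {wp : List (Fin n × Fin n)} (hne : ∀ e ∈ wp, e.1 ≠ e.2) :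
    φ (tw K wp) = yy hD K (wp.map fun e => r e.1 e.2) := by
  unfold tw yy
  rw [map_list_prod, List.map_map, List.map_map]
  congr 1
  apply List.map_congr_left
  intro e he
  change φ (tv K e) = xS hD (r e.1 e.2) 1
  unfold tv
  rw [dif_pos (hne e he), hφ]

/-- the homomorphism -/
theorem exists_phi {l : ℕ} {M : CoxeterMatrix (Fin l)} (hp : IsType D l M)
    {n : ℕ} {r : Fin (n + 3) → Fin (n + 3) → ℕ} {ε : ℤ} (hε : ε = 1 ∨ ε = -1) (h2 : (2 : K) = 0)
    (ra : RTa D r) (rb : RTb D r fun _ _ => ε) (rc : RTc D r) (rn : ∀ i j, i ≠ j → r j i = D.neg (r i j)) :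
    ∃ φ : Matrix.SpecialLinearGroup (Fin (n + 3)) K →* ↥(D.group K),
      ∀ a b (hab : a ≠ b) c, φ (Matrix.SpecialLinearGroup.transvection hab c) = xS hp.inList (r a b) c := by
  obtain ⟨φ, hφ⟩ := exists_hom_D hp (K := K) (ε := ε) (by rcases hε with rfl | rfl <;> norm_num) ra rb rc rn
  refine ⟨φ, ?_⟩
  intro a b hab c
  have hεK : (ε : K) = 1 := by
    rcases hε with rfl | rfl
    · exact Int.cast_one
    · rw [Int.cast_neg, Int.cast_one, neg_eq_iff_add_eq_zero, one_add_one_eq_two, h2]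
  rw [hφ, hεK, one_mul]
  apply Subtype.ext
  rw [coe_xc hp (ra a b hab)]
  rfl

/-- the two homomorphisms for `ZMod 2` -/
theorem exists_phi0 [CharP K 2] {l : ℕ} {M : CoxeterMatrix (Fin l)} (hp : IsType D l M)
    {n : ℕ} {r : Fin (n + 3) → Fin (n + 3) → ℕ} {ε : ℤ} (hε : ε = 1 ∨ ε = -1)
    (ra : RTa D r) (rb : RTb D r fun _ _ => ε) (rc : RTc D r) (rn : ∀ i j, i ≠ j → r j i = D.neg (r i j)) :
    ∃ ψ : Matrix.SpecialLinearGroup (Fin (n + 3)) (ZMod 2) →* ↥(D.group K),
      ∀ wp : List (Fin (n + 3) × Fin (n + 3)), (∀ e ∈ wp, e.1 ≠ e.2) →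
        ψ (tw (ZMod 2) wp) = yy hp.inList K (wp.map fun e => r e.1 e.2) := by
  have h2 : (2 : K) = 0 := by
    have := CharP.cast_eq_zero K 2
    exact_mod_cast this
  obtain ⟨φ, hφ⟩ := exists_phi hp hε h2 ra rb rc rn
  refine ⟨φ.comp (Matrix.SpecialLinearGroup.map (ZMod.castHom (dvd_refl 2) K)), ?_⟩
  intro wp hne
  rw [MonoidHom.comp_apply, map_tw]
  exact phi_tw hp.inList hφ hne

end

end Cfsg.Agent.H452.HeisC
end

-- part: H452/FprHeisE
section
/-!
# The rows of a table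
-/

set_option autoImplicit false

namespace Cfsg.Agent.H452.HeisC

open Cfsg.Lie Cfsg.Agent.ChevalleyStructure Cfsg.Agent.ChevalleyStructure.Elts Cfsg.Agent.H79.SimpleGen
open Cfsg.Agent.H398.FPR Cfsg.Agent.H441.FPR Cfsg.Agent.H452.HeisT Cfsg.Agent.H452.FprHeis
open Cfsg.Agent.TitsThree.KExcRT Cfsg.Agent.ChevalleyStructure.RootVec Cfsg.Agent.Nodes.RGDChev
open Cfsg.Agent.H409
open Subgroup

universe u

/-- partial products -/
def pchain {n : ℕ} : List (Fin n × Fin n) → List (Matrix (Fin n) (Fin n) (ZMod 2)) → Bool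
  | [], [] => true
  | e :: wp, C :: Cs =>
    decide ((if e.1 ≠ e.2 then Matrix.transvection e.1 e.2 (1 : ZMod 2) else 1) * Cs.headD 1 = C) && pchain wp Cs
  | _, _ => false

theorem pchain_spec {n : ℕ} : ∀ {wp : List (Fin n × Fin n)} {Cs : List (Matrix (Fin n) (Fin n) (ZMod 2))},
    pchain wp Cs = true →
      (wp.map fun e => if e.1 ≠ e.2 then Matrix.transvection e.1 e.2 (1 : ZMod 2) else 1).prod = Cs.headD 1
  | [], [], _ => rfl
  | [], _ :: _, h => by simp [pchain] at h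
  | _ :: _, [], h => by simp [pchain] at h
  | e :: wp, C :: Cs, h => by
    rw [pchain, Bool.and_eq_true, decide_eq_true_iff] at h
    rw [List.map_cons, List.prod_cons, pchain_spec h.2, h.1]
    rfl

/-- the complete table -/
structure TOK (D : ChevalleyDatum) {n : ℕ} (r : Fin (n + 3) → Fin (n + 3) → ℕ) (ε : ℤ)
    (wp : List (Fin (n + 3) × Fin (n + 3))) (B : Fin (n + 4) → Matrix (Fin (n + 3)) (Fin (n + 3)) (ZMod 2))
    (z z' : ℕ) (P : List (ℕ × ℕ)) (M M' : List (ℕ × List (ℕ × ℕ))) (w : List ℕ) (V V' : List (ℕ × List ℕ))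
    {N : ℕ} (bs cs bs' cs' : Fin N → ℕ) (steps : List (ℕ × ℕ)) : Prop where
  he : ε = 1 ∨ ε = -1
  ra : RTa D r
  rb : RTb D r fun _ _ => ε
  rc : RTc D r
  rn : ∀ i j, i ≠ j → r j i = D.neg (r i j)
  hw : (wp.map fun e => r e.1 e.2) = w
  hne : ∀ e ∈ wp, e.1 ≠ e.2
  B0 : (wp.map fun e => if e.1 ≠ e.2 then Matrix.transvection e.1 e.2 (1 : ZMod 2) else 1).prod = B 0
  hB : ∀ i : Fin (n + 3), B i.castSucc * B i.castSucc = B i.succ
  hBk : B (Fin.last (n + 3)) = B 0
  h : HOK D z (P.map Prod.fst) M w V bs cs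
  h' : HOK D z' (P.map Prod.snd) M' w V' bs' cs'
  hP : ∀ e ∈ P, e.1 ≠ z' ∧ e.1 ≠ D.neg z' ∧ e.2 ≠ z ∧ e.2 ≠ D.neg z ∧
      isOne D z' e.1 e.2 = true ∧ isOne D z e.2 e.1 = true
  hg : GenOK D (P.map Prod.fst ++ P.map Prod.snd) steps
  hN : 2 * (n + 3) + 1 ≤ N

section

variable {K : Type u} [Field K] {D : ChevalleyDatum} {n : ℕ} {r : Fin (n + 3) → Fin (n + 3) → ℕ} {ε : ℤ}
    {wp : List (Fin (n + 3) × Fin (n + 3))} {B : Fin (n + 4) → Matrix (Fin (n + 3)) (Fin (n + 3)) (ZMod 2)}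
    {z z' : ℕ} {P : List (ℕ × ℕ)} {M M' : List (ℕ × List (ℕ × ℕ))} {w : List ℕ} {V V' : List (ℕ × List ℕ)}
    {N : ℕ} {bs cs bs' cs' : Fin N → ℕ} {steps : List (ℕ × ℕ)}

/-- **The element of order `2 ^ k - 1`.** -/
theorem TOK.main [Finite K] [CharP K 2] (T : TOK D r ε wp B z z' P M M' w V V' bs cs bs' cs' steps)
    {l : ℕ} {C : CoxeterMatrix (Fin l)} (hp : IsType D l C) {p : ℕ} (hpp : p.Prime) (hpk : p + 1 = 2 ^ (n + 3)) :
    ∃ ψ : Matrix.SpecialLinearGroup (Fin (n + 3)) (ZMod 2) →* ↥(D.group K),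
      tw (ZMod 2) wp ^ p = 1 ∧ ψ (tw (ZMod 2) wp) ≠ 1 ∧ UGood 1 (p + 1) (ψ (tw (ZMod 2) wp)) := by
  have hfin : Finite ↥(D.group K) := inferInstance
  have h2 : (2 : K) = 0 := by
    have := CharP.cast_eq_zero K 2
    exact_mod_cast this
  obtain ⟨ψ, hψ⟩ := exists_phi0 (K := K) hp T.he T.ra T.rb T.rc T.rn
  have hpow : tw (ZMod 2) wp ^ p = 1 := by
    have h1 := tw_pow T.B0 T.hB T.hBk
    rw [← hpk, Nat.add_sub_cancel] at h1
    exact h1
  have hy : ψ (tw (ZMod 2) wp) = yy hp.inList K w := by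
    rw [hψ wp T.hne, T.hw]
  have i0 : Fin N := ⟨0, by have := T.hN; omega⟩
  have hU := uGood_of hp.inList (K := K) T.h T.h' T.hP T.hg h2 (p := p) (j := 1) hpp hpk T.hN (by
      rw [← hy, ← map_pow, pow_one, hpow, map_one])
  refine ⟨ψ, hpow, ?_, by rw [hy]; exact hU⟩
  rw [hy]
  intro h1
  -- then `R = Z` is commutative
  have hH := T.h.heis hp.inList (K := K) h2 i0
  rw [h1] at hH
  have hall : ∀ g ∈ Subgroup.closure (TT hp.inList K (P.map Prod.fst)), g ∈ XR hp.inList K z := by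
    intro g hg
    apply hH.free g hg
    have : (1 : ↥(D.group K)) * g * 1⁻¹ * g⁻¹ = 1 := by group
    rw [this]
    exact one_mem _
  obtain ⟨s, hs⟩ := T.h.exists_comm hp.inList (K := K) i0 1
  have k1 := mem_TT hp.inList (T.h.bc i0).1 s
  have k2 := mem_TT hp.inList (T.h.bc i0).2.1 (1 : K)
  have k3 := hH.cent _ (hall _ k1) _ k2
  rw [k3] at hs
  have k4 : xS hp.inList z (1 : K) = xS hp.inList z 0 := by
    rw [xS_zero, ← hs]; group
  exact one_ne_zero (xS_injective hp.inList T.h.zlt k4)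

/-- **The row of a table.** -/
theorem TOK.row [Finite K] [CharP K 2] (T : TOK D r ε wp B z z' P M M' w V V' bs cs bs' cs' steps)
    {l : ℕ} {C : CoxeterMatrix (Fin l)} (hp : IsType D l C) {p : ℕ} (hpp : p.Prime) (hpk : p + 1 = 2 ^ (n + 3)) :
    FprRow (p + 1) 1 p ↥(D.group K) := by
  obtain ⟨ψ, h1, -, h3⟩ := T.main (K := K) hp hpp hpk
  refine row_of_uGood (k := 1) hpp ?_ h3
  rw [pow_one, ← map_pow, h1, map_one]

end

section

variable {K : Type u} [Field K] {D : ChevalleyDatum} {r : Fin (0 + 3) → Fin (0 + 3) → ℕ} {ε : ℤ}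
    {wp : List (Fin (0 + 3) × Fin (0 + 3))} {B : Fin (0 + 4) → Matrix (Fin (0 + 3)) (Fin (0 + 3)) (ZMod 2)}
    {z z' : ℕ} {P : List (ℕ × ℕ)} {M M' : List (ℕ × List (ℕ × ℕ))} {w : List ℕ} {V V' : List (ℕ × List ℕ)}
    {N : ℕ} {bs cs bs' cs' : Fin N → ℕ} {steps : List (ℕ × ℕ)}

/-- **The prime `3` from the prime `7`.** -/
theorem TOK.row_three [Finite K] [CharP K 2] (T : TOK D r ε wp B z z' P M M' w V V' bs cs bs' cs' steps)
    {l : ℕ} {C : CoxeterMatrix (Fin l)} (hp : IsType D l C) {X : Matrix.SpecialLinearGroup (Fin 3) (ZMod 2)}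
    (hX3 : X ^ 3 = 1) (hX : X * tw (ZMod 2) wp = tw (ZMod 2) wp ^ 2 * X) :
    FprRow 4 1 3 ↥(D.group K) := by
  have hfin : Finite ↥(D.group K) := inferInstance
  obtain ⟨ψ, h1, h2, h3⟩ := T.main (K := K) hp (p := 7) (by norm_num) (by norm_num)
  have ho : orderOf (ψ (tw (ZMod 2) wp)) = 7 := by
    have := Fact.mk (by norm_num : Nat.Prime 7)
    apply orderOf_eq_prime
    · rw [← map_pow, h1, map_one]
    · exact h2
  have hx : ψ X * ψ (tw (ZMod 2) wp) * (ψ X)⁻¹ = ψ (tw (ZMod 2) wp) ^ 2 := by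
    rw [← map_mul, hX, map_mul, map_pow, mul_inv_cancel_right]
  have hf : FreeOn (ψ X) (zpowers (ψ (tw (ZMod 2) wp))) := by
    refine freeOn_zpowers (by norm_num : Nat.Prime 7) ho hx ?_
    intro hcomm
    rw [hcomm, mul_inv_cancel_right, pow_two] at hx
    exact h2 (mul_eq_left.1 hx.symm)
  refine row_of_uGood (k := 1) Nat.prime_three (x := ψ X) ?_ (three_of_seven ho hf h3)
  rw [pow_one, ← map_pow, hX3, map_one]

end

end Cfsg.Agent.H452.HeisC
end

private theorem dce_a1b157871e0b : _root_.True := by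
  try have : _root_.True := by simp only [_root_.Cfsg.Agent.H452.HeisC.isOne._sparseCasesOn_2.else_eq]
  try have : _root_.True := by simp only [_root_.Cfsg.Agent.H452.HeisC.yy.congr_simp]
  try have : _root_.True := by simp only [_root_.Cfsg.Agent.H452.HeisC.yy.eq_1]
  try have : _root_.True := by simp only [_root_.Cfsg.Agent.H452.HeisC.isOne._sparseCasesOn_1.else_eq]
  try have : _root_.True := by simp only [_root_.Cfsg.Agent.H452.HeisC.pchain.eq_def]
  try have : _root_.True := by simp only [_root_.Cfsg.Agent.H452.HeisC.pchain.eq_3]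
  try have : _root_.True := by simp only [_root_.Cfsg.Agent.H452.HeisC.pchain.eq_2]
  try have : _root_.True := by simp only [_root_.Cfsg.Agent.H452.HeisC.pchain.eq_1]
  exact _root_.True.intro
end

-- part: H448/FprMers/Wt
section
set_option linter.all false
open scoped Cfsg.Agent.FastGrp

/-!
# Several Heisenberg radicals: the weighted count of the fixed points
-/

set_option autoImplicit false
open Subgroup MulAction

namespace Cfsg.Agent.H448.FprMers

open Cfsg.Agent.H398.FPR Cfsg.Agent.H452.FprHeis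

theorem wt_ge {G X : Type*} [Group G] [MulAction G X] [Finite G] [Finite X] {R Z : Subgroup G}
    {ω : X} {w : ℕ} (hw : w * (stabilizer G ω).relIndex Z ≤ (stabilizer G ω).relIndex R) :
    (w : ℚ) ≤ wt R Z ω := by
  rw [wt, le_div_iff₀ (by exact_mod_cast orbit_ncard_pos Z ω), ncard_orbit_eq, ncard_orbit_eq]
  exact_mod_cast hw

/-- **The weighted count.** -/
theorem multi_uGood {G : Type*} [Group G] [Finite G] {ι : Type*} [Fintype ι] [Nonempty ι] {x : G}
    {M : ℕ} (R Z : ι → Subgroup G) (h : ∀ i, Heis x (R i) (Z i))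
    (hw : ∀ H : Subgroup G, H ≠ ⊤ → x ∈ H → ∃ w : ι → ℕ,
      (∀ i, w i * H.relIndex (Z i) ≤ H.relIndex (R i)) ∧ M * Fintype.card ι ≤ ∑ i, w i) :
    UGood 1 M x := by
  classical
  intro H hH
  have := Fintype.ofFinite (G ⧸ H)
  have h1 : ∑ i : ι, ∑ ω ∈ Finset.univ.filter (fun ω : G ⧸ H => x • ω = ω), wt (R i) (Z i) ω ≤
      ∑ _i : ι, (Fintype.card (G ⧸ H) : ℚ) :=
    Finset.sum_le_sum fun i _ => (h i).sum_wt (X := G ⧸ H)
  rw [Finset.sum_comm, Finset.sum_const, nsmul_eq_mul] at h1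
  have h2 : ∑ ω ∈ Finset.univ.filter (fun ω : G ⧸ H => x • ω = ω), ((M * Fintype.card ι : ℕ) : ℚ) ≤
      ∑ ω ∈ Finset.univ.filter (fun ω : G ⧸ H => x • ω = ω), ∑ i : ι, wt (R i) (Z i) ω := by
    apply Finset.sum_le_sum
    intro ω hω
    have hxω : x • ω = ω := (Finset.mem_filter.1 hω).2
    obtain ⟨w, hw1, hw2⟩ := hw (stabilizer G ω) (stabilizer_ne_top' hH ω) hxω
    calc ((M * Fintype.card ι : ℕ) : ℚ) ≤ ((∑ i, w i : ℕ) : ℚ) := by exact_mod_cast hw2
      _ = ∑ i, (w i : ℚ) := by push_cast; rfl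
      _ ≤ _ := Finset.sum_le_sum fun i _ => wt_ge (hw1 i)
  rw [Finset.sum_const, nsmul_eq_mul] at h2
  have h4 : (Finset.univ.filter (fun ω : G ⧸ H => x • ω = ω)).card =
      Nat.card (fixedBy (G ⧸ H) x) := by
    rw [Nat.card_coe_set_eq, Set.ncard_eq_toFinset_card']
    congr 1
    ext y
    simp [mem_fixedBy]
  rw [h4] at h2
  have h5 := h2.trans h1
  rw [Finset.card_univ, ← Nat.card_eq_fintype_card (α := G ⧸ H)] at h5
  have h6 : Nat.card (fixedBy (G ⧸ H) x) * (M * Fintype.card ι) ≤ Fintype.card ι * Nat.card (G ⧸ H) := by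
    exact_mod_cast h5
  have h7 : 0 < Fintype.card ι := Fintype.card_pos
  apply Nat.le_of_mul_le_mul_left _ h7
  calc Fintype.card ι * (M * Nat.card (fixedBy (G ⧸ H) x)) =
      Nat.card (fixedBy (G ⧸ H) x) * (M * Fintype.card ι) := by ring
    _ ≤ _ := h6
    _ = _ := by ring

end Cfsg.Agent.H448.FprMers
end
end
end
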