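import Cfsg.Agent.H441.FPR.BitE843_mg_m3
import Cfsg.Agent.H441.FPR.Row_m3
import Cfsg.Agent.H221.PPMain
import Cfsg.Agent.H110.Fpr.FamL_m3
import Cfsg.Agent.H409.FprCycSm
import Cfsg.Agent.LieClassical.SLGen
import Cfsg.Agent.FastGrp
import Cfsg.Agent.Prune
set_option linter.all false

-- part: H441/FPR/BitE813
section
set_option linter.all false
open scoped Cfsg.Agent.FastGrp

/-!
# An element of order `13` in the Levi subgroup of a long root of `E8`
-/

set_option autoImplicit false
set_option linter.unusedSectionVars false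
set_option linter.unusedVariables false
set_option maxRecDepth 100000

namespace Cfsg.Agent.H441.FPR.Bit

open CoxeterSystem Cfsg.Agent.ChevalleyStructure.CoxeterGeom Cfsg.Agent.Tits.Roots Cfsg.Agent.Tits.Core
  Cfsg.Agent.Nodes.Reps Cfsg.Agent.Nodes.BNOf Cfsg.Agent.Nodes.Coroot Cfsg.Agent.Nodes.LeviDec
  Cfsg.Agent.Nodes.PosPair Cfsg.Agent.Nodes.StabComb Cfsg.Agent.Nodes.KindChev Cfsg.Agent.KFacts.RgdCent
  Cfsg.Agent.Nodes.Bruhat Cfsg.Agent.Nodes.OppDec Cfsg.Agent.Tits.Exchange
  Cfsg.Agent.KFacts.RgdPar Cfsg.Agent.KFacts.RgdSL Cfsg.Agent.KFacts.RgdTI Cfsg.Agent.Nodes.RGDChev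
  Cfsg.Agent.ChevalleyStructure.CoxeterGeomTypes
open Cfsg.Lie Cfsg.Agent.ChevalleyStructure Cfsg.Agent.ChevalleyStructure.Elts Cfsg.Agent.ChevalleyStructure.NPerm
open Cfsg.Agent.KFacts.RgdChevCoord Cfsg.Agent.Nodes.ChevCls
open Cfsg.Agent.H400.TwoExc Cfsg.Agent.H400.Fpr
open Cfsg.Agent.H79.SimpleGen
open Cfsg.Agent.H400
open Cfsg.Agent.H441.FPR.Heis

universe u

theorem a13_g75 : GenC chevE8 8 239 gE8 75
    [1, 2, 4, 8, 16, 32, 64, 128, 256, 512, 1024, 2048, 4104, 8192, 16448, 32768, 65536, 131072, 262272, 524288, 1048576,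
  2097152, 4194816, 8389632, 16779264, 33554432, 67108864, 134217728, 268435456, 536870912, 1073741824, 2147483648,
  4294967296, 8589934592, 17179869184, 34359738368, 68719476736, 137438953472, 274877906944, 549755813888,
  1099511627776, 2199023255552, 4398046511104, 8796093022208, 17594333528064, 35188667056128, 70377334112256,
  140737488355328, 281612415664128, 565148976676864, 1125899906842624, 2251799813685248, 4512395720392704,
  9007199254740992, 18014398509481984, 36028797018963968] :=
  GenC.fast (by decide +kernel)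

theorem a13_g85 : GenC chevE8 8 239 gE8 85
    [1, 2, 4, 8, 16, 32, 64, 128, 257, 512, 1024, 2056, 4096, 8192, 16384, 32768, 65536, 131072, 262144, 524288, 1048576,
  2097152, 4194304, 8388608, 16781312, 33554432, 67108864, 134217728, 268435456, 536870912, 1073750016, 2147483648,
  4294967296, 8589934592, 17179869184, 34359771136, 68719542272, 137438953472, 274877906944, 549756338176,
  1099512676352, 2199023255552, 4398080065536, 8798240505856, 17592186044416, 35184372088832, 70368744177664,
  140737488355328, 281474976710656, 562949953421312, 1125899906842624, 2251799813685248, 4521191813414912,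
  9007199254740992, 18014398509481984, 36169534507319296] :=
  GenC.fast (by decide +kernel)

theorem a13_g96 : GenC chevE8 8 239 gE8 96
    [1, 2, 4, 8, 16, 32, 68, 128, 256, 544, 1024, 2048, 4096, 8192, 16384, 36864, 65536, 131072, 262144, 524288, 1048576,
  2097152, 4194304, 8388608, 16777216, 33554432, 67108864, 134217728, 268697600, 536870912, 1073741824, 2148532224,
  4297064448, 8589934592, 17188257792, 34376515584, 68719476736, 137573171200, 274877906944, 549755813888,
  1099511627776, 2199023255552, 4398046511104, 9895604649984, 17592186044416, 35184372088832, 70368744177664,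
  140737488355328, 281474976710656, 562949953421312, 1196268651020288, 2251799813685248, 4503599627370496,
  9570149208162304, 18014398509481984, 36028797018963968] :=
  GenC.fast (by decide +kernel)

theorem a13_g100 : GenC chevE8 8 239 gE8 100
    [1, 2, 4, 8, 16, 33, 64, 128, 256, 512, 1024, 2112, 4096, 8192, 16384, 32768, 65536, 131072, 262144, 524288, 1048576,
  2105344, 4194304, 8388608, 16793600, 33554432, 67141632, 134283264, 268435456, 536870912, 1073741824, 2147483648,
  4294967296, 8589934592, 17179869184, 34359738368, 68719476736, 137438953472, 274877906944, 550024249344,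
  1100048498688, 2201170739200, 4415226380288, 8796093022208, 17592186044416, 35184372088832, 70368744177664,
  140737488355328, 281474976710656, 580542139465728, 1125899906842624, 2251799813685248, 4503599627370496,
  9007199254740992, 18014398509481984, 37154696925806592] :=
  GenC.fast (by decide +kernel)

theorem a13_g102 : GenC chevE8 8 239 gE8 102
    [1, 2, 4, 8, 16, 36, 64, 128, 256, 576, 1024, 2048, 4096, 8192, 16384, 32768, 65536, 131072, 262144, 532480, 1048576,
  2097152, 4210688, 8388608, 16777216, 33619968, 67239936, 134217728, 268435456, 536870912, 1073741824, 2147483648,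
  4294967296, 8589934592, 17179869184, 34359738368, 68719476736, 137438953472, 275414777856, 550829555712,
  1099511627776, 2207613190144, 4466765987840, 8796093022208, 17592186044416, 35184372088832, 70368744177664,
  140737488355328, 281474976710656, 633318697598976, 1125899906842624, 2251799813685248, 4503599627370496,
  10133099161583616, 18014398509481984, 36028797018963968] :=
  GenC.fast (by decide +kernel)

theorem a13_g112 : GenC chevE8 8 239 gE8 112
    [1, 2, 4, 10, 16, 32, 64, 128, 256, 512, 1280, 2048, 4096, 8192, 16384, 32768, 81920, 131072, 262144, 524288,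
  1310720, 2097152, 4194304, 8388608, 16777216, 37748736, 67108864, 150994944, 268435456, 536870912, 1073741824,
  2415919104, 4294967296, 9663676416, 17179869184, 34359738368, 68719476736, 171798691840, 274877906944, 549755813888,
  1099511627776, 2748779069440, 4398046511104, 8796093022208, 17592186044416, 35184372088832, 70368744177664,
  175921860444160, 281474976710656, 562949953421312, 1125899906842624, 2251799813685248, 4503599627370496,
  9007199254740992, 22517998136852480, 36028797018963968] :=
  GenC.fast (by decide +kernel)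

theorem a13_g131 : GenC chevE8 8 239 gE8 131
    [1, 2, 20, 8, 16, 32, 64, 640, 256, 512, 1024, 2048, 4096, 40960, 16384, 32768, 65536, 131072, 4456448, 524288,
  34603008, 69206016, 4194304, 8388608, 16777216, 33554432, 67108864, 134217728, 268435456, 17716740096, 35433480192,
  2147483648, 4294967296, 146028888064, 17179869184, 34359738368, 68719476736, 137438953472, 274877906944,
  549755813888, 5497558138880, 2199023255552, 4398046511104, 8796093022208, 17592186044416, 35184372088832,
  351843720888320, 140737488355328, 281474976710656, 562949953421312, 1125899906842624, 11258999068426240,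
  4503599627370496, 9007199254740992, 18014398509481984, 36028797018963968] :=
  GenC.fast (by decide +kernel)

theorem a13_g156 : GenC chevE8 8 239 gE8 156
    [1, 514, 1028, 8, 16, 32, 64, 128, 256, 512, 1024, 2048, 33558528, 2147491840, 17179885568, 32768, 65536,
  137439084544, 274878169088, 524288, 1048576, 2199025352704, 4194304, 8388608, 4398063288320, 33554432, 67108864,
  134217728, 268435456, 536870912, 8797166764032, 2147483648, 4294967296, 8589934592, 17179869184, 34359738368,
  68719476736, 137438953472, 274877906944, 549755813888, 1099511627776, 2199023255552, 4398046511104, 8796093022208,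
  17592186044416, 9042383626829824, 18084767253659648, 140737488355328, 281474976710656, 562949953421312,
  1125899906842624, 2251799813685248, 4503599627370496, 9007199254740992, 18014398509481984, 36028797018963968] :=
  GenC.fast (by decide +kernel)

theorem a13_g186 : GenC chevE8 8 239 gE8 186
    [262145, 2, 4, 2097160, 16777232, 32, 1073741888, 128, 256, 549755814400, 1099511628800, 2048, 4096, 8192, 16384,
  35184372121600, 70368744243200, 131072, 262144, 524288, 1048576, 2097152, 4194304, 8388608, 16777216,
  562949986975744, 67108864, 134217728, 268435456, 536870912, 1073741824, 2251801961168896, 4294967296, 8589934592,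
  4503616807239680, 34359738368, 68719476736, 36028934457917440, 274877906944, 549755813888, 1099511627776,
  2199023255552, 4398046511104, 8796093022208, 17592186044416, 35184372088832, 70368744177664, 140737488355328,
  281474976710656, 562949953421312, 1125899906842624, 2251799813685248, 4503599627370496, 9007199254740992,
  18014398509481984, 36028797018963968] :=
  GenC.fast (by decide +kernel)

def a13_p1 : List ℕ := [1, 2, 4, 8, 16, 32, 68, 128, 256, 544, 1024, 2048, 4096, 8192, 16384, 36864, 65536, 131072, 262144, 524288, 1048576,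
  2097152, 4194304, 8388608, 16777216, 33554432, 67108864, 134217728, 268697600, 536870912, 1073741824, 2148532224,
  4297064448, 8589934592, 17188257792, 34376515584, 68719476736, 137573171200, 274877906944, 549755813888,
  1099511627776, 2199023255552, 4398046511104, 9895604649984, 17592186044416, 35184372088832, 70368744177664,
  140737488355328, 281474976710656, 562949953421312, 1196268651020288, 2251799813685248, 4503599627370496,
  9570149208162304, 18014398509481984, 36028797018963968]

def a13_p2 : List ℕ := [1, 2, 4, 8, 16, 32, 68, 128, 256, 544, 1024, 2048, 4104, 8192, 16448, 36872, 65536, 131072, 262272, 524288, 1048576,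
  2097152, 4194816, 8389632, 16779264, 33554432, 67108864, 134217728, 268697728, 536870912, 1073741824, 2148532224,
  4297064448, 8589934592, 17188258816, 34376517632, 68719476736, 137573171200, 274877906944, 549755813888,
  1099511627776, 2199023255552, 4398046511104, 9895604649984, 17594333528064, 35188667056128, 70377334112256,
  140737488355328, 281612415664128, 565148976676864, 1196277240954880, 2251799813685248, 4512395720392704,
  9572348231417856, 18014398509481984, 36028797018963968]

def a13_p3 : List ℕ := [1, 2, 4, 8, 16, 32, 68, 128, 257, 544, 1024, 2056, 4104, 8192, 16448, 36872, 65536, 131072, 262272, 524288, 1048576,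
  2097152, 4194816, 8389632, 16783368, 33554432, 67108864, 134217728, 268697728, 536870912, 1073750016, 2148532224,
  4297064448, 8589934592, 17188258816, 34376554504, 68719542272, 137573171200, 274877906944, 549756338176,
  1099512676352, 2199023255552, 4398080065536, 9897753182208, 17594333528064, 35188667056128, 70377334112256,
  140737488355328, 281612415664128, 565148976676864, 1196277240954880, 2251799813685248, 4529990053920768,
  9572348231417856, 18014398509481984, 36169534507319296]

def a13_p4 : List ℕ := [1, 2, 4, 8, 16, 33, 68, 128, 257, 545, 1024, 2120, 4104, 8192, 16448, 36872, 65536, 131072, 262272, 524288, 1048576,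
  2105344, 4194816, 8389632, 16799816, 33554432, 67141632, 134283264, 268697728, 536870912, 1073750016, 2148532224,
  4297072640, 8589934592, 17188258816, 34376570952, 68719542272, 137573236736, 274877906944, 550024773632,
  1100049547264, 2201170739200, 4415259934720, 9898290053120, 17594333528064, 35188667056128, 70377334112256,
  140737488355328, 281612415664128, 582743310204928, 1196277240954880, 2251799813685248, 4529990053920768,
  9589942564945920, 18014398509481984, 37295434414161920]

def a13_p5 : List ℕ := [1, 2, 20, 8, 16, 33, 84, 640, 257, 545, 1024, 2120, 4104, 40960, 16448, 36872, 65536, 131072, 4457088, 524288,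
  34603008, 69246976, 4194816, 8389632, 16799816, 33554432, 67141632, 134283264, 272892544, 17716740096, 35433521152,
  2182086656, 4364214272, 146028888064, 17188258816, 34376570952, 68719542272, 137573236736, 274877906944,
  550024773632, 5515309481984, 2201170739200, 4415259934720, 14313549987840, 17594333528064, 35188667056128,
  351989749776384, 140737488355328, 281612415664128, 582743310204928, 1477889656619008, 11258999068426240,
  4529990053920768, 9589942564945920, 18014398509481984, 37295434414161920]

def a13_p6 : List ℕ := [1, 2, 20, 8, 16, 37, 84, 704, 257, 613, 1024, 2120, 4104, 40960, 16448, 36872, 65536, 131072, 4473536, 532480,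
  34668544, 69378048, 4211264, 8389632, 16799816, 33619968, 67272704, 134283264, 272908992, 17716740096, 35433521152,
  2182152192, 4364345344, 146028888064, 17188258816, 34376570952, 68719542272, 137573236736, 275414777856,
  551098523648, 5584029024256, 2209760673792, 4483979476992, 14382269530112, 17594333528064, 35188667056128,
  351989749776384, 140737488355328, 281612415664128, 653120644317184, 1477889656619008, 12384898975268864,
  4529990053920768, 10786219805900800, 18014398509481984, 37295434414161920]

def a13_p7 : List ℕ := [262145, 2, 16777236, 2097160, 16777232, 262181, 1090519124, 550829556416, 262401, 550829818469, 1099511628800,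
  1075841096, 2101256, 35184372129792, 1073758272, 35184374222856, 70368744243200, 131072, 550834029248, 532480,
  633318732267520, 35184441466880, 550833766976, 1099520017408, 1092638792, 633318731218944, 35184439361536,
  70368878460928, 551102464704, 4503617344110592, 35219805609984, 2885120693436416, 35188736434176, 36028943047852032,
  4504716327257088, 35219824498760, 70437463719936, 36099303336378368, 275414777856, 551098523648, 5142502353993728,
  2254009574359040, 5141402304446464, 7403100408184832, 2269394147213312, 35188667056128, 36380786768740352,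
  140737488355328, 36310409434628096, 2904920458002432, 37506686675582976, 12384898975268864, 6781789867606016,
  13038019619586048, 18014398509481984, 37295434414161920]

def a13_p8 : List ℕ := [262145, 2, 16777236, 2097162, 16777232, 262181, 1090519124, 550829556416, 262401, 550829818469, 1099511629056,
  1075841098, 2101258, 35184372129792, 1073758272, 35184374222858, 70368744259584, 131072, 550834029248, 532480,
  633318736740352, 35184441466880, 550833766976, 1099520017664, 1092638794, 633318735429632, 35184439361536,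
  70368895254528, 551102464704, 4503617344110592, 35219805609984, 2885120966344704, 35188736434176, 36028978481332224,
  4504716327257344, 35219824498762, 70437463736320, 36099337712910336, 275414777856, 551098523648, 5142502358466560,
  2254560672350208, 5141402308657152, 7403100681093120, 2269394415648768, 35188667056128, 36380822202220544,
  175921860444160, 36310443794366464, 2905471555993600, 37506722109063168, 12384898975268864, 6781790136041472,
  13038570717577216, 22517998136852480, 37330618786250752]

def a13_p9 : List ℕ := [274878169089, 514, 4398063289364, 2199025353226, 4398063288336, 274878170149, 13195230053460, 9346922578624,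
  274878169345, 9621800748645, 1099511629056, 10996192119370, 2199058911754, 9042385774354432, 8814346649664,
  9044582685774346, 18084784433610752, 137439084544, 9638984827584, 2148016128, 18648009303998464, 9044722305900544,
  9364106658368, 1099520017664, 15411468851786, 18647734424780800, 9042521133056000, 18089182631116800, 9639253263040,
  4503617344110592, 9051217300856832, 20899811533602816, 9044726600867840, 36037774574354432, 4504716327257344,
  9057829455452746, 18084853153087488, 54118151448772608, 275414777856, 9349339029504, 23157158565986304,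
  2263356765372416, 23155783638269952, 25417756888612864, 2269394415648768, 9042387921797120, 54404016804724736,
  9183121115185152, 36310443794366464, 20928666158497792, 55529916711567360, 12384898975268864, 6781790136041472,
  31061765320081408, 22517998136852480, 46337818040991744]

def a13_q2 : List ℕ := [9639521436353, 9621800748135, 23163498458585934, 11296803706545773, 23166796976691802, 14862218708976,
  11296710797360922, 34447256435933425, 9364643791808, 34450571593090497, 23155784176190465, 23152667189790835,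
  29942339076617319, 1188330485412362, 29942280548098324, 1188459432076909, 54325967593735488, 54118014009950208,
  29951351787980081, 29942195160989696, 39226094969226688, 57548754702963210, 29951369500280113, 23156883696206081,
  23151498950296947, 56597552476194560, 40036172753359370, 59407980271066890, 29942299334658033, 6782890192930048,
  26585727051515968, 66730924905072384, 66523099674489354, 53664218225080906, 25433991864730625, 7941385805303091,
  36381989367989568, 42719454169187648, 4503891685146624, 4509476757717696, 59395310505705664, 41702212330373824,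
  59406802231493120, 67279563452842496, 31059555594076864, 31059701657673728, 49239773771233866, 31202507103404032,
  55672707364264522, 20025787265368768, 30301966956788298, 38019637035663360, 12400087863149248, 66489600051036864,
  20292589018152960, 4277828497440768]

def a13_q4 : List ℕ := [61663615889560911, 68460779361086642, 37647458540623880, 43952639777037679, 60657927927749999, 68451307143516007,
  4331772642575695, 54882687019399298, 45451782988517759, 51963406686340431, 6337792941612399, 60673422631537152,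
  55974654017225703, 67327174541576563, 37879897736875465, 19236494711120349, 60729334448689192, 42444491018456917,
  55973388597668044, 67256584199544387, 30110279841258152, 18879940322726685, 67271180637014233, 55606754350848879,
  37651942645875776, 56625306485297672, 21298484183154312, 42443390809444872, 1636330867062914, 28747405604979185,
  28888155978445247, 48333191469213826, 18532560678278960, 21367407587758634, 57956722113272159, 21995721212245197,
  18377282153566071, 42444481747784224, 28800061078308545, 46542433069194765, 45170411292524855, 20668532781787816,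
  36103778767934472, 28131711610482610, 49388910755475483, 49388764761319132, 55971337647037098, 18304053909962801,
  18306972454507025, 49386563623123089, 1495593313138841, 140877144696962, 140887979994693, 49388771304335513,
  56619835048116273, 3007077555157640]

def a13_q8 : List ℕ := [58346320766554785, 34767792575880231, 36028874412261404, 8349326452372130, 60446821703598103, 20160653833711624,
  22141497597997819, 51344575848035064, 36702841696582774, 9038538096287455, 24347664463417375, 41171256419163253,
  55037957250224790, 28550051129439079, 23998676953322913, 4812256190140337, 60376460473520157, 18377418920236898,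
  56122515077182544, 8614531866178128, 21145808197738497, 52226525498185359, 64694614866118790, 36100275158650922,
  36386182340353138, 62594175546802237, 24975314024175221, 60377551512784949, 45273532362030294, 24602273478062555,
  40818898349788547, 14081995529834908, 3555094944198189, 44375891164049880, 57819099555285517, 44321064894946674,
  71538068033586, 18308209421933109, 29185864340571376, 64687850383749280, 36979884334084142, 47078218659570903,
  55662777349476386, 58790668552355707, 16032806817764769, 60939311907968417, 59750354092478961, 20797539698185240,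
  18307109221304848, 64265775266579678, 62065155980206001, 18526771668938894, 19424122841039952, 44330035470965673,
  20793964612894725, 62065146853481250]

def a13_q6 : List ℕ := [48385948436608690, 20193174730152127, 59110965043745044, 60567327552979385, 37367119099368563, 64961714765890199,
  1241915296667116, 232271832582664, 31811482150673551, 14381050826010653, 60457867325719417, 286096395295012,
  8669281384718612, 446676865488415, 38353757708642942, 27288226083113248, 60457979986822687, 59180174667881845,
  17162046456165681, 60198716091548057, 35233757232427284, 40892469561611054, 16194547348078659, 1337247279387953,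
  54058641869966939, 35128120514802724, 46024995693754660, 36039836177662766, 65626093746702195, 60457883699814103,
  60728088619373540, 35233756973779862, 40976857220616255, 60350681316940252, 34142914669509901, 68968366139765870,
  1349273322035021, 24634696598084938, 48192656072602075, 41293024023208721, 33160635035290354, 602263156177418,
  55385786411097418, 46008737802437411, 439944342581787, 65502918073587829, 26608930140823828, 47677833716536592,
  19355991900524560, 7754541952374334, 38796206246887749, 59751997329742530, 51169452137252902, 28537141809919102,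
  48210237740263194, 13729882435238180]

def a13_q14 : List ℕ := [4672941457425, 17213445926, 4398063289364, 18088082970593034, 4398063288336, 4672949846065, 18099079175291220,
  23154135045064859, 4672949847317, 23158738603294779, 1099511629056, 11065045813850, 18088083012540170,
  32198307540624389, 18094663940506944, 14116647000381210, 18084784433610752, 206292779024, 23158807948777627,
  303740298461233, 567623067893760, 14393915653484593, 23154065615704074, 1099520017664, 15480322546266,
  562949991170048, 32475175693959168, 18089182631116800, 23453376274988430, 22588436137459712, 14400427861845269,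
  38849493626782976, 15667094418061921, 54123658519594240, 22589466401129728, 32490827379087962, 18084853153087488,
  54118151448772608, 4673059684369, 23154257082083110, 23152760544642068, 43419355859470090, 23155715053010960,
  43426855433617748, 38580937730032896, 33475829958756944, 36320366251033856, 14324454855360512, 36310443794366464,
  43155473043642122, 55460716206966016, 47729114724082693, 43163710784554304, 52307807967500058, 4573985551499264,
  69770816065323024]

def a13_q16 : List ℕ := [47674870440368857, 65629156083944619, 59407808422085222, 44077882290809375, 59391298046680361, 70694880486792232,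
  62168309935008290, 26691502064690876, 70688267815274327, 8604518987542535, 36397322964387585, 54336876852677176,
  30872925277231225, 71350874560866495, 30869842210966608, 53265259621342674, 6696242330573343, 24630168626890064,
  30661854657680040, 59842696558677024, 20034066552952953, 11841760441706039, 12563617162697337, 59402472912848384,
  59402327455587129, 64280648459026673, 56623861575862971, 19574649652478566, 41903458250288501, 70021075624582302,
  42215045559266249, 18792056737552378, 703964479848488, 8328412815369575, 50262845503609566, 62955940446063611,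
  42374114760056671, 54406138016320021, 56607714462203985, 56606269661133375, 30656062139555129, 7970922721370284,
  60668957336656767, 775441856123371, 70993533285864968, 70993370613930434, 30662001170809958, 11670094050271895,
  18308080572977721, 510213612112000, 41742654765465453, 518308704671202, 30744063858673862, 60036191631174525,
  32615786379335903, 8691648038666694]

def a13_q10 : List ℕ := [71693732700695588, 31417969055084174, 55326489949802250, 17950427361864743, 60744882717970185, 5435961233698349,
  12878362829139971, 66638967505101278, 5430428336435795, 36913492888179575, 55326506558197513, 5423978007186778,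
  33284115249737390, 9619800242389810, 9493973657526934, 27996040836272539, 6696276202668846, 18378509992989458,
  606420529711922, 35632498945109164, 60434879929593572, 29033794359036432, 67515385626483091, 5429603304751972,
  60729447101403394, 45177422299537984, 25019956902868668, 5429586091524672, 852911905737962, 71640999796969208,
  21730141138166676, 63985943826744047, 13164820118908421, 71647312150560549, 14285422396518938, 4342533170621919,
  55315434266725721, 41451744300974446, 67510472303299245, 40655311376885279, 55321850640105279, 21289846552982710,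
  5422808700109092, 39487493466864818, 62522194038465646, 21853158897125936, 50578255144364452, 2429098401510453,
  54330307233469787, 45189147752281663, 31274779219718836, 40989582715494790, 62237489137055910, 14008345550480175,
  32305318968506139, 61058693531152806]

def a13_q26 : List ℕ := [1, 2, 4, 8, 16, 32, 64, 128, 256, 512, 1024, 2048, 4096, 8192, 16384, 32768, 65536, 131072, 262144, 524288, 1048576,
  2097152, 4194304, 8388608, 16777216, 33554432, 67108864, 134217728, 268435456, 536870912, 1073741824, 2147483648,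
  4294967296, 8589934592, 17179869184, 34359738368, 68719476736, 137438953472, 274877906944, 549755813888,
  1099511627776, 2199023255552, 4398046511104, 8796093022208, 17592186044416, 35184372088832, 70368744177664,
  140737488355328, 281474976710656, 562949953421312, 1125899906842624, 2251799813685248, 4503599627370496,
  9007199254740992, 18014398509481984, 36028797018963968]

def a13_bs : List ℕ := [2, 8, 32, 128, 512, 2048, 8192, 524288]

def a13_wu : List (ℕ × ℕ) := [(17759754272, 0), (0, 1), (8389920, 0), (0, 2), (8389652, 0), (0, 4), (163879994388, 0), (0, 8), (1246229564403, 0), (0, 16), (8389632, 0), (0, 32), (17763945001, 22), (0, 64), (1100103045504, 0), (143265739340176, 48), (134283280, 0), (1151144709049, 54), (703723977933214, 102), (0, 128), (1521123201785, 54), (36601923107096229, 20), (703723974002475, 122), (17759754241, 0), (1246212784833, 52), (17759750153, 2), (36744621385351430, 115), (17716759580, 2), (704274529311127, 230), (1374927454465, 0), (36040930312063614, 17), (144459752964856, 38), (47333306669469709,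 10), (11012313991623, 4), (146197862769, 0), (36178794001959538, 67), (146163237232, 0), (163888253304, 2), (703723969545627, 102), (163209956161, 4), (1246229565427, 0), (36601923232925373, 5), (1246212784849, 52), (36040930446282506, 17), (36178519368644092, 1), (11821975060273661, 10), (141837554795425, 20), (9010919441937506, 124), (144510780893536, 16), (703724007556907, 122), (45176882114561611, 122), (705783842393610, 208), (705714193, 0), (11822104626351785, 30), (140883655838544, 20), (36178673340237422, 65)]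

theorem a13_e1 : mmul [1, 2, 4, 8, 16, 32, 68, 128, 256, 544, 1024, 2048, 4096, 8192, 16384, 36864, 65536, 131072, 262144, 524288, 1048576,
  2097152, 4194304, 8388608, 16777216, 33554432, 67108864, 134217728, 268697600, 536870912, 1073741824, 2148532224,
  4297064448, 8589934592, 17188257792, 34376515584, 68719476736, 137573171200, 274877906944, 549755813888,
  1099511627776, 2199023255552, 4398046511104, 9895604649984, 17592186044416, 35184372088832, 70368744177664,
  140737488355328, 281474976710656, 562949953421312, 1196268651020288, 2251799813685248, 4503599627370496,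
  9570149208162304, 18014398509481984, 36028797018963968]
    (idL gE8.length) = a13_p1 := mm_of (by decide +kernel)

theorem a13_e2 : mmul [1, 2, 4, 8, 16, 32, 64, 128, 256, 512, 1024, 2048, 4104, 8192, 16448, 32768, 65536, 131072, 262272, 524288, 1048576,
  2097152, 4194816, 8389632, 16779264, 33554432, 67108864, 134217728, 268435456, 536870912, 1073741824, 2147483648,
  4294967296, 8589934592, 17179869184, 34359738368, 68719476736, 137438953472, 274877906944, 549755813888,
  1099511627776, 2199023255552, 4398046511104, 8796093022208, 17594333528064, 35188667056128, 70377334112256,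
  140737488355328, 281612415664128, 565148976676864, 1125899906842624, 2251799813685248, 4512395720392704,
  9007199254740992, 18014398509481984, 36028797018963968]
    a13_p1 = a13_p2 := mm_of (by decide +kernel)

theorem a13_e3 : mmul [1, 2, 4, 8, 16, 32, 64, 128, 257, 512, 1024, 2056, 4096, 8192, 16384, 32768, 65536, 131072, 262144, 524288, 1048576,
  2097152, 4194304, 8388608, 16781312, 33554432, 67108864, 134217728, 268435456, 536870912, 1073750016, 2147483648,
  4294967296, 8589934592, 17179869184, 34359771136, 68719542272, 137438953472, 274877906944, 549756338176,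
  1099512676352, 2199023255552, 4398080065536, 8798240505856, 17592186044416, 35184372088832, 70368744177664,
  140737488355328, 281474976710656, 562949953421312, 1125899906842624, 2251799813685248, 4521191813414912,
  9007199254740992, 18014398509481984, 36169534507319296]
    a13_p2 = a13_p3 := mm_of (by decide +kernel)

theorem a13_e4 : mmul [1, 2, 4, 8, 16, 33, 64, 128, 256, 512, 1024, 2112, 4096, 8192, 16384, 32768, 65536, 131072, 262144, 524288, 1048576,
  2105344, 4194304, 8388608, 16793600, 33554432, 67141632, 134283264, 268435456, 536870912, 1073741824, 2147483648,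
  4294967296, 8589934592, 17179869184, 34359738368, 68719476736, 137438953472, 274877906944, 550024249344,
  1100048498688, 2201170739200, 4415226380288, 8796093022208, 17592186044416, 35184372088832, 70368744177664,
  140737488355328, 281474976710656, 580542139465728, 1125899906842624, 2251799813685248, 4503599627370496,
  9007199254740992, 18014398509481984, 37154696925806592]
    a13_p3 = a13_p4 := mm_of (by decide +kernel)

theorem a13_e5 : mmul [1, 2, 20, 8, 16, 32, 64, 640, 256, 512, 1024, 2048, 4096, 40960, 16384, 32768, 65536, 131072, 4456448, 524288,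
  34603008, 69206016, 4194304, 8388608, 16777216, 33554432, 67108864, 134217728, 268435456, 17716740096, 35433480192,
  2147483648, 4294967296, 146028888064, 17179869184, 34359738368, 68719476736, 137438953472, 274877906944,
  549755813888, 5497558138880, 2199023255552, 4398046511104, 8796093022208, 17592186044416, 35184372088832,
  351843720888320, 140737488355328, 281474976710656, 562949953421312, 1125899906842624, 11258999068426240,
  4503599627370496, 9007199254740992, 18014398509481984, 36028797018963968]
    a13_p4 = a13_p5 := mm_of (by decide +kernel)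

theorem a13_e6 : mmul [1, 2, 4, 8, 16, 36, 64, 128, 256, 576, 1024, 2048, 4096, 8192, 16384, 32768, 65536, 131072, 262144, 532480, 1048576,
  2097152, 4210688, 8388608, 16777216, 33619968, 67239936, 134217728, 268435456, 536870912, 1073741824, 2147483648,
  4294967296, 8589934592, 17179869184, 34359738368, 68719476736, 137438953472, 275414777856, 550829555712,
  1099511627776, 2207613190144, 4466765987840, 8796093022208, 17592186044416, 35184372088832, 70368744177664,
  140737488355328, 281474976710656, 633318697598976, 1125899906842624, 2251799813685248, 4503599627370496,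
  10133099161583616, 18014398509481984, 36028797018963968]
    a13_p5 = a13_p6 := mm_of (by decide +kernel)

theorem a13_e7 : mmul [262145, 2, 4, 2097160, 16777232, 32, 1073741888, 128, 256, 549755814400, 1099511628800, 2048, 4096, 8192, 16384,
  35184372121600, 70368744243200, 131072, 262144, 524288, 1048576, 2097152, 4194304, 8388608, 16777216,
  562949986975744, 67108864, 134217728, 268435456, 536870912, 1073741824, 2251801961168896, 4294967296, 8589934592,
  4503616807239680, 34359738368, 68719476736, 36028934457917440, 274877906944, 549755813888, 1099511627776,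
  2199023255552, 4398046511104, 8796093022208, 17592186044416, 35184372088832, 70368744177664, 140737488355328,
  281474976710656, 562949953421312, 1125899906842624, 2251799813685248, 4503599627370496, 9007199254740992,
  18014398509481984, 36028797018963968]
    a13_p6 = a13_p7 := mm_of (by decide +kernel)

theorem a13_e8 : mmul [1, 2, 4, 10, 16, 32, 64, 128, 256, 512, 1280, 2048, 4096, 8192, 16384, 32768, 81920, 131072, 262144, 524288,
  1310720, 2097152, 4194304, 8388608, 16777216, 37748736, 67108864, 150994944, 268435456, 536870912, 1073741824,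
  2415919104, 4294967296, 9663676416, 17179869184, 34359738368, 68719476736, 171798691840, 274877906944, 549755813888,
  1099511627776, 2748779069440, 4398046511104, 8796093022208, 17592186044416, 35184372088832, 70368744177664,
  175921860444160, 281474976710656, 562949953421312, 1125899906842624, 2251799813685248, 4503599627370496,
  9007199254740992, 22517998136852480, 36028797018963968]
    a13_p7 = a13_p8 := mm_of (by decide +kernel)

theorem a13_e9 : mmul [1, 514, 1028, 8, 16, 32, 64, 128, 256, 512, 1024, 2048, 33558528, 2147491840, 17179885568, 32768, 65536,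
  137439084544, 274878169088, 524288, 1048576, 2199025352704, 4194304, 8388608, 4398063288320, 33554432, 67108864,
  134217728, 268435456, 536870912, 8797166764032, 2147483648, 4294967296, 8589934592, 17179869184, 34359738368,
  68719476736, 137438953472, 274877906944, 549755813888, 1099511627776, 2199023255552, 4398046511104, 8796093022208,
  17592186044416, 9042383626829824, 18084767253659648, 140737488355328, 281474976710656, 562949953421312,
  1125899906842624, 2251799813685248, 4503599627370496, 9007199254740992, 18014398509481984, 36028797018963968]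
    a13_p8 = a13_p9 := mm_of (by decide +kernel)

theorem a13_f2 : mmul a13_p9 a13_p9 = a13_q2 := mm_of (by decide +kernel)

theorem a13_f4 : mmul a13_q2 a13_q2 = a13_q4 := mm_of (by decide +kernel)

theorem a13_f8 : mmul a13_q4 a13_q4 = a13_q8 := mm_of (by decide +kernel)

theorem a13_f6 : mmul a13_q4 a13_q2 = a13_q6 := mm_of (by decide +kernel)

theorem a13_f14 : mmul a13_q8 a13_q6 = a13_q14 := mm_of (by decide +kernel)

theorem a13_f16 : mmul a13_q8 a13_q8 = a13_q16 := mm_of (by decide +kernel)

theorem a13_f10 : mmul a13_q8 a13_q2 = a13_q10 := mm_of (by decide +kernel)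

theorem a13_f26 : mmul a13_q16 a13_q10 = a13_q26 := mm_of (by decide +kernel)

theorem a13_id : a13_q26 = idL gE8.length := by decide +kernel

theorem a13_m1 : mmul a13_q14 (idL gE8.length) = a13_q14 := mm_of (by decide +kernel)

theorem a13_m2 : mmul (idL gE8.length) (idL gE8.length) = idL gE8.length := mm_of (by decide +kernel)

theorem a13_cert : cert a13_q14 a13_bs a13_wu = idL gE8.length := by
  unfold cert; rw [app_eq]; decide +kernel

/-- an element of order a power of `13` in `L₀`, `|C_V(x)| = q^8` -/
theorem a13_x {K : Type u} [Field K] [Fintype K] {W : Type} [Group W] [Finite W]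
    (cs : CoxeterSystem CoxeterMatrix.E₈ W) (p : ℕ) [Fact p.Prime] [CharP K p] (h2 : (2 : K) = 0) (hp : IsType chevE8 8 CoxeterMatrix.E₈) :
    ∃ x ∈ L0 cs hp.isCartan (XX chevE8 8 K) (toV [2, 3, 4, 6, 5, 4, 3, 2]), ∃ j, x ^ 13 ^ j = 1 ∧ x ≠ 1 ∧
      Nat.card ↥(TwoExc.QQ cs hp.isCartan (XX chevE8 8 K) (toV [2, 3, 4, 6, 5, 4, 3, 2]) ⊓ Subgroup.centralizer {x}) ≤
        Fintype.card K ^ 8 * Nat.card (XX chevE8 8 K (toV [2, 3, 4, 6, 5, 4, 3, 2])) := by
  have h1 : vec chevE8 8 239 = toV [2, 3, 4, 6, 5, 4, 3, 2] := by decide +kernel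
  have HD0 := hd_E8 (K := K) cs p
  rw [← h1] at HD0 ⊢
  obtain ⟨A, _, π, hs, hk⟩ := exists_pi HD0.hs
  have a0 : LA hp cs 239 π gE8 (1 : ↥(chevE8.group K)) (idL gE8.length) := LA.one
  have a1 := LA.gen h2 secE8 HD0.hs hs hk a13_g96 a0 a13_e1
  have a2 := LA.gen h2 secE8 HD0.hs hs hk a13_g75 a1 a13_e2
  have a3 := LA.gen h2 secE8 HD0.hs hs hk a13_g85 a2 a13_e3
  have a4 := LA.gen h2 secE8 HD0.hs hs hk a13_g100 a3 a13_e4
  have a5 := LA.gen h2 secE8 HD0.hs hs hk a13_g131 a4 a13_e5
  have a6 := LA.gen h2 secE8 HD0.hs hs hk a13_g102 a5 a13_e6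
  have a7 := LA.gen h2 secE8 HD0.hs hs hk a13_g186 a6 a13_e7
  have a8 := LA.gen h2 secE8 HD0.hs hs hk a13_g112 a7 a13_e8
  have a9 := LA.gen h2 secE8 HD0.hs hs hk a13_g156 a8 a13_e9
  have b1 := a9.pow_one
  have b2 := LA.add h2 (n := 2) b1 b1 (by norm_num) a13_f2
  have b4 := LA.add h2 (n := 4) b2 b2 (by norm_num) a13_f4
  have b8 := LA.add h2 (n := 8) b4 b4 (by norm_num) a13_f8
  have b6 := LA.add h2 (n := 6) b4 b2 (by norm_num) a13_f6
  have b14 := LA.add h2 (n := 14) b8 b6 (by norm_num) a13_f14
  have b16 := LA.add h2 (n := 16) b8 b8 (by norm_num) a13_f16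
  have b10 := LA.add h2 (n := 10) b8 b2 (by norm_num) a13_f10
  have b26 := LA.add h2 (n := 26) b16 b10 (by norm_num) a13_f26
  exact final_x (ℓ := 13) (m := 2) (s₀ := 7) h2 secE8 HD0 hs hk (by norm_num) b1 b26 a13_id b14 a13_m1 a13_m2
    a13_cert (by decide)

end Cfsg.Agent.H441.FPR.Bit
end

-- part: H441/FPR/BitE873
section
set_option linter.all false
open scoped Cfsg.Agent.FastGrp

/-!
# An element of order `73` in the Levi subgroup of a long root of `E8`
-/

set_option autoImplicit false
set_option linter.unusedSectionVars false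
set_option linter.unusedVariables false
set_option maxRecDepth 100000

namespace Cfsg.Agent.H441.FPR.Bit

open CoxeterSystem Cfsg.Agent.ChevalleyStructure.CoxeterGeom Cfsg.Agent.Tits.Roots Cfsg.Agent.Tits.Core
  Cfsg.Agent.Nodes.Reps Cfsg.Agent.Nodes.BNOf Cfsg.Agent.Nodes.Coroot Cfsg.Agent.Nodes.LeviDec
  Cfsg.Agent.Nodes.PosPair Cfsg.Agent.Nodes.StabComb Cfsg.Agent.Nodes.KindChev Cfsg.Agent.KFacts.RgdCent
  Cfsg.Agent.Nodes.Bruhat Cfsg.Agent.Nodes.OppDec Cfsg.Agent.Tits.Exchange
  Cfsg.Agent.KFacts.RgdPar Cfsg.Agent.KFacts.RgdSL Cfsg.Agent.KFacts.RgdTI Cfsg.Agent.Nodes.RGDChev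
  Cfsg.Agent.ChevalleyStructure.CoxeterGeomTypes
open Cfsg.Lie Cfsg.Agent.ChevalleyStructure Cfsg.Agent.ChevalleyStructure.Elts Cfsg.Agent.ChevalleyStructure.NPerm
open Cfsg.Agent.KFacts.RgdChevCoord Cfsg.Agent.Nodes.ChevCls
open Cfsg.Agent.H400.TwoExc Cfsg.Agent.H400.Fpr
open Cfsg.Agent.H79.SimpleGen
open Cfsg.Agent.H400
open Cfsg.Agent.H441.FPR.Heis

universe u

theorem a73_g51 : GenC chevE8 8 239 gE8 51
    [1, 2, 4, 8, 16, 32, 64, 128, 256, 512, 1024, 2048, 4096, 8192, 16384, 32768, 65536, 131072, 262144, 524290, 1048580,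
  2097152, 4194304, 8388608, 16777216, 33554448, 67108864, 134217728, 268435456, 536870912, 1073741824, 2147483712,
  4294967296, 8589934592, 17179869184, 34359738368, 68719476736, 137438953472, 274877907200, 549755813888,
  1099511627776, 2199023257600, 4398046511104, 8796093022208, 17592186060800, 35184372088832, 70368744177664,
  140737488486400, 281474976710656, 562949970198528, 1125899906842624, 2251800887427072, 4503599627370496,
  9007233614479360, 18014467228958720, 36028797018963968] :=
  GenC.fast (by decide +kernel)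

theorem a73_g60 : GenC chevE8 8 239 gE8 60
    [1, 2, 4, 8, 16, 32, 64, 128, 256, 512, 1024, 2048, 4096, 8192, 16384, 32769, 65536, 131076, 262144, 524288, 1048576,
  2097152, 4194304, 8388608, 16777216, 33554432, 67108896, 134217728, 268435456, 536870912, 1073741824, 2147483648,
  4294967424, 8589934592, 17179869184, 34359738624, 68719476736, 137438954496, 274877906944, 549755813888,
  1099511627776, 2199023255552, 4398046511104, 8796093022208, 17592186044416, 35184372350976, 70368744177664,
  140737489403904, 281474985099264, 562949953421312, 1125900443713536, 2251799813685248, 4503599627370496,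
  9007474132647936, 18014398509481984, 36029896530591744] :=
  GenC.fast (by decide +kernel)

theorem a73_g70 : GenC chevE8 8 239 gE8 70
    [1, 2, 4, 8, 16, 32, 64, 128, 256, 512, 1024, 2048, 4096, 8200, 16400, 32768, 65536, 131072, 262176, 524288, 1048576,
  2097152, 4194304, 8388608, 16777216, 33554432, 67108864, 134217728, 268435968, 536871936, 1073743872, 2147483648,
  4294967296, 8589934592, 17179869184, 34359738368, 68719476736, 137438953472, 274877906944, 549755813888,
  1099511627776, 2199023255552, 4398046511104, 8796093022208, 17592219598848, 35184439197696, 70368878395392,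
  140737488355328, 281474976710656, 562949953421312, 1126037345796096, 2253998836940800, 4507997673881600,
  9007199254740992, 18014398509481984, 36028797018963968] :=
  GenC.fast (by decide +kernel)

theorem a73_g73 : GenC chevE8 8 239 gE8 73
    [1, 2, 4, 8, 16, 32, 64, 128, 256, 512, 1024, 2048, 4098, 8192, 16384, 32768, 65600, 131072, 262144, 524288, 1048704,
  2097152, 4194304, 8388864, 16777216, 33554944, 67108864, 134219776, 268435456, 536870912, 1073741824, 2147483648,
  4294967296, 8589934592, 17179869184, 34359738368, 68719476736, 137438953472, 274877906944, 549755813888,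
  1099511627776, 2199023255552, 4398046511104, 8796093022208, 17592454479872, 35184372088832, 70369817919488,
  140741783322624, 281509336449024, 563499709235200, 1125899906842624, 2251799813685248, 4503599627370496,
  9007199254740992, 18023194602504192, 36028797018963968] :=
  GenC.fast (by decide +kernel)

theorem a73_g94 : GenC chevE8 8 239 gE8 94
    [1, 2, 4, 8, 16, 32, 65, 128, 256, 512, 1024, 2080, 4096, 8192, 16384, 32768, 65536, 135168, 262144, 524288, 1048576,
  2097152, 4194304, 8388608, 16777216, 33554432, 67108864, 134217728, 268435456, 536870912, 1074003968, 2147483648,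
  4295491584, 8590983168, 17179869184, 34363932672, 68727865344, 137472507904, 274877906944, 549755813888,
  1099511627776, 2199023255552, 4398046511104, 9070970929152, 17592186044416, 35184372088832, 70368744177664,
  140737488355328, 281474976710656, 562949953421312, 1143492092887040, 2251799813685248, 4503599627370496,
  9007199254740992, 18014398509481984, 36591746972385280] :=
  GenC.fast (by decide +kernel)

theorem a73_g103 : GenC chevE8 8 239 gE8 103
    [1, 2, 4, 8, 16, 40, 64, 128, 320, 512, 1024, 2048, 4096, 8192, 16384, 32768, 65536, 131072, 270336, 524288, 1048576,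
  2097152, 4227072, 8454144, 16908288, 33554432, 67108864, 134217728, 268435456, 536870912, 1073741824, 2147483648,
  4294967296, 8589934592, 17179869184, 34359738368, 68719476736, 137438953472, 277025390592, 554050781184,
  1108101562368, 2199023255552, 4535485464576, 8796093022208, 17592186044416, 35184372088832, 70368744177664,
  140737488355328, 281474976710656, 703687441776640, 1125899906842624, 2251799813685248, 5629499534213120,
  9007199254740992, 18014398509481984, 36028797018963968] :=
  GenC.fast (by decide +kernel)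

theorem a73_g153 : GenC chevE8 8 239 gE8 153
    [1, 258, 4, 1032, 16, 32, 64, 128, 256, 512, 1024, 2048, 8392704, 536879104, 16384, 17179901952, 65536, 68719607808,
  262144, 274878431232, 1048576, 1099513724928, 4194304, 8388608, 16777216, 33554432, 4398113619968, 134217728,
  268435456, 536870912, 1073741824, 2147483648, 8800387989504, 8589934592, 17179869184, 34359738368, 68719476736,
  137438953472, 274877906944, 549755813888, 1099511627776, 2199023255552, 4398046511104, 8796093022208, 17592186044416,
  4538783999459328, 70368744177664, 18155135997837312, 281474976710656, 562949953421312, 1125899906842624,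
  2251799813685248, 4503599627370496, 9007199254740992, 18014398509481984, 36028797018963968] :=
  GenC.fast (by decide +kernel)

theorem a73_g171 : GenC chevE8 8 239 gE8 171
    [1, 8194, 4, 8, 65552, 1048608, 64, 128, 536871168, 2147484160, 1024, 8589936640, 4096, 8192, 16384, 32768, 65536,
  131072, 262144, 524288, 1048576, 2097152, 17592190238720, 8388608, 70368760954880, 33554432, 140737555464192,
  134217728, 268435456, 536870912, 1073741824, 2147483648, 4294967296, 8589934592, 17179869184, 1125934266580992,
  68719476736, 137438953472, 274877906944, 2252349569499136, 1099511627776, 2199023255552, 18018796555993088,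
  8796093022208, 17592186044416, 35184372088832, 70368744177664, 140737488355328, 281474976710656, 562949953421312,
  1125899906842624, 2251799813685248, 4503599627370496, 9007199254740992, 18014398509481984, 36028797018963968] :=
  GenC.fast (by decide +kernel)

theorem a73_g176 : GenC chevE8 8 239 gE8 176
    [16385, 2, 4, 131080, 16, 16777248, 64, 1073741952, 256, 34359738880, 68719477760, 2048, 4096, 8192, 16384, 32768,
  65536, 131072, 262144, 35184372613120, 70368745226240, 2097152, 4194304, 8388608, 16777216, 281475010265088,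
  67108864, 134217728, 268435456, 536870912, 1073741824, 1125902054326272, 4294967296, 8589934592, 17179869184,
  34359738368, 68719476736, 137438953472, 4503874505277440, 549755813888, 1099511627776, 36030996042219520,
  4398046511104, 8796093022208, 17592186044416, 35184372088832, 70368744177664, 140737488355328, 281474976710656,
  562949953421312, 1125899906842624, 2251799813685248, 4503599627370496, 9007199254740992, 18014398509481984,
  36028797018963968] :=
  GenC.fast (by decide +kernel)

theorem a73_g181 : GenC chevE8 8 239 gE8 181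
    [65537, 131074, 4, 8, 16, 134217760, 64, 8589934720, 68719476992, 137438953984, 1024, 2048, 4096, 8192, 16384, 32768,
  65536, 131072, 70368744439808, 140737488879616, 1048576, 2097152, 281474980904960, 8388608, 16777216, 33554432,
  67108864, 134217728, 1125900175278080, 536870912, 1073741824, 2147483648, 4294967296, 8589934592, 17179869184,
  34359738368, 68719476736, 137438953472, 18014673387388928, 36029346774777856, 1099511627776, 2199023255552,
  4398046511104, 8796093022208, 17592186044416, 35184372088832, 70368744177664, 140737488355328, 281474976710656,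
  562949953421312, 1125899906842624, 2251799813685248, 4503599627370496, 9007199254740992, 18014398509481984,
  36028797018963968] :=
  GenC.fast (by decide +kernel)

theorem a73_g191 : GenC chevE8 8 239 gE8 191
    [1048577, 2097154, 4, 8, 134217744, 32, 8589934656, 128, 1099511628032, 2199023256064, 1024, 2048, 4096, 8192,
  70368744194048, 140737488388096, 65536, 131072, 262144, 524288, 1048576, 2097152, 562949957615616, 8388608, 16777216,
  33554432, 67108864, 134217728, 2251800082120704, 536870912, 1073741824, 2147483648, 4294967296, 8589934592,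
  18014415689351168, 36028831378702336, 68719476736, 137438953472, 274877906944, 549755813888, 1099511627776,
  2199023255552, 4398046511104, 8796093022208, 17592186044416, 35184372088832, 70368744177664, 140737488355328,
  281474976710656, 562949953421312, 1125899906842624, 2251799813685248, 4503599627370496, 9007199254740992,
  18014398509481984, 36028797018963968] :=
  GenC.fast (by decide +kernel)

def a73_p1 : List ℕ := [1, 2, 4, 8, 16, 32, 64, 128, 256, 512, 1024, 2048, 4096, 8192, 16384, 32768, 65536, 131072, 262144, 524290, 1048580,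
  2097152, 4194304, 8388608, 16777216, 33554448, 67108864, 134217728, 268435456, 536870912, 1073741824, 2147483712,
  4294967296, 8589934592, 17179869184, 34359738368, 68719476736, 137438953472, 274877907200, 549755813888,
  1099511627776, 2199023257600, 4398046511104, 8796093022208, 17592186060800, 35184372088832, 70368744177664,
  140737488486400, 281474976710656, 562949970198528, 1125899906842624, 2251800887427072, 4503599627370496,
  9007233614479360, 18014467228958720, 36028797018963968]

def a73_p2 : List ℕ := [1, 2, 4, 8, 16, 32, 64, 128, 256, 512, 1024, 2048, 4096, 8200, 16400, 32768, 65536, 131072, 262176, 524290, 1048580,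
  2097152, 4194304, 8388608, 16777216, 33554448, 67108864, 134217728, 268435968, 536871936, 1073743872, 2147483712,
  4294967296, 8589934592, 17179869184, 34359738368, 68719476736, 137438953472, 274877907200, 549755813888,
  1099511627776, 2199023257600, 4398046511104, 8796093022208, 17592219615248, 35184439197696, 70368878395392,
  140737488486400, 281474976710656, 562949970198528, 1126037345796096, 2253999910684672, 4507997673881600,
  9007233614479360, 18014467228958720, 36028797018963968]

def a73_p3 : List ℕ := [1, 2, 4, 8, 16, 32, 65, 128, 256, 512, 1024, 2080, 4096, 8200, 16400, 32768, 65536, 135168, 262176, 524290, 1048580,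
  2097152, 4194304, 8388608, 16777216, 33554448, 67108864, 134217728, 268435968, 536871936, 1074006048, 2147483713,
  4295491584, 8590983168, 17179869184, 34363932672, 68727865344, 137472507904, 274877907200, 549755813888,
  1099511627776, 2199023257632, 4398046511104, 9070970929152, 17592219615248, 35184439197696, 70368878395392,
  140737488490496, 281474976710656, 562949970198528, 1143629565394944, 2253999910946848, 4507997673881600,
  9007233618673664, 18014467237347328, 36591746972385280]

def a73_p4 : List ℕ := [1, 2, 4, 8, 16, 40, 65, 128, 320, 512, 1024, 2088, 4096, 8200, 16400, 32768, 65536, 135168, 270376, 524290, 1048580,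
  2097152, 4227072, 8454144, 16908288, 33554448, 67108864, 134217728, 268435968, 536871936, 1074014248, 2147483713,
  4295491584, 8590983168, 17179869184, 34363965440, 68727930880, 137472507904, 277025390912, 554050781184,
  1108101562368, 2199023257640, 4535485464576, 9073118412800, 17592219615248, 35184439197696, 70368878395392,
  140737488490496, 281474976710656, 703687458684928, 1143629565394944, 2253999910955048, 5634035019677696,
  9007233618706432, 18014467237412864, 36732484460740608]

def a73_p5 : List ℕ := [16385, 2, 4, 131080, 16, 16908328, 16449, 1073741952, 320, 34359738880, 68719477760, 16910376, 4096, 139272, 16400,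
  32768, 65536, 135168, 17178664, 35184372613122, 70368745226244, 2097152, 4227072, 8454144, 16908288, 281475010265104,
  67108864, 134217728, 34628174336, 69256348672, 1090922536, 1125902054342721, 35188667580416, 70377335160832,
  17179869184, 34363965440, 68727930880, 281612449218560, 5629776559604032, 554050781184, 1108101562368,
  36030996059129896, 4535485464576, 5638572652625920, 299067196325904, 35184439197696, 70368878395392, 140737488490496,
  281474976710656, 703687458684928, 1425104542105600, 38282796946827304, 5634035019677696, 9007233618706432,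
  18014467237412864, 36732484460740608]

def a73_p6 : List ℕ := [81921, 131074, 4, 131080, 16, 151126056, 81985, 9663676544, 68719477056, 171798692352, 68719477760, 151128104, 4096,
  139272, 16400, 32768, 65536, 135168, 70368895574056, 175921861099522, 70368745226244, 2097152, 281474980937728,
  8454144, 16908288, 281475010265104, 67108864, 134217728, 1126071973970432, 69256348672, 70369969317928,
  1125902054408257, 175926155935744, 70377335160832, 17179869184, 281509340676096, 68727930880, 281612449218560,
  23644243788562752, 36029351069745152, 1108101562368, 36030996193347624, 4535485464576, 23652971162107904,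
  299067196325904, 35184439197696, 70368878395392, 140737488490496, 281474976710656, 703687458684928, 1425104542105600,
  38353165825222696, 5634035019677696, 9288708595417088, 18014467237412864, 36732484460740608]

def a73_p7 : List ℕ := [81921, 68719608066, 4, 68719608840, 16, 68870603816, 81985, 9663676544, 68719477056, 171798692352, 68719477760,
  68870605864, 8392704, 69256487944, 16400, 17179901952, 65536, 68728000512, 70438151922728, 22694263595335938,
  70368745226244, 1099513724928, 281492160806912, 8454144, 68736385024, 281475010265104, 4398113619968, 134217728,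
  1126071973970432, 69256348672, 70439225666600, 1125902054408257, 22702995263717376, 70377335160832, 17179869184,
  281526520545280, 68727930880, 281612449218560, 23644243788562752, 36038147162767360, 1108101562368,
  36031064912825384, 4535485464576, 23652971162107904, 299067196325904, 4543182113079296, 70368878395392,
  18155204725837824, 281474976710656, 18718154687643648, 1425104542105600, 38353235081571368, 5634035019677696,
  9288725775286272, 18014467237412864, 54746882970222592]

def a73_p8 : List ℕ := [81985, 68719608066, 4, 68719608840, 16, 68870605864, 81921, 9663676544, 68719477056, 171798692352, 68719477760,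
  68870603816, 8392962, 69256487944, 16400, 17179901952, 65600, 68728000770, 70439225666600, 22703063983325442,
  70369818968196, 1099513724928, 281526520545280, 8454464, 68736385024, 281509370003984, 4398113619968, 134219776,
  1126071973970432, 69256348672, 70438151922728, 1125902054408193, 22694194875727872, 70378408902784, 17179869184,
  281492160806912, 68727931200, 281646808957440, 23653039881584960, 36038147162767360, 1108101562368,
  36031064912823336, 4535485464576, 23644175069085696, 299101824500240, 4543182113079296, 70369952139264,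
  18164005113827586, 281509336449024, 18727504831447040, 1425139170279936, 38353234007827496, 5634035019677696,
  9288691415547904, 18023263330435392, 54756233114025984]

def a73_p9 : List ℕ := [81985, 69256487170, 4, 68719608840, 65552, 70446205766696, 81921, 9663676544, 69256347968, 1126073853018624,
  68719477760, 70437615830056, 545272066, 69256487944, 81936, 17179901952, 65600, 69264879874, 79072472104,
  22703064520204546, 70369818968196, 1099513724928, 1425018613432320, 545325376, 70437480562688, 1407411424395792,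
  18159534111457280, 8724154368, 174214611456, 69256348672, 69408793640, 1125902054408193, 22694194875727872,
  70378408902784, 17179869184, 299084346851328, 69264802112, 1407548863283712, 23653040418455872, 38289946976452608,
  1108101562368, 36101433658049576, 18018933994946560, 23644175069085696, 1425003878892048, 22698318110916608,
  70378542073856, 18164005650706690, 1407409243291648, 21049673389309952, 299241410920960, 38282865264698408,
  23648433529159680, 9306283601592320, 18023263867306304, 57008032927711232]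

def a73_p10 : List ℕ := [81985, 69256487174, 4, 68719608844, 65552, 70446205766700, 81921, 9663676544, 69256347968, 1126074389890816,
  68719477760, 70437615830060, 545272066, 69256487948, 81936, 17179901953, 65600, 69264879878, 79072472108,
  22703064521515398, 70369818968196, 1099513724928, 1425019158692097, 545325376, 70437480562692, 1407411969655568,
  18159534112505888, 8724154368, 174214612736, 69256348672, 69408793644, 1125902591279105, 22694194877038592,
  70378408902784, 17179869184, 299084355239937, 69264802112, 1407549408544512, 23653039881584960, 38291046488080512,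
  1108101562368, 36102533169677356, 18018933994947584, 23644175605956608, 1425004424151824, 22698318112227360,
  70378542073856, 18164005651755398, 1407409788551424, 21049673390358660, 299241419310848, 38283964776326188,
  23648434066031616, 9306558487887873, 18023263867306304, 57009132440387712]

def a73_p11 : List ℕ := [70377335242817, 1168770212102, 4, 68719608844, 134283280, 70446205766700, 70368745308161, 9663676544, 1177357910336,
  37158169943738112, 68719477760, 70437615830060, 1100058996994, 69256487948, 70368878477328, 18155153178787841,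
  8590000192, 1168778604806, 79072472108, 22704164035240326, 70369818968196, 1099513724928, 56173001641591041,
  1108646887744, 70437480562692, 37439507657720592, 18159534112505888, 8724154368, 38284069582145280, 69256348672,
  69408793644, 1196271336505345, 22694194877038592, 70378408902784, 18014415689351168, 19017170307547137,
  1177366364480, 37439644962391808, 23654147983147328, 38291046488080512, 1108101562368, 36102533169677356,
  18018933994947584, 23644175605956608, 39779268670079760, 22698318112227360, 70378542073856, 18165105165480326,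
  37437306319143168, 21049673390358660, 38583136786843392, 38283964776326188, 23648434066031616, 28024644440195073,
  18024371968868672, 57009132440387712]

def a73_q2 : List ℕ := [1073760276, 8592240648, 4, 8592109646, 2128, 78402238542, 8590002325, 70438151922732, 1169850123393,
  37446811505640172, 1108646888768, 136396002, 8592109576, 8592232514, 9663758400, 5370998786, 1073758401, 131146,
  70447280494658, 1231669065418752, 70347271212, 8592031744, 37436392172728342, 1109720646849, 69946390598,
  10544979626732, 211747420238, 69810130092, 3407030896681664, 1176829493568, 70438155008194, 39779480600857492,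
  211323885402248, 70446608690344, 9990639255872, 37447849304142551, 69793236353, 37447921108763068, 43160265181627264,
  58021300691149996, 71469330595968, 21052980516304974, 37451610196084288, 57798408144963329, 39787638350537408,
  1301834654486594, 70377872302208, 1231460006441096, 37447886732100225, 22133245321292972, 36392353691640448,
  54756310576601154, 24797363327533376, 50264759717639062, 5639681836401857, 37201437044446314]

def a73_q4 : List ℕ := [70447682374708, 70447682518055, 4, 70447684601076, 8726264871, 9814687065, 8593159399, 9667171749, 70369828606330,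
  40467516403263680, 1176838234172, 71546664612218, 70447682387053, 70447684609206, 8726453374, 140881437564928,
  3349551, 8590002329, 70438136197431, 176096142176851, 3636649, 70438020852904, 1583348388544586, 1639198727,
  70378025594201, 4484206709192359, 37588644758543469, 1178443337925, 39394371851807426, 1178448830909, 71537540867101,
  3492672525097619, 2349197347949250, 1610629447, 57806062867605180, 57946804617303271, 3346682, 57804001485189723,
  60093332661508914, 25361806390325688, 1176841031874, 60090751601608279, 4469307155832219, 3483556183417885,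
  4466565135980220, 36321839657705076, 1176829496680, 3475129735555225, 57806065049106157, 61520752799374748,
  57804003632574464, 61102786006171359, 54762831965797247, 9429568758771793, 882648325522, 54338852192770949]

def a73_q8 : List ℕ := [1100193540319, 1100059260073, 4, 135339222, 1100185156089, 33, 71469481597058, 136391898, 16793905, 581367224418264,
  1100201683150, 1100199577664, 1100060307460, 8724164768, 71538067065337, 18258779286284418, 69400158502,
  71547335429456, 1100191436837, 2201207977125, 135335973, 136388641, 585782522143934, 17059844, 1100182781956,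
  4690235149793, 587708780106902, 1100201680929, 37557876958354220, 71536978524667, 69946534261, 58320231267228556,
  58463172005643022, 8724352084, 5402005661833636, 42603467819292114, 1092772149, 40246505232450318, 586332355450116,
  6065385170107, 1100199575552, 2201374271552, 1650276278447, 37167036050435156, 40497841249735044, 21060322912904325,
  71468937453601, 58320091513909508, 44409026049932611, 581642323300389, 1635195763749646, 58463038796490017,
  5436536144376218, 27857926046780040, 40238579407179105, 37159120759049300]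

def a73_q16 : List ℕ := [1109194583321, 70446616684899, 4, 71538594691236, 1109195372708, 1100193540350, 71538594421091, 70447128581334,
  70439218059723, 3042007479561438, 70446073853411, 71537537327555, 70446728169854, 28786730, 1109310713143,
  745922519065031, 71538587171194, 71538613160100, 70368896442403, 58323280009025222, 1168259615196, 78000896376,
  25670276552785445, 70439093365208, 71468935493880, 23079346368035108, 42238878839023998, 79072414078,
  59060617599891941, 71477928009018, 70370498649499, 7953107985891107, 8681653071774189, 19284466, 25217371425712857,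
  36256540470093203, 1169440320875, 8644852972142617, 44690536140631337, 59834775691601763, 1169331155201,
  39892643520564892, 56263047082723233, 40984784986681195, 59516924551599308, 58235242513133475, 1108800073894,
  8726356404095138, 61183529080285432, 39882114728882566, 8327936007358379, 8734473217309679, 55388057918237386,
  64878497567040010, 41302366634673586, 41300601183293273]

def a73_q32 : List ℕ := [1169978107063, 71537112781884, 4, 1169859885449, 78000896299, 70370375041401, 71546656000384, 1169862105421,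
  71478456564911, 38503949714534165, 70377891367287, 71545565229304, 1109200956483, 71546775626871, 1109738601611,
  25095680210448907, 1169987490042, 1100074736090, 79079553211, 39331657081131453, 70377890019721, 1178448830909,
  8673628728351720, 1169442567570, 70368756121657, 25102987536680974, 58235326913032173, 1176837947646,
  62579318087574391, 71546799815098, 1109855206554, 971383501910074, 38166624737370093, 70377888901495,
  20254167793236685, 39889030479445997, 70368903770127, 42715001265213688, 24188716453061333, 54453305022397393,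
  1176841318598, 3413481632860553, 60029090374436414, 42980925632153984, 8684227931268678, 22890441326125037,
  70378418419047, 58245417422643645, 25089752062192099, 61612667751997971, 62179454691664759, 54463322163674010,
  40258466496057340, 15640523873394150, 4402434590349647, 60451302696404535]

def a73_q64 : List ℕ := [19286208, 70439091441749, 4, 71545710056456, 161744306, 70378409971784, 1109871562203, 70438002759889, 77865418847,
  40541854917461871, 1169321623862, 10359932411, 71545717602659, 19036567, 1109864314983, 833427682733801, 28786003,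
  71545585540498, 1073881094, 8330701740144510, 71545703047535, 71469467199803, 41052130536755181, 1169457101285,
  70369281531975, 882534381726425, 57132404568335227, 160904563, 8365853075918827, 1109864315324, 1169979082879,
  8811263390821302, 43422777596582580, 71469356947734, 8235025321583, 25404402026027040, 1169449814048,
  56940902766745632, 39512094350755993, 42142854659264481, 71477520460216, 23929416326626952, 56938888640877565,
  25420679415207419, 8365306206214026, 37376436696115082, 78383227333, 536128072845194, 56692855358492672,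
  44253902760300332, 8373395684476495, 43190539856021586, 8357497031845991, 13020596470413478, 56697877414231379,
  24120459326540765]

def a73_q9 : List ℕ := [70377879839954, 538210435, 4, 70446214109305, 69417187582, 68870687853, 1101148729348, 78534232571, 1177492196649,
  23935606347707798, 1101256657403, 1177492195449, 70446741798114, 1099538895138, 1076121894, 5114159955768761,
  71547335308784, 1099539157123, 1178032495687, 23056050872466392, 71538614367663, 1100067397665, 6433621230989219,
  1109187190078, 1177492196420, 19758391706207758, 19089800590121048, 8726455349, 7417371311440238, 70439211790336,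
  538210598, 57067759630115197, 7408037319755995, 71547338455551, 44409129209992389, 13045931113953, 1108128250891,
  56515776954815792, 58833749738428923, 12755985993294, 1108655361108, 37161382246067309, 17308533704206,
  23941664180828294, 36890570664165471, 7408312184298850, 71547337403745, 2952048014376771, 39148400570269445,
  56254983328313915, 2387173957283916, 21309447888613395, 6422378114645345, 27274741121294957, 3095111195958590,
  19104632909541931]

def a73_q73 : List ℕ := [1, 2, 4, 8, 16, 32, 64, 128, 256, 512, 1024, 2048, 4096, 8192, 16384, 32768, 65536, 131072, 262144, 524288, 1048576,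
  2097152, 4194304, 8388608, 16777216, 33554432, 67108864, 134217728, 268435456, 536870912, 1073741824, 2147483648,
  4294967296, 8589934592, 17179869184, 34359738368, 68719476736, 137438953472, 274877906944, 549755813888,
  1099511627776, 2199023255552, 4398046511104, 8796093022208, 17592186044416, 35184372088832, 70368744177664,
  140737488355328, 281474976710656, 562949953421312, 1125899906842624, 2251799813685248, 4503599627370496,
  9007199254740992, 18014398509481984, 36028797018963968]

def a73_bs : List ℕ := [4, 9007199254740992]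

def a73_wu : List (ℕ × ℕ) := [(1099511627841, 0), (69264741386, 0), (0, 1), (2172168, 0), (553665560, 0), (1099511629856, 0), (1099511693312, 0), (1100066325640, 1), (71468398413200, 0), (143515125484104, 0), (536871936, 0), (1099645845504, 0), (136192, 1), (556075400, 0), (71477534721177, 1), (38160297264065649, 0), (71468390023312, 0), (536870920, 1), (1208221696, 0), (18015502342820992, 1), (8590983168, 1), (71468417551634, 0), (73703798934992, 0), (68727865344, 0), (71477402608040, 1), (137489301512, 0), (20660100712958544, 0), (71468390023296, 0), (231602370332817, 1), (2163968, 0), (1099511627904, 0), (2539958975859328, 0), (18156330015654016, 1), (1099511627776, 0), (4509099400202273, 0), (355213122801104, 0), (1024, 0), (4415763252224, 0), (80539369342096, 0), (5144076629320136, 1), (2097152, 0), (2254000044902528, 0), (4509099333058624, 0), (18014467228959744, 0), (1219384856035737, 1), (25204199601869472, 0), (553649160, 0), (4508025659394144, 1), (147964233468992, 0), (36663224356118952, 1), (1101661209920, 0), (144612221126664,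 0), (20624917213022800, 0), (0, 2), (17179869184, 0), (3298671200256, 0)]

theorem a73_e1 : mmul [1, 2, 4, 8, 16, 32, 64, 128, 256, 512, 1024, 2048, 4096, 8192, 16384, 32768, 65536, 131072, 262144, 524290, 1048580,
  2097152, 4194304, 8388608, 16777216, 33554448, 67108864, 134217728, 268435456, 536870912, 1073741824, 2147483712,
  4294967296, 8589934592, 17179869184, 34359738368, 68719476736, 137438953472, 274877907200, 549755813888,
  1099511627776, 2199023257600, 4398046511104, 8796093022208, 17592186060800, 35184372088832, 70368744177664,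
  140737488486400, 281474976710656, 562949970198528, 1125899906842624, 2251800887427072, 4503599627370496,
  9007233614479360, 18014467228958720, 36028797018963968]
    (idL gE8.length) = a73_p1 := mm_of (by decide +kernel)

theorem a73_e2 : mmul [1, 2, 4, 8, 16, 32, 64, 128, 256, 512, 1024, 2048, 4096, 8200, 16400, 32768, 65536, 131072, 262176, 524288, 1048576,
  2097152, 4194304, 8388608, 16777216, 33554432, 67108864, 134217728, 268435968, 536871936, 1073743872, 2147483648,
  4294967296, 8589934592, 17179869184, 34359738368, 68719476736, 137438953472, 274877906944, 549755813888,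
  1099511627776, 2199023255552, 4398046511104, 8796093022208, 17592219598848, 35184439197696, 70368878395392,
  140737488355328, 281474976710656, 562949953421312, 1126037345796096, 2253998836940800, 4507997673881600,
  9007199254740992, 18014398509481984, 36028797018963968]
    a73_p1 = a73_p2 := mm_of (by decide +kernel)

theorem a73_e3 : mmul [1, 2, 4, 8, 16, 32, 65, 128, 256, 512, 1024, 2080, 4096, 8192, 16384, 32768, 65536, 135168, 262144, 524288, 1048576,
  2097152, 4194304, 8388608, 16777216, 33554432, 67108864, 134217728, 268435456, 536870912, 1074003968, 2147483648,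
  4295491584, 8590983168, 17179869184, 34363932672, 68727865344, 137472507904, 274877906944, 549755813888,
  1099511627776, 2199023255552, 4398046511104, 9070970929152, 17592186044416, 35184372088832, 70368744177664,
  140737488355328, 281474976710656, 562949953421312, 1143492092887040, 2251799813685248, 4503599627370496,
  9007199254740992, 18014398509481984, 36591746972385280]
    a73_p2 = a73_p3 := mm_of (by decide +kernel)

theorem a73_e4 : mmul [1, 2, 4, 8, 16, 40, 64, 128, 320, 512, 1024, 2048, 4096, 8192, 16384, 32768, 65536, 131072, 270336, 524288, 1048576,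
  2097152, 4227072, 8454144, 16908288, 33554432, 67108864, 134217728, 268435456, 536870912, 1073741824, 2147483648,
  4294967296, 8589934592, 17179869184, 34359738368, 68719476736, 137438953472, 277025390592, 554050781184,
  1108101562368, 2199023255552, 4535485464576, 8796093022208, 17592186044416, 35184372088832, 70368744177664,
  140737488355328, 281474976710656, 703687441776640, 1125899906842624, 2251799813685248, 5629499534213120,
  9007199254740992, 18014398509481984, 36028797018963968]
    a73_p3 = a73_p4 := mm_of (by decide +kernel)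

theorem a73_e5 : mmul [16385, 2, 4, 131080, 16, 16777248, 64, 1073741952, 256, 34359738880, 68719477760, 2048, 4096, 8192, 16384, 32768,
  65536, 131072, 262144, 35184372613120, 70368745226240, 2097152, 4194304, 8388608, 16777216, 281475010265088,
  67108864, 134217728, 268435456, 536870912, 1073741824, 1125902054326272, 4294967296, 8589934592, 17179869184,
  34359738368, 68719476736, 137438953472, 4503874505277440, 549755813888, 1099511627776, 36030996042219520,
  4398046511104, 8796093022208, 17592186044416, 35184372088832, 70368744177664, 140737488355328, 281474976710656,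
  562949953421312, 1125899906842624, 2251799813685248, 4503599627370496, 9007199254740992, 18014398509481984,
  36028797018963968]
    a73_p4 = a73_p5 := mm_of (by decide +kernel)

theorem a73_e6 : mmul [65537, 131074, 4, 8, 16, 134217760, 64, 8589934720, 68719476992, 137438953984, 1024, 2048, 4096, 8192, 16384, 32768,
  65536, 131072, 70368744439808, 140737488879616, 1048576, 2097152, 281474980904960, 8388608, 16777216, 33554432,
  67108864, 134217728, 1125900175278080, 536870912, 1073741824, 2147483648, 4294967296, 8589934592, 17179869184,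
  34359738368, 68719476736, 137438953472, 18014673387388928, 36029346774777856, 1099511627776, 2199023255552,
  4398046511104, 8796093022208, 17592186044416, 35184372088832, 70368744177664, 140737488355328, 281474976710656,
  562949953421312, 1125899906842624, 2251799813685248, 4503599627370496, 9007199254740992, 18014398509481984,
  36028797018963968]
    a73_p5 = a73_p6 := mm_of (by decide +kernel)

theorem a73_e7 : mmul [1, 258, 4, 1032, 16, 32, 64, 128, 256, 512, 1024, 2048, 8392704, 536879104, 16384, 17179901952, 65536, 68719607808,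
  262144, 274878431232, 1048576, 1099513724928, 4194304, 8388608, 16777216, 33554432, 4398113619968, 134217728,
  268435456, 536870912, 1073741824, 2147483648, 8800387989504, 8589934592, 17179869184, 34359738368, 68719476736,
  137438953472, 274877906944, 549755813888, 1099511627776, 2199023255552, 4398046511104, 8796093022208, 17592186044416,
  4538783999459328, 70368744177664, 18155135997837312, 281474976710656, 562949953421312, 1125899906842624,
  2251799813685248, 4503599627370496, 9007199254740992, 18014398509481984, 36028797018963968]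
    a73_p6 = a73_p7 := mm_of (by decide +kernel)

theorem a73_e8 : mmul [1, 2, 4, 8, 16, 32, 64, 128, 256, 512, 1024, 2048, 4098, 8192, 16384, 32768, 65600, 131072, 262144, 524288, 1048704,
  2097152, 4194304, 8388864, 16777216, 33554944, 67108864, 134219776, 268435456, 536870912, 1073741824, 2147483648,
  4294967296, 8589934592, 17179869184, 34359738368, 68719476736, 137438953472, 274877906944, 549755813888,
  1099511627776, 2199023255552, 4398046511104, 8796093022208, 17592454479872, 35184372088832, 70369817919488,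
  140741783322624, 281509336449024, 563499709235200, 1125899906842624, 2251799813685248, 4503599627370496,
  9007199254740992, 18023194602504192, 36028797018963968]
    a73_p7 = a73_p8 := mm_of (by decide +kernel)

theorem a73_e9 : mmul [1, 8194, 4, 8, 65552, 1048608, 64, 128, 536871168, 2147484160, 1024, 8589936640, 4096, 8192, 16384, 32768, 65536,
  131072, 262144, 524288, 1048576, 2097152, 17592190238720, 8388608, 70368760954880, 33554432, 140737555464192,
  134217728, 268435456, 536870912, 1073741824, 2147483648, 4294967296, 8589934592, 17179869184, 1125934266580992,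
  68719476736, 137438953472, 274877906944, 2252349569499136, 1099511627776, 2199023255552, 18018796555993088,
  8796093022208, 17592186044416, 35184372088832, 70368744177664, 140737488355328, 281474976710656, 562949953421312,
  1125899906842624, 2251799813685248, 4503599627370496, 9007199254740992, 18014398509481984, 36028797018963968]
    a73_p8 = a73_p9 := mm_of (by decide +kernel)

theorem a73_e10 : mmul [1, 2, 4, 8, 16, 32, 64, 128, 256, 512, 1024, 2048, 4096, 8192, 16384, 32769, 65536, 131076, 262144, 524288, 1048576,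
  2097152, 4194304, 8388608, 16777216, 33554432, 67108896, 134217728, 268435456, 536870912, 1073741824, 2147483648,
  4294967424, 8589934592, 17179869184, 34359738624, 68719476736, 137438954496, 274877906944, 549755813888,
  1099511627776, 2199023255552, 4398046511104, 8796093022208, 17592186044416, 35184372350976, 70368744177664,
  140737489403904, 281474985099264, 562949953421312, 1125900443713536, 2251799813685248, 4503599627370496,
  9007474132647936, 18014398509481984, 36029896530591744]
    a73_p9 = a73_p10 := mm_of (by decide +kernel)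

theorem a73_e11 : mmul [1048577, 2097154, 4, 8, 134217744, 32, 8589934656, 128, 1099511628032, 2199023256064, 1024, 2048, 4096, 8192,
  70368744194048, 140737488388096, 65536, 131072, 262144, 524288, 1048576, 2097152, 562949957615616, 8388608, 16777216,
  33554432, 67108864, 134217728, 2251800082120704, 536870912, 1073741824, 2147483648, 4294967296, 8589934592,
  18014415689351168, 36028831378702336, 68719476736, 137438953472, 274877906944, 549755813888, 1099511627776,
  2199023255552, 4398046511104, 8796093022208, 17592186044416, 35184372088832, 70368744177664, 140737488355328,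
  281474976710656, 562949953421312, 1125899906842624, 2251799813685248, 4503599627370496, 9007199254740992,
  18014398509481984, 36028797018963968]
    a73_p10 = a73_p11 := mm_of (by decide +kernel)

theorem a73_f2 : mmul a73_p11 a73_p11 = a73_q2 := mm_of (by decide +kernel)

theorem a73_f4 : mmul a73_q2 a73_q2 = a73_q4 := mm_of (by decide +kernel)

theorem a73_f8 : mmul a73_q4 a73_q4 = a73_q8 := mm_of (by decide +kernel)

theorem a73_f16 : mmul a73_q8 a73_q8 = a73_q16 := mm_of (by decide +kernel)

theorem a73_f32 : mmul a73_q16 a73_q16 = a73_q32 := mm_of (by decide +kernel)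

theorem a73_f64 : mmul a73_q32 a73_q32 = a73_q64 := mm_of (by decide +kernel)

theorem a73_f9 : mmul a73_q8 a73_p11 = a73_q9 := mm_of (by decide +kernel)

theorem a73_f73 : mmul a73_q64 a73_q9 = a73_q73 := mm_of (by decide +kernel)

theorem a73_id : a73_q73 = idL gE8.length := by decide +kernel

theorem a73_m1 : mmul a73_p11 (idL gE8.length) = a73_p11 := mm_of (by decide +kernel)

theorem a73_m2 : mmul (idL gE8.length) (idL gE8.length) = idL gE8.length := mm_of (by decide +kernel)

theorem a73_cert : cert a73_p11 a73_bs a73_wu = idL gE8.length := by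
  unfold cert; rw [app_eq]; decide +kernel

/-- an element of order a power of `73` in `L₀`, `|C_V(x)| = q^2` -/
theorem a73_x {K : Type u} [Field K] [Fintype K] {W : Type} [Group W] [Finite W]
    (cs : CoxeterSystem CoxeterMatrix.E₈ W) (p : ℕ) [Fact p.Prime] [CharP K p] (h2 : (2 : K) = 0) (hp : IsType chevE8 8 CoxeterMatrix.E₈) :
    ∃ x ∈ L0 cs hp.isCartan (XX chevE8 8 K) (toV [2, 3, 4, 6, 5, 4, 3, 2]), ∃ j, x ^ 73 ^ j = 1 ∧ x ≠ 1 ∧
      Nat.card ↥(TwoExc.QQ cs hp.isCartan (XX chevE8 8 K) (toV [2, 3, 4, 6, 5, 4, 3, 2]) ⊓ Subgroup.centralizer {x}) ≤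
        Fintype.card K ^ 2 * Nat.card (XX chevE8 8 K (toV [2, 3, 4, 6, 5, 4, 3, 2])) := by
  have h1 : vec chevE8 8 239 = toV [2, 3, 4, 6, 5, 4, 3, 2] := by decide +kernel
  have HD0 := hd_E8 (K := K) cs p
  rw [← h1] at HD0 ⊢
  obtain ⟨A, _, π, hs, hk⟩ := exists_pi HD0.hs
  have a0 : LA hp cs 239 π gE8 (1 : ↥(chevE8.group K)) (idL gE8.length) := LA.one
  have a1 := LA.gen h2 secE8 HD0.hs hs hk a73_g51 a0 a73_e1
  have a2 := LA.gen h2 secE8 HD0.hs hs hk a73_g70 a1 a73_e2
  have a3 := LA.gen h2 secE8 HD0.hs hs hk a73_g94 a2 a73_e3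
  have a4 := LA.gen h2 secE8 HD0.hs hs hk a73_g103 a3 a73_e4
  have a5 := LA.gen h2 secE8 HD0.hs hs hk a73_g176 a4 a73_e5
  have a6 := LA.gen h2 secE8 HD0.hs hs hk a73_g181 a5 a73_e6
  have a7 := LA.gen h2 secE8 HD0.hs hs hk a73_g153 a6 a73_e7
  have a8 := LA.gen h2 secE8 HD0.hs hs hk a73_g73 a7 a73_e8
  have a9 := LA.gen h2 secE8 HD0.hs hs hk a73_g171 a8 a73_e9
  have a10 := LA.gen h2 secE8 HD0.hs hs hk a73_g60 a9 a73_e10
  have a11 := LA.gen h2 secE8 HD0.hs hs hk a73_g191 a10 a73_e11
  have b1 := a11.pow_one
  have b2 := LA.add h2 (n := 2) b1 b1 (by norm_num) a73_f2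
  have b4 := LA.add h2 (n := 4) b2 b2 (by norm_num) a73_f4
  have b8 := LA.add h2 (n := 8) b4 b4 (by norm_num) a73_f8
  have b16 := LA.add h2 (n := 16) b8 b8 (by norm_num) a73_f16
  have b32 := LA.add h2 (n := 32) b16 b16 (by norm_num) a73_f32
  have b64 := LA.add h2 (n := 64) b32 b32 (by norm_num) a73_f64
  have b9 := LA.add h2 (n := 9) b8 b1 (by norm_num) a73_f9
  have b73 := LA.add h2 (n := 73) b64 b9 (by norm_num) a73_f73
  exact final_x (ℓ := 73) (m := 1) (s₀ := 1) h2 secE8 HD0 hs hk (by norm_num) b1 b73 a73_id b1 a73_m1 a73_m2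
    a73_cert (by decide)

end Cfsg.Agent.H441.FPR.Bit
end

-- part: H441/FPR/BitE711
section
set_option linter.all false
open scoped Cfsg.Agent.FastGrp

/-!
# An element of order `11` in the Levi subgroup of a long root of `E7`
-/

set_option autoImplicit false
set_option linter.unusedSectionVars false
set_option linter.unusedVariables false
set_option maxRecDepth 100000

namespace Cfsg.Agent.H441.FPR.Bit

open CoxeterSystem Cfsg.Agent.ChevalleyStructure.CoxeterGeom Cfsg.Agent.Tits.Roots Cfsg.Agent.Tits.Core
  Cfsg.Agent.Nodes.Reps Cfsg.Agent.Nodes.BNOf Cfsg.Agent.Nodes.Coroot Cfsg.Agent.Nodes.LeviDec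
  Cfsg.Agent.Nodes.PosPair Cfsg.Agent.Nodes.StabComb Cfsg.Agent.Nodes.KindChev Cfsg.Agent.KFacts.RgdCent
  Cfsg.Agent.Nodes.Bruhat Cfsg.Agent.Nodes.OppDec Cfsg.Agent.Tits.Exchange
  Cfsg.Agent.KFacts.RgdPar Cfsg.Agent.KFacts.RgdSL Cfsg.Agent.KFacts.RgdTI Cfsg.Agent.Nodes.RGDChev
  Cfsg.Agent.ChevalleyStructure.CoxeterGeomTypes
open Cfsg.Lie Cfsg.Agent.ChevalleyStructure Cfsg.Agent.ChevalleyStructure.Elts Cfsg.Agent.ChevalleyStructure.NPerm
open Cfsg.Agent.KFacts.RgdChevCoord Cfsg.Agent.Nodes.ChevCls
open Cfsg.Agent.H400.TwoExc Cfsg.Agent.H400.Fpr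
open Cfsg.Agent.H79.SimpleGen
open Cfsg.Agent.H400
open Cfsg.Agent.H441.FPR.Heis

universe u

theorem b11_g34 : GenC chevE7 7 125 gE7 34
    [1, 2, 4, 8, 16, 32, 64, 128, 256, 512, 1024, 2048, 4096, 8192, 16385, 32768, 65536, 131072, 262144, 524288, 1048578,
  2097152, 4194304, 8388612, 16777216, 33554448, 67108864, 134217792, 268435456, 536871168, 1073743872, 2147614720] :=
  GenC.fast (by decide +kernel)

theorem b11_g42 : GenC chevE7 7 125 gE7 42
    [1, 2, 4, 8, 16, 32, 65, 128, 256, 512, 1024, 2048, 4096, 8192, 16384, 32768, 65544, 131088, 262176, 524288, 1048576,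
  2097152, 4194304, 8388608, 16777216, 33554432, 67117056, 134234112, 268468224, 536870912, 1073741824, 2181038080] :=
  GenC.fast (by decide +kernel)

theorem b11_g54 : GenC chevE7 7 125 gE7 54
    [1, 2, 4, 8, 18, 32, 64, 128, 256, 512, 1024, 2112, 4096, 8320, 16384, 33280, 65536, 131072, 262144, 524288, 1048576,
  2097152, 4259840, 8388608, 17039360, 34603008, 67108864, 134217728, 268435456, 536870912, 1207959552, 2147483648] :=
  GenC.fast (by decide +kernel)

theorem b11_g56 : GenC chevE7 7 125 gE7 56
    [1, 2, 6, 8, 16, 32, 64, 128, 256, 512, 1152, 2304, 4608, 8192, 16384, 32768, 65536, 131072, 262144, 524288, 1048576,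
  2097152, 4718592, 9437184, 18874368, 33554432, 67108864, 134217728, 268435456, 536870912, 1610612736, 2147483648] :=
  GenC.fast (by decide +kernel)

theorem b11_g57 : GenC chevE7 7 125 gE7 57
    [1, 2, 4, 8, 16, 36, 64, 128, 256, 576, 1024, 2048, 4096, 8192, 17408, 34816, 65536, 131072, 262144, 524288, 1114112,
  2228224, 4194304, 8388608, 16777216, 37748736, 67108864, 134217728, 268435456, 603979776, 1073741824, 2147483648] :=
  GenC.fast (by decide +kernel)

theorem b11_g58 : GenC chevE7 7 125 gE7 58
    [1, 2, 4, 8, 20, 32, 64, 128, 320, 512, 1024, 2048, 4096, 9216, 16384, 36864, 65536, 131072, 262144, 589824, 1048576,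
  2359296, 4194304, 8388608, 16777216, 41943040, 67108864, 134217728, 268435456, 671088640, 1073741824, 2147483648] :=
  GenC.fast (by decide +kernel)

theorem b11_g72 : GenC chevE7 7 125 gE7 72
    [1, 34, 4, 8, 16, 32, 4160, 16512, 33024, 512, 1024, 2048, 4096, 8192, 16384, 32768, 8454144, 16908288, 262144,
  34078720, 1048576, 2097152, 4194304, 8388608, 16777216, 33554432, 1140850688, 134217728, 268435456, 536870912,
  1073741824, 2147483648] :=
  GenC.fast (by decide +kernel)

theorem b11_g73 : GenC chevE7 7 125 gE7 73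
    [3, 2, 4, 8, 16, 32, 64, 128, 256, 512, 66560, 133120, 266240, 532480, 1064960, 2129920, 65536, 131072, 262144,
  524288, 1048576, 2097152, 4194304, 8388608, 16777216, 33554432, 67108864, 134217728, 268435456, 536870912,
  3221225472, 2147483648] :=
  GenC.fast (by decide +kernel)

theorem b11_g81 : GenC chevE7 7 125 gE7 81
    [1, 258, 2052, 8200, 16, 32800, 64, 128, 256, 512, 1024, 2048, 4096, 8192, 16384, 32768, 67174400, 131072, 268697600,
  524288, 537919488, 2097152, 4194304, 1082130432, 16777216, 33554432, 67108864, 134217728, 268435456, 536870912,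
  1073741824, 2147483648] :=
  GenC.fast (by decide +kernel)

theorem b11_g87 : GenC chevE7 7 125 gE7 87
    [1025, 65538, 4, 8, 4194320, 8388640, 64, 128, 67109120, 134218240, 1024, 2048, 4096, 8192, 16384, 1073774592, 65536,
  131072, 262144, 524288, 1048576, 2149580800, 4194304, 8388608, 16777216, 33554432, 67108864, 134217728, 268435456,
  536870912, 1073741824, 2147483648] :=
  GenC.fast (by decide +kernel)

def b11_p1 : List ℕ := [1, 2, 4, 8, 16, 32, 65, 128, 256, 512, 1024, 2048, 4096, 8192, 16384, 32768, 65544, 131088, 262176, 524288, 1048576,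
  2097152, 4194304, 8388608, 16777216, 33554432, 67117056, 134234112, 268468224, 536870912, 1073741824, 2181038080]

def b11_p2 : List ℕ := [1025, 65538, 4, 8, 4194320, 8388640, 1089, 128, 67109120, 134218240, 1024, 2048, 4096, 8192, 16384, 1073774592,
  65544, 4325392, 8650784, 524288, 1048576, 2149580800, 4194304, 8388608, 16777216, 33554432, 67117056, 134234112,
  1342210048, 536870912, 1073741824, 2181038080]

def b11_p3 : List ℕ := [1025, 65538, 4, 8, 4259858, 8388640, 1089, 128, 67109120, 134218240, 1024, 2112, 4096, 8320, 16384, 1207992832,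
  65544, 4390930, 8650784, 524288, 1048576, 2149580800, 4259840, 8388608, 17039360, 34603008, 67117184, 134234112,
  1476428288, 536870912, 1207959552, 2182086656]

def b11_p4 : List ℕ := [1153, 65538, 6, 8, 4784146, 9437216, 1217, 128, 67109120, 134218240, 1152, 2368, 4608, 8320, 16384, 1744863744,
  65544, 4915218, 9699360, 524288, 1048576, 2149580800, 4784128, 9437184, 19136512, 34603008, 67117184, 134234112,
  2013299200, 536870912, 1744830464, 2182086656]

def b11_p5 : List ℕ := [1025, 65538, 4, 8, 4259858, 8388640, 1089, 128, 67109120, 134218240, 1024, 2112, 4096, 8320, 16384, 1207992832,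
  65544, 4390930, 8650784, 524288, 1048576, 2149580800, 4259840, 8388608, 17039360, 34603008, 67117184, 134234112,
  1476428288, 536870912, 1207959552, 2182086656]

def b11_p6 : List ℕ := [1025, 8454178, 4, 8, 12648498, 8388640, 5185, 16512, 1140883712, 134218240, 1024, 6208, 4096, 24704, 16384,
  1207992832, 8454152, 29556786, 8650784, 34078720, 1048576, 2149580800, 12648448, 8388608, 17039360, 34603008,
  1140875392, 134234112, 1476428288, 536870912, 1207959552, 2182086656]

def b11_p7 : List ℕ := [1025, 8454178, 4, 8, 12648502, 8388640, 5185, 16512, 1140887872, 134218240, 1024, 6208, 4096, 25728, 16384,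
  1207996928, 8454152, 29556790, 8650784, 42532864, 1048576, 2149842944, 12648448, 8388608, 17039360, 42991616,
  1140876416, 134234112, 1476432384, 671088640, 1207959552, 2190475264]

def b11_p8 : List ℕ := [1025, 1149337890, 2052, 8200, 1153534262, 1082163232, 5185, 16512, 1140887872, 134218240, 1024, 6208, 4096, 25728,
  16384, 1207996928, 1149313032, 1170442550, 1350860832, 1183383552, 537919488, 2418278400, 1153499136, 1082130432,
  285474816, 1653604352, 1140876416, 134234112, 1476432384, 671088640, 1207959552, 3801088000]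

def b11_p9 : List ℕ := [1025, 1149339942, 2052, 8200, 1153532210, 1082165284, 5185, 16513, 1140889920, 134218304, 1024, 6208, 4096, 25729,
  16385, 1207999040, 1149315084, 1170440498, 1350862884, 1183385620, 537919746, 2418409472, 1153501188, 1082132484,
  285474816, 1653606678, 1140878465, 134234177, 1476434496, 671088960, 1207961664, 3801221398]

def b11_p10 : List ℕ := [66563, 3299051814, 133124, 532488, 3303113010, 3231877156, 332867, 1065091, 3290863936, 134218304, 66560, 399424,
  266240, 1664131, 1064963, 3357973056, 3297454092, 3320021298, 3500574756, 3331000340, 537919746, 2418409472,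
  3301115908, 3229747204, 285474816, 3801221398, 3290131587, 135282755, 3626408512, 671088960, 3355576384, 1653606678]

def b11_p11 : List ℕ := [66563, 3298918690, 133124, 532488, 3303246134, 3231744032, 332867, 1131651, 3290730816, 134218240, 66560, 399424,
  266240, 1597571, 1131523, 3357839872, 3297454092, 3319892278, 3500441632, 3335194644, 605094146, 2418278400,
  3301115908, 3229747204, 285474816, 3872590102, 3290065027, 135349315, 3626275328, 738197824, 3355576384, 1724975382]

def b11_q2 : List ℕ := [2795821, 4142222239, 3320158578, 3336259743, 857756639, 4142996338, 3499044174, 607889583, 642313974, 1132099,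
  3297389580, 356652309, 3500183584, 644017204, 606792748, 643974453, 1845401648, 3888503529, 4268820818, 2333954207,
  134566063, 4269087542, 1877399723, 2880737312, 428085792, 1161971883, 2303464599, 742308908, 4266055477, 606775427,
  1663090720, 3866282123]

def b11_q4 : List ℕ := [1413652496, 3477303389, 2588003401, 1471115235, 2557022163, 3438064639, 3678525517, 1749670237, 4215888221,
  2735374592, 1072038570, 572580506, 786864879, 1805926432, 1072077823, 1485093871, 2099698339, 538976915, 1831228130,
  2424114013, 1811993024, 2692555421, 3092852553, 287742499, 3094949210, 2826773532, 4183415677, 287703586, 4185479535,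
  4168997725, 285252469, 268438337]

def b11_q8 : List ℕ := [571531425, 3154379328, 928339556, 3842017280, 4173687493, 3921801349, 359511111, 3878709665, 1187612966, 3957920294,
  574112177, 931001820, 574112266, 3341322512, 1597617, 3421606422, 1517542436, 4220468771, 1454220387, 3183993797,
  13073349, 3171326720, 3484273621, 215877617, 3484596182, 214393797, 3050763754, 215901307, 3104805398, 202906416,
  214329290, 202972149]

def b11_q12 : List ℕ := [3223421955, 3960888195, 738198400, 3271156795, 4126723, 1131523, 3626075715, 2710683813, 469962563, 134484480,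
  2686517378, 469762880, 134218240, 3252249652, 3232875555, 332803, 2062542201, 473889411, 135349315, 4057184234,
  3834841350, 333504, 809370562, 605094146, 704, 2795564, 3654969334, 3635790947, 332867, 335683526, 335872962,
  338667564]

def b11_q16 : List ℕ := [540541186, 2821652800, 537395970, 2318353145, 2315731065, 2317828731, 2955674370, 1572883181, 1237665901,
  4058794799, 2452390178, 2449768480, 2989261602, 876454186, 2920571617, 2583806025, 1145084244, 1346541588,
  1077975060, 3178214720, 2892964884, 285380628, 873112403, 604512835, 268599312, 2228819, 2775362375, 4029461251,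
  1094719492, 2909388551, 875078467, 268568576]

def b11_q32 : List ℕ := [1283585898, 1283584875, 2117, 9352, 4259870, 1216404069, 4161, 16512, 1275130689, 134238785, 1283548168, 17172593,
  268734496, 43590792, 672174946, 3408058961, 1283547144, 17170480, 268730400, 43581448, 672191331, 2200043536,
  4259848, 1216366661, 17039392, 42991638, 1275092992, 134238273, 268468224, 671142721, 3406186609, 2198208560]

def b11_q33 : List ℕ := [1, 2, 4, 8, 16, 32, 64, 128, 256, 512, 1024, 2048, 4096, 8192, 16384, 32768, 65536, 131072, 262144, 524288, 1048576,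
  2097152, 4194304, 8388608, 16777216, 33554432, 67108864, 134217728, 268435456, 536870912, 1073741824, 2147483648]

def b11_bs : List ℕ := [2, 4]

def b11_wu : List (ℕ × ℕ) := [(165065299, 0), (0, 1), (0, 2), (71838854, 0), (2205935537, 3), (276195031, 0), (143675463, 0), (2287052252, 3), (2182847922, 0), (2635874515, 0), (203360056, 1), (2413999036, 0), (417477808, 0), (2220957625, 2), (2360923190, 0), (161760997, 0), (2308117997, 0), (239154228, 0), (2635879123, 0), (2190928586, 2), (278139463, 0), (495960574, 2), (2356492621, 3), (154437314, 0), (484291912, 3), (2235678641, 0), (213894235, 0), (2248041571, 0), (288659106, 0), (504879233, 1), (2682404793, 2), (239446646, 0)]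

theorem b11_e1 : mmul [1, 2, 4, 8, 16, 32, 65, 128, 256, 512, 1024, 2048, 4096, 8192, 16384, 32768, 65544, 131088, 262176, 524288, 1048576,
  2097152, 4194304, 8388608, 16777216, 33554432, 67117056, 134234112, 268468224, 536870912, 1073741824, 2181038080]
    (idL gE7.length) = b11_p1 := mm_of (by decide +kernel)

theorem b11_e2 : mmul [1025, 65538, 4, 8, 4194320, 8388640, 64, 128, 67109120, 134218240, 1024, 2048, 4096, 8192, 16384, 1073774592, 65536,
  131072, 262144, 524288, 1048576, 2149580800, 4194304, 8388608, 16777216, 33554432, 67108864, 134217728, 268435456,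
  536870912, 1073741824, 2147483648]
    b11_p1 = b11_p2 := mm_of (by decide +kernel)

theorem b11_e3 : mmul [1, 2, 4, 8, 18, 32, 64, 128, 256, 512, 1024, 2112, 4096, 8320, 16384, 33280, 65536, 131072, 262144, 524288, 1048576,
  2097152, 4259840, 8388608, 17039360, 34603008, 67108864, 134217728, 268435456, 536870912, 1207959552, 2147483648]
    b11_p2 = b11_p3 := mm_of (by decide +kernel)

theorem b11_e4 : mmul [1, 2, 6, 8, 16, 32, 64, 128, 256, 512, 1152, 2304, 4608, 8192, 16384, 32768, 65536, 131072, 262144, 524288, 1048576,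
  2097152, 4718592, 9437184, 18874368, 33554432, 67108864, 134217728, 268435456, 536870912, 1610612736, 2147483648]
    b11_p3 = b11_p4 := mm_of (by decide +kernel)

theorem b11_e5 : mmul [1, 2, 6, 8, 16, 32, 64, 128, 256, 512, 1152, 2304, 4608, 8192, 16384, 32768, 65536, 131072, 262144, 524288, 1048576,
  2097152, 4718592, 9437184, 18874368, 33554432, 67108864, 134217728, 268435456, 536870912, 1610612736, 2147483648]
    b11_p4 = b11_p5 := mm_of (by decide +kernel)

theorem b11_e6 : mmul [1, 34, 4, 8, 16, 32, 4160, 16512, 33024, 512, 1024, 2048, 4096, 8192, 16384, 32768, 8454144, 16908288, 262144,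
  34078720, 1048576, 2097152, 4194304, 8388608, 16777216, 33554432, 1140850688, 134217728, 268435456, 536870912,
  1073741824, 2147483648]
    b11_p5 = b11_p6 := mm_of (by decide +kernel)

theorem b11_e7 : mmul [1, 2, 4, 8, 20, 32, 64, 128, 320, 512, 1024, 2048, 4096, 9216, 16384, 36864, 65536, 131072, 262144, 589824, 1048576,
  2359296, 4194304, 8388608, 16777216, 41943040, 67108864, 134217728, 268435456, 671088640, 1073741824, 2147483648]
    b11_p6 = b11_p7 := mm_of (by decide +kernel)

theorem b11_e8 : mmul [1, 258, 2052, 8200, 16, 32800, 64, 128, 256, 512, 1024, 2048, 4096, 8192, 16384, 32768, 67174400, 131072, 268697600,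
  524288, 537919488, 2097152, 4194304, 1082130432, 16777216, 33554432, 67108864, 134217728, 268435456, 536870912,
  1073741824, 2147483648]
    b11_p7 = b11_p8 := mm_of (by decide +kernel)

theorem b11_e9 : mmul [1, 2, 4, 8, 16, 32, 64, 128, 256, 512, 1024, 2048, 4096, 8192, 16385, 32768, 65536, 131072, 262144, 524288, 1048578,
  2097152, 4194304, 8388612, 16777216, 33554448, 67108864, 134217792, 268435456, 536871168, 1073743872, 2147614720]
    b11_p8 = b11_p9 := mm_of (by decide +kernel)

theorem b11_e10 : mmul [3, 2, 4, 8, 16, 32, 64, 128, 256, 512, 66560, 133120, 266240, 532480, 1064960, 2129920, 65536, 131072, 262144,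
  524288, 1048576, 2097152, 4194304, 8388608, 16777216, 33554432, 67108864, 134217728, 268435456, 536870912,
  3221225472, 2147483648]
    b11_p9 = b11_p10 := mm_of (by decide +kernel)

theorem b11_e11 : mmul [1, 2, 4, 8, 16, 36, 64, 128, 256, 576, 1024, 2048, 4096, 8192, 17408, 34816, 65536, 131072, 262144, 524288, 1114112,
  2228224, 4194304, 8388608, 16777216, 37748736, 67108864, 134217728, 268435456, 603979776, 1073741824, 2147483648]
    b11_p10 = b11_p11 := mm_of (by decide +kernel)

theorem b11_f2 : mmul b11_p11 b11_p11 = b11_q2 := mm_of (by decide +kernel)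

theorem b11_f4 : mmul b11_q2 b11_q2 = b11_q4 := mm_of (by decide +kernel)

theorem b11_f8 : mmul b11_q4 b11_q4 = b11_q8 := mm_of (by decide +kernel)

theorem b11_f12 : mmul b11_q8 b11_q4 = b11_q12 := mm_of (by decide +kernel)

theorem b11_f16 : mmul b11_q8 b11_q8 = b11_q16 := mm_of (by decide +kernel)

theorem b11_f32 : mmul b11_q16 b11_q16 = b11_q32 := mm_of (by decide +kernel)

theorem b11_f33 : mmul b11_q32 b11_p11 = b11_q33 := mm_of (by decide +kernel)

theorem b11_id : b11_q33 = idL gE7.length := by decide +kernel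

theorem b11_m1 : mmul b11_q12 (idL gE7.length) = b11_q12 := mm_of (by decide +kernel)

theorem b11_m2 : mmul (idL gE7.length) (idL gE7.length) = idL gE7.length := mm_of (by decide +kernel)

theorem b11_cert : cert b11_q12 b11_bs b11_wu = idL gE7.length := by
  unfold cert; rw [app_eq]; decide +kernel

/-- an element of order a power of `11` in `L₀`, `|C_V(x)| = q^2` -/
theorem b11_x {K : Type u} [Field K] [Fintype K] {W : Type} [Group W] [Finite W]
    (cs : CoxeterSystem CoxeterMatrix.E₇ W) (p : ℕ) [Fact p.Prime] [CharP K p] (h2 : (2 : K) = 0) (hp : IsType chevE7 7 CoxeterMatrix.E₇) :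
    ∃ x ∈ L0 cs hp.isCartan (XX chevE7 7 K) (toV [2, 2, 3, 4, 3, 2, 1]), ∃ j, x ^ 11 ^ j = 1 ∧ x ≠ 1 ∧
      Nat.card ↥(TwoExc.QQ cs hp.isCartan (XX chevE7 7 K) (toV [2, 2, 3, 4, 3, 2, 1]) ⊓ Subgroup.centralizer {x}) ≤
        Fintype.card K ^ 2 * Nat.card (XX chevE7 7 K (toV [2, 2, 3, 4, 3, 2, 1])) := by
  have h1 : vec chevE7 7 125 = toV [2, 2, 3, 4, 3, 2, 1] := by decide +kernel
  have HD0 := hd_E7 (K := K) cs p
  rw [← h1] at HD0 ⊢
  obtain ⟨A, _, π, hs, hk⟩ := exists_pi HD0.hs
  have a0 : LA hp cs 125 π gE7 (1 : ↥(chevE7.group K)) (idL gE7.length) := LA.one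
  have a1 := LA.gen h2 secE7 HD0.hs hs hk b11_g42 a0 b11_e1
  have a2 := LA.gen h2 secE7 HD0.hs hs hk b11_g87 a1 b11_e2
  have a3 := LA.gen h2 secE7 HD0.hs hs hk b11_g54 a2 b11_e3
  have a4 := LA.gen h2 secE7 HD0.hs hs hk b11_g56 a3 b11_e4
  have a5 := LA.gen h2 secE7 HD0.hs hs hk b11_g56 a4 b11_e5
  have a6 := LA.gen h2 secE7 HD0.hs hs hk b11_g72 a5 b11_e6
  have a7 := LA.gen h2 secE7 HD0.hs hs hk b11_g58 a6 b11_e7
  have a8 := LA.gen h2 secE7 HD0.hs hs hk b11_g81 a7 b11_e8
  have a9 := LA.gen h2 secE7 HD0.hs hs hk b11_g34 a8 b11_e9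
  have a10 := LA.gen h2 secE7 HD0.hs hs hk b11_g73 a9 b11_e10
  have a11 := LA.gen h2 secE7 HD0.hs hs hk b11_g57 a10 b11_e11
  have b1 := a11.pow_one
  have b2 := LA.add h2 (n := 2) b1 b1 (by norm_num) b11_f2
  have b4 := LA.add h2 (n := 4) b2 b2 (by norm_num) b11_f4
  have b8 := LA.add h2 (n := 8) b4 b4 (by norm_num) b11_f8
  have b12 := LA.add h2 (n := 12) b8 b4 (by norm_num) b11_f12
  have b16 := LA.add h2 (n := 16) b8 b8 (by norm_num) b11_f16
  have b32 := LA.add h2 (n := 32) b16 b16 (by norm_num) b11_f32
  have b33 := LA.add h2 (n := 33) b32 b1 (by norm_num) b11_f33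
  exact final_x (ℓ := 11) (m := 3) (s₀ := 4) h2 secE7 HD0 hs hk (by norm_num) b1 b33 b11_id b12 b11_m1 b11_m2
    b11_cert (by decide)

end Cfsg.Agent.H441.FPR.Bit
end

-- part: H441/FPR/BitE717
section
set_option linter.all false
open scoped Cfsg.Agent.FastGrp

/-!
# An element of order `17` in the Levi subgroup of a long root of `E7`
-/

set_option autoImplicit false
set_option linter.unusedSectionVars false
set_option linter.unusedVariables false
set_option maxRecDepth 100000

namespace Cfsg.Agent.H441.FPR.Bit

open CoxeterSystem Cfsg.Agent.ChevalleyStructure.CoxeterGeom Cfsg.Agent.Tits.Roots Cfsg.Agent.Tits.Core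
  Cfsg.Agent.Nodes.Reps Cfsg.Agent.Nodes.BNOf Cfsg.Agent.Nodes.Coroot Cfsg.Agent.Nodes.LeviDec
  Cfsg.Agent.Nodes.PosPair Cfsg.Agent.Nodes.StabComb Cfsg.Agent.Nodes.KindChev Cfsg.Agent.KFacts.RgdCent
  Cfsg.Agent.Nodes.Bruhat Cfsg.Agent.Nodes.OppDec Cfsg.Agent.Tits.Exchange
  Cfsg.Agent.KFacts.RgdPar Cfsg.Agent.KFacts.RgdSL Cfsg.Agent.KFacts.RgdTI Cfsg.Agent.Nodes.RGDChev
  Cfsg.Agent.ChevalleyStructure.CoxeterGeomTypes
open Cfsg.Lie Cfsg.Agent.ChevalleyStructure Cfsg.Agent.ChevalleyStructure.Elts Cfsg.Agent.ChevalleyStructure.NPerm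
open Cfsg.Agent.KFacts.RgdChevCoord Cfsg.Agent.Nodes.ChevCls
open Cfsg.Agent.H400.TwoExc Cfsg.Agent.H400.Fpr
open Cfsg.Agent.H79.SimpleGen
open Cfsg.Agent.H400
open Cfsg.Agent.H441.FPR.Heis

universe u

theorem b17_g33 : GenC chevE7 7 125 gE7 33
    [1, 2, 4, 8, 16, 32, 64, 128, 256, 512, 1024, 2048, 4096, 8192, 16384, 32769, 65536, 131072, 262144, 524288, 1048576,
  2097154, 4194304, 8388608, 16777220, 33554440, 67108864, 134217728, 268435520, 536871040, 1073742848, 2147549184] :=
  GenC.fast (by decide +kernel)

theorem b17_g35 : GenC chevE7 7 125 gE7 35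
    [1, 2, 4, 8, 16, 32, 64, 128, 256, 512, 1024, 2048, 4096, 8193, 16384, 32768, 65536, 131072, 262144, 524290, 1048576,
  2097152, 4194308, 8388608, 16777216, 33554464, 67108928, 134217728, 268435456, 536871424, 1073745920, 2147745792] :=
  GenC.fast (by decide +kernel)

theorem b17_g38 : GenC chevE7 7 125 gE7 38
    [1, 2, 4, 8, 16, 32, 64, 128, 256, 512, 1025, 2048, 4096, 8192, 16384, 32768, 65538, 131072, 262144, 524288, 1048576,
  2097152, 4194320, 8388640, 16777216, 33554432, 67109120, 134218240, 268435456, 536870912, 1073774592, 2149580800] :=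
  GenC.fast (by decide +kernel)

theorem b17_g53 : GenC chevE7 7 125 gE7 53
    [1, 2, 4, 8, 16, 34, 64, 128, 256, 512, 1024, 2048, 4160, 8192, 16512, 33024, 65536, 131072, 262144, 524288, 1048576,
  2097152, 4194304, 8454144, 16908288, 34078720, 67108864, 134217728, 268435456, 536870912, 1140850688, 2147483648] :=
  GenC.fast (by decide +kernel)

theorem b17_g66 : GenC chevE7 7 125 gE7 66
    [1, 2, 12, 8, 16, 32, 192, 128, 256, 512, 1024, 10240, 20480, 8192, 16384, 32768, 65536, 655360, 1310720, 524288,
  1048576, 2097152, 4194304, 8388608, 50331648, 33554432, 67108864, 134217728, 805306368, 536870912, 1073741824,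
  2147483648] :=
  GenC.fast (by decide +kernel)

theorem b17_g72 : GenC chevE7 7 125 gE7 72
    [1, 34, 4, 8, 16, 32, 4160, 16512, 33024, 512, 1024, 2048, 4096, 8192, 16384, 32768, 8454144, 16908288, 262144,
  34078720, 1048576, 2097152, 4194304, 8388608, 16777216, 33554432, 1140850688, 134217728, 268435456, 536870912,
  1073741824, 2147483648] :=
  GenC.fast (by decide +kernel)

theorem b17_g74 : GenC chevE7 7 125 gE7 74
    [5, 2, 4, 8, 16, 32, 64, 65664, 131328, 262656, 1024, 2048, 4096, 4202496, 8404992, 16809984, 65536, 131072, 262144,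
  524288, 1048576, 2097152, 4194304, 8388608, 16777216, 33554432, 67108864, 134217728, 268435456, 2684354560,
  1073741824, 2147483648] :=
  GenC.fast (by decide +kernel)

theorem b17_g81 : GenC chevE7 7 125 gE7 81
    [1, 258, 2052, 8200, 16, 32800, 64, 128, 256, 512, 1024, 2048, 4096, 8192, 16384, 32768, 67174400, 131072, 268697600,
  524288, 537919488, 2097152, 4194304, 1082130432, 16777216, 33554432, 67108864, 134217728, 268435456, 536870912,
  1073741824, 2147483648] :=
  GenC.fast (by decide +kernel)

theorem b17_g83 : GenC chevE7 7 125 gE7 83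
    [65, 2, 4, 65544, 131088, 262176, 64, 128, 256, 512, 1024, 2048, 4096, 67117056, 134234112, 268468224, 65536, 131072,
  262144, 524288, 1048576, 2097152, 4194304, 8388608, 16777216, 2181038080, 67108864, 134217728, 268435456, 536870912,
  1073741824, 2147483648] :=
  GenC.fast (by decide +kernel)

def b17_p1 : List ℕ := [5, 2, 4, 8, 16, 32, 64, 65664, 131328, 262656, 1024, 2048, 4096, 4202496, 8404992, 16809984, 65536, 131072, 262144,
  524288, 1048576, 2097152, 4194304, 8388608, 16777216, 33554432, 67108864, 134217728, 268435456, 2684354560,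
  1073741824, 2147483648]

def b17_p2 : List ℕ := [13, 2, 12, 8, 16, 32, 192, 65664, 655616, 1311232, 1024, 10240, 20480, 4202496, 8404992, 50364416, 65536, 655360,
  1310720, 524288, 1048576, 2097152, 4194304, 8388608, 50331648, 33554432, 67108864, 134217728, 805306368, 2684354560,
  1073741824, 2147483648]

def b17_p3 : List ℕ := [65613, 2, 65548, 65544, 131088, 262176, 192, 65664, 655616, 1311232, 1024, 67119104, 134238208, 71311360, 142622720,
  2466283520, 65536, 655360, 1310720, 524288, 1048576, 2097152, 4194304, 8388608, 2197815296, 2181038080, 67108864,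
  134217728, 805306368, 2684354560, 1073741824, 2147483648]

def b17_p4 : List ℕ := [65615, 2, 65550, 65546, 131088, 262176, 192, 65666, 655616, 1311232, 1025, 67119360, 134238720, 71311632, 142623264,
  2468380672, 65538, 655360, 1310720, 524288, 1048576, 2097152, 4194320, 8388640, 2199912448, 2183135232, 67109120,
  134218240, 805306368, 2686451712, 1073774592, 2149580800]

def b17_p5 : List ℕ := [65615, 2, 65550, 65546, 131088, 262178, 192, 65666, 655616, 1311232, 1025, 67119360, 134238912, 71311632, 142688930,
  2469036288, 65538, 655360, 1310720, 524288, 1048576, 2097152, 4194320, 8454178, 2200567808, 2183659520, 67109120,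
  134218240, 805306368, 2686451712, 1140883712, 2149580800]

def b17_p6 : List ℕ := [8458351, 34, 8454190, 8454186, 16908304, 262146, 20672, 8470690, 51020032, 1311232, 1025, 1140893952, 134218432,
  1145086224, 134283906, 2418671872, 8454178, 50987008, 1310720, 34078720, 1048576, 2097152, 4194320, 65538,
  2150236160, 2150105088, 1140883712, 134218240, 805306368, 2686451712, 67109120, 2149580800]

def b17_p7 : List ℕ := [8458351, 34, 8454190, 8454186, 16908304, 262146, 20672, 8470690, 51020066, 1311232, 1025, 1140898113, 134218432,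
  1145090389, 134283906, 2418934018, 8454178, 50987042, 1310720, 34078754, 1048576, 2097152, 4194324, 65538,
  2150498306, 2150367234, 1140887872, 134218240, 805306880, 2686714368, 67109184, 2149842944]

def b17_p8 : List ℕ := [1149352303, 33058, 1149348142, 1149346090, 16908304, 268697858, 20672, 1149354402, 50987042, 806617600, 1025,
  1140898113, 134218432, 1145092437, 201393026, 2150498306, 1149337890, 51020066, 806617088, 34111778, 537919488,
  2097152, 4196372, 67174658, 2418934018, 2418802946, 1140887872, 134218240, 805306880, 2955149824, 67109184,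
  2418278400]

def b17_p9 : List ℕ := [1149353326, 33059, 1149349167, 1149347115, 16908308, 268697922, 20672, 1149355427, 50987054, 806617792, 1025,
  1140899136, 134218432, 1145093460, 201393026, 2150563840, 1149338915, 51020079, 806617280, 34111787, 537919616,
  2097154, 4196372, 67174658, 2418999616, 2418868544, 1140888897, 134218240, 805307072, 2955215554, 67109184,
  2418344002]

def b17_q2 : List ℕ := [2615266942, 3617602849, 3613401360, 3621859711, 3601214804, 52351949, 1082168353, 2678124321, 285509729, 3837040609,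
  1149352303, 3412443706, 2090177955, 2393270037, 2132694028, 3851584935, 3609209088, 3600823585, 3567293729, 17045601,
  3568617441, 2130209, 29562991, 59478383, 3600340873, 3583137446, 2409922368, 940835008, 4105213857, 270570273,
  1191888303, 3566229120]

def b17_q4 : List ℕ := [2108889862, 470021790, 2741215631, 67315871, 1840746850, 2203254838, 33087512, 1638981656, 6918, 1615392152,
  3734739734, 19301154, 3706239673, 1840748580, 2266704047, 1821479266, 3210958478, 33481517, 3210237753, 1840749731,
  2270374071, 1816760660, 1845408237, 2270701753, 1873776960, 4784148, 14187278, 61877632, 14187321, 14156983,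
  58141177, 61812032]

def b17_q8 : List ℕ := [3213438292, 3998186302, 1979562857, 402899033, 742309677, 1778210472, 3962418496, 4023104832, 48666644, 1382185790,
  3552614400, 784934228, 2725519933, 2474676224, 1883920653, 2440956717, 4026039040, 49798167, 2588921278, 4000884505,
  431476158, 3233341480, 1506007129, 1912511280, 1506016645, 1912490797, 3960155456, 3491658496, 3225219075,
  2472446733, 1934285069, 1534537102]

def b17_q16 : List ℕ := [3049452805, 3488789455, 58752021, 2072025428, 3054084553, 3466399842, 1098961925, 427872325, 1170469317, 2693087872,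
  4123196677, 4204544, 4110582016, 4051884293, 3103953216, 4047742405, 2415033294, 1103155228, 3442660322, 2452783634,
  2704441634, 1845408237, 4119460316, 4137517346, 4111052245, 1267996790, 71510464, 3095745216, 67306949, 3095810885,
  4271301, 3167517646]

def b17_q18 : List ℕ := [3429874581, 1454204864, 2557415317, 2569999253, 1426236501, 3433605033, 2080411968, 4088393408, 4158965589,
  3232875555, 1073789952, 1140899136, 201328513, 71304533, 3232742444, 213975994, 3685711744, 2749686293, 3903948451,
  4154910293, 808747747, 2720071818, 1077981205, 3635392429, 1220650683, 1568909055, 67120448, 805327552, 1208010241,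
  4087727823, 1140898113, 3953460366]

def b17_q32 : List ℕ := [4183156969, 2054940875, 4915224, 4186630365, 2166226992, 2037377259, 4246127010, 4120089442, 3681381353, 2953839104,
  4183092268, 72026329, 67240322, 215881776, 201786178, 2419589888, 2281254286, 2232813795, 2032451616, 1449817069,
  3382743584, 3410979051, 2236877037, 2104356270, 71895259, 2631932720, 3556343630, 3088318464, 2486305666, 2619802434,
  2419655490, 1475182478]

def b17_q34 : List ℕ := [1, 2, 4, 8, 16, 32, 64, 128, 256, 512, 1024, 2048, 4096, 8192, 16384, 32768, 65536, 131072, 262144, 524288, 1048576,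
  2097152, 4194304, 8388608, 16777216, 33554432, 67108864, 134217728, 268435456, 536870912, 1073741824, 2147483648]

def b17_bs : List ℕ := []

def b17_wu : List (ℕ × ℕ) := [(1200182417, 0), (2978929535, 0), (1198001163, 0), (1122893498, 0), (34506556, 0), (2730775095, 0), (3180879181, 0), (3798687053, 0), (3594442662, 0), (892161839, 0), (836458755, 0), (45079462, 0), (4226996310, 0), (1557268558, 0), (1237160761, 0), (2440221066, 0), (1486487758, 0), (3623554318, 0), (268702272, 0), (3618841614, 0), (1936474254, 0), (3152040242, 0), (1553080398, 0), (1265845248, 0), (2442233856, 0), (1091347004, 0), (1490158670, 0), (3557426254, 0), (1799871092, 0), (1876744826, 0), (889052724, 0), (1734475776, 0)]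

theorem b17_e1 : mmul [5, 2, 4, 8, 16, 32, 64, 65664, 131328, 262656, 1024, 2048, 4096, 4202496, 8404992, 16809984, 65536, 131072, 262144,
  524288, 1048576, 2097152, 4194304, 8388608, 16777216, 33554432, 67108864, 134217728, 268435456, 2684354560,
  1073741824, 2147483648]
    (idL gE7.length) = b17_p1 := mm_of (by decide +kernel)

theorem b17_e2 : mmul [1, 2, 12, 8, 16, 32, 192, 128, 256, 512, 1024, 10240, 20480, 8192, 16384, 32768, 65536, 655360, 1310720, 524288,
  1048576, 2097152, 4194304, 8388608, 50331648, 33554432, 67108864, 134217728, 805306368, 536870912, 1073741824,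
  2147483648]
    b17_p1 = b17_p2 := mm_of (by decide +kernel)

theorem b17_e3 : mmul [65, 2, 4, 65544, 131088, 262176, 64, 128, 256, 512, 1024, 2048, 4096, 67117056, 134234112, 268468224, 65536, 131072,
  262144, 524288, 1048576, 2097152, 4194304, 8388608, 16777216, 2181038080, 67108864, 134217728, 268435456, 536870912,
  1073741824, 2147483648]
    b17_p2 = b17_p3 := mm_of (by decide +kernel)

theorem b17_e4 : mmul [1, 2, 4, 8, 16, 32, 64, 128, 256, 512, 1025, 2048, 4096, 8192, 16384, 32768, 65538, 131072, 262144, 524288, 1048576,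
  2097152, 4194320, 8388640, 16777216, 33554432, 67109120, 134218240, 268435456, 536870912, 1073774592, 2149580800]
    b17_p3 = b17_p4 := mm_of (by decide +kernel)

theorem b17_e5 : mmul [1, 2, 4, 8, 16, 34, 64, 128, 256, 512, 1024, 2048, 4160, 8192, 16512, 33024, 65536, 131072, 262144, 524288, 1048576,
  2097152, 4194304, 8454144, 16908288, 34078720, 67108864, 134217728, 268435456, 536870912, 1140850688, 2147483648]
    b17_p4 = b17_p5 := mm_of (by decide +kernel)

theorem b17_e6 : mmul [1, 34, 4, 8, 16, 32, 4160, 16512, 33024, 512, 1024, 2048, 4096, 8192, 16384, 32768, 8454144, 16908288, 262144,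
  34078720, 1048576, 2097152, 4194304, 8388608, 16777216, 33554432, 1140850688, 134217728, 268435456, 536870912,
  1073741824, 2147483648]
    b17_p5 = b17_p6 := mm_of (by decide +kernel)

theorem b17_e7 : mmul [1, 2, 4, 8, 16, 32, 64, 128, 256, 512, 1024, 2048, 4096, 8193, 16384, 32768, 65536, 131072, 262144, 524290, 1048576,
  2097152, 4194308, 8388608, 16777216, 33554464, 67108928, 134217728, 268435456, 536871424, 1073745920, 2147745792]
    b17_p6 = b17_p7 := mm_of (by decide +kernel)

theorem b17_e8 : mmul [1, 258, 2052, 8200, 16, 32800, 64, 128, 256, 512, 1024, 2048, 4096, 8192, 16384, 32768, 67174400, 131072, 268697600,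
  524288, 537919488, 2097152, 4194304, 1082130432, 16777216, 33554432, 67108864, 134217728, 268435456, 536870912,
  1073741824, 2147483648]
    b17_p7 = b17_p8 := mm_of (by decide +kernel)

theorem b17_e9 : mmul [1, 2, 4, 8, 16, 32, 64, 128, 256, 512, 1024, 2048, 4096, 8192, 16384, 32769, 65536, 131072, 262144, 524288, 1048576,
  2097154, 4194304, 8388608, 16777220, 33554440, 67108864, 134217728, 268435520, 536871040, 1073742848, 2147549184]
    b17_p8 = b17_p9 := mm_of (by decide +kernel)

theorem b17_f2 : mmul b17_p9 b17_p9 = b17_q2 := mm_of (by decide +kernel)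

theorem b17_f4 : mmul b17_q2 b17_q2 = b17_q4 := mm_of (by decide +kernel)

theorem b17_f8 : mmul b17_q4 b17_q4 = b17_q8 := mm_of (by decide +kernel)

theorem b17_f16 : mmul b17_q8 b17_q8 = b17_q16 := mm_of (by decide +kernel)

theorem b17_f18 : mmul b17_q16 b17_q2 = b17_q18 := mm_of (by decide +kernel)

theorem b17_f32 : mmul b17_q16 b17_q16 = b17_q32 := mm_of (by decide +kernel)

theorem b17_f34 : mmul b17_q32 b17_q2 = b17_q34 := mm_of (by decide +kernel)

theorem b17_id : b17_q34 = idL gE7.length := by decide +kernel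

theorem b17_m1 : mmul b17_q18 (idL gE7.length) = b17_q18 := mm_of (by decide +kernel)

theorem b17_m2 : mmul (idL gE7.length) (idL gE7.length) = idL gE7.length := mm_of (by decide +kernel)

theorem b17_cert : cert b17_q18 b17_bs b17_wu = idL gE7.length := by
  unfold cert; rw [app_eq]; decide +kernel

/-- an element of order a power of `17` in `L₀`, `|C_V(x)| = q^0` -/
theorem b17_x {K : Type u} [Field K] [Fintype K] {W : Type} [Group W] [Finite W]
    (cs : CoxeterSystem CoxeterMatrix.E₇ W) (p : ℕ) [Fact p.Prime] [CharP K p] (h2 : (2 : K) = 0) (hp : IsType chevE7 7 CoxeterMatrix.E₇) :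
    ∃ x ∈ L0 cs hp.isCartan (XX chevE7 7 K) (toV [2, 2, 3, 4, 3, 2, 1]), ∃ j, x ^ 17 ^ j = 1 ∧ x ≠ 1 ∧
      Nat.card ↥(TwoExc.QQ cs hp.isCartan (XX chevE7 7 K) (toV [2, 2, 3, 4, 3, 2, 1]) ⊓ Subgroup.centralizer {x}) ≤
        Fintype.card K ^ 0 * Nat.card (XX chevE7 7 K (toV [2, 2, 3, 4, 3, 2, 1])) := by
  have h1 : vec chevE7 7 125 = toV [2, 2, 3, 4, 3, 2, 1] := by decide +kernel
  have HD0 := hd_E7 (K := K) cs p
  rw [← h1] at HD0 ⊢
  obtain ⟨A, _, π, hs, hk⟩ := exists_pi HD0.hs
  have a0 : LA hp cs 125 π gE7 (1 : ↥(chevE7.group K)) (idL gE7.length) := LA.one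
  have a1 := LA.gen h2 secE7 HD0.hs hs hk b17_g74 a0 b17_e1
  have a2 := LA.gen h2 secE7 HD0.hs hs hk b17_g66 a1 b17_e2
  have a3 := LA.gen h2 secE7 HD0.hs hs hk b17_g83 a2 b17_e3
  have a4 := LA.gen h2 secE7 HD0.hs hs hk b17_g38 a3 b17_e4
  have a5 := LA.gen h2 secE7 HD0.hs hs hk b17_g53 a4 b17_e5
  have a6 := LA.gen h2 secE7 HD0.hs hs hk b17_g72 a5 b17_e6
  have a7 := LA.gen h2 secE7 HD0.hs hs hk b17_g35 a6 b17_e7
  have a8 := LA.gen h2 secE7 HD0.hs hs hk b17_g81 a7 b17_e8
  have a9 := LA.gen h2 secE7 HD0.hs hs hk b17_g33 a8 b17_e9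
  have b1 := a9.pow_one
  have b2 := LA.add h2 (n := 2) b1 b1 (by norm_num) b17_f2
  have b4 := LA.add h2 (n := 4) b2 b2 (by norm_num) b17_f4
  have b8 := LA.add h2 (n := 8) b4 b4 (by norm_num) b17_f8
  have b16 := LA.add h2 (n := 16) b8 b8 (by norm_num) b17_f16
  have b18 := LA.add h2 (n := 18) b16 b2 (by norm_num) b17_f18
  have b32 := LA.add h2 (n := 32) b16 b16 (by norm_num) b17_f32
  have b34 := LA.add h2 (n := 34) b32 b2 (by norm_num) b17_f34
  exact final_x (ℓ := 17) (m := 2) (s₀ := 9) h2 secE7 HD0 hs hk (by norm_num) b1 b34 b17_id b18 b17_m1 b17_m2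
    b17_cert (by decide)

end Cfsg.Agent.H441.FPR.Bit
end

section
prune_inst 0x7ffdfef8bfbc3ddfdfbf7e7fa7dccffc39d09fffa6dff943ffe0ebff0bdf038a6de5ab8d8de050fe0ed6621c10b87853fdffdeffe26bdc7ffffd5ff41ffbee0fe5f7b50871d78c340fbc2fff03f0778e7f3fffffffffffffffffffffffffffbeffbfffffffff

-- part: H441/FPR/BitR
section
set_option linter.all false
open scoped Cfsg.Agent.FastGrp

/-!
# The rows for `E₇` and `E₈` from the explicit elements over the field of two elements
-/

set_option autoImplicit false
set_option linter.unusedSectionVars false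
set_option linter.unusedVariables false
set_option maxRecDepth 100000

namespace Cfsg.Agent.H441.FPR.Bit

open CoxeterSystem Cfsg.Agent.ChevalleyStructure.CoxeterGeom Cfsg.Agent.Tits.Roots Cfsg.Agent.Tits.Core
  Cfsg.Agent.Nodes.Reps Cfsg.Agent.Nodes.BNOf Cfsg.Agent.Nodes.Coroot Cfsg.Agent.Nodes.LeviDec
  Cfsg.Agent.Nodes.PosPair Cfsg.Agent.Nodes.StabComb Cfsg.Agent.Nodes.KindChev Cfsg.Agent.KFacts.RgdCent
  Cfsg.Agent.Nodes.Bruhat Cfsg.Agent.Nodes.OppDec Cfsg.Agent.Tits.Exchange
  Cfsg.Agent.KFacts.RgdPar Cfsg.Agent.KFacts.RgdSL Cfsg.Agent.KFacts.RgdTI Cfsg.Agent.Nodes.RGDChev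
  Cfsg.Agent.ChevalleyStructure.CoxeterGeomTypes
open Cfsg.Lie Cfsg.Agent.ChevalleyStructure Cfsg.Agent.ChevalleyStructure.Elts Cfsg.Agent.ChevalleyStructure.NPerm
open Cfsg.Agent.KFacts.RgdChevCoord Cfsg.Agent.Nodes.ChevCls
open Cfsg.Agent.H400.TwoExc Cfsg.Agent.H400.Fpr
open Cfsg.Agent.H398.FPR (UGood Good)
open Cfsg.Agent.H409 (FprRow)
open Cfsg.Agent.H79.SimpleGen
open Cfsg.Agent.H400
open Cfsg.Agent.H441.FPR.Heis

universe u

variable {K : Type u} [Field K] [Fintype K]

/-! ### The primes for base `2` -/

theorem ord_ne {ℓ e : ℕ} (s : ℕ) (h : orderOf (s : ZMod ℓ) = e) {m : ℕ} (hm : 0 < m) (hme : m < e) :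
    (s : ZMod ℓ) ^ m ≠ 1 := by
  intro h1
  have := Nat.le_of_dvd hm (orderOf_dvd_of_pow_eq_one h1)
  omega

theorem p_ten {ℓ : ℕ} (hℓ : ℓ.Prime) (h : orderOf ((2 : ℕ) : ZMod ℓ) = 10) : ℓ = 11 := by
  have h1 := half_ord hℓ (m := 5) (by norm_num) h
  have h2 : ((33 : ℕ) : ZMod ℓ) = 0 := by push_cast at h1 ⊢; linear_combination h1
  rw [ZMod.natCast_eq_zero_iff] at h2
  rw [show (33 : ℕ) = 3 * 11 from rfl] at h2
  rcases (hℓ.dvd_mul).1 h2 with h3 | h3
  · have h4 := (Nat.prime_dvd_prime_iff_eq hℓ (by norm_num)).1 h3
    subst h4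
    exact absurd (show ((2 : ℕ) : ZMod 3) ^ 2 = 1 by decide) (ord_ne 2 h (by norm_num) (by norm_num))
  · exact (Nat.prime_dvd_prime_iff_eq hℓ (by norm_num)).1 h3

theorem p_twelve {ℓ : ℕ} (hℓ : ℓ.Prime) (h : orderOf ((2 : ℕ) : ZMod ℓ) = 12) : ℓ = 13 := by
  have h1 := half_ord hℓ (m := 6) (by norm_num) h
  have h2 : ((65 : ℕ) : ZMod ℓ) = 0 := by push_cast at h1 ⊢; linear_combination h1
  rw [ZMod.natCast_eq_zero_iff] at h2
  rw [show (65 : ℕ) = 5 * 13 from rfl] at h2
  rcases (hℓ.dvd_mul).1 h2 with h3 | h3
  · have h4 := (Nat.prime_dvd_prime_iff_eq hℓ (by norm_num)).1 h3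
    subst h4
    exact absurd (show ((2 : ℕ) : ZMod 5) ^ 4 = 1 by decide) (ord_ne 2 h (by norm_num) (by norm_num))
  · exact (Nat.prime_dvd_prime_iff_eq hℓ (by norm_num)).1 h3

theorem p_fourteen {ℓ : ℕ} (hℓ : ℓ.Prime) (h : orderOf ((2 : ℕ) : ZMod ℓ) = 14) : ℓ = 43 := by
  have h1 := half_ord hℓ (m := 7) (by norm_num) h
  have h2 : ((129 : ℕ) : ZMod ℓ) = 0 := by push_cast at h1 ⊢; linear_combination h1
  rw [ZMod.natCast_eq_zero_iff] at h2
  rw [show (129 : ℕ) = 3 * 43 from rfl] at h2
  rcases (hℓ.dvd_mul).1 h2 with h3 | h3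
  · have h4 := (Nat.prime_dvd_prime_iff_eq hℓ (by norm_num)).1 h3
    subst h4
    exact absurd (show ((2 : ℕ) : ZMod 3) ^ 2 = 1 by decide) (ord_ne 2 h (by norm_num) (by norm_num))
  · exact (Nat.prime_dvd_prime_iff_eq hℓ (by norm_num)).1 h3

theorem p_eighteen {ℓ : ℕ} (hℓ : ℓ.Prime) (h : orderOf ((2 : ℕ) : ZMod ℓ) = 18) : ℓ = 19 := by
  have h1 := half_ord hℓ (m := 9) (by norm_num) h
  have h2 : ((27 * 19 : ℕ) : ZMod ℓ) = 0 := by push_cast at h1 ⊢; linear_combination h1
  rw [ZMod.natCast_eq_zero_iff] at h2
  rcases (hℓ.dvd_mul).1 h2 with h3 | h3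
  · have h4 := (Nat.prime_dvd_prime_iff_eq hℓ (by norm_num)).1 (hℓ.dvd_of_dvd_pow (show ℓ ∣ 3 ^ 3 from h3))
    subst h4
    exact absurd (show ((2 : ℕ) : ZMod 3) ^ 2 = 1 by decide) (ord_ne 2 h (by norm_num) (by norm_num))
  · exact (Nat.prime_dvd_prime_iff_eq hℓ (by norm_num)).1 h3

theorem card_two {p a : ℕ} (hp : p.Prime) (h : (2 : ℕ) = p ^ a) : p = 2 ∧ a = 1 := by
  have ha : a ≠ 0 := by rintro rfl; norm_num at h
  have h1 : p ∣ 2 := by rw [h]; exact dvd_pow_self p ha
  have h2 := (Nat.prime_dvd_prime_iff_eq hp Nat.prime_two).1 h1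
  subst h2
  refine ⟨rfl, ?_⟩
  have h3 : (2 : ℕ) ^ 1 = 2 ^ a := by rw [← h]; rfl
  exact (Nat.pow_right_injective le_rfl h3).symm

/-- the common set up for `q = 2` -/
theorem setup_two {ℓ e : ℕ} (hℓ : ℓ.Prime) (hK : Fintype.card K = 2) (he : 2 ≤ e)
    (ho : orderOf (Fintype.card K : ZMod ℓ) = e) : CharP K 2 ∧ (2 : K) = 0 ∧ ℓ ≠ 2 ∧ 
      orderOf ((2 : ℕ) : ZMod ℓ) = e ∧ ∀ t : ℕ, t ≠ 0 → 2 ^ t ≡ 1 [MOD ℓ] → 2 ^ e ≤ 2 ^ t := by
  have hc : CharP K 2 := by
    obtain ⟨p, hpK⟩ := CharP.exists K
    have hp := CharP.char_is_prime K p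
    obtain ⟨a, -, ha⟩ := FiniteField.card K p
    rw [hK] at ha
    obtain ⟨rfl, -⟩ := card_two hp ha
    exact hpK
  rw [hK] at ho
  refine ⟨hc, by exact_mod_cast CharP.cast_eq_zero K 2, ?_, ho, ?_⟩
  · rintro rfl
    have h1 : ((2 : ℕ) : ZMod 2) = 0 := by decide
    rw [h1] at ho
    have h2 : orderOf (0 : ZMod 2) = 0 := by
      rw [orderOf_eq_zero_iff']
      intro n hn
      rw [zero_pow (by omega)]
      decide
    omega
  · intro t ht h1
    have h2 : ((2 : ℕ) : ZMod ℓ) ^ t = 1 := by
      have := (ZMod.natCast_eq_natCast_iff _ _ _).2 h1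
      push_cast at this ⊢
      exact this
    have h3 := Nat.le_of_dvd (Nat.pos_of_ne_zero ht) (orderOf_dvd_of_pow_eq_one h2)
    rw [ho] at h3
    exact Nat.pow_le_pow_right (by norm_num) h3

/-- **`E₈(2)`.** -/
theorem e8_two {ℓ : ℕ} (hℓ : ℓ.Prime) (hK : Fintype.card K = 2)
    (ho : orderOf (Fintype.card K : ZMod ℓ) ∈ [10, 12, 14, 18]) : FprRow (ℓ + 1) 1 ℓ ↥(chevE8.group K) := by
  obtain ⟨e, he⟩ : ∃ e, orderOf (Fintype.card K : ZMod ℓ) = e := ⟨_, rfl⟩
  rw [he] at ho
  simp only [List.mem_cons, List.not_mem_nil, or_false] at ho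
  obtain ⟨hc, h2, hℓ2, hs, hM⟩ := setup_two hℓ hK (by omega) he
  have : Fact (Nat.Prime 2) := ⟨Nat.prime_two⟩
  have hfin : Finite ↥(chevE8.group K) := inferInstance
  have hsimp := Cfsg.Agent.S1054.result (F := K) chevE8 (by simp)
  have : IsSimpleGroup ↥(chevE8.group K) := hsimp.1
  have hcen : Subgroup.center ↥(chevE8.group K) = ⊥ := center_eq_bot hsimp.2
  let cs : CoxeterSystem CoxeterMatrix.E₈ _ := CoxeterMatrix.E₈.toCoxeterSystem
  have hT : IsType chevE8 8 CoxeterMatrix.E₈ := by simp [IsType, typeList]
  have hW : Finite CoxeterMatrix.E₈.Group := finite_W hT cs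
  have HD := hd_E8 (K := K) cs 2
  have main : ∀ c, (∃ x ∈ L0 cs hT.isCartan (XX chevE8 8 K) (toV [2, 3, 4, 6, 5, 4, 3, 2]), ∃ j, x ^ ℓ ^ j = 1 ∧ x ≠ 1 ∧
      Nat.card ↥(TwoExc.QQ cs hT.isCartan (XX chevE8 8 K) (toV [2, 3, 4, 6, 5, 4, 3, 2]) ⊓ Subgroup.centralizer {x}) ≤
        Fintype.card K ^ c * Nat.card (XX chevE8 8 K (toV [2, 3, 4, 6, 5, 4, 3, 2]))) →
      (2 ^ c + 1) * (ℓ + 1) ≤ 2 ^ e + 2 ^ c → FprRow (ℓ + 1) 1 ℓ ↥(chevE8.group K) := by
    rintro c ⟨x, hx, j, hj, hx1, hcard⟩ hle
    rw [hK] at hcard
    have h1 : 1 ≤ 2 ^ c := Nat.one_le_two_pow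
    have key := uGood_small (M' := 2 ^ e) HD.hs this hcen (G1_eq_top hT cs) hℓ hℓ2 hx hj hx1 (isPGroup_QQ HD.toHB) hcard
      (by omega) hM Nat.one_le_two_pow
    have key' : UGood (2 ^ c - 1 + 2) (2 ^ e + (2 ^ c - 1) + 1) x := by
      have e1 : 2 ^ c - 1 + 2 = 2 ^ c + 1 := by omega
      have e2 : 2 ^ e + (2 ^ c - 1) + 1 = 2 ^ e + 2 ^ c := by omega
      rw [e1, e2]
      exact key
    refine good_of_uGood hℓ hj key' ?_
    have e1 : 2 ^ c - 1 + 2 = 2 ^ c + 1 := by omega
    have e2 : 2 ^ e + (2 ^ c - 1) + 1 = 2 ^ e + 2 ^ c := by omega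
    rw [e1, e2]
    exact hle
  rcases ho with rfl | rfl | rfl | rfl
  · obtain rfl := p_ten hℓ hs
    exact main 6 (a11_x cs 2 h2 hT) (by norm_num)
  · obtain rfl := p_twelve hℓ hs
    exact main 8 (a13_x cs 2 h2 hT) (by norm_num)
  · obtain rfl := p_fourteen hℓ hs
    exact main 0 (a43_x cs 2 h2 hT) (by norm_num)
  · obtain rfl := p_eighteen hℓ hs
    exact main 2 (a19_x cs 2 h2 hT) (by norm_num)

/-- **`E₈(q)`, order `10, 12, 14, 18`.** -/
theorem e8_all {ℓ : ℕ} (hℓ : ℓ.Prime) (hℓK : (ℓ : K) ≠ 0)
    (ho : orderOf (Fintype.card K : ZMod ℓ) ∈ [10, 12, 14, 18]) : FprRow (ℓ + 1) 1 ℓ ↥(chevE8.group K) := by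
  have h1 : 1 < Fintype.card K := Fintype.one_lt_card
  rcases Nat.lt_or_ge 2 (Fintype.card K) with h2 | h2
  · exact e8_heis hℓ hℓK h2 ho
  · exact e8_two hℓ (by omega) ho

/-- **`E₇(q)`, order `8` and `10`.** -/
theorem e7_all {ℓ : ℕ} (hℓ : ℓ.Prime) (hℓK : (ℓ : K) ≠ 0)
    (ho : orderOf (Fintype.card K : ZMod ℓ) = 8 ∨ orderOf (Fintype.card K : ZMod ℓ) = 10) :
    FprRow (ℓ + 1) 1 ℓ ↥(chevE7.group K) := by
  have hK1 : 1 < Fintype.card K := Fintype.one_lt_card
  have hfin : Finite ↥(chevE7.group K) := inferInstance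
  have hsimp := Cfsg.Agent.S1054.result (F := K) chevE7 (by simp)
  have hsim : IsSimpleGroup ↥(chevE7.group K) := hsimp.1
  have hcen : Subgroup.center ↥(chevE7.group K) = ⊥ := center_eq_bot hsimp.2
  let cs : CoxeterSystem CoxeterMatrix.E₇ _ := CoxeterMatrix.E₇.toCoxeterSystem
  have hT : IsType chevE7 7 CoxeterMatrix.E₇ := by simp [IsType, typeList]
  have hW : Finite CoxeterMatrix.E₇.Group := finite_W hT cs
  obtain ⟨e, he⟩ : ∃ e, orderOf (Fintype.card K : ZMod ℓ) = e := ⟨_, rfl⟩
  rw [he] at ho
  obtain ⟨p, hp, hpK, hℓp, hℓq, a, b, ha, hb, hba, hs, hM⟩ := setup hℓ hℓK (by omega) he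
  have : Fact p.Prime := ⟨hp⟩
  have HD := hd_E7 (K := K) cs p
  have main : ∀ d c, (∃ x ∈ L0 cs hT.isCartan (XX chevE7 7 K) (toV [2, 2, 3, 4, 3, 2, 1]), ∃ j, x ^ ℓ ^ j = 1 ∧ x ≠ 1 ∧
      Nat.card ↥(TwoExc.QQ cs hT.isCartan (XX chevE7 7 K) (toV [2, 2, 3, 4, 3, 2, 1]) ⊓ Subgroup.centralizer {x}) ≤
        Fintype.card K ^ c * Nat.card (XX chevE7 7 K (toV [2, 2, 3, 4, 3, 2, 1]))) → Fintype.card K ^ c = d →
      (d + 1) * (ℓ + 1) ≤ (p ^ b) ^ e + d → FprRow (ℓ + 1) 1 ℓ ↥(chevE7.group K) := by
    rintro d c ⟨x, hx, j, hj, hx1, hcard⟩ hcd hle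
    rw [hcd] at hcard
    have h1 : 1 ≤ d := by rw [← hcd]; exact Nat.one_le_pow _ _ (by omega)
    have key := uGood_small (M' := (p ^ b) ^ e) HD.hs hsim hcen (G1_eq_top hT cs) hℓ hℓp hx hj hx1 (isPGroup_QQ HD.toHB)
      hcard (by omega) hM (Nat.one_le_pow _ _ (Nat.pos_of_ne_zero (pow_ne_zero _ hp.ne_zero)))
    have e1 : d - 1 + 2 = d + 1 := by omega
    have e2 : (p ^ b) ^ e + (d - 1) + 1 = (p ^ b) ^ e + d := by omega
    have key' : UGood (d - 1 + 2) ((p ^ b) ^ e + (d - 1) + 1) x := by
      rw [e1, e2]
      exact key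
    refine good_of_uGood hℓ hj key' ?_
    rw [e1, e2]
    exact hle
  have hq2 : ∀ h : Fintype.card K = 2, p = 2 ∧ b = 1 := by
    intro h
    rw [h] at ha
    obtain ⟨h1, h2⟩ := card_two hp ha
    refine ⟨h1, ?_⟩
    have := Nat.le_of_dvd (by omega) hba
    omega
  rcases ho with rfl | rfl
  · by_cases h17 : ℓ = 17
    · subst h17
      rcases Nat.lt_or_ge 2 (p ^ b) with h2 | h2
      · -- a base at least `3`
        have hK2 : 2 < Fintype.card K := by
          rw [ha]
          refine h2.trans_le (Nat.pow_le_pow_right hp.pos (Nat.le_of_dvd ?_ hba))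
          rcases Nat.eq_zero_or_pos a with rfl | h3
          · rw [pow_zero] at ha; omega
          · exact h3
        obtain ⟨x, hx, hxo⟩ := e7_x (m := 8) cs hℓ hℓp hℓq he (by decide) dvd_rfl hT
        have key := uGood_x (M' := (p ^ b) ^ 8) HD hsim hcen hK2 hℓ hℓp hx hxo hM (Nat.one_le_pow _ _ (by omega))
        refine good_of_uGood (k := 1) hℓ (by rw [pow_one, ← hxo]; exact pow_orderOf_eq_one x) key ?_
        have : 3 ^ 8 ≤ (p ^ b) ^ 8 := Nat.pow_le_pow_left h2 8
        omega
      · have h3 := two_le_pow hp hb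
        have h4 : p ^ b = 2 := by omega
        obtain ⟨rfl, -⟩ := card_two hp h4.symm
        refine main 1 0 (b17_x cs 2 ?_ hT) (pow_zero _) (by rw [h4]; norm_num)
        exact_mod_cast CharP.cast_eq_zero K 2
    · rcases Nat.lt_or_ge 2 (Fintype.card K) with h2 | h2
      · exact e7_heis hℓ hℓK h2 (Or.inr ⟨he, h17⟩)
      · exfalso
        have h3 : Fintype.card K = 2 := by omega
        rw [h3] at he
        have h1 := le_eight hℓ he
        norm_num at h1
        exact h17 ((Nat.prime_dvd_prime_iff_eq hℓ (by norm_num)).1 h1)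
  · rcases Nat.lt_or_ge 2 (Fintype.card K) with h2 | h2
    · exact e7_heis hℓ hℓK h2 (Or.inl he)
    · have h3 : Fintype.card K = 2 := by omega
      obtain ⟨rfl, rfl⟩ := hq2 h3
      rw [h3] at he
      obtain rfl := p_ten hℓ he
      refine main 4 2 (b11_x cs 2 ?_ hT) (by rw [h3]; norm_num) (by norm_num)
      exact_mod_cast CharP.cast_eq_zero K 2

/-- **`E₈(q)`, order `9`**, except `ℓ = 757` in characteristic `3`. -/
theorem e8_nine' {ℓ : ℕ} (hℓ : ℓ.Prime) (hℓK : (ℓ : K) ≠ 0)
    (ho : orderOf (Fintype.card K : ZMod ℓ) = 9) (h3K : ℓ ≠ 757 ∨ (3 : K) ≠ 0) : FprRow (ℓ + 1) 1 ℓ ↥(chevE8.group K) := by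
  have hK1 : 1 < Fintype.card K := Fintype.one_lt_card
  have hfin : Finite ↥(chevE8.group K) := inferInstance
  have hsimp := Cfsg.Agent.S1054.result (F := K) chevE8 (by simp)
  have hsim : IsSimpleGroup ↥(chevE8.group K) := hsimp.1
  have hcen : Subgroup.center ↥(chevE8.group K) = ⊥ := center_eq_bot hsimp.2
  let cs : CoxeterSystem CoxeterMatrix.E₈ _ := CoxeterMatrix.E₈.toCoxeterSystem
  have hT : IsType chevE8 8 CoxeterMatrix.E₈ := by simp [IsType, typeList]
  have hW : Finite CoxeterMatrix.E₈.Group := finite_W hT cs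
  obtain ⟨p, hp, hpK, hℓp, hℓq, a, b, ha, hb, hba, hs, hM⟩ := setup hℓ hℓK (by omega) ho
  have : Fact p.Prime := ⟨hp⟩
  have HD := hd_E8 (K := K) cs p
  have ha0 : 0 < a := by
    rcases Nat.eq_zero_or_pos a with rfl | h3
    · rw [pow_zero] at ha; omega
    · exact h3
  have h9 := le_nine hℓ hs
  have hb2 := two_le_pow hp hb
  -- a large base
  have big : 2 < p ^ b → 58 * (ℓ + 1) ≤ (p ^ b) ^ 9 + 57 → FprRow (ℓ + 1) 1 ℓ ↥(chevE8.group K) := by
    intro h2 hle
    have hK2 : 2 < Fintype.card K := by
      rw [ha]
      exact h2.trans_le (Nat.pow_le_pow_right hp.pos (Nat.le_of_dvd ha0 hba))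
    obtain ⟨x, hx, hxo⟩ := e8_x (m := 18) cs hℓ hℓp hℓq ho (by decide) (by norm_num) hT
    have key := uGood_x (M' := (p ^ b) ^ 9) HD hsim hcen hK2 hℓ hℓp hx hxo hM (Nat.one_le_pow _ _ (by omega))
    refine good_of_uGood (k := 1) hℓ (by rw [pow_one, ← hxo]; exact pow_orderOf_eq_one x) key ?_
    omega
  rcases Nat.lt_or_ge 2 (p ^ b) with h2 | h2
  · rcases Nat.lt_or_ge 3 (p ^ b) with h3 | h3
    · -- base at least `4`
      refine big h2 ?_
      have h2 := Nat.le_of_dvd (by positivity) h9
      have h3' : 64 * (p ^ b) ^ 6 ≤ (p ^ b) ^ 9 := by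
        have : (p ^ b) ^ 9 = (p ^ b) ^ 3 * (p ^ b) ^ 6 := by ring
        rw [this]
        exact Nat.mul_le_mul_right _ (by
          calc 64 = 4 ^ 3 := by norm_num
            _ ≤ (p ^ b) ^ 3 := Nat.pow_le_pow_left h3 3)
      have h4 : 64 * (p ^ b) ^ 3 ≤ (p ^ b) ^ 6 := by
        have : (p ^ b) ^ 6 = (p ^ b) ^ 3 * (p ^ b) ^ 3 := by ring
        rw [this]
        exact Nat.mul_le_mul_right _ (by
          calc 64 = 4 ^ 3 := by norm_num
            _ ≤ (p ^ b) ^ 3 := Nat.pow_le_pow_left h3 3)
      have h5 : 64 ≤ (p ^ b) ^ 3 := by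
        calc 64 = 4 ^ 3 := by norm_num
          _ ≤ (p ^ b) ^ 3 := Nat.pow_le_pow_left h3 3
      omega
    · -- base `3`
      exfalso
      have h4 : p ^ b = 3 := by omega
      rw [h4] at h9
      norm_num at h9
      have h5 : ℓ = 757 := (Nat.prime_dvd_prime_iff_eq hℓ (by norm_num)).1 h9
      have h6 : p = 3 := by
        have h7 : p ∣ 3 := by rw [← h4]; exact dvd_pow_self p hb
        exact (Nat.prime_dvd_prime_iff_eq hp Nat.prime_three).1 h7
      subst h6
      rcases h3K with h7 | h7
      · exact h7 h5
      · exact h7 (by exact_mod_cast CharP.cast_eq_zero K 3)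
  · -- base `2`
    have h4 : p ^ b = 2 := by omega
    obtain ⟨rfl, rfl⟩ := card_two hp h4.symm
    rw [pow_one] at h9 hM
    norm_num at h9
    obtain rfl : ℓ = 73 := (Nat.prime_dvd_prime_iff_eq hℓ (by norm_num)).1 h9
    obtain ⟨x, hx, j, hj, hx1, hcard⟩ := a73_x cs 2 (by exact_mod_cast CharP.cast_eq_zero K 2) hT
    rcases Nat.lt_or_ge 2 (Fintype.card K) with hK | hK
    · obtain ⟨i, w, hw, hone⟩ := HD.long
      obtain ⟨g, S⟩ := scR_chev hT cs 2 hw hone hK
      have key := uGood_scalar (D := 2) (M' := 2 ^ 9) HD.hs hsim hcen (G1_eq_top hT cs) S hℓ hℓp hx hj hx1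
        (isPGroup_QQ HD.toHB) (lt_of_le_of_lt hcard (Nat.mul_lt_mul_of_pos_right
          (Nat.pow_lt_pow_right hK1 (by norm_num)) Nat.card_pos)) hM (by norm_num)
      exact good_of_uGood hℓ hj key (by norm_num)
    · have hK2 : Fintype.card K = 2 := by omega
      rw [hK2] at hcard
      have key := uGood_small (M' := 2 ^ 9) HD.hs hsim hcen (G1_eq_top hT cs) hℓ hℓp hx hj hx1
        (isPGroup_QQ HD.toHB) hcard (by norm_num) hM (by norm_num)
      exact good_of_uGood (D := 3) hℓ hj key (by norm_num)

end Cfsg.Agent.H441.FPR.Bit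
end

-- part: H398/FPR/FamTwo
section
prune_inst 0x1000000000000000000000000000000000000000002000000000000000000000000000000000000000000000000000000000000000000000000000000000000000000000000000000000000000000000000000000
set_option linter.all false
open scoped Cfsg.Agent.FastGrp

-- part: H398/FPR/KT
section
/-!
# The subgroup `SL(T)` of the isometry group

`V = T ⊕ M ⊕ T'` with a hyperbolic frame; the root elements `S(u, t', 0)`, `u ∈ T`, `t' ∈ T'`,
generate a subgroup isomorphic to `SL(T)`.
-/

set_option autoImplicit false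
open Subgroup MulAction

namespace Cfsg.Agent.H398.FPR

open Cfsg.Agent.TitsThree.Siegel Cfsg.Agent.TitsThree.SiegelGen Cfsg.Agent.H110.Fpr
open Cfsg.Agent.H435.Fpr (PairM)
open Cfsg.Agent.H221.PP

variable {F : Type*} [Field F] {V : Type*} [AddCommGroup V] [Module F V]
variable {H : HForm F V} {P : PQ H}

/-- the subgroup generated by the root elements -/
def KT (H : HForm F V) (T T' : Submodule F V) : Subgroup (V ≃ₗ[F] V) :=
  Subgroup.closure {g | ∃ (u t : V) (hu : H.h u u = 0) (ht : H.h u t = 0), u ∈ T ∧ t ∈ T' ∧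
    g = H.sie u t 0 hu ht}

variable {T M T' : Submodule F V}

theorem sie_mem_KT {u t : V} (hu : H.h u u = 0) (ht : H.h u t = 0) (huT : u ∈ T) (htT : t ∈ T') :
    H.sie u t 0 hu ht ∈ KT H T T' :=
  subset_closure ⟨u, t, hu, ht, huT, htT, rfl⟩

theorem Dec.KT_le (d : Dec P T M T') : KT H T T' ≤ SG P := by
  unfold KT
  rw [closure_le]
  rintro _ ⟨u, t, hu, ht, huT, htT, rfl⟩
  exact sie_mem_SG P hu ht (d.s1 u huT) (d.s2 t htT)

/-- stabilises `T`, `T'` and fixes `M` -/
structure KProp (T M T' : Submodule F V) (g : V ≃ₗ[F] V) : Prop where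
  t1 : ∀ t ∈ T, g t ∈ T
  t2 : ∀ t ∈ T', g t ∈ T'
  m : ∀ w ∈ M, g w = w

theorem Dec.sie_kprop (d : Dec P T M T') {u t : V} (hu : H.h u u = 0) (ht : H.h u t = 0)
    (huT : u ∈ T) (htT : t ∈ T') (c : F) (hc : c = 0) : KProp T M T' (H.sie u t c hu ht) := by
  subst hc
  refine ⟨fun v hv => ?_, fun v hv => ?_, fun v hv => ?_⟩
  · rw [H.sie_apply, d.o1 v hv u huT]
    have e : v + (0 : F) • t - (H.ε⁻¹ * H.h v t) • u + ((0 : F) * 0) • u =
        v + (-(H.ε⁻¹ * H.h v t)) • u := by module
    rw [e]
    exact T.add_mem hv (T.smul_mem _ huT)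
  · rw [H.sie_apply, d.o2 v hv t htT]
    have e : v + H.h v u • t - (H.ε⁻¹ * (0 : F)) • u + ((0 : F) * H.h v u) • u =
        v + H.h v u • t := by module
    rw [e]
    exact T'.add_mem hv (T'.smul_mem _ htT)
  · rw [H.sie_apply, H.orth_symm (d.m1 u huT v hv), H.orth_symm (d.m2 t htT v hv)]
    simp

theorem Dec.kprop (d : Dec P T M T') {g : V ≃ₗ[F] V} (hg : g ∈ KT H T T') :
    KProp T M T' g ∧ KProp T M T' g⁻¹ := by
  unfold KT at hg
  induction hg using Subgroup.closure_induction with
  | mem g hg =>
    obtain ⟨u, t, hu, ht, huT, htT, rfl⟩ := hg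
    refine ⟨d.sie_kprop hu ht huT htT 0 rfl, ?_⟩
    rw [H.sie_inv]
    exact d.sie_kprop _ _ huT (T'.neg_mem htT) _ (by rw [d.o2 t htT t htT]; ring)
  | one =>
    have : KProp T M T' (1 : V ≃ₗ[F] V) := ⟨fun _ h => h, fun _ h => h, fun _ _ => rfl⟩
    exact ⟨this, by rw [inv_one]; exact this⟩
  | mul g g' _ _ ih ih' =>
    refine ⟨⟨fun v hv => ih.1.t1 _ (ih'.1.t1 v hv), fun v hv => ih.1.t2 _ (ih'.1.t2 v hv),
      fun v hv => ?_⟩, ?_⟩
    · show g (g' v) = v
      rw [ih'.1.m v hv, ih.1.m v hv]
    · rw [mul_inv_rev]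
      refine ⟨fun v hv => ih'.2.t1 _ (ih.2.t1 v hv), fun v hv => ih'.2.t2 _ (ih.2.t2 v hv),
        fun v hv => ?_⟩
      show g'⁻¹ (g⁻¹ v) = v
      rw [ih.2.m v hv, ih'.2.m v hv]
  | inv g _ ih => exact ⟨ih.2, by rw [inv_inv]; exact ih.1⟩

/-- the restriction to `T` -/
def res (d : Dec P T M T') (g : KT H T T') : T ≃ₗ[F] T where
  toFun t := ⟨(g : V ≃ₗ[F] V) t, (d.kprop g.2).1.t1 t t.2⟩
  map_add' a b := Subtype.ext ((g : V ≃ₗ[F] V).map_add a b)
  map_smul' c a := Subtype.ext ((g : V ≃ₗ[F] V).map_smul c a)
  invFun t := ⟨(g : V ≃ₗ[F] V)⁻¹ t, (d.kprop g.2).2.t1 t t.2⟩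
  left_inv t := Subtype.ext ((g : V ≃ₗ[F] V).symm_apply_apply t)
  right_inv t := Subtype.ext ((g : V ≃ₗ[F] V).apply_symm_apply t)

/-- the restriction as a homomorphism -/
def resHom (d : Dec P T M T') : KT H T T' →* (T ≃ₗ[F] T) where
  toFun := res d
  map_one' := by ext t; rfl
  map_mul' a b := by ext t; rfl

theorem resHom_apply (d : Dec P T M T') (g : KT H T T') (t : T) :
    ((resHom d g t : T) : V) = (g : V ≃ₗ[F] V) t := rfl

/-- the functional of a root element -/
def func (H : HForm F V) (T : Submodule F V) (t : V) : T →ₗ[F] F where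
  toFun v := -(H.ε⁻¹ * H.h v t)
  map_add' a b := by rw [Submodule.coe_add, H.add_left]; ring
  map_smul' c a := by rw [Submodule.coe_smul, H.smul_left, RingHom.id_apply, smul_eq_mul]; ring

theorem resHom_sie (d : Dec P T M T') {u t : V} (hu : H.h u u = 0) (ht : H.h u t = 0)
    (huT : u ∈ T) (htT : t ∈ T') :
    resHom d ⟨H.sie u t 0 hu ht, sie_mem_KT hu ht huT htT⟩ =
      LinearEquiv.transvection (f := func H T t) (v := ⟨u, huT⟩) (by
        show -(H.ε⁻¹ * H.h u t) = 0
        rw [ht, mul_zero, neg_zero]) := by
  ext v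
  rw [resHom_apply, LinearEquiv.transvection.apply]
  show H.sie u t 0 hu ht v = v + (-(H.ε⁻¹ * H.h v t)) • u
  rw [H.sie_apply, d.o1 v v.2 u huT]
  module

theorem det_resHom [Finite V] (d : Dec P T M T') (g : KT H T T') :
    LinearEquiv.det (resHom d g) = 1 := by
  have hfin : Module.Finite F V := Module.Finite.of_finite
  have key : ∀ g (hg : g ∈ KT H T T'), LinearEquiv.det (resHom d ⟨g, hg⟩) = 1 := by
    intro g hg
    have hg' := hg
    unfold KT at hg'
    induction hg' using Subgroup.closure_induction with
    | mem g hg'' =>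
      obtain ⟨u, t, hu, ht, huT, htT, rfl⟩ := hg''
      rw [resHom_sie d hu ht huT htT]
      exact LinearEquiv.transvection.det_eq_one _
    | one =>
      have : (⟨1, hg⟩ : KT H T T') = 1 := rfl
      rw [this, map_one, map_one]
    | mul a b ha hb iha ihb =>
      have : (⟨a * b, hg⟩ : KT H T T') = ⟨a, ha⟩ * ⟨b, hb⟩ := rfl
      rw [this, map_mul, map_mul, iha ha, ihb hb, one_mul]
    | inv a ha iha =>
      have : (⟨a⁻¹, hg⟩ : KT H T T') = (⟨a, ha⟩ : KT H T T')⁻¹ := rfl
      rw [this, map_inv, map_inv, iha ha, inv_one]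
  exact key g.1 g.2

/-- the restriction to `SL(T)` -/
def resSL [Finite V] (d : Dec P T M T') : KT H T T' →* SpecialLinearGroup F T where
  toFun g := ⟨resHom d g, det_resHom d g⟩
  map_one' := by
    apply ext'
    intro t
    rfl
  map_mul' a b := by
    apply ext'
    intro t
    rfl

theorem resSL_apply [Finite V] (d : Dec P T M T') (g : KT H T T') (t : T) :
    ((resSL d g t : T) : V) = (g : V ≃ₗ[F] V) t := rfl

theorem resSL_injective [Finite V] (d : Dec P T M T') : Function.Injective (resSL d) := by
  rw [injective_iff_map_eq_one]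
  intro g hg
  have h1 : ∀ t ∈ T, (g : V ≃ₗ[F] V) t = t := by
    intro t ht
    have := congrArg (fun s : SpecialLinearGroup F T => ((s ⟨t, ht⟩ : T) : V)) hg
    exact this
  have hp := (d.kprop g.2).1
  obtain ⟨hgi, -, -⟩ := SG_iso (d.KT_le g.2)
  apply Subtype.ext
  ext v
  obtain ⟨t, ht, m, hm, t', ht', rfl⟩ := d.exists_eq v
  show (g : V ≃ₗ[F] V) (t + m + t') = t + m + t'
  rw [map_add, map_add, h1 t ht, hp.m m hm]
  congr 1
  rw [← sub_eq_zero]
  have hmem : (g : V ≃ₗ[F] V) t' - t' ∈ T' := T'.sub_mem (hp.t2 t' ht') ht'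
  apply d.eq_zero
  · intro s hs
    rw [H.sub_left]
    have h3 := hgi t' s
    rw [h1 s hs] at h3
    rw [h3, sub_self]
  · exact fun m hm => d.m2 _ hmem m hm
  · exact fun s hs => d.o2 _ hmem s hs

theorem resSL_surjective [Finite V] {ι : Type*} [DecidableEq ι] [Fintype ι] {e f : ι → V}
    (hfr : HFr P e f)
    (d : Dec P (Submodule.span F (Set.range e)) (mid H e f) (Submodule.span F (Set.range f))) :
    Function.Surjective (resSL d) := by
  have hfin : Module.Finite F V := Module.Finite.of_finite
  rw [← MonoidHom.range_eq_top]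
  apply eq_top_of_tv
  intro φ w hw
  obtain ⟨E, hE⟩ : ∃ E : ι → Submodule.span F (Set.range e),
      ∀ i, (E i : V) = e i := ⟨fun i => ⟨e i, Submodule.subset_span ⟨i, rfl⟩⟩, fun _ => rfl⟩
  obtain ⟨t, ht⟩ : ∃ t, t = ∑ i, H.σ (-(H.ε * φ (E i))) • f i := ⟨_, rfl⟩
  have htT : t ∈ Submodule.span F (Set.range f) := by
    rw [ht]
    exact Submodule.sum_mem _ fun i _ => Submodule.smul_mem _ _ (Submodule.subset_span ⟨i, rfl⟩)
  have sum_right : ∀ (a : ι → F) (x : ι → V) (y : V),
      H.h y (∑ j, a j • x j) = ∑ j, H.σ (a j) * H.h y (x j) := by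
    intro a x y
    rw [H.swap, sum_left, map_sum, Finset.mul_sum]
    refine Finset.sum_congr rfl fun j _ => ?_
    rw [map_mul, H.swap (x j) y]
    ring
  have hφE : ∀ i, φ (E i) = func H (Submodule.span F (Set.range e)) t (E i) := by
    intro i
    show φ (E i) = -(H.ε⁻¹ * H.h (E i : V) t)
    rw [hE, ht, sum_right]
    simp only [hfr.ef, mul_ite, mul_one, mul_zero, Finset.sum_ite_eq, Finset.mem_univ, if_true,
      H.σσ]
    field_simp [H.ε_ne]
  have hφ : φ = func H (Submodule.span F (Set.range e)) t := by
    apply LinearMap.ext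
    rintro ⟨v, hv⟩
    induction hv using Submodule.span_induction with
    | mem v hv =>
      obtain ⟨i, rfl⟩ := hv
      have := hφE i
      have hEi : E i = ⟨e i, Submodule.subset_span ⟨i, rfl⟩⟩ := Subtype.ext (hE i)
      rw [hEi] at this
      exact this
    | zero =>
      have h0 : (⟨0, Submodule.zero_mem _⟩ : Submodule.span F (Set.range e)) = 0 := rfl
      rw [h0, map_zero, map_zero]
    | add a b ha hb iha ihb =>
      have h0 : (⟨a + b, Submodule.add_mem _ ha hb⟩ : Submodule.span F (Set.range e)) =
        ⟨a, ha⟩ + ⟨b, hb⟩ := rfl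
      rw [h0, map_add, map_add, iha, ihb]
    | smul c a ha iha =>
      have h0 : (⟨c • a, Submodule.smul_mem _ c ha⟩ : Submodule.span F (Set.range e)) =
        c • ⟨a, ha⟩ := rfl
      rw [h0, map_smul, map_smul, iha]
  subst hφ
  have hww := d.o1 w w.2 w w.2
  have hwt : H.h (w : V) t = 0 := by
    have h3 : -(H.ε⁻¹ * H.h (w : V) t) = 0 := hw
    have h4 : H.ε⁻¹ * H.h (w : V) t = 0 := by linear_combination -h3
    exact (mul_eq_zero.1 h4).resolve_left (inv_ne_zero H.ε_ne)
  refine ⟨⟨H.sie w t 0 hww hwt, sie_mem_KT hww hwt w.2 htT⟩, ?_⟩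
  apply ext'
  intro v
  apply Subtype.ext
  rw [resSL_apply, tv_apply]
  show H.sie w t 0 hww hwt v = v + (-(H.ε⁻¹ * H.h v t)) • (w : V)
  rw [H.sie_apply, d.o1 v v.2 w w.2]
  module

end Cfsg.Agent.H398.FPR
end

-- part: H398/FPR/CTwo
section
/-!
# `p = 2 ^ k - 1`, `ord_p q = k ≥ 3`: `x ∈ SL(T)`, `dim T = k`
-/

set_option autoImplicit false
open Subgroup MulAction

namespace Cfsg.Agent.H398.FPR

open Cfsg.Agent.TitsThree.Siegel Cfsg.Agent.TitsThree.SiegelGen Cfsg.Agent.H110.Fpr
open Cfsg.Agent.H435.Fpr (PairM)
open Cfsg.Agent.H221.PP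

variable {F : Type*} [Field F] {V : Type*} [AddCommGroup V] [Module F V]
variable {H : HForm F V} {P : PQ H} {T M T' : Submodule F V}

/-- The Mersenne algebra. -/
theorem mers_zero (h2 : (2 : F) = 0) {x : V ≃ₗ[F] V} {w : V} {s p : ℕ}
    (h1 : x w + w = (x ^ s) w) (h1' : (x ^ s) (x w + w) = x w) (hp : (x ^ p) w = w)
    (h3 : Nat.Coprime 3 p) : w = 0 := by
  have hdouble : ∀ v : V, v + v = 0 := by
    intro v
    have : v + v = (2 : F) • v := by rw [two_smul]
    rw [this, h2, zero_smul]
  have hcomm : x ((x ^ s) w) = (x ^ s) (x w) := by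
    have : x * x ^ s = x ^ s * x := by rw [← pow_succ', pow_succ]
    exact congrArg (fun g : V ≃ₗ[F] V => g w) this
  -- `x² w = x w + w`
  have h4 : x (x w) = x w + w := by
    have h5 : x (x w + w) + (x w + w) = x w := by
      conv_lhs => rw [h1, hcomm, ← map_add, h1']
    rw [map_add] at h5
    have h6 : x (x w) + x w + (x w + w) = x (x w) + w := by
      have : x (x w) + x w + (x w + w) = x (x w) + w + (x w + x w) := by abel
      rw [this, hdouble, add_zero]
    rw [h6] at h5
    have h7 : x (x w) = x (x w) + w + w := by rw [add_assoc, hdouble, add_zero]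
    rw [h7, h5]
  have h5 : x (x (x w)) = w := by
    rw [h4, map_add, h4]
    have : x w + w + x w = w + (x w + x w) := by abel
    rw [this, hdouble, add_zero]
  have h6 : x ^ 3 ∈ stabilizer (V ≃ₗ[F] V) w := by
    rw [mem_stabilizer_iff]
    exact h5
  have h7 : x ^ p ∈ stabilizer (V ≃ₗ[F] V) w := hp
  have h8 : x ∈ stabilizer (V ≃ₗ[F] V) w := by
    have h9 : IsCoprime (3 : ℤ) (p : ℤ) := by
      have := Nat.isCoprime_iff_coprime.2 h3
      exact_mod_cast this
    obtain ⟨a, b, hab⟩ := h9
    have h10 : x = (x ^ 3) ^ a * (x ^ p) ^ b := by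
      rw [← zpow_natCast, ← zpow_natCast, ← zpow_mul, ← zpow_mul, ← zpow_add]
      have : ((3 : ℕ) : ℤ) * a + (p : ℤ) * b = 1 := by
        push_cast
        linear_combination hab
      rw [this, zpow_one]
    rw [h10]
    exact mul_mem (zpow_mem h6 a) (zpow_mem h7 b)
  have h9 : x w = w := h8
  rw [h9, hdouble] at h1
  exact ((x ^ s).map_eq_zero_iff).1 h1.symm

/-- the relation on the dual side -/
theorem mers_dual (d : Dec P T M T') {x : V ≃ₗ[F] V} (a : XAct P T M T' x) {s p : ℕ}
    (hp : p ≠ 0) (hxp : x ^ p = 1) (hs : ∀ t ∈ T, x t + t = (x ^ s) t) :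
    ∀ t ∈ T', (x ^ s) (x t + t) = x t := by
  intro t ht
  have hpi := isIso_pow a.iso s
  have c1 : ∀ v, (x ^ s) (x v) = x ((x ^ s) v) := by
    intro v
    have : x ^ s * x = x * x ^ s := by rw [← pow_succ, pow_succ']
    exact congrArg (fun g : V ≃ₗ[F] V => g v) this
  rw [← sub_eq_zero]
  have hmem : (x ^ s) (x t + t) - x t ∈ T' :=
    T'.sub_mem (pow_mem_sub a.t2 s _ (T'.add_mem (a.t2 t ht) ht)) (a.t2 t ht)
  apply d.eq_zero
  · intro u hu
    -- `u = x ^ s (x r)`
    obtain ⟨r, hr, rfl⟩ : ∃ r ∈ T, u = (x ^ s) (x r) := by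
      refine ⟨(x ^ ((s + 1) * (p - 1))) u, pow_mem_sub a.t1 _ u hu, ?_⟩
      have h1 : x ^ s * x * x ^ ((s + 1) * (p - 1)) = 1 := by
        rw [← pow_succ, ← pow_add]
        have : s + 1 + (s + 1) * (p - 1) = p * (s + 1) := by
          obtain ⟨p', rfl⟩ := Nat.exists_eq_succ_of_ne_zero hp
          rw [Nat.succ_sub_one, Nat.succ_eq_add_one]
          ring
        rw [this, pow_mul, hxp, one_pow]
      exact (congrArg (fun g : V ≃ₗ[F] V => g u) h1).symm
    have e1 : H.h ((x ^ s) (x t)) ((x ^ s) (x r)) = H.h t r := by rw [hpi, a.iso]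
    have e2 : H.h ((x ^ s) t) ((x ^ s) (x r)) = H.h t (x r) := by rw [hpi]
    have e3 : H.h (x t) ((x ^ s) (x r)) = H.h t (x r) + H.h t r := by
      rw [c1, a.iso, ← hs r hr, H.add_right]
    rw [map_add, H.sub_left, H.add_left, e1, e2, e3]
    ring
  · exact fun m hm => d.m2 _ hmem m hm
  · exact fun u hu => d.o2 _ hmem u hu

/-- **Free action on both radicals.** -/
theorem freeOn_mers [Finite V] (h2 : (2 : F) = 0) (d : Dec P T M T') {x : V ≃ₗ[F] V}
    (a : XAct P T M T' x) {s p : ℕ} (hp : p ≠ 0) (hxp : x ^ p = 1) (h3 : Nat.Coprime 3 p)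
    (hs : ∀ t ∈ T, x t + t = (x ^ s) t) :
    FreeOn x (rad P T (T ⊔ M)) ∧ FreeOn x (rad P T' (T' ⊔ M)) := by
  have hs' := mers_dual d a hp hxp hs
  have hdouble : ∀ v : V, v + v = 0 := by
    intro v
    have : v + v = (2 : F) • v := by rw [two_smul]
    rw [this, h2, zero_smul]
  have hpow : ∀ v, (x ^ p) v = v := fun v => by rw [hxp]; rfl
  have tpow : ∀ (τ : V →ₗ[F] V) (T : Submodule F V), (∀ v ∈ T, x v ∈ T) →
      (∀ v ∈ T, x (τ v) = τ (x v)) → ∀ n : ℕ, ∀ v ∈ T, (x ^ n) (τ v) = τ ((x ^ n) v) := by
    intro τ T hT h n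
    induction n with
    | zero => intro v _; rfl
    | succ n ih =>
      intro v hv
      rw [pow_succ]
      show (x ^ n) (x (τ v)) = τ ((x ^ n) (x v))
      rw [h v hv, ih _ (hT v hv)]
  constructor
  · apply freeOn_rad d a
    · intro t ht hx
      have h4 := hs t ht
      rw [hx, hdouble] at h4
      exact ((x ^ s).map_eq_zero_iff).1 h4.symm
    · intro τ h4 h5 v hv
      apply mers_zero h2 (s := s) (p := p) (hs _ (h4 v hv)) _ (hpow _) h3
      rw [h5 v hv, ← map_add, tpow τ T' a.t2 h5 s _ (T'.add_mem (a.t2 v hv) hv), hs' v hv]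
  · apply freeOn_rad d.symm a.symm
    · intro t ht hx
      have h4 := hs' t ht
      rw [hx, hdouble, map_zero] at h4
      exact h4.symm
    · intro τ h4 h5 v hv
      apply mers_zero h2 (s := s) (p := p) _ (hs' _ (h4 v hv)) (hpow _) h3
      rw [h5 v hv, ← map_add, hs v hv, tpow τ T a.t1 h5 s v hv]

theorem FreeOn.of_pow {G : Type*} [Group G] {y : G} {R : Subgroup G} {j : ℕ}
    (h : FreeOn (y ^ j) R) (hy : y ∈ normalizer (R : Set G)) : FreeOn y R := by
  refine ⟨hy, fun r hr hyr => h.free r hr ?_⟩
  have h1 : ∀ n : ℕ, y ^ n * r * (y ^ n)⁻¹ = r := by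
    intro n
    induction n with
    | zero => simp
    | succ n ih =>
      have e : y ^ (n + 1) * r * (y ^ (n + 1))⁻¹ = y * (y ^ n * r * (y ^ n)⁻¹) * y⁻¹ := by
        rw [pow_succ']; group
      rw [e, ih, hyr]
  exact h1 j

/-- elements of `KT` act as in `XAct` -/
theorem Dec.kt_xact (d : Dec P T M T') {g : V ≃ₗ[F] V} (hg : g ∈ KT H T T') :
    XAct P T M T' g := by
  have h := (d.kprop hg).1
  obtain ⟨h1, h2, -⟩ := SG_iso (d.KT_le hg)
  exact ⟨h1, h2, h.t1, h.t2, h.m⟩

theorem XAct.normalizer (_d : Dec P T M T') [Finite V] {g : V ≃ₗ[F] V} (a : XAct P T M T' g) :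
    g ∈ Subgroup.normalizer ((rad P T (T ⊔ M) : Subgroup (V ≃ₗ[F] V)) : Set (V ≃ₗ[F] V)) := by
  apply mem_normalizer_of_conj
  refine rad_conj a.iso a.ok a.t1 ?_
  intro w hw
  obtain ⟨t, ht, m, hm, rfl⟩ := Submodule.mem_sup.1 hw
  rw [map_add, a.m m hm]
  exact Submodule.add_mem_sup (a.t1 t ht) hm

/-- nontrivial elements of `zrad` -/
theorem exists_zrad_two {ι : Type*} [DecidableEq ι] {e f : ι → V} (hfr : HFr P e f) {i j : ι}
    (hij : i ≠ j) : ∃ z ∈ zrad P (Submodule.span F (Set.range e)) (mid H e f), z ≠ 1 := by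
  have hei := hfr.ee i i
  have hej := hfr.ee i j
  have hmi : e i ∈ Submodule.span F (Set.range e) := Submodule.subset_span ⟨i, rfl⟩
  have hmj : e j ∈ Submodule.span F (Set.range e) := Submodule.subset_span ⟨j, rfl⟩
  refine ⟨H.sie (e i) (e j) 0 hei hej, mem_zrad.2
    ⟨sie_mem_rad hei hej hmi (Submodule.mem_sup_left hmj) (hfr.es j), fun m hm => ?_⟩, ?_⟩
  · rw [H.sie_apply, (mem_mid.1 hm).1 i, (mem_mid.1 hm).1 j]
    simp
  · intro h
    have h1 : H.sie (e i) (e j) 0 hei hej (f i) = f i := by rw [h]; rfl
    rw [H.sie_apply, hfr.fe i i, hfr.fe i j, if_pos rfl, if_neg hij] at h1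
    have h2 : f i + H.ε • e j = f i := by simpa using h1
    have h3 := left_eq_add.1 h2.symm
    have h4 := (smul_eq_zero.1 h3).resolve_left H.ε_ne
    have h5 := hfr.ef j j
    rw [h4, H.zero_left, if_pos rfl] at h5
    exact zero_ne_one h5

/-- elements of two kinds -/
def TwoKinds (R : Subgroup (V ≃ₗ[F] V)) : Prop :=
  ∃ Q : (V ≃ₗ[F] V) → Prop, (∀ x g, Q g ↔ Q (x * g * x⁻¹)) ∧ (∃ g ∈ R, g ≠ 1 ∧ Q g) ∧
    ∃ g ∈ R, g ≠ 1 ∧ ¬ Q g

/-- **The main theorem for `x ∈ SL(T)`.** -/
theorem c2_uGood [Finite V] (h2 : (2 : F) = 0) {ι : Type*} [DecidableEq ι] [Fintype ι]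
    {e f : ι → V} (hfr : HFr P e f) (hfr' : HFr P f e) (hnd : ∀ v : V, v ≠ 0 → ∃ w, H.h v w ≠ 0)
    {i j : ι} (hij : i ≠ j) {p kk m0 : ℕ} (hp : p.Prime) (h3 : Nat.Coprime 3 p) (hm0 : 2 ≤ m0)
    (hM : ∀ t : ℕ, t ≠ 0 → 2 ^ t ≡ 1 [MOD p] → m0 ≤ 2 ^ t)
    {y0 : SpecialLinearGroup F (Submodule.span F (Set.range e))} (hyp : y0 ^ p ^ kk = 1)
    (hy : UGood 1 m0 y0) {l s : ℕ} (hxp : (y0 ^ l) ^ p = 1)
    (hs : ∀ t, (y0 ^ l) t + t = ((y0 ^ l) ^ s) t)
    (hm0p : m0 ≤ p + 1)
    (hcase : (∃ m ∈ mid H e f, ∃ m' ∈ mid H e f, H.h m m' ≠ 0) ∨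
      (mid H e f = ⊥ ∧ TwoKinds (rad P (Submodule.span F (Set.range e))
        (Submodule.span F (Set.range e) ⊔ mid H e f)) ∧
       TwoKinds (rad P (Submodule.span F (Set.range f))
        (Submodule.span F (Set.range f) ⊔ mid H e f)))) :
    ∃ x : SG P, x ^ p ^ kk = 1 ∧ UGood 1 m0 x := by
  have d := hfr.dec hnd
  have hch := charP_two h2
  have : Fact (Nat.Prime 2) := ⟨Nat.prime_two⟩
  have hfin : Finite (V ≃ₗ[F] V) := instFin
  have hsurj := resSL_surjective hfr d
  obtain ⟨E, hE⟩ : ∃ E : KT H (Submodule.span F (Set.range e)) (Submodule.span F (Set.range f)) ≃*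
      SpecialLinearGroup F (Submodule.span F (Set.range e)), ∀ g, E g = resSL d g :=
    ⟨MulEquiv.ofBijective (resSL d) ⟨resSL_injective d, hsurj⟩, fun _ => rfl⟩
  obtain ⟨φ, hφ⟩ : ∃ φ : SpecialLinearGroup F (Submodule.span F (Set.range e)) →* SG P,
      φ = (Subgroup.inclusion d.KT_le).comp E.symm.toMonoidHom := ⟨_, rfl⟩
  have hφK : ∀ g, (φ g : V ≃ₗ[F] V) ∈ KT H (Submodule.span F (Set.range e))
      (Submodule.span F (Set.range f)) := by
    intro g
    rw [hφ]
    exact (E.symm g).2
  have hφa : ∀ g (t : Submodule.span F (Set.range e)), (φ g : V ≃ₗ[F] V) t = (g t : _) := by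
    intro g t
    have h4 : g = resSL d (E.symm g) := by rw [← hE, E.apply_symm_apply]
    conv_rhs => rw [h4]
    rw [resSL_apply, hφ]
    rfl
  have hφr : ∀ g ∈ KT H (Submodule.span F (Set.range e)) (Submodule.span F (Set.range f)),
      ∃ g', (φ g' : V ≃ₗ[F] V) = g := by
    intro g hg
    refine ⟨E ⟨g, hg⟩, ?_⟩
    rw [hφ]
    show ((E.symm (E ⟨g, hg⟩) : KT H _ _) : V ≃ₗ[F] V) = g
    rw [E.symm_apply_apply]
  obtain ⟨y, hyd⟩ : ∃ y, y = φ y0 := ⟨_, rfl⟩
  have hypp : y ^ p ^ kk = 1 := by rw [hyd, ← map_pow, hyp, map_one]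
  have ay : XAct P _ _ _ (y : V ≃ₗ[F] V) := d.kt_xact (by rw [hyd]; exact hφK y0)
  have ax : XAct P _ _ _ ((y ^ l : SG P) : V ≃ₗ[F] V) :=
    d.kt_xact (by rw [hyd, ← map_pow]; exact hφK _)
  have hxp' : ((y ^ l : SG P) : V ≃ₗ[F] V) ^ p = 1 := by
    have h4 : (y ^ l) ^ p = 1 := by rw [hyd, ← map_pow, ← map_pow, hxp, map_one]
    exact congrArg Subtype.val h4
  have hs' : ∀ t ∈ Submodule.span F (Set.range e), ((y ^ l : SG P) : V ≃ₗ[F] V) t + t =
      (((y ^ l : SG P) : V ≃ₗ[F] V) ^ s) t := by
    intro t ht
    have h4 := congrArg Subtype.val (hs ⟨t, ht⟩)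
    have h5 : ((y ^ l : SG P) : V ≃ₗ[F] V) t = (((y0 ^ l) ⟨t, ht⟩ : _) : V) := by
      rw [hyd, ← map_pow]; exact hφa _ ⟨t, ht⟩
    have h6 : (((y ^ l : SG P) : V ≃ₗ[F] V) ^ s) t = ((((y0 ^ l) ^ s) ⟨t, ht⟩ : _) : V) := by
      have h7 : ((y ^ l : SG P) : V ≃ₗ[F] V) ^ s = ((φ ((y0 ^ l) ^ s) : SG P) : V ≃ₗ[F] V) := by
        rw [hyd, map_pow, map_pow]; rfl
      rw [h7]; exact hφa _ ⟨t, ht⟩
    rw [h5, h6]
    exact h4
  obtain ⟨g1, g2⟩ := freeOn_mers h2 d ax hp.ne_zero hxp' h3 hs'
  have hval : ((y ^ l : SG P) : V ≃ₗ[F] V) = (y : V ≃ₗ[F] V) ^ l := rfl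
  rw [hval] at g1 g2
  have f1 : FreeOn (y : V ≃ₗ[F] V) _ := g1.of_pow (ay.normalizer d)
  have f2 : FreeOn (y : V ≃ₗ[F] V) _ := g2.of_pow (ay.symm.normalizer d.symm)
  have hR1 := rad_isPGroup (r := 2) d
  have hR2 := rad_isPGroup (r := 2) d.symm
  have hyv : (y : V ≃ₗ[F] V) ^ p ^ kk = 1 := congrArg Subtype.val hypp
  have l1 := d.rad_le_SG
  have l2 := d.symm.rad_le_SG
  -- the bound for overgroups
  have bound : ∀ {e f : ι → V} (hfr : HFr P e f) (hfr' : HFr P f e),
      FreeOn (y : V ≃ₗ[F] V) (rad P (Submodule.span F (Set.range f))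
        (Submodule.span F (Set.range f) ⊔ mid H e f)) →
      XAct P (Submodule.span F (Set.range e)) (mid H e f) (Submodule.span F (Set.range f))
        (y : V ≃ₗ[F] V) →
      ((∃ m ∈ mid H e f, ∃ m' ∈ mid H e f, H.h m m' ≠ 0) ∨
      (mid H e f = ⊥ ∧ TwoKinds (rad P (Submodule.span F (Set.range f))
        (Submodule.span F (Set.range f) ⊔ mid H e f)))) →
      ∀ D : Subgroup (SG P), D ≠ ⊤ →
      (∀ u ∈ Submodule.span F (Set.range e), ∀ t ∈ Submodule.span F (Set.range f), H.h u t = 0 →
        Rt H (D.map (SG P).subtype) u t) →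
      rad P (Submodule.span F (Set.range e)) (Submodule.span F (Set.range e) ⊔ mid H e f) ≤
        D.map (SG P).subtype →
      2 * m0 - 1 ≤ D.relIndex ((rad P (Submodule.span F (Set.range f))
        (Submodule.span F (Set.range f) ⊔ mid H e f)).subgroupOf (SG P)) := by
    intro e f hfr hfr' f2 ay hcase D hD hrt hR
    have d := hfr.dec hnd
    have hDle : D.map (SG P).subtype ≤ SG P := by
      rintro _ ⟨g, -, rfl⟩
      exact g.2
    have hDne : ¬ SG P ≤ D.map (SG P).subtype := by
      intro hle
      apply hD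
      rw [eq_top_iff]
      intro g _
      obtain ⟨g', hg', he⟩ := hle g.2
      rwa [← Subtype.ext he]
    have hz := over_zt d hR hrt
    rw [relIndex_subgroupOf_eq d.symm.rad_le_SG]
    rcases hcase with ⟨m, hm, m', hm', hmm'⟩ | ⟨hbot, hc⟩
    · have h4 := over_relIndex d hDle hDne hz (u := e i) (u' := f i)
        (Submodule.subset_span ⟨i, rfl⟩) (Submodule.subset_span ⟨i, rfl⟩)
        (by rw [hfr.ef, if_pos rfl]; exact one_ne_zero) hm hm' hmm'
      have h5 : m0 ≤ Nat.card (zrad P (Submodule.span F (Set.range f)) (mid H e f)) := by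
        refine (f2.zrad d.symm ay.symm).le_card hp Nat.prime_two hyv
          ((rad_isPGroup d.symm).to_le inf_le_left) hM ?_
        have h6 := exists_zrad_two hfr' hij
        rw [mid_symm] at h6
        exact h6
      omega
    · have h4 : D.map (SG P).subtype ⊓ rad P (Submodule.span F (Set.range f))
          (Submodule.span F (Set.range f) ⊔ mid H e f) = ⊥ := by
        rw [eq_bot_iff]
        rintro g ⟨hgD, hg⟩
        rw [mem_bot]
        refine over_zrad d hDle hDne hz g (mem_zrad.2 ⟨hg, ?_⟩) hgD
        intro m hm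
        rw [hbot] at hm
        have hm0 : m = 0 := hm
        rw [hm0]
        exact map_zero g
      rw [relIndex_eq_card_of_disjoint h4]
      obtain ⟨Q, hQ, ⟨g1, hg1, hg1', hg1Q⟩, g2, hg2, hg2', hg2Q⟩ := hc
      have h5 := f2.le_card_two hp hyv Q (hQ _) hg1 hg1' hg1Q hg2 hg2' hg2Q
      omega
  have hxK : y ∈ φ.range := ⟨y0, hyd.symm⟩
  refine ⟨y, hypp, t4_free hm0 (K := φ.range) (R1 := (rad P (Submodule.span F (Set.range e))
      (Submodule.span F (Set.range e) ⊔ mid H e f)).subgroupOf (SG P))
    (R2 := (rad P (Submodule.span F (Set.range f))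
      (Submodule.span F (Set.range f) ⊔ mid H e f)).subgroupOf (SG P)) hxK ?_ ?_ ?_
    ((f1.subgroupOf y.2).pairM hp Nat.prime_two hypp (isPGroup_subgroupOf hR1) hM)
    ((f2.subgroupOf y.2).pairM hp Nat.prime_two hypp (isPGroup_subgroupOf hR2) hM)
    (f1.subgroupOf y.2) (f2.subgroupOf y.2) ?_ ?_⟩
  · have h4 := UGood.of_surjective (f := φ.rangeRestrict) hy φ.rangeRestrict_surjective
    have h5 : φ.rangeRestrict y0 = (⟨y, hxK⟩ : φ.range) := Subtype.ext hyd.symm
    rw [h5] at h4
    exact h4
  · rintro _ ⟨g, rfl⟩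
    have h4 := (d.kt_xact (hφK g)).normalizer d
    rw [mem_normalizer_iff] at h4 ⊢
    intro h
    exact h4 (h : V ≃ₗ[F] V)
  · rintro _ ⟨g, rfl⟩
    have h4 := (d.kt_xact (hφK g)).symm.normalizer d.symm
    rw [mem_normalizer_iff] at h4 ⊢
    intro h
    exact h4 (h : V ≃ₗ[F] V)
  · intro D hD hKD hRD
    refine bound hfr hfr' f2 ay ?_ D hD ?_ ?_
    · rcases hcase with h4 | ⟨h4, -, h5⟩
      · exact Or.inl h4
      · exact Or.inr ⟨h4, h5⟩
    · intro u hu t ht hut s hus hust
      obtain ⟨g', hg'⟩ := hφr _ (sie_mem_KT hus hust hu (Submodule.smul_mem _ s ht))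
      exact ⟨φ g', hKD ⟨g', rfl⟩, hg'⟩
    · intro g hg
      exact ⟨⟨g, l1 hg⟩, hRD hg, rfl⟩
  · intro D hD hKD hRD
    have f1' : FreeOn (y : V ≃ₗ[F] V) (rad P (Submodule.span F (Set.range e))
        (Submodule.span F (Set.range e) ⊔ mid H f e)) := by rw [mid_symm]; exact f1
    have ay' : XAct P (Submodule.span F (Set.range f)) (mid H f e)
        (Submodule.span F (Set.range e)) (y : V ≃ₗ[F] V) := by rw [mid_symm]; exact ay.symm
    have h4 := bound hfr' hfr f1' ay' ?_ D hD ?_ ?_
    · rw [mid_symm] at h4
      exact h4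
    · rw [mid_symm]
      rcases hcase with h4 | ⟨h4, h5, -⟩
      · exact Or.inl h4
      · exact Or.inr ⟨h4, h5⟩
    · intro u hu t ht hut
      refine Rt.symm (d.o1 t ht t ht) (d.o2 u hu u hu) (H.orth_symm hut) ?_
      intro s hus hust
      obtain ⟨g', hg'⟩ := hφr _ (sie_mem_KT hus hust ht (Submodule.smul_mem _ s hu))
      exact ⟨φ g', hKD ⟨g', rfl⟩, hg'⟩
    · intro g hg
      rw [mid_symm] at hg
      exact ⟨⟨g, l2 hg⟩, hRD hg, rfl⟩

end Cfsg.Agent.H398.FPR
end

-- part: H398/FPR/MersAlg
section
/-!
# Mersenne primes: the relation `x + 1 = x ^ s`, totally singular minimal subspaces, frames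
-/

set_option autoImplicit false
open Subgroup MulAction

namespace Cfsg.Agent.H398.FPR

open Cfsg.Agent.TitsThree.Siegel Cfsg.Agent.TitsThree.SiegelGen Cfsg.Agent.H110.Fpr
open Polynomial

section

variable {F : Type*} [Field F] {V : Type*} [AddCommGroup V] [Module F V]

/-- **The relation.** -/
theorem mers_rel [Finite F] [Finite V] (h2 : (2 : F) = 0) {p k : ℕ} (hp : p.Prime)
    (hpk : p + 1 = 2 ^ k) {x : V ≃ₗ[F] V} (hx : x ^ p = 1) {T : Submodule F V}
    (hT : _root_.Cfsg.Agent.H110.Fpr.IsMin x T) (hmov : ∃ v ∈ T, x v ≠ v) : ∃ s : ℕ, ∀ v ∈ T, x v + v = (x ^ s) v := by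
  have hch := charP_two h2
  have : Fact (Nat.Prime 2) := ⟨Nat.prime_two⟩
  have hpf : Fact p.Prime := ⟨hp⟩
  obtain ⟨hfin, hcard⟩ := hT.card_quot
  have hprime := hT.ann_isPrime
  have hdom : IsDomain (F[X] ⧸ ann x T) := Ideal.Quotient.isDomain _
  let π : F[X] →+* (F[X] ⧸ ann x T) := Ideal.Quotient.mk (ann x T)
  have hπ : ∀ g, π g = 0 ↔ g ∈ ann x T := fun g => Ideal.Quotient.eq_zero_iff_mem
  have hCinj : Function.Injective (π.comp C) := (π.comp C).injective
  have hchR : CharP (F[X] ⧸ ann x T) 2 := charP_of_injective_ringHom hCinj 2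
  have hαp : π X ^ p = 1 := by
    rw [← map_pow, ← map_one π, ← sub_eq_zero, ← map_sub, hπ]
    intro v _
    rw [op_sub, op_X_pow, op_one, hx]
    exact sub_self v
  have hα1 : π X ≠ 1 := by
    rw [← map_one π, Ne, ← sub_eq_zero, ← map_sub, hπ]
    intro h
    obtain ⟨v, hv, hv1⟩ := hmov
    apply hv1
    have := h v hv
    rw [op_sub, op_X, op_one, sub_eq_zero] at this
    exact this
  have h1 : (π X + 1) ^ p = 1 := by
    have h3 : (π X + 1) ^ 2 ^ k = π X + 1 := by
      rw [add_pow_char_pow, one_pow, ← hpk, pow_succ, hαp, one_mul]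
    rw [← hpk, pow_succ] at h3
    have h4 : π X + 1 ≠ 0 := by
      intro h5
      apply hα1
      have h6 : π X = -1 := eq_neg_of_add_eq_zero_left h5
      rw [h6]
      exact CharTwo.neg_eq 1
    exact mul_right_cancel₀ h4 (by rw [h3, one_mul])
  have hprim : IsPrimitiveRoot (π X) p := by
    rw [IsPrimitiveRoot.iff_orderOf]
    exact orderOf_eq_prime hαp hα1
  have : NeZero p := ⟨hp.ne_zero⟩
  obtain ⟨s, -, hs⟩ := hprim.eq_pow_of_pow_eq_one h1
  refine ⟨s, fun v hv => ?_⟩
  have h5 : X ^ s - (X + 1) ∈ ann x T := by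
    rw [← hπ, map_sub, map_add, map_pow, hs, map_one, sub_self]
  have h6 := h5 v hv
  rw [op_sub, op_X_pow, op_add, op_X, op_one, sub_eq_zero] at h6
  exact h6.symm

theorem orderOf_two {p k : ℕ} (hp : p.Prime) (hk : k.Prime) (hpk : p + 1 = 2 ^ k) :
    orderOf (2 : ZMod p) = k := by
  have hpf : Fact p.Prime := ⟨hp⟩
  apply orderOf_eq_prime_iff (hp := ⟨hk⟩) |>.2
  constructor
  · have h1 : ((p + 1 : ℕ) : ZMod p) = ((2 ^ k : ℕ) : ZMod p) := by rw [hpk]
    push_cast at h1
    rw [← h1, CharP.cast_eq_zero, zero_add]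
  · intro h
    have h1 : (1 : ZMod p) = 0 := by linear_combination h
    exact one_ne_zero h1

theorem orderOf_card {F : Type*} [Field F] [Finite F] (h2 : (2 : F) = 0) {p k : ℕ}
    (hp : p.Prime) (hk : k.Prime) (hpk : p + 1 = 2 ^ k) (hq : ¬ p ∣ Nat.card F - 1) :
    orderOf ((Nat.card F : ℕ) : ZMod p) = k := by
  classical
  have hpf : Fact p.Prime := ⟨hp⟩
  have := Fintype.ofFinite F
  have hch := charP_two h2
  obtain ⟨a, -, ha⟩ := FiniteField.card F 2
  have h1 : ((Nat.card F : ℕ) : ZMod p) = 2 ^ (a : ℕ) := by
    rw [Nat.card_eq_fintype_card, ha]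
    push_cast
    rfl
  have h3 : orderOf ((Nat.card F : ℕ) : ZMod p) ∣ k := by
    rw [← orderOf_two hp hk hpk, h1]
    exact orderOf_pow_dvd _
  rcases (Nat.dvd_prime hk).1 h3 with h4 | h4
  · exfalso
    apply hq
    rw [orderOf_eq_one_iff] at h4
    have h5 := (dvd_pow_sub_one_iff (p := p) (q := Nat.card F) (k := 1) Nat.card_pos).2
      (by rw [pow_one]; exact h4)
    rwa [pow_one] at h5
  · exact h4

end

variable {F : Type*} [Field F] {V : Type*} [AddCommGroup V] [Module F V]
variable {H : HForm F V} {P : PQ H}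

theorem charF_ne {p : ℕ} (h2 : (2 : F) = 0) (hodd : Odd p) : (p : F) ≠ 0 := by
  obtain ⟨k, hk⟩ := hodd
  rw [hk]
  push_cast
  rw [h2, zero_mul, zero_add]
  exact one_ne_zero

/-- **Totally singular subspaces of dimension `k`.** -/
theorem exists_ts [Finite F] [Finite V] (h2 : (2 : F) = 0) {p k : ℕ} (hp : p.Prime)
    (hk : k.Prime) (hk3 : 3 ≤ k) (hpk : p + 1 = 2 ^ k) (hq : ¬ p ∣ Nat.card F - 1)
    (hd : p ∣ Nat.card (SG P)) :
    ∃ (T : Submodule F V) (x : V ≃ₗ[F] V), x ∈ SG P ∧ x ^ p = 1 ∧ _root_.Cfsg.Agent.H110.Fpr.IsMin x T ∧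
      (∃ v ∈ T, x v ≠ v) ∧ (∀ u ∈ T, P.ok u 0) ∧ (∀ u ∈ T, ∀ v ∈ T, H.h u v = 0) ∧
      Module.finrank F T = k := by
  have hch := charP_two h2
  have : Fact (Nat.Prime 2) := ⟨Nat.prime_two⟩
  have hfin : Finite (V ≃ₗ[F] V) := instFin
  have hk2 : 2 ∣ 2 ^ k := dvd_pow_self 2 hk.ne_zero
  have hodd : Odd p := by
    rw [← hpk] at hk2
    rw [Nat.odd_iff]
    omega
  have hpF := charF_ne h2 hodd
  obtain ⟨x, hxS, hxp, hx1⟩ := exists_order_p hp hd
  obtain ⟨hxi, hxok, -⟩ := SG_iso hxS
  have hU : _root_.Cfsg.Agent.H110.Fpr.Inv x (movS p x) := movS_inv rfl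
  have hU0 : movS p x ≠ ⊥ := by
    intro h
    apply hx1
    have h1 := fixS_sup_movS hxp hpF
    rw [h, bot_sup_eq] at h1
    ext v
    have hv : v ∈ fixS x := by rw [h1]; trivial
    exact hv
  obtain ⟨T, hTU, hT⟩ := exists_isMin hU hU0
  have hfpf : ∀ v ∈ T, x v = v → v = 0 := fun v hv h => eq_zero_of_mem hpF (hTU hv) h
  obtain ⟨v, hv, hv0⟩ := (Submodule.ne_bot_iff T).1 hT.ne
  have hmov : ∃ v ∈ T, x v ≠ v := ⟨v, hv, fun h => hv0 (hfpf v hv h)⟩
  have hTT : ∀ u ∈ T, ∀ v ∈ T, H.h u v = 0 := by
    by_contra hcon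
    push Not at hcon
    obtain ⟨u, hu, w, hw, huw⟩ := hcon
    obtain ⟨n, hn, -⟩ := hT.exists_conj (r := 2) hp hxi hxp ⟨u, hu, w, hw, huw⟩ hmov
    rw [dvd_pow_add_one_iff] at hn
    obtain ⟨s, hs, -⟩ := even_orderOf hp (by
      rintro rfl
      revert hodd
      decide) hn
    have h3 : orderOf (2 : ZMod p) = k := orderOf_two hp hk hpk
    have h4 : ((2 : ℕ) : ZMod p) = 2 := by push_cast; rfl
    rw [h4, h3] at hs
    have h5 : 2 ∣ k := ⟨s, hs⟩
    have h6 := (Nat.prime_dvd_prime_iff_eq Nat.prime_two hk).1 h5
    omega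
  refine ⟨T, x, hxS, hxp, hT, hmov, ?_, hTT, ?_⟩
  · exact sing_of_moved hxok hT.inv hTT (surj_of_fpf hT.inv hfpf)
  · rw [hT.finrank_eq hp hxp hmov hpF, orderOf_card h2 hp hk hpk hq]

/-- **Frames from totally singular subspaces.** -/
theorem exists_frame [Finite V] (hε : H.ε = 1) (n : ℕ) : ∀ W : Submodule F V,
    (∀ v ∈ W, v ≠ 0 → ∃ w ∈ W, H.h v w ≠ 0) → ∀ T ≤ W, (∀ u ∈ T, P.ok u 0) →
    (∀ u ∈ T, ∀ v ∈ T, H.h u v = 0) → n ≤ Module.finrank F T →
    ∃ e f : Fin n → V, (∀ i, e i ∈ W) ∧ (∀ i, f i ∈ W) ∧ HFr P e f := by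
  have hfin : Module.Finite F V := Module.Finite.of_finite
  induction n with
  | zero =>
    intro W _ T _ _ _ _
    exact ⟨fun i => i.elim0, fun i => i.elim0, fun i => i.elim0, fun i => i.elim0,
      ⟨fun i => i.elim0, fun i => i.elim0, fun i => i.elim0, fun i => i.elim0,
        fun i => i.elim0⟩⟩
  | succ n ih =>
    intro W hnd T hTW hTs hTT hn
    obtain ⟨e0, he0T, he00⟩ : ∃ e ∈ T, e ≠ 0 := by
      apply (Submodule.ne_bot_iff T).1
      rintro rfl
      rw [finrank_bot] at hn
      omega
    have he0s := hTs e0 he0T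
    obtain ⟨f0, hf0W, hf0s, hef⟩ := exists_hyp hnd (hTW he0T) he0s he00
    obtain ⟨hnd', hd'⟩ := split_hyp hnd (hTW he0T) hf0W he0s hf0s hef
    have hfe : H.h f0 e0 = 1 := by rw [H.swap e0 f0, hef, map_one, mul_one, hε]
    -- `T ∩ f0^⊥`
    obtain ⟨T1, hT1⟩ : ∃ T1, T1 = T ⊓ perp H {f0} := ⟨_, rfl⟩
    have hT1W : T1 ≤ W ⊓ perp H {e0, f0} := by
      intro v hv
      rw [hT1] at hv
      refine ⟨hTW hv.1, ?_⟩
      rintro u (rfl | rfl)
      · exact hTT v hv.1 u he0T
      · exact hv.2 u rfl
    have hdim : n ≤ Module.finrank F T1 := by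
      have h1 : T ≤ T1 ⊔ Submodule.span F {e0} := by
        intro v hv
        have h3 : v = (v - H.h v f0 • e0) + H.h v f0 • e0 := by abel
        rw [h3]
        refine Submodule.add_mem_sup ?_ (Submodule.smul_mem _ _
          (Submodule.mem_span_singleton_self _))
        rw [hT1]
        refine ⟨T.sub_mem hv (T.smul_mem _ he0T), ?_⟩
        rintro u rfl
        rw [H.sub_left, H.smul_left, hef, mul_one, sub_self]
      have h4 := Submodule.finrank_mono h1
      have h5 := Submodule.finrank_add_le_finrank_add_finrank T1 (Submodule.span F {e0})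
      have h6 : Module.finrank F (Submodule.span F ({e0} : Set V)) ≤ 1 :=
        Cfsg.Agent.H221.PP.finrank_span_singleton_le' e0
      omega
    obtain ⟨e, f, he, hf, hfr⟩ := ih _ hnd' T1 hT1W (fun u hu => hTs u (by rw [hT1] at hu; exact hu.1))
      (fun u hu v hv => hTT u (by rw [hT1] at hu; exact hu.1) v (by rw [hT1] at hv; exact hv.1)) hdim
    have pe : ∀ i, H.h (e i) e0 = 0 ∧ H.h (e i) f0 = 0 := fun i =>
      ⟨(he i).2 e0 (by simp), (he i).2 f0 (by simp)⟩
    have pf : ∀ i, H.h (f i) e0 = 0 ∧ H.h (f i) f0 = 0 := fun i =>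
      ⟨(hf i).2 e0 (by simp), (hf i).2 f0 (by simp)⟩
    refine ⟨Fin.cons e0 e, Fin.cons f0 f, ?_, ?_, ⟨?_, ?_, ?_, ?_, ?_⟩⟩
    · intro i
      refine Fin.cases ?_ (fun i => ?_) i
      · exact hTW he0T
      · exact (he i).1
    · intro i
      refine Fin.cases ?_ (fun i => ?_) i
      · exact hf0W
      · exact (hf i).1
    · intro i
      refine Fin.cases ?_ (fun i => ?_) i
      · exact he0s
      · exact hfr.es i
    · intro i
      refine Fin.cases ?_ (fun i => ?_) i
      · exact hf0s
      · exact hfr.fs i
    · intro i j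
      refine Fin.cases ?_ (fun i => ?_) i <;> refine Fin.cases ?_ (fun j => ?_) j
      · exact P.iso he0s
      · exact H.orth_symm (pe j).1
      · exact (pe i).1
      · exact hfr.ee i j
    · intro i j
      refine Fin.cases ?_ (fun i => ?_) i <;> refine Fin.cases ?_ (fun j => ?_) j
      · exact P.iso hf0s
      · exact H.orth_symm (pf j).2
      · exact (pf i).2
      · exact hfr.ff i j
    · intro i j
      refine Fin.cases ?_ (fun i => ?_) i <;> refine Fin.cases ?_ (fun j => ?_) j
      · rw [if_pos rfl]; exact hef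
      · rw [if_neg (Fin.succ_ne_zero j).symm]; exact H.orth_symm (pf j).1
      · rw [if_neg (Fin.succ_ne_zero i)]; exact (pe i).2
      · have h7 := hfr.ef i j
        simp only [Fin.cons_succ, Fin.succ_inj]
        exact h7

end Cfsg.Agent.H398.FPR
end

-- part: H398/FPR/SylGen
section
/-!
# From rows to uniform bounds: generators of cyclic Sylow subgroups; central quotients
-/

set_option autoImplicit false
open Subgroup MulAction
open scoped Pointwise commutatorElement

namespace Cfsg.Agent.H398.FPR

open Cfsg.Agent.H409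

section

variable {G : Type*} [Group G] [Finite G]

omit [Finite G] in
theorem card_fixedBy_conj {X : Type*} [MulAction G X] (g h : G) :
    Nat.card (fixedBy X (h * g * h⁻¹)) = Nat.card (fixedBy X g) := by
  rw [← smul_fixedBy]
  exact Nat.card_image_of_injective (MulAction.injective h) _

omit [Finite G] in
theorem card_fixedBy_le_pow {X : Type*} [MulAction G X] [Finite X] (g : G) (i : ℤ) :
    Nat.card (fixedBy X g) ≤ Nat.card (fixedBy X (g ^ i)) := by
  apply Nat.card_le_card_of_injective (fun a => (⟨a.1, fixedBy_subset_fixedBy_zpow X g i a.2⟩ :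
    fixedBy X (g ^ i)))
  intro a b hab
  exact Subtype.ext (congrArg (fun z : fixedBy X (g ^ i) => z.1) hab)

/-- **A row gives the uniform bound for a generator of a cyclic Sylow subgroup.** -/
theorem uGood_of_row_cyc {p a : ℕ} [hp : Fact p.Prime] (P : Sylow p G) {y : G}
    (hy : zpowers y = (P : Subgroup G)) (h : FprRow a 1 p G) : UGood 1 a y := by
  intro H hH
  obtain ⟨x, ⟨k, hx⟩, hle⟩ := h H hH
  refine le_trans ?_ hle
  apply Nat.mul_le_mul_left
  -- `x` is conjugate to a power of `y`
  have hxp : IsPGroup p (zpowers x) := by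
    rw [IsPGroup.iff_card]
    exact ⟨k, by rw [Nat.card_zpowers, hx]⟩
  obtain ⟨Q, hQ⟩ := hxp.exists_le_sylow
  obtain ⟨g, hg⟩ := _root_.MulAction.exists_smul_eq G P Q
  have hxQ : x ∈ (Q : Subgroup G) := hQ (mem_zpowers x)
  rw [← hg, Sylow.coe_subgroup_smul, ← hy] at hxQ
  obtain ⟨z, hz, hzx⟩ := (mem_smul_pointwise_iff_exists _ _ _).1 hxQ
  obtain ⟨i, rfl⟩ := mem_zpowers_iff.1 hz
  have hzx' : x = g * y ^ i * g⁻¹ := hzx.symm
  rw [hzx', card_fixedBy_conj]
  exact card_fixedBy_le_pow y i

/-- generators containing a given element -/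
theorem exists_gen_cyc {p a : ℕ} [hp : Fact p.Prime] (P : Sylow p G) {y : G}
    (hy : zpowers y = (P : Subgroup G)) (h : FprRow a 1 p G) {x : G} {k : ℕ}
    (hx : x ^ p ^ k = 1) : ∃ (y0 : G) (l kk : ℕ), y0 ^ p ^ kk = 1 ∧ UGood 1 a y0 ∧ y0 ^ l = x := by
  have hxp : IsPGroup p (zpowers x) := by
    obtain ⟨j, -, hj⟩ := (Nat.dvd_prime_pow hp.out).1 (orderOf_dvd_of_pow_eq_one hx)
    rw [IsPGroup.iff_card]
    exact ⟨j, by rw [Nat.card_zpowers, hj]⟩
  obtain ⟨Q, hQ⟩ := hxp.exists_le_sylow
  obtain ⟨g, hg⟩ := _root_.MulAction.exists_smul_eq G P Q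
  have hQy : (Q : Subgroup G) = zpowers (g * y * g⁻¹) := by
    rw [← hg, Sylow.coe_subgroup_smul, ← hy]
    have := MonoidHom.map_zpowers (MulAut.conj g).toMonoidHom y
    exact this
  have hxQ : x ∈ (Q : Subgroup G) := hQ (mem_zpowers x)
  rw [hQy] at hxQ
  obtain ⟨l, hl⟩ := (isOfFinOrder_of_finite (g * y * g⁻¹)).mem_powers_iff_mem_zpowers.2 hxQ
  obtain ⟨kk, hkk⟩ := IsPGroup.iff_card.1 Q.isPGroup'
  refine ⟨g * y * g⁻¹, l, kk, ?_, uGood_of_row_cyc Q hQy.symm h, hl⟩
  have h1 : orderOf (g * y * g⁻¹) = p ^ kk := by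
    rw [← Nat.card_zpowers, ← hQy]
    exact hkk
  rw [← h1]
  exact pow_orderOf_eq_one _

/-- **Rows lift through central quotients of perfect groups** (kernel of order prime to `p`). -/
theorem FprRow.lift {S : Type*} [Group S] {a b p : ℕ} (hp : p.Prime) (f : G →* S)
    (hf : Function.Surjective f) (hker : f.ker ≤ center G) (hkp : ¬ p ∣ Nat.card f.ker)
    (hperf : commutator G = ⊤) (h : FprRow a b p S) : FprRow a b p G := by
  intro H hH
  have : Finite S := Finite.of_surjective f hf
  -- `f(H)` is proper
  have hne : H.map f ≠ ⊤ := by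
    intro htop
    apply hH
    have h1 : H ⊔ f.ker = ⊤ := by
      rw [← comap_map_eq, htop, comap_top]
    have hcen : f.ker ≤ centralizer (H : Set G) := hker.trans (center_le_centralizer _)
    -- `H` is normal with abelian quotient
    have hdec : ∀ g : G, ∃ h ∈ H, ∃ z ∈ f.ker, g = h * z := by
      intro g
      have hg : g ∈ H ⊔ f.ker := by rw [h1]; trivial
      obtain ⟨h, hh, z, hz, rfl⟩ := mem_sup_of_normal_right.1 hg
      exact ⟨h, hh, z, hz, rfl⟩
    rw [eq_top_iff, ← hperf, _root_.commutator_def, commutator_le]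
    intro g _ g' _
    obtain ⟨h, hh, z, hz, rfl⟩ := hdec g
    obtain ⟨h', hh', z', hz', rfl⟩ := hdec g'
    have c1 : ∀ w : G, z * w = w * z := fun w => ((mem_center_iff.1 (hker hz)) w).symm
    have c2 : ∀ w : G, z' * w = w * z' := fun w => ((mem_center_iff.1 (hker hz')) w).symm
    have e : ⁅h * z, h' * z'⁆ = ⁅h, h'⁆ := by
      rw [commutatorElement_def, commutatorElement_def, mul_inv_rev, mul_inv_rev]
      calc h * z * (h' * z') * (z⁻¹ * h⁻¹) * (z'⁻¹ * h'⁻¹)
          = h * (z * h') * z' * z⁻¹ * h⁻¹ * z'⁻¹ * h'⁻¹ := by group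
        _ = h * h' * (z * z') * z⁻¹ * h⁻¹ * z'⁻¹ * h'⁻¹ := by rw [c1 h']; group
        _ = h * h' * (z' * z) * z⁻¹ * h⁻¹ * z'⁻¹ * h'⁻¹ := by rw [c1 z']
        _ = h * h' * (z' * h⁻¹) * z'⁻¹ * h'⁻¹ := by group
        _ = h * h' * h⁻¹ * h'⁻¹ := by rw [c2 h⁻¹]; group
    rw [e]
    exact mul_mem (mul_mem (mul_mem hh hh') (inv_mem hh)) (inv_mem hh')
  obtain ⟨s, ⟨k, hs⟩, hle⟩ := h (H.map f) hne
  obtain ⟨g, rfl⟩ := hf s
  -- a power of `g` of `p`-power order
  obtain ⟨n, hn⟩ : ∃ n, n = Nat.card f.ker := ⟨_, rfl⟩
  have hcop : Nat.Coprime n p := by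
    rw [Nat.coprime_comm, hn]
    exact (Nat.Prime.coprime_iff_not_dvd hp).2 hkp
  have hgn : (g ^ n) ^ p ^ k = 1 := by
    have h1 : g ^ p ^ k ∈ f.ker := by
      rw [MonoidHom.mem_ker, map_pow, ← hs]
      exact pow_orderOf_eq_one _
    have h2 : (⟨g ^ p ^ k, h1⟩ : f.ker) ^ n = 1 := by rw [hn]; exact pow_card_eq_one'
    have h3 : (g ^ p ^ k) ^ n = 1 := congrArg Subtype.val h2
    rw [← pow_mul, mul_comm, pow_mul, h3]
  -- fixed points
  have hfix : Nat.card (fixedBy (S ⧸ H.map f) (f (g ^ n))) = Nat.card (fixedBy (S ⧸ H.map f) (f g)) := by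
    apply le_antisymm
    · -- `f g` is a power of `f (g ^ n)`
      have h4 : (orderOf (f g)).Coprime n := by
        rw [hs]
        exact (Nat.Coprime.pow_right k hcop).symm
      obtain ⟨m, hm⟩ := exists_pow_eq_self_of_coprime (n := n) (x := f g) h4.symm
      conv_rhs => rw [← hm]
      rw [map_pow]
      have := card_fixedBy_le_pow (X := S ⧸ H.map f) (f g ^ n) (m : ℤ)
      rw [zpow_natCast] at this
      exact this
    · rw [map_pow]
      have := card_fixedBy_le_pow (X := S ⧸ H.map f) (f g) (n : ℤ)
      rw [zpow_natCast] at this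
      exact this
  refine ⟨g ^ n, ?_, ?_⟩
  · obtain ⟨j, -, hj⟩ := (Nat.dvd_prime_pow hp).1 (orderOf_dvd_of_pow_eq_one hgn)
    exact ⟨j, hj⟩
  · let φ : G ⧸ H → S ⧸ H.map f := Quotient.map' f (by
      intro a b hab
      rw [QuotientGroup.leftRel_apply] at hab ⊢
      rw [← map_inv, ← map_mul]
      exact mem_map_of_mem f hab)
    apply fix_le_of_map f hf φ
    · intro g' ω
      obtain ⟨w, rfl⟩ := QuotientGroup.mk_surjective ω
      show φ ((g' * w : G) : G ⧸ H) = f g' • φ (w : G ⧸ H)
      show ((f (g' * w) : S) : S ⧸ H.map f) = ((f g' * f w : S) : S ⧸ H.map f)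
      rw [map_mul]
    · rw [hfix]
      exact hle

end

end Cfsg.Agent.H398.FPR
end

-- part: H398/FPR/CTwoRow
section
/-!
# `p = 2 ^ k - 1`, `k ≥ 3` prime, `p ∤ q - 1`: the row `(p + 1, 1)`
-/

set_option autoImplicit false
open Subgroup MulAction

namespace Cfsg.Agent.H398.FPR

open Cfsg.Agent.TitsThree.Siegel Cfsg.Agent.TitsThree.SiegelGen Cfsg.Agent.H110.Fpr
open Cfsg.Agent.H409

section

/-- a row gives an element of order `p` -/
theorem dvd_of_row {G : Type*} [Group G] [Finite G] {p : ℕ} (hp : p.Prime)
    (hne : Nontrivial G) (h : FprRow (p + 1) 1 p G) : p ∣ Nat.card G := by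
  by_contra hcon
  obtain ⟨s, ⟨j, hs⟩, hle⟩ := h ⊥ bot_ne_top
  have h1 : p ^ j ∣ Nat.card G := hs ▸ _root_.orderOf_dvd_natCard s
  have hj : j = 0 := by
    by_contra hj
    exact hcon ((dvd_pow_self p hj).trans h1)
  rw [hj, pow_zero, orderOf_eq_one_iff] at hs
  rw [hs] at hle
  have h2 : Nat.card (fixedBy (G ⧸ (⊥ : Subgroup G)) (1 : G)) =
      Nat.card (G ⧸ (⊥ : Subgroup G)) := by
    rw [fixedBy_one_eq_univ]
    exact Nat.card_congr (Equiv.Set.univ _)
  rw [h2] at hle
  have h3 : 0 < Nat.card (G ⧸ (⊥ : Subgroup G)) := Nat.card_pos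
  have h4 := hp.pos
  nlinarith only [hle, h3, h4]

variable {F : Type*} [Field F] {T : Type*} [AddCommGroup T] [Module F T]

/-- **Generators of Sylow `p`-subgroups of `SL_k(q)`.** -/
theorem exists_sl_gen [Finite F] [Finite T] (h2 : (2 : F) = 0) {p k : ℕ} (hp : p.Prime)
    (hk : k.Prime) (hk3 : 3 ≤ k) (hpk : p + 1 = 2 ^ k) (hq : ¬ p ∣ Nat.card F - 1)
    (b : Module.Basis (Fin k) F T)
    (hSL : FprRow (p + 1) 1 p (Matrix.SpecialLinearGroup (Fin k) F)) :
    ∃ (y0 : SpecialLinearGroup F T) (l s kk : ℕ), y0 ^ p ^ kk = 1 ∧ UGood 1 (p + 1) y0 ∧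
      (y0 ^ l) ^ p = 1 ∧ ∀ t, (y0 ^ l) t + t = ((y0 ^ l) ^ s) t := by
  classical
  have hpf : Fact p.Prime := ⟨hp⟩
  have hfinT : Finite (T ≃ₗ[F] T) := instFin
  have := Fintype.ofFinite F
  have hk2 : 2 ∣ 2 ^ k := dvd_pow_self 2 hk.ne_zero
  have hodd : Odd p := by
    rw [← hpk] at hk2
    rw [Nat.odd_iff]
    omega
  have hpF := charF_ne h2 hodd
  have hfr : Module.finrank F T = k := by
    rw [Module.finrank_eq_card_basis b, Fintype.card_fin]
  have hrow : FprRow (p + 1) 1 p (SpecialLinearGroup F T) :=
    FprRow.of_mulEquiv hp (Matrix.SpecialLinearGroup.toLin_equiv b) hSL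
  have hnt : Nontrivial (SpecialLinearGroup F T) := by
    have : Nontrivial (Matrix.SpecialLinearGroup (Fin k) F) := by
      have hij : (⟨0, by omega⟩ : Fin k) ≠ ⟨1, by omega⟩ := by
        intro h
        have := congrArg Fin.val h
        simp at this
      refine ⟨1, Matrix.SpecialLinearGroup.transvection hij 1, fun h => ?_⟩
      have h3 := Cfsg.Agent.LieClassical.SLGen.transvection_smul hij (1 : F)
        (Pi.single ⟨1, by omega⟩ 1)
      rw [← h, one_smul] at h3
      have h4 := left_eq_add.1 h3
      rw [Pi.single_eq_same, one_mul, one_smul] at h4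
      have h5 := congrFun h4 ⟨0, by omega⟩
      rw [Pi.single_eq_same] at h5
      exact one_ne_zero h5
    exact (Matrix.SpecialLinearGroup.toLin_equiv b).symm.toEquiv.nontrivial
  have hdvd := dvd_of_row hp hnt hrow
  obtain ⟨g, hg⟩ := exists_prime_orderOf_dvd_card' p hdvd
  have hgp : g ^ p = 1 := by rw [← hg]; exact pow_orderOf_eq_one g
  have hg1 : g ≠ 1 := by
    rintro rfl
    rw [orderOf_one] at hg
    exact hp.one_lt.ne hg
  -- `g` acts irreducibly
  obtain ⟨x, hx⟩ : ∃ x : T ≃ₗ[F] T, x = g.1 := ⟨_, rfl⟩
  have hxp : x ^ p = 1 := by rw [hx]; exact congrArg Subtype.val hgp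
  have hx1 : x ≠ 1 := by
    rintro rfl
    exact hg1 (Subtype.ext hx.symm)
  have hU : _root_.Cfsg.Agent.H110.Fpr.Inv x (movS p x) := movS_inv rfl
  have hU0 : movS p x ≠ ⊥ := by
    intro h
    apply hx1
    have h1 := fixS_sup_movS hxp hpF
    rw [h, bot_sup_eq] at h1
    ext v
    have hv : v ∈ fixS x := by rw [h1]; trivial
    exact hv
  obtain ⟨T0, hTU, hT⟩ := exists_isMin hU hU0
  have hfpf : ∀ v ∈ T0, x v = v → v = 0 := fun v hv h => eq_zero_of_mem hpF (hTU hv) h
  obtain ⟨v, hv, hv0⟩ := (Submodule.ne_bot_iff T0).1 hT.ne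
  have hmov : ∃ v ∈ T0, x v ≠ v := ⟨v, hv, fun h => hv0 (hfpf v hv h)⟩
  have hdim : Module.finrank F T0 = k := by
    rw [hT.finrank_eq hp hxp hmov hpF, orderOf_card h2 hp hk hpk hq]
  have hfin : Module.Finite F T := Module.Finite.of_finite
  have htop : T0 = ⊤ := Submodule.eq_top_of_finrank_eq (by rw [hdim, hfr])
  obtain ⟨s, hs⟩ := mers_rel h2 hp hpk hxp hT hmov
  rw [htop] at hs
  -- the Sylow subgroups are cyclic
  obtain ⟨ρ, hρ⟩ : ∃ ρ : SpecialLinearGroup F T →* Module.End F T, ρ =
      (LinearEquiv.automorphismGroup.toLinearMapMonoidHom).comp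
        (SpecialLinearGroup.toLinearEquiv) := ⟨_, rfl⟩
  have hρi : Function.Injective ρ := by
    intro a b hab
    apply SpecialLinearGroup.ext
    intro t
    have h3 : ρ a t = ρ b t := by rw [hab]
    rw [hρ] at h3
    exact h3
  have he : ∀ j, p ∣ Fintype.card F ^ j - 1 → k ∣ j := by
    intro j hj
    rw [← Nat.card_eq_fintype_card] at hj
    have h3 := (dvd_pow_sub_one_iff (p := p) (q := Nat.card F) (k := j) Nat.card_pos).1 hj
    rw [← orderOf_card h2 hp hk hpk hq]
    exact orderOf_dvd_of_pow_eq_one h3
  have hp2 : p ≠ 2 := by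
    rintro rfl
    revert hodd
    decide
  obtain ⟨Q, y, hy, -⟩ := Cyc.exists_sylow (ρ := ρ) (e := k) hp2 hρi hpF he
    (by rw [hfr]; have := hk.pos; omega) hdvd (MonoidHom.id _) Function.surjective_id
    (by
      intro z hz
      have h3 : z = 1 := hz
      rw [h3]
      exact one_mem _)
    (by
      intro h3
      have h4 : (MonoidHom.id (SpecialLinearGroup F T)).ker = ⊥ := by
        rw [eq_bot_iff]
        intro z hz
        exact hz
      rw [h4, Subgroup.card_bot] at h3
      exact hp.one_lt.ne' (Nat.dvd_one.1 h3))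
    (c := Nat.card (SpecialLinearGroup F T))
    (fun z _ => Subgroup.card_le_card_group _)
  obtain ⟨y0, l, kk, h5, h6, h7⟩ := exists_gen_cyc Q hy hrow (x := g) (k := 1)
    (by rw [pow_one]; exact hgp)
  refine ⟨y0, l, s, kk, h5, h6, ?_, ?_⟩
  · rw [h7]
    exact hgp
  · intro t
    rw [h7]
    have h8 := hs t trivial
    rw [hx] at h8
    exact h8

end

variable {F : Type*} [Field F] {V : Type*} [AddCommGroup V] [Module F V]
variable {H : HForm F V} {P : PQ H}

section

variable {ι : Type*} [DecidableEq ι] {e f : ι → V}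

omit [DecidableEq ι] in
theorem li_le_finset {v : ι → V} [Fintype ι] (i : LinearIndependent F v) (w : Finset V)
    (s : Set.range v ≤ Submodule.span F (w : Set V)) : Fintype.card ι ≤ w.card := by
  have h := linearIndependent_le_span' v i w s
  rw [Cardinal.mk_fintype] at h
  simpa only [Finset.coe_sort_coe, Fintype.card_coe, Nat.cast_le] using h

theorem HFr.swap (hε : H.ε = 1) (hfr : HFr P e f) : HFr P f e where
  es := hfr.fs
  fs := hfr.es
  ee := hfr.ff
  ff := hfr.ee
  ef i j := by rw [hfr.fe, hε]

theorem HFr.li [Fintype ι] (hfr : HFr P e f) : LinearIndependent F e := by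
  rw [Fintype.linearIndependent_iff]
  intro g hg i
  have h1 : H.h (∑ j, g j • e j) (f i) = g i := by
    rw [sum_left]
    simp only [hfr.ef, mul_ite, mul_one, mul_zero, Finset.sum_ite_eq', Finset.mem_univ, if_true]
  rw [hg, H.zero_left] at h1
  exact h1.symm

theorem twoKinds_root [Fintype ι] (hfr : HFr P e f) (hε : H.ε = 1) {i j : ι} (hij : i ≠ j)
    {c : F} (hc : P.ok 0 c) (hc0 : c ≠ 0) {W : Submodule F V}
    (hW : Submodule.span F (Set.range e) ≤ W) :
    TwoKinds (rad P (Submodule.span F (Set.range e)) W) := by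
  classical
  have hmi : ∀ i, e i ∈ Submodule.span F (Set.range e) := fun i =>
    Submodule.subset_span ⟨i, rfl⟩
  have fe := hfr.fe
  rw [hε] at fe
  refine ⟨fun g => ∃ u : V, ∀ v, ∃ a : F, g v - v = a • u, ?_, ?_, ?_⟩
  · intro x g
    constructor
    · rintro ⟨u, hu⟩
      refine ⟨x u, fun v => ?_⟩
      obtain ⟨a, ha⟩ := hu (x⁻¹ v)
      refine ⟨a, ?_⟩
      rw [← map_smul, ← ha, map_sub]
      congr 1
      exact (x.apply_symm_apply v).symm
    · rintro ⟨u, hu⟩
      refine ⟨x⁻¹ u, fun v => ?_⟩
      obtain ⟨a, ha⟩ := hu (x v)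
      refine ⟨a, ?_⟩
      rw [← map_smul, ← ha, map_sub]
      have h1 : x⁻¹ ((x * g * x⁻¹) (x v)) = g v := by
        show x.symm (x (g (x.symm (x v)))) = g v
        rw [x.symm_apply_apply, x.symm_apply_apply]
      have h2 : x⁻¹ (x v) = v := x.symm_apply_apply v
      rw [h1, h2]
  · refine ⟨H.sie (e i) 0 c (hfr.ee i i) (H.zero_right _), sie_mem_rad _ _ (hmi i)
      W.zero_mem hc, ?_, e i, fun v => ⟨c * H.h v (e i), ?_⟩⟩
    · intro h
      have h1 : H.sie (e i) 0 c (hfr.ee i i) (H.zero_right _) (f i) = f i := by rw [h]; rfl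
      rw [H.sie_apply, H.zero_right, fe i i, if_pos rfl] at h1
      have h2 : f i + c • e i = f i := by simpa using h1
      have h3 := left_eq_add.1 h2.symm
      have h4 := (smul_eq_zero.1 h3).resolve_left hc0
      have h5 := hfr.ef i i
      rw [h4, H.zero_left, if_pos rfl] at h5
      exact zero_ne_one h5
    · rw [H.sie_apply, H.zero_right]
      simp
  · refine ⟨H.sie (e i) (e j) 0 (hfr.ee i i) (hfr.ee i j), sie_mem_rad _ _ (hmi i)
      (hW (hmi j)) (hfr.es j), ?_, ?_⟩
    · intro h
      have h1 : H.sie (e i) (e j) 0 (hfr.ee i i) (hfr.ee i j) (f i) = f i := by rw [h]; rfl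
      rw [H.sie_apply, fe i i, fe i j, if_pos rfl, if_neg hij] at h1
      have h2 : f i + e j = f i := by simpa using h1
      have h3 := left_eq_add.1 h2.symm
      have h5 := hfr.ef j j
      rw [h3, H.zero_left, if_pos rfl] at h5
      exact zero_ne_one h5
    · rintro ⟨u, hu⟩
      obtain ⟨a, ha⟩ := hu (f i)
      obtain ⟨b, hb⟩ := hu (f j)
      rw [H.sie_apply, fe i i, fe i j, if_pos rfl, if_neg hij, hε] at ha
      rw [H.sie_apply, fe j i, fe j j, if_pos rfl, if_neg (Ne.symm hij), hε] at hb
      have ha' : e j = a • u := by rw [← ha]; simp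
      have hb' : e i = (-b) • u := by rw [neg_smul, ← hb]; simp
      have h6 : LinearIndependent F ![e i, e j] := by
        have h7 := hfr.li.comp ![i, j] (by
          intro x y hxy
          fin_cases x <;> fin_cases y <;> simp_all only [_root_.ne_eq, _root_.neg_smul, _root_.one_smul, _root_.inv_one, _root_.MulZeroClass.mul_zero, _root_.smul_neg, _root_.zero_smul, _root_.neg_zero, _root_.sub_zero, _root_.mul_one, _root_.add_zero, _root_.add_sub_cancel_left, _root_.sub_neg_eq_add, _root_.Nat.succ_eq_add_one, _root_.Nat.reduceAdd, _root_.Fin.zero_eta, _root_.Fin.isValue, _root_.Matrix.cons_val_zero, _root_.Fin.mk_one, _root_.Matrix.cons_val_one, _root_.Matrix.cons_val_fin_one, _root_.one_ne_zero, _root_.not_true_eq_false])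
        convert h7 using 1
        ext x
        fin_cases x <;> rfl
      have h8 := li_le_finset h6 {u} (by
        rintro _ ⟨x, rfl⟩
        rw [Finset.coe_singleton, SetLike.mem_coe, Submodule.mem_span_singleton]
        fin_cases x
        · exact ⟨-b, hb'.symm⟩
        · exact ⟨a, ha'.symm⟩)
      simp at h8

theorem twoKinds_four {k : ℕ} {e f : Fin k → V} (hfr : HFr P e f) (hε : H.ε = 1)
    (hk : 4 ≤ k) {W : Submodule F V} (hW : Submodule.span F (Set.range e) ≤ W) :
    TwoKinds (rad P (Submodule.span F (Set.range e)) W) := by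
  classical
  have hmi : ∀ i, e i ∈ Submodule.span F (Set.range e) := fun i =>
    Submodule.subset_span ⟨i, rfl⟩
  have fe := hfr.fe
  rw [hε] at fe
  obtain ⟨i0, hi0⟩ : ∃ i : Fin k, i.1 = 0 := ⟨⟨0, by omega⟩, rfl⟩
  obtain ⟨i1, hi1⟩ : ∃ i : Fin k, i.1 = 1 := ⟨⟨1, by omega⟩, rfl⟩
  obtain ⟨i2, hi2⟩ : ∃ i : Fin k, i.1 = 2 := ⟨⟨2, by omega⟩, rfl⟩
  obtain ⟨i3, hi3⟩ : ∃ i : Fin k, i.1 = 3 := ⟨⟨3, by omega⟩, rfl⟩
  have n01 : i0 ≠ i1 := fun h => by rw [h] at hi0; omega
  have n02 : i0 ≠ i2 := fun h => by rw [h] at hi0; omega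
  have n03 : i0 ≠ i3 := fun h => by rw [h] at hi0; omega
  have n12 : i1 ≠ i2 := fun h => by rw [h] at hi1; omega
  have n13 : i1 ≠ i3 := fun h => by rw [h] at hi1; omega
  have n23 : i2 ≠ i3 := fun h => by rw [h] at hi2; omega
  refine ⟨fun g => ∃ u u' : V, ∀ v, ∃ a b : F, g v - v = a • u + b • u', ?_, ?_, ?_⟩
  · intro x g
    constructor
    · rintro ⟨u, u', hu⟩
      refine ⟨x u, x u', fun v => ?_⟩
      obtain ⟨a, b, ha⟩ := hu (x⁻¹ v)
      refine ⟨a, b, ?_⟩
      rw [← map_smul, ← map_smul, ← map_add, ← ha, map_sub]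
      congr 1
      exact (x.apply_symm_apply v).symm
    · rintro ⟨u, u', hu⟩
      refine ⟨x⁻¹ u, x⁻¹ u', fun v => ?_⟩
      obtain ⟨a, b, ha⟩ := hu (x v)
      refine ⟨a, b, ?_⟩
      rw [← map_smul, ← map_smul, ← map_add, ← ha, map_sub]
      have h1 : x⁻¹ ((x * g * x⁻¹) (x v)) = g v := by
        show x.symm (x (g (x.symm (x v)))) = g v
        rw [x.symm_apply_apply, x.symm_apply_apply]
      have h2 : x⁻¹ (x v) = v := x.symm_apply_apply v
      rw [h1, h2]
  · refine ⟨H.sie (e i0) (e i1) 0 (hfr.ee _ _) (hfr.ee _ _), sie_mem_rad _ _ (hmi i0)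
      (hW (hmi i1)) (hfr.es i1), ?_, e i1, e i0, fun v => ⟨H.h v (e i0), -(H.ε⁻¹ * H.h v (e i1)),
        ?_⟩⟩
    · intro h
      have h1 : H.sie (e i0) (e i1) 0 (hfr.ee _ _) (hfr.ee _ _) (f i0) = f i0 := by rw [h]; rfl
      rw [H.sie_apply, fe, fe, if_pos rfl, if_neg n01] at h1
      have h2 : f i0 + e i1 = f i0 := by simpa using h1
      have h3 := left_eq_add.1 h2.symm
      have h5 := hfr.ef i1 i1
      rw [h3, H.zero_left, if_pos rfl] at h5
      exact zero_ne_one h5
    · rw [H.sie_apply]
      module
  · refine ⟨H.sie (e i0) (e i1) 0 (hfr.ee _ _) (hfr.ee _ _) *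
      H.sie (e i2) (e i3) 0 (hfr.ee _ _) (hfr.ee _ _),
      mul_mem (sie_mem_rad _ _ (hmi i0) (hW (hmi i1)) (hfr.es i1))
        (sie_mem_rad _ _ (hmi i2) (hW (hmi i3)) (hfr.es i3)), ?_, ?_⟩
    all_goals
      have a0 : (H.sie (e i0) (e i1) 0 (hfr.ee _ _) (hfr.ee _ _) *
        H.sie (e i2) (e i3) 0 (hfr.ee _ _) (hfr.ee _ _)) (f i0) - f i0 = e i1 := by
          rw [LinearEquiv.mul_apply, H.sie_apply (e i2) (e i3), fe, fe, if_neg n02, if_neg n03]
          simp only [zero_smul, mul_zero, add_zero, sub_zero]
          rw [H.sie_apply, fe, fe, if_pos rfl, if_neg n01]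
          simp
    · intro h
      rw [h] at a0
      have h3 : e i1 = 0 := by rw [← a0]; exact sub_self _
      have h5 := hfr.ef i1 i1
      rw [h3, H.zero_left, if_pos rfl] at h5
      exact zero_ne_one h5
    · have a1 : (H.sie (e i0) (e i1) 0 (hfr.ee _ _) (hfr.ee _ _) *
        H.sie (e i2) (e i3) 0 (hfr.ee _ _) (hfr.ee _ _)) (f i1) - f i1 = - e i0 := by
          rw [LinearEquiv.mul_apply, H.sie_apply (e i2) (e i3), fe, fe, if_neg n12, if_neg n13]
          simp only [zero_smul, mul_zero, add_zero, sub_zero]
          rw [H.sie_apply, fe, fe, if_pos rfl, if_neg (Ne.symm n01), hε]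
          simp
      have a2 : (H.sie (e i0) (e i1) 0 (hfr.ee _ _) (hfr.ee _ _) *
        H.sie (e i2) (e i3) 0 (hfr.ee _ _) (hfr.ee _ _)) (f i2) - f i2 = e i3 := by
          rw [LinearEquiv.mul_apply, H.sie_apply (e i2) (e i3), fe, fe, if_pos rfl, if_neg n23]
          simp only [zero_smul, mul_zero, add_zero, sub_zero, one_smul, zero_mul]
          rw [H.sie_apply, H.add_left, H.add_left, fe, fe, hfr.ee, hfr.ee, if_neg (Ne.symm n02),
            if_neg (Ne.symm n12)]
          simp
      rintro ⟨u, u', hu⟩
      obtain ⟨a, b, ha⟩ := hu (f i0)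
      obtain ⟨a', b', hb⟩ := hu (f i1)
      obtain ⟨a'', b'', hc⟩ := hu (f i2)
      rw [a0] at ha
      rw [a1] at hb
      rw [a2] at hc
      have h6 : LinearIndependent F ![e i0, e i1, e i3] := by
        have h7 := hfr.li.comp ![i0, i1, i3] (by
          intro x y hxy
          fin_cases x <;> fin_cases y <;> simp_all only [_root_.ne_eq, _root_.LinearEquiv.mul_apply, _root_.Nat.succ_eq_add_one, _root_.Nat.reduceAdd, _root_.Fin.zero_eta, _root_.Fin.isValue, _root_.Matrix.cons_val_zero, _root_.Fin.mk_one, _root_.Matrix.cons_val_one, _root_.Fin.reduceFinMk, _root_.Matrix.cons_val, _root_.one_ne_zero, _root_.zero_ne_one, _root_.Fin.reduceEq, _root_.OfNat.zero_ne_ofNat, _root_.OfNat.one_ne_ofNat])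
        convert h7 using 1
        ext x
        fin_cases x <;> rfl
      have h8 := li_le_finset h6 {u, u'} (by
        rintro _ ⟨x, rfl⟩
        rw [Finset.coe_insert, Finset.coe_singleton, SetLike.mem_coe, Submodule.mem_span_pair]
        fin_cases x
        · refine ⟨-a', -b', ?_⟩
          show (-a') • u + (-b') • u' = e i0
          rw [neg_smul, neg_smul, ← neg_add, ← hb, neg_neg]
        · exact ⟨a, b, ha.symm⟩
        · exact ⟨a'', b'', hc.symm⟩)
      have h9 : Finset.card ({u, u'} : Finset V) ≤ 2 := Finset.card_le_two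
      rw [Fintype.card_fin] at h8
      omega

end

/-- **Mersenne primes, characteristic two, `p ∤ q - 1`.** -/
theorem mers_row [Finite F] [Finite V] (h2 : (2 : F) = 0) (hε : H.ε = 1)
    (hnd : ∀ v : V, v ≠ 0 → ∃ w, H.h v w ≠ 0) {p k : ℕ} (hp : p.Prime) (hk : k.Prime)
    (hk3 : 3 ≤ k) (hpk : p + 1 = 2 ^ k) (hq : ¬ p ∣ Nat.card F - 1) (hd : p ∣ Nat.card (SG P))
    (hSL : FprRow (p + 1) 1 p (Matrix.SpecialLinearGroup (Fin k) F))
    (hbot : (∃ c : F, c ≠ 0 ∧ P.ok 0 c) ∨ 7 ≤ Module.finrank F V) :
    FprRow (p + 1) 1 p (SG P) := by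
  classical
  have hfinV : Module.Finite F V := Module.Finite.of_finite
  obtain ⟨T0, -, -, -, -, -, hTs, hTT, hTk⟩ := exists_ts h2 hp hk hk3 hpk hq hd
  obtain ⟨e, f, -, -, hfr⟩ := exists_frame (P := P) hε k ⊤
    (fun v _ hv => by
      obtain ⟨w, hw⟩ := hnd v hv
      exact ⟨w, trivial, hw⟩) T0 le_top hTs hTT hTk.ge
  have hfr' := hfr.swap hε
  obtain ⟨T, hTdef⟩ : ∃ T, T = Submodule.span F (Set.range e) := ⟨_, rfl⟩
  obtain ⟨y0, l, s, kk, hy1, hy2, hy3, hy4⟩ := exists_sl_gen h2 hp hk hk3 hpk hq
    (Module.Basis.span hfr.li) hSL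
  have d := hfr.dec hnd
  -- numerics
  have h8 : 2 ^ 3 ≤ 2 ^ k := Nat.pow_le_pow_right (by norm_num) hk3
  have h3p : Nat.Coprime 3 p := by
    rw [Nat.coprime_primes Nat.prime_three hp]
    rintro rfl
    omega
  obtain ⟨i, hi⟩ : ∃ i : Fin k, i.1 = 0 := ⟨⟨0, by omega⟩, rfl⟩
  obtain ⟨j, hj⟩ : ∃ j : Fin k, j.1 = 1 := ⟨⟨1, by omega⟩, rfl⟩
  have hij : i ≠ j := fun h => by rw [h] at hi; omega
  have hcase : (∃ m ∈ mid H e f, ∃ m' ∈ mid H e f, H.h m m' ≠ 0) ∨
      (mid H e f = ⊥ ∧ TwoKinds (rad P (Submodule.span F (Set.range e))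
        (Submodule.span F (Set.range e) ⊔ mid H e f)) ∧
       TwoKinds (rad P (Submodule.span F (Set.range f))
        (Submodule.span F (Set.range f) ⊔ mid H e f))) := by
    by_cases hbot' : mid H e f = ⊥
    · right
      refine ⟨hbot', ?_⟩
      rcases hbot with ⟨c, hc0, hc⟩ | hdim
      · exact ⟨twoKinds_root hfr hε hij hc hc0 le_sup_left,
          twoKinds_root hfr' hε hij hc hc0 le_sup_left⟩
      · have hk4 : 4 ≤ k := by
          have h1 : Module.finrank F V ≤ k + k := by
            have htop := d.top
            rw [hbot', sup_bot_eq] at htop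
            have h2 := Submodule.finrank_add_le_finrank_add_finrank
              (Submodule.span F (Set.range e)) (Submodule.span F (Set.range f))
            rw [htop, finrank_top] at h2
            have h3 := finrank_range_le_card (R := F) e
            have h4 := finrank_range_le_card (R := F) f
            rw [Fintype.card_fin] at h3 h4
            unfold Set.finrank at h3 h4
            omega
          omega
        exact ⟨twoKinds_four hfr hε hk4 le_sup_left,
          twoKinds_four hfr' hε hk4 le_sup_left⟩
    · left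
      obtain ⟨m, hm, hm0⟩ := (Submodule.ne_bot_iff _).1 hbot'
      obtain ⟨w, hw⟩ := hnd m hm0
      have hwt : w ∈ Submodule.span F (Set.range e) ⊔ mid H e f ⊔
          Submodule.span F (Set.range f) := by rw [d.top]; trivial
      obtain ⟨a, ha, t', ht', rfl⟩ := Submodule.mem_sup.1 hwt
      obtain ⟨t, ht, m', hm', rfl⟩ := Submodule.mem_sup.1 ha
      refine ⟨m, hm, m', hm', ?_⟩
      rw [H.add_right, H.add_right, H.orth_symm (d.m1 t ht m hm),
        H.orth_symm (d.m2 t' ht' m hm), zero_add, add_zero] at hw
      exact hw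
  obtain ⟨x, hx1, hx2⟩ := c2_uGood h2 hfr hfr' hnd hij hp h3p (m0 := p + 1)
    (by have := hp.two_le; omega) (pow_two_le hp) hy1 hy2 hy3 hy4 le_rfl hcase
  exact row_of_uGood hp hx1 hx2

end Cfsg.Agent.H398.FPR
end

-- part: H398/FPR/FamTwo
section
/-!
# Mersenne primes, characteristic two: the rows `1 / (p + 1)` for all symplectic, unitary and
orthogonal groups, from the one for `PSL_k(q)`, `p = 2 ^ k - 1`
-/

set_option autoImplicit false
open Subgroup MulAction

namespace Cfsg.Agent.H398.FPR

open Cfsg
open Cfsg.Agent Cfsg.Agent.TitsThree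
open Cfsg.Agent.TitsThree.Siegel Cfsg.Agent.TitsThree.SiegelGen Cfsg.Agent.H110.Fpr
open Cfsg.Agent.H409

theorem dvd_card_of_surjective {G S : Type*} [Group G] [Finite G] [Group S] {p : ℕ}
    (f : G →* S) (hf : Function.Surjective f) (h : p ∣ Nat.card S) : p ∣ Nat.card G :=
  h.trans (Subgroup.card_dvd_of_surjective f hf)

/-- The row for `SL_n(q)` from the one for `PSL_n(q)`. -/
theorem sl_of_psl {F : Type*} [Field F] [Finite F] {a b p n : ℕ} (hp : p.Prime) (hn : 3 ≤ n)
    (hq : ¬ p ∣ Nat.card F - 1)
    (h : FprRow a b p (Matrix.ProjectiveSpecialLinearGroup (Fin n) F)) :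
    FprRow a b p (Matrix.SpecialLinearGroup (Fin n) F) := by
  classical
  have := Fintype.ofFinite F
  have hker : (QuotientGroup.mk' (center (Matrix.SpecialLinearGroup (Fin n) F))).ker =
      center (Matrix.SpecialLinearGroup (Fin n) F) := QuotientGroup.ker_mk' _
  refine FprRow.lift hp (QuotientGroup.mk' (center (Matrix.SpecialLinearGroup (Fin n) F)))
    (QuotientGroup.mk'_surjective _) hker.le ?_
    (Cfsg.Agent.LieClassical.SLGen.commutator_eq_top (by rw [Fintype.card_fin]; exact hn)) h
  rw [hker]
  intro hd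
  apply hq
  have h1 : Nat.card (center (Matrix.SpecialLinearGroup (Fin n) F)) =
      Nat.card (rootsOfUnity (max (Fintype.card (Fin n)) 1) F) :=
    Nat.card_congr Matrix.SpecialLinearGroup.center_equiv_rootsOfUnity.toEquiv
  rw [h1] at hd
  have h2 : Nat.card Fˣ = Nat.card F - 1 := by
    rw [Nat.card_eq_fintype_card, Nat.card_eq_fintype_card, Fintype.card_units]
  rw [← h2]
  exact hd.trans (Subgroup.card_subgroup_dvd_card _)

/-- `p ∣ q ^ 2 - 1` implies `p ∣ q - 1` -/
theorem mers_sq {F : Type*} [Field F] [Fintype F] {q : ℕ} (hF : Fintype.card F = q ^ 2)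
    (h2 : (2 : F) = 0) {p k : ℕ} (hp : p.Prime)
    (hk : k.Prime) (hk3 : 3 ≤ k) (hpk : p + 1 = 2 ^ k) (h : p ∣ q ^ 2 - 1) : p ∣ q - 1 := by
  have hpf : Fact p.Prime := ⟨hp⟩
  have hch := charP_two h2
  obtain ⟨a, -, ha⟩ := FiniteField.card F 2
  rw [hF] at ha
  obtain ⟨b, -, hb⟩ := (Nat.dvd_prime_pow Nat.prime_two).1 (Dvd.intro_left (q ^ 1) (by
    rw [← ha]; ring) : q ∣ 2 ^ (a : ℕ))
  have hq0 : 0 < q := by rw [hb]; positivity
  have h3 := (dvd_pow_sub_one_iff (p := p) (q := q) (k := 2) hq0).1 h
  have h4 : orderOf (2 : ZMod p) ∣ 2 * b := by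
    apply orderOf_dvd_of_pow_eq_one
    rw [mul_comm, pow_mul]
    have h5 : ((q : ℕ) : ZMod p) = 2 ^ b := by rw [hb]; push_cast; rfl
    rw [← h5]
    exact h3
  rw [orderOf_two hp hk hpk] at h4
  have h5 : k ∣ b := by
    rcases (hk.dvd_mul).1 h4 with h6 | h6
    · have := Nat.le_of_dvd (by norm_num) h6
      omega
    · exact h6
  have h6 : ((q : ℕ) : ZMod p) ^ 1 = 1 := by
    have h7 : ((q : ℕ) : ZMod p) = 2 ^ b := by rw [hb]; push_cast; rfl
    rw [pow_one, h7]
    exact orderOf_dvd_iff_pow_eq_one.1 (by rw [orderOf_two hp hk hpk]; exact h5)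
  have h7 := (dvd_pow_sub_one_iff (p := p) (q := q) (k := 1) hq0).2 h6
  rwa [pow_one] at h7

theorem mers_ne_two {p k : ℕ} (hk : k.Prime) (hpk : p + 1 = 2 ^ k) : p ≠ 2 := by
  rintro rfl
  have h : 2 ∣ 2 ^ k := dvd_pow_self 2 hk.ne_zero
  rw [← hpk] at h
  omega

section Sp

variable {F : Type*} [Field F] {m : ℕ}

/-- **`PSp_{2m}(q)`, `q` even, `p = 2 ^ k - 1`, `p ∤ q - 1`.** -/
theorem psp_mers [Finite F] (h2 : (2 : F) = 0) {p k : ℕ} (hp : p.Prime)
    (hk : k.Prime) (hk3 : 3 ≤ k) (hpk : p + 1 = 2 ^ k) (hq : ¬ p ∣ Nat.card F - 1)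
    (hd : p ∣ Nat.card (PSp m F))
    (hL : FprRow (p + 1) 1 p (Matrix.ProjectiveSpecialLinearGroup (Fin k) F)) :
    FprRow (p + 1) 1 p (PSp m F) := by
  have hfin : Finite ((Fin m ⊕ Fin m → F) ≃ₗ[F] (Fin m ⊕ Fin m → F)) := instFin
  apply sp_of_SG hp
  have hd' : p ∣ Nat.card (SG (SpGen.pq m F)) := by
    let e : SG (SpGen.pq m F) ≃* SpIdent.isos (SpIdent.form m F) := MulEquiv.subgroupCongr SG_pq
    let f : SG (SpGen.pq m F) →* PSp m F := SpIdent.toPSp.comp e.toMonoidHom
    have hf : Function.Surjective f := SpIdent.toPSp_surjective.comp e.surjective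
    exact dvd_card_of_surjective f hf hd
  exact mers_row h2 (alt_form h2).eps nd_form hp hk hk3 hpk hq hd' (sl_of_psl hp hk3 hq hL)
    (Or.inl ⟨1, one_ne_zero, trivial⟩)

/-- **`PSp_{2m}(q)`, `q` even, `p = 2 ^ k - 1`, `k ≥ 3`.** -/
theorem psp_mers' [Finite F] (hm : 2 ≤ m) (h2 : (2 : F) = 0) {p k : ℕ} (hp : p.Prime)
    (hk : k.Prime) (hk3 : 3 ≤ k) (hpk : p + 1 = 2 ^ k) (hd : p ∣ Nat.card (PSp m F))
    (hL : ¬ p ∣ Nat.card F - 1 →
      FprRow (p + 1) 1 p (Matrix.ProjectiveSpecialLinearGroup (Fin k) F)) :
    FprRow (p + 1) 1 p (PSp m F) := by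
  by_cases hq : p ∣ Nat.card F - 1
  · exact psp_eone hm h2 hp (mers_ne_two hk hpk) hq
  · exact psp_mers h2 hp hk hk3 hpk hq hd (hL hq)

end Sp

section U

variable {F : Type*} [Field F] [Fintype F] {q N : ℕ}

/-- **`PSU_n(q)`, `q` even, `p = 2 ^ k - 1`, `p ∤ q ^ 2 - 1`.** -/
theorem psu_mers (hF : Fintype.card F = q ^ 2) (hN : 3 ≤ N) (h2 : (2 : F) = 0) {p k : ℕ}
    (hp : p.Prime) (hk : k.Prime) (hk3 : 3 ≤ k) (hpk : p + 1 = 2 ^ k) (hq : ¬ p ∣ q ^ 2 - 1)
    (hd : p ∣ Nat.card (PSU N F q))
    (hL : FprRow (p + 1) 1 p (Matrix.ProjectiveSpecialLinearGroup (Fin k) F)) :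
    FprRow (p + 1) 1 p (PSU N F q) := by
  have hfin : Finite ((Fin N → F) ≃ₗ[F] (Fin N → F)) := instFin
  apply su_of_SG hF hN hp
  have hd' : p ∣ Nat.card (SG (KSideU.PU hF N)) := by
    have e : SG (KSideU.PU hF N) ≃* SU N F q :=
      ((MonoidHom.ofInjective (KSideU.toLin_injective (F := F) (q := q) (N := N))).trans
        (MulEquiv.subgroupCongr (SG_PU hF hN).symm)).symm
    let f : SG (KSideU.PU hF N) →* PSU N F q :=
      (QuotientGroup.mk' (Subgroup.center (SU N F q))).comp e.toMonoidHom
    have hf : Function.Surjective f := (QuotientGroup.mk'_surjective _).comp e.surjective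
    exact dvd_card_of_surjective f hf hd
  have hok : (KSideU.PU hF N).ok 0 1 := by
    rw [KSideU.ok_iff, one_pow, LieClassical.HermBasic.herm_zero_left, neg_zero]
    linear_combination h2
  have hq' : ¬ p ∣ Nat.card F - 1 := by
    rw [Nat.card_eq_fintype_card, hF]
    exact hq
  exact mers_row h2 (KSideU.HU_ε hF) (nd_HU hF) hp hk hk3 hpk hq' hd' (sl_of_psl hp hk3 hq' hL)
    (Or.inl ⟨1, one_ne_zero, hok⟩)

/-- **`PSU_n(q)`, `q` even, `p = 2 ^ k - 1`, `k ≥ 3`.** -/
theorem psu_mers' (hF : Fintype.card F = q ^ 2) (hN : 3 ≤ N) (h2 : (2 : F) = 0) {p k : ℕ}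
    (hp : p.Prime) (hk : k.Prime) (hk3 : 3 ≤ k) (hpk : p + 1 = 2 ^ k)
    (hd : p ∣ Nat.card (PSU N F q))
    (hL : ¬ p ∣ Nat.card F - 1 →
      FprRow (p + 1) 1 p (Matrix.ProjectiveSpecialLinearGroup (Fin k) F)) :
    FprRow (p + 1) 1 p (PSU N F q) := by
  by_cases hq : p ∣ q ^ 2 - 1
  · exact psu_eone hF hN h2 hp (mers_ne_two hk hpk) (mers_sq hF h2 hp hk hk3 hpk hq)
  · exact psu_mers hF hN h2 hp hk hk3 hpk hq hd
      (hL (by rw [Nat.card_eq_fintype_card, hF]; exact hq))

end U

section O

open LieClassical LieClassical.OrthCore LieClassical.OrthFinite LieClassical.OrthForms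

theorem omega_mers {ι : Type} [Fintype ι] [DecidableEq ι] {F : Type*} [Field F] [Finite F]
    {Q : QuadraticForm F (ι → F)} (hQ : Nondeg Q) (hd7 : 7 ≤ Module.finrank F (ι → F))
    (h2 : (2 : F) = 0) {p k : ℕ} (hp : p.Prime)
    (hk : k.Prime) (hk3 : 3 ≤ k) (hpk : p + 1 = 2 ^ k) (hq : ¬ p ∣ Nat.card F - 1)
    (hd : p ∣ Nat.card (Cfsg.POmega F ⇑Q))
    (hL : FprRow (p + 1) 1 p (Matrix.ProjectiveSpecialLinearGroup (Fin k) F)) :
    FprRow (p + 1) 1 p (Cfsg.POmega F ⇑Q) := by
  have : Finite ((ι → F) ≃ₗ[F] (ι → F)) := instFin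
  have hG := good_of_finite hQ (by omega : 5 ≤ Module.finrank F (ι → F))
  apply omega_of_SG hQ (by omega) hp
  have hd' : p ∣ Nat.card (SG (KSideO.PO Q)) := by
    rw [SG_PO]
    exact dvd_card_of_surjective (KSideO.toPOmega hG) (KSideO.toPOmega_surjective hG) hd
  refine mers_row h2 rfl ?_ hp hk hk3 hpk hq hd' (sl_of_psl hp hk3 hq hL) (Or.inr hd7)
  intro v hv
  by_contra hcon
  push Not at hcon
  exact hv (hQ v hcon)

/-- **`PΩ⁺_{2m}(q)`, `q` even, `p = 2 ^ k - 1`, `p ∤ q - 1`.** -/
theorem oplus_mers {F : Type} [Field F] [Fintype F] {m : ℕ} (hm : 4 ≤ m) (h2 : (2 : F) = 0)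
    {p k : ℕ} (hp : p.Prime)
    (hk : k.Prime) (hk3 : 3 ≤ k) (hpk : p + 1 = 2 ^ k) (hq : ¬ p ∣ Nat.card F - 1)
    (hd : p ∣ Nat.card (Cfsg.POmega F (Cfsg.quadFormPlus m F)))
    (hL : FprRow (p + 1) 1 p (Matrix.ProjectiveSpecialLinearGroup (Fin k) F)) :
    FprRow (p + 1) 1 p (Cfsg.POmega F (Cfsg.quadFormPlus m F)) := by
  rw [← coe_plusForm] at hd ⊢
  have hd' : 7 ≤ Module.finrank F (Fin m ⊕ Fin m → F) := by
    rw [Module.finrank_fintype_fun_eq_card, Fintype.card_sum, Fintype.card_fin]
    omega
  exact omega_mers (nondeg_plusForm m F) hd' h2 hp hk hk3 hpk hq hd hL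

/-- **`PΩ⁻_{2m}(q)`, `q` even, `p = 2 ^ k - 1`, `p ∤ q - 1`.** -/
theorem ominus_mers {F : Type} [Field F] [Fintype F] {m : ℕ} (hm : 4 ≤ m) {a b : F}
    (hab : ∀ z₁ z₂ : F, z₁ ^ 2 + a * z₁ * z₂ + b * z₂ ^ 2 = 0 → z₁ = 0 ∧ z₂ = 0)
    (h2 : (2 : F) = 0) {p k : ℕ} (hp : p.Prime)
    (hk : k.Prime) (hk3 : 3 ≤ k) (hpk : p + 1 = 2 ^ k) (hq : ¬ p ∣ Nat.card F - 1)
    (hd : p ∣ Nat.card (Cfsg.POmega F (Cfsg.quadFormMinus (m - 1) F a b)))
    (hL : FprRow (p + 1) 1 p (Matrix.ProjectiveSpecialLinearGroup (Fin k) F)) :
    FprRow (p + 1) 1 p (Cfsg.POmega F (Cfsg.quadFormMinus (m - 1) F a b)) := by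
  rw [← coe_minusForm] at hd ⊢
  have hd' : 7 ≤ Module.finrank F ((Fin (m - 1) ⊕ Fin (m - 1)) ⊕ Fin 2 → F) := by
    rw [Module.finrank_fintype_fun_eq_card, Fintype.card_sum, Fintype.card_sum, Fintype.card_fin,
      Fintype.card_fin]
    omega
  exact omega_mers (nondeg_minusForm (m - 1) F a b hab) hd' h2 hp hk hk3 hpk hq hd hL

/-- **`PΩ⁺_{2m}(q)`, `q` even, `p = 2 ^ k - 1`, `k ≥ 3`.** -/
theorem oplus_mers' {F : Type} [Field F] [Fintype F] {m : ℕ} (hm : 4 ≤ m) (h2 : (2 : F) = 0)
    {p k : ℕ} (hp : p.Prime) (hk : k.Prime) (hk3 : 3 ≤ k) (hpk : p + 1 = 2 ^ k)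
    (hd : p ∣ Nat.card (Cfsg.POmega F (Cfsg.quadFormPlus m F)))
    (hL : ¬ p ∣ Nat.card F - 1 →
      FprRow (p + 1) 1 p (Matrix.ProjectiveSpecialLinearGroup (Fin k) F)) :
    FprRow (p + 1) 1 p (Cfsg.POmega F (Cfsg.quadFormPlus m F)) := by
  by_cases hq : p ∣ Nat.card F - 1
  · exact oplus_eone hm h2 hp (mers_ne_two hk hpk) hq
  · exact oplus_mers hm h2 hp hk hk3 hpk hq hd (hL hq)

/-- **`PΩ⁻_{2m}(q)`, `q` even, `p = 2 ^ k - 1`, `k ≥ 3`.** -/
theorem ominus_mers' {F : Type} [Field F] [Fintype F] {m : ℕ} (hm : 4 ≤ m) {a b : F}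
    (hab : ∀ z₁ z₂ : F, z₁ ^ 2 + a * z₁ * z₂ + b * z₂ ^ 2 = 0 → z₁ = 0 ∧ z₂ = 0)
    (h2 : (2 : F) = 0) {p k : ℕ} (hp : p.Prime)
    (hk : k.Prime) (hk3 : 3 ≤ k) (hpk : p + 1 = 2 ^ k)
    (hd : p ∣ Nat.card (Cfsg.POmega F (Cfsg.quadFormMinus (m - 1) F a b)))
    (hL : ¬ p ∣ Nat.card F - 1 →
      FprRow (p + 1) 1 p (Matrix.ProjectiveSpecialLinearGroup (Fin k) F)) :
    FprRow (p + 1) 1 p (Cfsg.POmega F (Cfsg.quadFormMinus (m - 1) F a b)) := by
  by_cases hq : p ∣ Nat.card F - 1
  · exact ominus_eone hm hab h2 hp (mers_ne_two hk hpk) hq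
  · exact ominus_mers hm hab h2 hp hk hk3 hpk hq hd (hL hq)

end O

end Cfsg.Agent.H398.FPR
end
end
end
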