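import Cfsg.Agent.H398.FPR.Rad_m3
import Cfsg.Agent.H400.TwoExcE_mg
import Cfsg.Agent.H400.TwoExcChev
import Cfsg.Agent.OddHalf.NI.ModelChev
import Cfsg.Agent.S1054
import Cfsg.Agent.S1062
import Cfsg.Agent.S1063
import Cfsg.Agent.S1064
import Cfsg.Agent.S1065
import Cfsg.Agent.H452.FprCyc
import Cfsg.Agent.Lib.RingK
import Cfsg.Agent.H409.FprCycSm
import Cfsg.Agent.H27.Psl.Irr
import Cfsg.Agent.S0242
import Cfsg.Agent.S2140
import Cfsg.Agent.H221.PPMain
import Cfsg.Agent.H74.Base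
import Cfsg.Agent.S0806
import Cfsg.Agent.SignalizersComponents.SLQuasisimple
import Cfsg.Agent.H408.Engine
import Cfsg.Agent.ClassicalGeometry.PSL2Basic
import Cfsg.Agent.S0256
import Cfsg.Agent.S0243
import Cfsg.Agent.FastGrp
import Cfsg.Agent.Prune
set_option linter.all false

section
prune_inst 0x7f00000000000000000000000000000000000000000000000000000000000000000000000000000000000000000000000000000000000000000000000000000000000000000000000000000000000000003fffffffffffffffffffffffffffbeffbdffffffff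

section
prune_inst 0xfcbcf9abb8bddfffff7e7ff6f8cdfc39909fffa6dff94bffe06bff2bff230009c5f3ad89e010fe0ed6c21410a87843f9feca3fea6bdc7ffffd5ff45ffbee1fb7efbd0851d48c340fbc4ff693f0778a7f000000000000000000000000000000000000000000

-- part: H441/FPR/HeisG
section
prune_inst 0x101001404000000000000080112000044400040000400000880000000008c2228080204004201000020aa00100010020115c00000000000000000000000404010008020031000000000096000084000000000000000000000000000000000004200000000
set_option linter.all false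
open scoped Cfsg.Agent.FastGrp

-- part: H441/FPR/HeisA
section
/-!
# The Heisenberg lemma with a bound for the centraliser of `x` in `Q`
-/

set_option autoImplicit false
set_option linter.unusedSectionVars false
set_option linter.unusedVariables false

namespace Cfsg.Agent.H441.FPR.Heis

open CoxeterSystem Cfsg.Agent.ChevalleyStructure.CoxeterGeom Cfsg.Agent.Tits.Roots Cfsg.Agent.Tits.Core
  Cfsg.Agent.Tits.Exchange Cfsg.Agent.Nodes.Reps Cfsg.Agent.Nodes.BNOf Cfsg.Agent.Nodes.StabComb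
  Cfsg.Agent.Nodes.Bruhat Cfsg.Agent.Nodes.OppDec Cfsg.Agent.Nodes.PosPair Cfsg.Agent.Nodes.Coroot
  Cfsg.Agent.KFacts.RgdPar Cfsg.Agent.KFacts.RgdSL Cfsg.Agent.KFacts.RgdTI Cfsg.Agent.Nodes.LeviDec
open Cfsg.Agent.H400.TwoExc Cfsg.Agent.H400.Fpr
open Cfsg.Agent.H398.FPR (CommFull UGood Pair)
open Cfsg.Agent.H435.Fpr (PairM T3M_uGood)
open Subgroup MulAction
open scoped commutatorElement Pointwise

section Abs

variable {Y : Type*} [Group Y]

/-- **The Heisenberg lemma**, with the order of `C_Q(x)`. -/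
theorem heis_uGoodC [Finite Y] {r m p k q D M : ℕ} (hr : r.Prime) (hp : p.Prime) (hm : m = p ^ k) {Z Q : Subgroup Y}
    {x n h : Y} (H : HX r m Z Q x) (S : Sc q Z Q h) (hn : n ∈ Z ⊔ cc n Z) (hh : h ∈ Z ⊔ cc n Z)
    (hgen : Q ⊔ cc n Q = ⊤) (hxn : n * x = x * n) (hxh : h * x = x * h) (hx : ∃ w ∈ Q, x * w ≠ w * x)
    (hcard : Nat.card ↥(Q ⊓ centralizer {x}) < q ^ (D + 1) * Nat.card Z)
    (hM : ∀ t : ℕ, t ≠ 0 → r ^ t ≡ 1 [MOD p] → M ≤ r ^ t) (hM1 : 1 ≤ M) :
    UGood (D + 2) (M + D + 1) x := by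
  have hne := H.exists_ne hx
  have hP := H.pairM hr hp hm hne hM
  -- the centraliser
  let C : Subgroup Y := Q ⊓ centralizer {x}
  have hCmem : ∀ y, y ∈ C ↔ y ∈ Q ∧ y * x = x * y := fun y => by
    rw [mem_inf, mem_centralizer_singleton_iff]
  have hCC : ∀ y ∈ C, h * y * h⁻¹ ∈ C := by
    intro y hy
    rw [hCmem] at hy ⊢
    refine ⟨S.hQ y hy.1, ?_⟩
    have hxh' : Commute h x := hxh
    have hxy : Commute y x := hy.2
    exact ((hxh'.mul_left hxy).mul_left hxh'.inv_left)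
  have hZC : Z ≤ C := fun z hz => (hCmem z).2 ⟨H.c2.le hz, (H.xZ z hz).symm⟩
  obtain ⟨e, he, hgenC⟩ := S.gens H.c2 (inf_le_left : C ≤ Q) hCC D Z le_rfl hZC S.hZ hcard
  -- the family
  let R : Option (Option (Fin D)) → Subgroup Y := fun a => match a with
    | none => RQ H
    | some none => cc n (RQ H)
    | some (some i) => cc (e i) (cc n (RQ H))
  have hR : ∀ a, PairM M x (R a) := by
    rintro (_ | _ | i)
    · exact hP
    · exact pairM_cc hP hxn
    · exact pairM_cc (pairM_cc hP hxn) ((hCmem _).1 (he i)).2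
  have hcl : Subgroup.closure ({x} ∪ ⋃ a, (R a : Set Y)) = ⊤ := by
    set K := Subgroup.closure ({x} ∪ ⋃ a, (R a : Set Y)) with hK
    have hRK : ∀ a, R a ≤ K := by
      intro a y hy
      apply Subgroup.subset_closure
      exact Or.inr (Set.mem_iUnion.2 ⟨a, hy⟩)
    have h1 : RQ H ≤ K := hRK none
    have h2 : cc n (RQ H) ≤ K := hRK (some none)
    have h3 : ∀ i, cc (e i) (cc n (RQ H)) ≤ K := fun i => hRK (some (some i))
    have hZK : Z ≤ K := H.Z_le_RQ.trans h1
    have hZK' : cc n Z ≤ K := (cc_mono H.Z_le_RQ).trans h2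
    have hLK : Z ⊔ cc n Z ≤ K := sup_le hZK hZK'
    have hnK : n ∈ K := hLK hn
    have hhK : h ∈ K := hLK hh
    -- the conjugates of `h`
    have hhe : ∀ i, e i * h * (e i)⁻¹ ∈ K := by
      intro i
      have h4 : cc (e i) (Z ⊔ cc n Z) ≤ K := by
        unfold cc
        rw [Subgroup.map_sup]
        refine sup_le ?_ ((map_mono (map_mono H.Z_le_RQ)).trans (h3 i))
        rintro _ ⟨z, hz, rfl⟩
        have h5 := H.c2.cen z hz _ ((hCmem _).1 (he i)).1
        show e i * z * (e i)⁻¹ ∈ K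
        rw [← h5, mul_inv_cancel_right]
        exact hZK hz
      exact h4 (conj_mem_cc hh)
    -- `e i ∈ K`
    have heK : ∀ i, e i ∈ K := by
      intro i
      let V : Subgroup Y := K ⊓ Q
      have hV : ∀ y ∈ V, h * y * h⁻¹ ∈ V := fun y hy =>
        mem_inf.2 ⟨mul_mem (mul_mem hhK (mem_inf.1 hy).1) (inv_mem hhK), S.hQ y (mem_inf.1 hy).2⟩
      have hZV : Z ≤ V := le_inf hZK H.c2.le
      have heQ := ((hCmem _).1 (he i)).1
      have h4 : ⁅h, e i⁆ ∈ V := by
        refine mem_inf.2 ⟨?_, ?_⟩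
        · have h5 : ⁅h, e i⁆ = h * (e i * h * (e i)⁻¹)⁻¹ := by rw [commutatorElement_def]; group
          rw [h5]
          exact mul_mem hhK (inv_mem (hhe i))
        · rw [commutatorElement_def]
          exact mul_mem (S.hQ _ heQ) (inv_mem heQ)
      have hf : ∀ v ∈ Q, ⁅h, v⁆ ∈ Z → v ∈ Z := by
        intro v hv h5
        apply S.free 1 one_pos (by have := S.two; omega) v hv
        rwa [pow_one]
      exact (mem_inf.1 (H.c2.free_sub S.hZ hf hZV inf_le_right hV heQ h4)).1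
    have hCK : C ≤ K := hgenC K hZK (fun y hy => mul_mem (mul_mem hhK hy) (inv_mem hhK)) heK
    have hQK : Q ≤ K := by
      intro w hw
      obtain ⟨c, hc, v, hv, hxc, rfl⟩ := H.decomp hw
      exact mul_mem (hCK ((hCmem c).2 ⟨hc, hxc.symm⟩)) (h1 hv)
    rw [eq_top_iff, ← hgen]
    exact sup_le hQK (cc_le hnK hQK)
  have h4 := T3M_uGood hM1 R hR hcl
  have h5 : Fintype.card (Option (Option (Fin D))) = D + 2 := by
    rw [Fintype.card_option, Fintype.card_option, Fintype.card_fin]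
  rw [h5] at h4
  have h6 : M + (D + 2) - 1 = M + D + 1 := by omega
  rwa [h6] at h4

/-- a transversal -/
theorem exists_reps [Finite Y] {Z C : Subgroup Y} (hZC : Z ≤ C) {k : ℕ} (hk : Nat.card C ≤ k * Nat.card Z) (hk0 : 0 < k) :
    ∃ e : Fin k → Y, (∀ i, e i ∈ C) ∧ ∀ c ∈ C, ∃ i, (e i)⁻¹ * c ∈ Z := by
  have h1 : Nat.card (C ⧸ Z.subgroupOf C) ≤ k := by
    have h2 := Subgroup.card_eq_card_quotient_mul_card_subgroup (Z.subgroupOf C)
    rw [Nat.card_congr (Subgroup.subgroupOfEquivOfLe hZC).toEquiv] at h2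
    rw [h2] at hk
    exact Nat.le_of_mul_le_mul_right hk Nat.card_pos
  have hfin : Finite (C ⧸ Z.subgroupOf C) := inferInstance
  have := Fintype.ofFinite (C ⧸ Z.subgroupOf C)
  have hne : Nonempty (C ⧸ Z.subgroupOf C) := inferInstance
  obtain ⟨f⟩ : Nonempty ((C ⧸ Z.subgroupOf C) ↪ Fin k) := by
    rw [Function.Embedding.nonempty_iff_card_le, Fintype.card_fin, ← Nat.card_eq_fintype_card]
    exact h1
  refine ⟨fun i => ((Function.invFun f i).out : C), fun i => ((Function.invFun f i).out : C).2, fun c hc => ?_⟩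
  refine ⟨f (QuotientGroup.mk ⟨c, hc⟩), ?_⟩
  have h2 : Function.invFun f (f (QuotientGroup.mk (⟨c, hc⟩ : C))) = (QuotientGroup.mk (⟨c, hc⟩ : C) : C ⧸ Z.subgroupOf C) :=
    Function.leftInverse_invFun f.injective _
  show (((Function.invFun f (f (QuotientGroup.mk (⟨c, hc⟩ : C)))).out : C) : Y)⁻¹ * c ∈ Z
  rw [h2]
  have h3 : ((QuotientGroup.mk (⟨c, hc⟩ : C) : C ⧸ Z.subgroupOf C)).out⁻¹ * ⟨c, hc⟩ ∈ Z.subgroupOf C := by
    rw [← QuotientGroup.eq, QuotientGroup.out_eq']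
  exact h3

/-- **All conjugates under `C_Q(x)`.** -/
theorem heis_small [Finite Y] {r m p k d M : ℕ} (hr : r.Prime) (hp : p.Prime) (hm : m = p ^ k) {Z Q : Subgroup Y}
    {x n : Y} (H : HX r m Z Q x) (hn : n ∈ Z ⊔ cc n Z) (hs : IsSimpleGroup Y)
    (hgen : Q ⊔ cc n Q = ⊤) (hxn : n * x = x * n) (hx : ∃ w ∈ Q, x * w ≠ w * x)
    (hcard : Nat.card ↥(Q ⊓ centralizer {x}) ≤ d * Nat.card Z) (hd : 0 < d)
    (hM : ∀ t : ℕ, t ≠ 0 → r ^ t ≡ 1 [MOD p] → M ≤ r ^ t) (hM1 : 1 ≤ M) :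
    UGood (d + 1) (M + d) x := by
  have hne := H.exists_ne hx
  have hP := H.pairM hr hp hm hne hM
  let C : Subgroup Y := Q ⊓ centralizer {x}
  have hCmem : ∀ y, y ∈ C ↔ y ∈ Q ∧ y * x = x * y := fun y => by
    rw [mem_inf, mem_centralizer_singleton_iff]
  have hZC : Z ≤ C := fun z hz => (hCmem z).2 ⟨H.c2.le hz, (H.xZ z hz).symm⟩
  obtain ⟨e, he, hrep⟩ := exists_reps hZC hcard hd
  let R : Option (Fin d) → Subgroup Y := fun a => match a with
    | none => RQ H
    | some i => cc (e i) (cc n (RQ H))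
  have hR : ∀ a, PairM M x (R a) := by
    rintro (_ | i)
    · exact hP
    · exact pairM_cc (pairM_cc hP hxn) ((hCmem _).1 (he i)).2
  have hcl : Subgroup.closure ({x} ∪ ⋃ a, (R a : Set Y)) = ⊤ := by
    set K := Subgroup.closure ({x} ∪ ⋃ a, (R a : Set Y)) with hK
    have hRK : ∀ a, R a ≤ K := by
      intro a y hy
      apply Subgroup.subset_closure
      exact Or.inr (Set.mem_iUnion.2 ⟨a, hy⟩)
    have hxK : x ∈ K := Subgroup.subset_closure (Or.inl rfl)
    have h1 : RQ H ≤ K := hRK none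
    have h3 : ∀ i, cc (e i) (cc n (RQ H)) ≤ K := fun i => hRK (some i)
    have hZK : Z ≤ K := H.Z_le_RQ.trans h1
    -- all conjugates
    have h4 : ∀ c ∈ C, cc c (cc n (RQ H)) ≤ K := by
      intro c hc
      obtain ⟨i, hi⟩ := hrep c hc
      have h5 : c = ((e i)⁻¹ * c) * e i := by
        have h6 := H.c2.cen _ hi _ ((hCmem _).1 (he i)).1
        rw [h6, mul_inv_cancel_left]
      rw [h5, ← cc_cc]
      exact cc_le (hZK hi) (h3 i)
    have h2 : cc n (RQ H) ≤ K := by
      have := h4 1 (one_mem _)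
      rwa [cc_one] at this
    have hZK' : cc n Z ≤ K := (cc_mono H.Z_le_RQ).trans h2
    have hnK : n ∈ K := (sup_le hZK hZK') hn
    -- `C` normalises `K`
    have hCK : ∀ c ∈ C, ∀ y ∈ K, c * y * c⁻¹ ∈ K := by
      intro c hc
      have h5 : K ≤ K.comap (MulAut.conj c).toMonoidHom := by
        rw [hK, Subgroup.closure_le, ← hK]
        rintro y (hy | hy)
        · rw [Set.mem_singleton_iff] at hy
          show c * y * c⁻¹ ∈ K
          rw [hy, ((hCmem c).1 hc).2, mul_inv_cancel_right]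
          exact hxK
        · obtain ⟨a, ha⟩ := Set.mem_iUnion.1 hy
          show c * y * c⁻¹ ∈ K
          rcases a with _ | i
          · have ha' : y ∈ RQ H := ha
            have h6 : c * y * c⁻¹ = ⁅c, y⁆ * y := by rw [commutatorElement_def]; group
            rw [h6]
            exact mul_mem (hZK (H.c2.com c ((hCmem c).1 hc).1 y (H.RQ_le ha'))) (h1 ha')
          · have ha' : y ∈ cc (e i) (cc n (RQ H)) := ha
            have h6 := h4 (c * e i) (mul_mem hc (he i))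
            rw [← cc_cc] at h6
            exact h6 (conj_mem_cc ha')
      exact fun y hy => h5 hy
    have hfinK : Finite K := inferInstance
    have hnorm : K.Normal := by
      rw [← Subgroup.normalizer_eq_top_iff, eq_top_iff, ← hgen]
      have hQN : Q ≤ normalizer (K : Set Y) := by
        intro w hw
        obtain ⟨c, hc, v, hv, hxc, rfl⟩ := H.decomp hw
        exact mul_mem (norm_iff.2 (hCK c ((hCmem c).2 ⟨hc, hxc.symm⟩))) (Subgroup.le_normalizer (h1 hv))
      exact sup_le hQN (cc_le (Subgroup.le_normalizer hnK) hQN)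
    rcases hs.eq_bot_or_eq_top_of_normal K hnorm with h5 | h5
    · exfalso
      rw [h5, mem_bot] at hxK
      obtain ⟨w, -, hw⟩ := hx
      apply hw
      rw [hxK, one_mul, mul_one]
    · exact h5
  have h4 := T3M_uGood hM1 R hR hcl
  have h5 : Fintype.card (Option (Fin d)) = d + 1 := by
    rw [Fintype.card_option, Fintype.card_fin]
  rw [h5] at h4
  have h6 : M + (d + 1) - 1 = M + d := by omega
  rwa [h6] at h4

end Abs

variable {I W Y : Type*} [Fintype I] [DecidableEq I] [Group W] [Group Y] {M : CoxeterMatrix I}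
  {cs : CoxeterSystem M W} {A : I → I → ℤ} {h : IsCartan M A} {p : ℕ} {T : Subgroup Y} {n : I → Y}
  {X : (I → ℤ) → Subgroup Y}

/-- **The input of the Heisenberg lemmas** for a long root. -/
theorem rgd_input {R : RGD cs h p T n X} {r : I → ℤ} [Finite W] [Finite Y] [Fact p.Prime] (H : Hs R r)
    (hs : IsSimpleGroup Y) (hcen : Subgroup.center Y = ⊥) (hG1 : Cfsg.Agent.Nodes.RGDLib.G1 cs h X = ⊤) {ℓ k : ℕ}
    (hℓ : ℓ.Prime) (hℓp : ℓ ≠ p) {x : Y} (hx : x ∈ L0 cs h X r) (hxk : x ^ ℓ ^ k = 1) (hx1 : x ≠ 1)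
    (hQp : IsPGroup p (QQ cs h X r)) :
    ∃ m : Y, HX p (ℓ ^ k) (X r) (QQ cs h X r) x ∧ m ∈ X r ⊔ cc m (X r) ∧ cc m (X r) = X (-r) ∧
      QQ cs h X r ⊔ cc m (QQ cs h X r) = ⊤ ∧ m * x = x * m ∧ ∃ w ∈ QQ cs h X r, x * w ≠ w * x := by
  have hp : p.Prime := Fact.out
  have hr := H.L.root
  obtain ⟨m, hm, hmX⟩ := exists_refl R hr
  have hcj : cj m (X r) = X (-r) := by
    rw [hmX r hr, cpr_self cs h hr]
    congr 1
    rw [two_smul]; abel
  have hcjQ := cj_QQ (R := R) hr hmX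
  have HXx : HX p (ℓ ^ k) (X r) (QQ cs h X r) x := by
    refine ⟨c2_of_hs H, fun a ha haz z hz => H.surj ha haz hz, hQp, hxk, ?_, ?_, L0_norm H hx⟩
    · intro s
      exact Nat.Coprime.pow _ _ ((Nat.coprime_primes hℓ hp).2 hℓp)
    · intro z hz
      exact L0_comm H hx (Subgroup.mem_sup_left hz)
  have hgen : QQ cs h X r ⊔ cc m (QQ cs h X r) = ⊤ := by
    rw [cc_eq_cj, hcjQ]
    exact sup_QQ_eq_top H hs hG1
  have hmx : m * x = x * m := (L0_comm H hx hm).symm
  refine ⟨m, HXx, ?_, hcj, hgen, hmx, ?_⟩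
  · rw [cc_eq_cj, hcj]; exact hm
  · by_contra hcon
    push Not at hcon
    apply hx1
    have h1 : (⊤ : Subgroup Y) ≤ Subgroup.centralizer {x} := by
      rw [← hgen]
      have h2 : QQ cs h X r ≤ Subgroup.centralizer {x} := fun w hw =>
        Subgroup.mem_centralizer_singleton_iff.2 (hcon w hw).symm
      exact sup_le h2 (cc_le (Subgroup.mem_centralizer_singleton_iff.2 hmx) h2)
    rw [← Subgroup.mem_bot, ← hcen, Subgroup.mem_center_iff]
    intro y
    exact Subgroup.mem_centralizer_singleton_iff.1 (h1 (Subgroup.mem_top y))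

end Cfsg.Agent.H441.FPR.Heis
end

-- part: H441/FPR/HeisB
section
/-!
# Elements of prime order in the Levi subgroup `L₀` of a long root
-/

set_option autoImplicit false
set_option linter.unusedSectionVars false
set_option linter.unusedVariables false

namespace Cfsg.Agent.H441.FPR.Heis

open CoxeterSystem Cfsg.Agent.ChevalleyStructure.CoxeterGeom Cfsg.Agent.Tits.Roots Cfsg.Agent.Tits.Core
  Cfsg.Agent.Tits.Exchange Cfsg.Agent.Nodes.Reps Cfsg.Agent.Nodes.BNOf Cfsg.Agent.Nodes.StabComb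
  Cfsg.Agent.Nodes.Bruhat Cfsg.Agent.Nodes.OppDec Cfsg.Agent.Nodes.PosPair Cfsg.Agent.Nodes.Coroot
  Cfsg.Agent.KFacts.RgdPar Cfsg.Agent.KFacts.RgdSL Cfsg.Agent.KFacts.RgdTI Cfsg.Agent.Nodes.LeviDec
open Cfsg.Agent.H400.TwoExc Cfsg.Agent.H400.Fpr
open Cfsg.Agent.H398.FPR (CommFull UGood Pair)
open Cfsg.Agent.H435.Fpr (PairM T3M_uGood)
open Subgroup MulAction
open scoped commutatorElement Pointwise

section Abs

variable {Y : Type*} [Group Y]

theorem mul_norm {A B : Subgroup Y} (hAB : ∀ a ∈ A, ∀ b ∈ B, a * b * a⁻¹ ∈ B) {y : Y} (hy : y ∈ A ⊔ B) :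
    ∃ a ∈ A, ∃ b ∈ B, y = a * b := by
  let S : Subgroup Y :=
    { carrier := {y | ∃ a ∈ A, ∃ b ∈ B, y = a * b}
      one_mem' := ⟨1, one_mem _, 1, one_mem _, by simp⟩
      mul_mem' := by
        rintro _ _ ⟨a, ha, b, hb, rfl⟩ ⟨a', ha', b', hb', rfl⟩
        refine ⟨a * a', mul_mem ha ha', (a'⁻¹ * b * a') * b', mul_mem ?_ hb', by group⟩
        have := hAB a'⁻¹ (inv_mem ha') b hb
        rwa [inv_inv] at this
      inv_mem' := by
        rintro _ ⟨a, ha, b, hb, rfl⟩
        exact ⟨a⁻¹, inv_mem ha, a * b⁻¹ * a⁻¹, hAB a ha _ (inv_mem hb), by group⟩ }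
  have h1 : A ⊔ B ≤ S := sup_le (fun a ha => ⟨a, ha, 1, one_mem _, by simp⟩) (fun b hb => ⟨1, one_mem _, b, hb, by simp⟩)
  exact h1 hy

theorem pow_mul_norm {A B : Subgroup Y} (hAB : ∀ a ∈ A, ∀ b ∈ B, a * b * a⁻¹ ∈ B) {a b : Y} (ha : a ∈ A) (hb : b ∈ B)
    (k : ℕ) : ∃ b' ∈ B, (a * b) ^ k = a ^ k * b' := by
  induction k with
  | zero => exact ⟨1, one_mem _, by simp⟩
  | succ k ih =>
    obtain ⟨b', hb', h1⟩ := ih
    refine ⟨(a⁻¹ * b' * a) * b, mul_mem ?_ hb, ?_⟩
    · have := hAB a⁻¹ (inv_mem ha) b' hb'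
      rwa [inv_inv] at this
    · rw [pow_succ, h1, pow_succ]; group

/-- elements of prime order in a product -/
theorem exists_mem_left [Finite Y] {A B : Subgroup Y} (hAB : ∀ a ∈ A, ∀ b ∈ B, a * b * a⁻¹ ∈ B) {ℓ N : ℕ}
    (hℓ : ℓ.Prime) (hN : N.Coprime ℓ) (hB : ∀ b ∈ B, ∃ s : ℕ, b ^ N ^ s = 1) {y : Y} (hy : y ∈ A ⊔ B)
    (ho : orderOf y = ℓ) : ∃ a ∈ A, orderOf a = ℓ := by
  obtain ⟨a, ha, b, hb, rfl⟩ := mul_norm hAB hy
  obtain ⟨b', hb', h1⟩ := pow_mul_norm hAB ha hb (orderOf a)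
  rw [pow_orderOf_eq_one, one_mul] at h1
  obtain ⟨s, hs⟩ := hB b' hb'
  have h2 : ℓ ∣ orderOf a := by
    have h3 : (a * b) ^ (orderOf a * N ^ s) = 1 := by rw [pow_mul, h1, hs]
    have h4 := orderOf_dvd_of_pow_eq_one h3
    rw [ho] at h4
    exact ((hN.symm.pow_right s)).dvd_of_dvd_mul_right h4
  obtain ⟨c, hc⟩ := h2
  have hc0 : c ≠ 0 := by
    rintro rfl
    rw [mul_zero] at hc
    exact (orderOf_pos a).ne' hc
  refine ⟨a ^ c, pow_mem ha c, ?_⟩
  rw [orderOf_pow_of_dvd hc0 ⟨ℓ, by rw [hc, mul_comm]⟩, hc]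
  exact Nat.mul_div_cancel _ (Nat.pos_of_ne_zero hc0)

theorem mem_right_of_coprime [Finite Y] {A B : Subgroup Y} (hAB : ∀ a ∈ A, ∀ b ∈ B, a * b * a⁻¹ ∈ B) {ℓ N : ℕ}
    (hN : N.Coprime ℓ) (hA : ∀ a ∈ A, a ^ N = 1) {y : Y} (hy : y ∈ A ⊔ B)
    (ho : orderOf y = ℓ) : y ∈ B := by
  obtain ⟨a, ha, b, hb, hab⟩ := mul_norm hAB hy
  obtain ⟨b', hb', h1⟩ := pow_mul_norm hAB ha hb N
  rw [hA a ha, one_mul, ← hab] at h1
  refine mem_of_coprime_pow hN (by rw [h1]; exact hb') (n := ℓ) ?_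
  rw [← ho, pow_orderOf_eq_one]
  exact one_mem _

end Abs

variable {I W Y : Type*} [Fintype I] [DecidableEq I] [Group W] [Group Y] {M : CoxeterMatrix I}
  {cs : CoxeterSystem M W} {A : I → I → ℤ} {h : IsCartan M A} {p : ℕ} {T : Subgroup Y} {n : I → Y}
  {X : (I → ℤ) → Subgroup Y}

theorem tor_Sup (R : RGD cs h p T n X) {S : Set (I → ℤ)} (hS : ∀ s ∈ S, IsRoot cs h s) {t : Y} (ht : t ∈ T) :
    ∀ y ∈ RGD.Sup X S, t * y * t⁻¹ ∈ RGD.Sup X S := by
  have h1 : RGD.Sup X S ≤ (RGD.Sup X S).comap (MulAut.conj t).toMonoidHom := by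
    refine RGD.Sup_le fun s hs v hv => ?_
    show t * v * t⁻¹ ∈ RGD.Sup X S
    refine RGD.le_Sup hs ?_
    rw [← R.tor s (hS s hs) t ht]
    exact conj_mem_cj.2 hv
  exact fun y hy => h1 hy

/-- **Elements of prime order in `L₀`.** -/
theorem exists_L0 {R : RGD cs h p T n X} {r : I → ℤ} [Finite W] [Finite Y] [Fact p.Prime] (H : Hs R r)
    {ℓ N : ℕ} (hℓ : ℓ.Prime) (hℓp : ℓ ≠ p) (hN : N.Coprime ℓ) (hT : ∀ t ∈ T, t ^ N = 1)
    (hQp : IsPGroup p (QQ cs h X r)) (hd : ℓ ∣ Nat.card (PS T X (Ge cs h r))) :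
    ∃ x ∈ L0 cs h X r, orderOf x = ℓ := by
  have : Fact ℓ.Prime := ⟨hℓ⟩
  have hp : p.Prime := Fact.out
  obtain ⟨y, hy⟩ := exists_prime_orderOf_dvd_card' ℓ hd
  have hyo : orderOf (y : Y) = ℓ := by rw [Subgroup.orderOf_coe]; exact hy
  have hSup : PS T X (Ge cs h r) ≤ T ⊔ (L0 cs h X r ⊔ QQ cs h X r) := by
    refine sup_le_sup_left ?_ _
    refine RGD.Sup_le fun s hs => ?_
    rcases lt_or_eq_of_le hs.2 with h0 | h0
    · exact (RGD.le_Sup (S := Gt cs h r) ⟨hs.1, h0⟩).trans le_sup_right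
    · exact (RGD.le_Sup (S := {s | IsRoot cs h s ∧ cpr cs h s r = 0}) ⟨hs.1, h0.symm⟩).trans le_sup_left
  have hT1 : ∀ t ∈ T, ∀ y ∈ L0 cs h X r ⊔ QQ cs h X r, t * y * t⁻¹ ∈ L0 cs h X r ⊔ QQ cs h X r := by
    intro t ht
    have h1 : L0 cs h X r ⊔ QQ cs h X r ≤ (L0 cs h X r ⊔ QQ cs h X r).comap (MulAut.conj t).toMonoidHom := by
      refine sup_le ?_ ?_
      · intro y hy
        exact Subgroup.mem_sup_left (tor_Sup R (S := {s | IsRoot cs h s ∧ cpr cs h s r = 0}) (fun s hs => hs.1) ht y hy)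
      · intro y hy
        exact Subgroup.mem_sup_right (tor_Sup R (S := Gt cs h r) (fun s hs => hs.1) ht y hy)
    exact fun y hy => h1 hy
  have h2 := mem_right_of_coprime hT1 hN hT (hSup y.2) hyo
  refine exists_mem_left (N := p) (fun a ha b hb => L0_norm H ha b hb) hℓ ((Nat.coprime_primes hp hℓ).2 hℓp.symm) ?_ h2 hyo
  intro b hb
  obtain ⟨s, hs⟩ := hQp ⟨b, hb⟩
  exact ⟨s, congrArg Subtype.val hs⟩

/-- transport of the scalar element -/
theorem ScR.act {R : RGD cs h p T n X} {r : I → ℤ} [Finite W] (hr : IsRoot cs h r) {q : ℕ} {g : Y} (S : ScR R r q g)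
    {w : W} {k : Y} (hk : Rp cs R.nsys w k) : ScR R (rep cs h w r) q (k * g * k⁻¹) := by
  have hGt : ∀ s ∈ Gt cs h (rep cs h w r), rep cs h w⁻¹ s ∈ Gt cs h r := by
    intro s hs
    refine ⟨hs.1.act _, ?_⟩
    have h1 := hs.2
    have h2 : s = rep cs h w (rep cs h w⁻¹ s) := by
      rw [← rep_mul_apply, mul_inv_cancel, map_one, Module.End.one_apply]
    rw [h2, cpr_rep cs h w _ hr] at h1
    exact h1
  have hX : ∀ s ∈ Gt cs h (rep cs h w r), ∀ u ∈ X s, k⁻¹ * u * k ∈ X (rep cs h w⁻¹ s) := fun s hs u hu =>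
    R.conj_mem' hk hs.1 hu
  have hX' : ∀ s ∈ Gt cs h (rep cs h w r), ∀ u ∈ X (rep cs h w⁻¹ s), k * u * k⁻¹ ∈ X s := by
    intro s hs u hu
    have h1 := R.conj_mem hk (hs.1.act w⁻¹) hu
    rwa [← rep_mul_apply, mul_inv_cancel, map_one, Module.End.one_apply] at h1
  refine ⟨S.two, ?_, ?_, ?_⟩
  · have h1 : cj k (X r ⊔ X (-r)) = X (rep cs h w r) ⊔ X (-rep cs h w r) := by
      unfold cj
      rw [Subgroup.map_sup]
      congr 1
      · exact R.conj_rp hk hr
      · have := R.conj_rp hk hr.neg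
        rw [map_neg] at this
        exact this
    rw [← h1]
    exact conj_mem_cj.2 S.mem
  · intro s hs u hu
    have h1 := hX' s hs _ (S.nor _ (hGt s hs) _ (hX s hs u hu))
    have h2 : k * (g * (k⁻¹ * u * k) * g⁻¹) * k⁻¹ = k * g * k⁻¹ * u * (k * g * k⁻¹)⁻¹ := by group
    rwa [h2] at h1
  · intro i hi hiq s hs hsr u hu
    have h3 : rep cs h w⁻¹ s ≠ r := by
      intro h4
      apply hsr
      rw [← h4, ← rep_mul_apply, mul_inv_cancel, map_one, Module.End.one_apply]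
    obtain ⟨u', hu', h1⟩ := S.sur i hi hiq _ (hGt s hs) h3 _ (hX s hs u hu)
    refine ⟨k * u' * k⁻¹, hX' s hs _ hu', ?_⟩
    have h2 : (k * g * k⁻¹) ^ i = k * g ^ i * k⁻¹ := conj_pow
    rw [h2]
    have h5 : ⁅k * g ^ i * k⁻¹, k * u' * k⁻¹⁆ = k * ⁅g ^ i, u'⁆ * k⁻¹ := by
      simp only [commutatorElement_def]; group
    rw [h5, h1]
    group

/-- both Heisenberg lemmas for a long root, given the order of `C_Q(x)` -/
theorem uGood_scalar {R : RGD cs h p T n X} {r : I → ℤ} [Finite W] [Finite Y] [Fact p.Prime] (H : Hs R r)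
    (hs : IsSimpleGroup Y) (hcen : Subgroup.center Y = ⊥) (hG1 : Cfsg.Agent.Nodes.RGDLib.G1 cs h X = ⊤)
    {q D ℓ k M' : ℕ} {g : Y} (S : ScR R r q g)
    (hℓ : ℓ.Prime) (hℓp : ℓ ≠ p) {x : Y} (hx : x ∈ L0 cs h X r) (hxk : x ^ ℓ ^ k = 1) (hx1 : x ≠ 1)
    (hQp : IsPGroup p (QQ cs h X r))
    (hcard : Nat.card ↥(QQ cs h X r ⊓ centralizer {x}) < q ^ (D + 1) * Nat.card (X r))
    (hM : ∀ t : ℕ, t ≠ 0 → p ^ t ≡ 1 [MOD ℓ] → M' ≤ p ^ t) (hM1 : 1 ≤ M') :
    UGood (D + 2) (M' + D + 1) x := by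
  obtain ⟨m, HXx, hm, hcj, hgen, hmx, hne⟩ := rgd_input H hs hcen hG1 hℓ hℓp hx hxk hx1 hQp
  refine heis_uGoodC (Fact.out : p.Prime) hℓ rfl HXx (S.sc H) hm ?_ hgen hmx (L0_comm H hx S.mem).symm hne hcard hM hM1
  rw [hcj]
  exact S.mem

theorem uGood_small {R : RGD cs h p T n X} {r : I → ℤ} [Finite W] [Finite Y] [Fact p.Prime] (H : Hs R r)
    (hs : IsSimpleGroup Y) (hcen : Subgroup.center Y = ⊥) (hG1 : Cfsg.Agent.Nodes.RGDLib.G1 cs h X = ⊤)
    {d ℓ k M' : ℕ} (hℓ : ℓ.Prime) (hℓp : ℓ ≠ p) {x : Y} (hx : x ∈ L0 cs h X r) (hxk : x ^ ℓ ^ k = 1) (hx1 : x ≠ 1)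
    (hQp : IsPGroup p (QQ cs h X r))
    (hcard : Nat.card ↥(QQ cs h X r ⊓ centralizer {x}) ≤ d * Nat.card (X r)) (hd : 0 < d)
    (hM : ∀ t : ℕ, t ≠ 0 → p ^ t ≡ 1 [MOD ℓ] → M' ≤ p ^ t) (hM1 : 1 ≤ M') :
    UGood (d + 1) (M' + d) x := by
  obtain ⟨m, HXx, hm, hcj, hgen, hmx, hne⟩ := rgd_input H hs hcen hG1 hℓ hℓp hx hxk hx1 hQp
  exact heis_small (Fact.out : p.Prime) hℓ rfl HXx hm hs hgen hmx hne hcard hd hM hM1

end Cfsg.Agent.H441.FPR.Heis
end

-- part: H441/FPR/HeisC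
section
/-!
# The Heisenberg lemma for the Chevalley groups
-/

set_option autoImplicit false
set_option linter.unusedSectionVars false
set_option linter.unusedVariables false

namespace Cfsg.Agent.H441.FPR.Heis

open CoxeterSystem Cfsg.Agent.ChevalleyStructure.CoxeterGeom Cfsg.Agent.Tits.Roots Cfsg.Agent.Tits.Core
  Cfsg.Agent.Nodes.Reps Cfsg.Agent.Nodes.BNOf Cfsg.Agent.Nodes.Coroot Cfsg.Agent.Nodes.LeviDec
  Cfsg.Agent.Nodes.PosPair Cfsg.Agent.Nodes.StabComb
  Cfsg.Agent.KFacts.RgdPar Cfsg.Agent.KFacts.RgdSL Cfsg.Agent.KFacts.RgdTI Cfsg.Agent.Nodes.RGDChev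
  Cfsg.Agent.ChevalleyStructure.CoxeterGeomTypes
open Cfsg.Lie Cfsg.Agent.ChevalleyStructure Cfsg.Agent.ChevalleyStructure.Elts Cfsg.Agent.ChevalleyStructure.NPerm
open Cfsg.Agent.KFacts.RgdChevCoord Cfsg.Agent.Nodes.ChevCls
open Cfsg.Agent.H400.TwoExc Cfsg.Agent.H400.Fpr
open Cfsg.Agent.FixBN.FieldRGD (uu vv dd ww)

universe u

variable {D : ChevalleyDatum} {l : ℕ} {M : CoxeterMatrix (Fin l)} (hp : IsType D l M) {K : Type u} [Field K]

/-- the torus elements act on the root groups by scalars -/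
theorem spar_hc {r : ℕ} (hr : r < D.nroots) (i : Fin l) {c : K} (hc0 : c ≠ 0) (h1 : D.cartan i r = 1) :
    SPar (XX D l K (vec D l r)) (hc hp i c) c := by
  refine ⟨⊤, xc hp (vec D l r), Subfield.mem_top _, ?_, ?_, ?_, ?_⟩
  · intro u
    rw [mem_XX hp hr]
    constructor
    · rintro ⟨a, rfl⟩
      exact ⟨a, Subfield.mem_top _, rfl⟩
    · rintro ⟨a, -, rfl⟩
      exact ⟨a, rfl⟩
  · intro a _ b _
    apply Subtype.ext
    rw [Subgroup.coe_mul, coe_xc hp hr, coe_xc hp hr, coe_xc hp hr]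
    exact (xG_add hp.inList r a b).symm
  · intro a _ b _ hab
    exact xc_inj hp hr hab
  · intro a _
    obtain ⟨-, h2⟩ := act hp hr (hc_mem hp i hc0)
    rw [h2 a, ch_hc hp i hc0 hr, h1, zpow_one]

theorem spar_hc_self (i : Fin l) {c : K} (hc0 : c ≠ 0) :
    SPar (XX D l K (sr i)) (hc hp i c) (c ^ 2) := by
  have hr := simple_lt hp.inList (lt_rank hp i)
  rw [← vec_simple hp i]
  refine ⟨⊤, xc hp (vec D l (D.simple i)), Subfield.mem_top _, ?_, ?_, ?_, ?_⟩
  · intro u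
    rw [mem_XX hp hr]
    constructor
    · rintro ⟨a, rfl⟩
      exact ⟨a, Subfield.mem_top _, rfl⟩
    · rintro ⟨a, -, rfl⟩
      exact ⟨a, rfl⟩
  · intro a _ b _
    apply Subtype.ext
    rw [Subgroup.coe_mul, coe_xc hp hr, coe_xc hp hr, coe_xc hp hr]
    exact (xG_add hp.inList _ a b).symm
  · intro a _ b _ hab
    exact xc_inj hp hr hab
  · intro a _
    obtain ⟨-, h2⟩ := act hp hr (hc_mem hp i hc0)
    rw [h2 a, ch_hc hp i hc0 hr, ← cartanOf_def D l i i, hp.isCartan.diag]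
    norm_num

/-- a generator of the multiplicative group -/
theorem exists_gen (K : Type u) [Field K] [Fintype K] :
    ∃ c : K, c ≠ 0 ∧ ∀ i : ℕ, 0 < i → i + 1 < Fintype.card K → c ^ i ≠ 1 := by
  obtain ⟨g, hg⟩ := IsCyclic.exists_generator (α := Kˣ)
  have h1 : orderOf g = Fintype.card K - 1 := by
    rw [orderOf_eq_card_of_forall_mem_zpowers hg, Nat.card_units, Nat.card_eq_fintype_card]
  refine ⟨g, g.ne_zero, fun i hi hiq h2 => ?_⟩
  have h3 : g ^ i = 1 := Units.ext (by rw [Units.val_pow_eq_pow_val, h2, Units.val_one])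
  have h4 := Nat.le_of_dvd hi (orderOf_dvd_of_pow_eq_one h3)
  omega

/-- **The scalar element.** -/
theorem scR_chev [Fintype K] {W : Type*} [Group W] [Finite W] (cs : CoxeterSystem M W) (p : ℕ) [Fact p.Prime] [CharP K p]
    {i : Fin l} {w : W} {r : Fin l → ℤ} (hw : rep cs hp.isCartan w (sr i) = r)
    (hone : ∀ s ∈ Gt cs hp.isCartan (sr i), s ≠ sr i → cpr cs hp.isCartan s (sr i) = 1) (hK : 2 < Fintype.card K) :
    ∃ g, ScR (rgd (K := K) hp cs p) r (Fintype.card K) g := by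
  obtain ⟨c, hc0, hcc⟩ := exists_gen K
  have S : ScR (rgd (K := K) hp cs p) (sr i) (Fintype.card K) (hc hp i c) := by
    refine scR_of_par (t := c) hK ?_ ?_ (spar_hc_self hp i hc0) hcc
    · obtain ⟨φ, -, -, -, h4, h5⟩ := Cfsg.Agent.OddHalf.NI.ModelChev.exists_sl_node hp (K := K) i
      have h6 : φ (dd c hc0) ∈ φ.range := ⟨_, rfl⟩
      rw [h4, h5] at h6
      exact h6
    · intro s hs hsr
      obtain ⟨k, hk, rfl⟩ := (isRoot_iff hp cs _).1 hs.1
      have h1 := hone _ hs hsr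
      rw [cpr_sr, pairing_vec hp i hk] at h1
      exact spar_hc hp hk i hc0 h1
  obtain ⟨k, hk⟩ := exists_rp cs (rgd (K := K) hp cs p).nsys w
  rw [← hw]
  exact ⟨_, ScR.act (isRoot_sr cs hp.isCartan i) S hk⟩

include hp in
/-- the exponent of the torus -/
theorem tor_pow [Fintype K] {t : ↥(D.group K)} (ht : t ∈ TT D K) : t ^ (Fintype.card K - 1) = 1 := by
  rw [Subgroup.mem_subgroupOf] at ht
  obtain ⟨χ, hχ⟩ := HMatDiagAll.mem_torus.1 (HMatDiagAll.diagonalSubgroup_le_torus hp.inList ht)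
  have hinv : (((t⁻¹ : ↥(D.group K)) : GL D.Idx K) : Matrix D.Idx D.Idx K) * ((t : GL D.Idx K) : Matrix _ _ K) = 1 := by
    rw [← Units.val_mul, ← Subgroup.coe_mul, inv_mul_cancel]; rfl
  have hne : ∀ i, χ i ≠ 0 := by
    intro i h0
    rw [hχ] at hinv
    have h1 := congrFun (congrFun hinv (Sum.inr i)) (Sum.inr i)
    rw [Matrix.mul_diagonal, Matrix.one_apply_eq, Sum.elim_inr, h0, mul_zero] at h1
    exact zero_ne_one h1
  apply Subtype.ext
  apply Units.ext
  rw [Subgroup.coe_pow, Units.val_pow_eq_pow_val, hχ, Matrix.diagonal_pow, Subgroup.coe_one, Units.val_one,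
    ← Matrix.diagonal_one]
  congr 1
  funext i
  rcases i with i | i
  · simp
  · rw [Pi.pow_apply, Sum.elim_inr]
    exact FiniteField.pow_card_sub_one_eq_one _ (hne i)

end Cfsg.Agent.H441.FPR.Heis
end

-- part: H441/FPR/HeisD
section
/-!
# The Heisenberg lemma for the Chevalley groups: the data
-/

set_option autoImplicit false
set_option linter.unusedSectionVars false
set_option linter.unusedVariables false

namespace Cfsg.Agent.H441.FPR.Heis

open CoxeterSystem Cfsg.Agent.ChevalleyStructure.CoxeterGeom Cfsg.Agent.Tits.Roots Cfsg.Agent.Tits.Core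
  Cfsg.Agent.Nodes.Reps Cfsg.Agent.Nodes.BNOf Cfsg.Agent.Nodes.Coroot Cfsg.Agent.Nodes.LeviDec
  Cfsg.Agent.Nodes.PosPair Cfsg.Agent.Nodes.StabComb Cfsg.Agent.Nodes.KindChev Cfsg.Agent.KFacts.RgdCent
  Cfsg.Agent.Nodes.Bruhat Cfsg.Agent.Nodes.OppDec Cfsg.Agent.Tits.Exchange
  Cfsg.Agent.KFacts.RgdPar Cfsg.Agent.KFacts.RgdSL Cfsg.Agent.KFacts.RgdTI Cfsg.Agent.Nodes.RGDChev
  Cfsg.Agent.ChevalleyStructure.CoxeterGeomTypes
open Cfsg.Lie Cfsg.Agent.ChevalleyStructure Cfsg.Agent.ChevalleyStructure.Elts Cfsg.Agent.ChevalleyStructure.NPerm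
open Cfsg.Agent.KFacts.RgdChevCoord Cfsg.Agent.Nodes.ChevCls
open Cfsg.Agent.H400.TwoExc Cfsg.Agent.H400.Fpr
open Cfsg.Agent.H398.FPR (UGood)

universe u

/-- the data of a long root -/
structure HB {D : ChevalleyDatum} {l : ℕ} {M : CoxeterMatrix (Fin l)} (hp : IsType D l M) (K : Type u) [Field K]
    [Fintype K] {W : Type} [Group W] [Finite W] (cs : CoxeterSystem M W) (p : ℕ) [Fact p.Prime] [CharP K p]
    (r : Fin l → ℤ) (k : ℕ) (ex : List (ℕ × ℕ)) : Prop where
  lr : LR (rgd (K := K) hp cs p) r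
  cardX : Nat.card (XX D l K r) = Fintype.card K
  cardQ : Nat.card (QQ cs hp.isCartan (XX D l K) r) = Fintype.card K ^ (2 * k + 1)
  index : (PS (TT D K) (XX D l K) (Ge cs hp.isCartan r)).index =
    (ex.map fun z => Fintype.card K ^ z.1 + Fintype.card K ^ z.2).sum
  long : ∃ (i : Fin l) (w : W), rep cs hp.isCartan w (sr i) = r ∧
    ∀ s ∈ Gt cs hp.isCartan (sr i), s ≠ sr i → cpr cs hp.isCartan s (sr i) = 1

/-- the data of a long root, with the Heisenberg group -/
structure HD {D : ChevalleyDatum} {l : ℕ} {M : CoxeterMatrix (Fin l)} (hp : IsType D l M) (K : Type u) [Field K]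
    [Fintype K] {W : Type} [Group W] [Finite W] (cs : CoxeterSystem M W) (p : ℕ) [Fact p.Prime] [CharP K p]
    (r : Fin l → ℤ) (k : ℕ) (ex : List (ℕ × ℕ)) : Prop extends HB hp K cs p r k ex where
  hs : Hs (rgd (K := K) hp cs p) r

section SL

variable {D : ChevalleyDatum} {l : ℕ} {M : CoxeterMatrix (Fin l)} (hp : IsType D l M) {K : Type u} [Field K]
  [Fintype K]

theorem hd_SL {W : Type} [Group W] [Finite W] (cs : CoxeterSystem M W) (p : ℕ) [Fact p.Prime] [CharP K p]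
    (h4 : ∀ i j, M i j ≠ 4) (h6 : ∀ i j, M i j ≠ 6)
    {CA : List (List ℤ)} {dl : List ℤ} {P : List (List ℤ × List ℤ × ℕ)}
    (hA : ∀ i : Fin l, CA.getD i [] = List.ofFn (cartanOf D l i))
    (hdl : ∀ i : Fin l, dl.getD i 0 = 1) (hck : chkT l CA dl (fun _ => 1) P = true) {rl : List ℤ}
    (hdm : domL l CA P 2 = [rl]) {k : ℕ} (hgt : cntF P (fun z => decide (0 < z)) rl = 2 * k + 1) (i₀ : Fin l)
    (hi₀ : dotL (CA.getD i₀ []) rl = 1) {ex : List (ℕ × ℕ)} (hex : expF P 2 = ex) :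
    HD hp K cs p (toV rl) k ex := by
  have R := rgd (K := K) hp cs p
  have hG1 := G1_eq_top (K := K) hp cs
  have hs : SL cs hp.isCartan := fun _ _ hx hy => Nodes.SimplyLaced.cpr_symm cs _ h4 h6 hx hy
  have hG : GG cs hp.isCartan (TT D K) (XX D l K) = ⊤ := KFacts.RgdRigid.GG_eq_top hG1
  obtain ⟨H, F⟩ := of_chkT hA hck (e := fun _ => 1) (fun _ _ => rfl)
  set d : Fin l → ℤ := toV dl with hd
  have hd1 : d = fun _ => 1 := by
    funext i; exact hdl i
  have hAs : ∀ i j, cartanOf D l i j = cartanOf D l j i := by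
    intro i j
    have h1 := hs (sr j) (sr i) (isRoot_sr cs hp.isCartan j) (isRoot_sr cs hp.isCartan i)
    rw [cpr_sr, cpr_sr] at h1
    have h2 : ∀ a b : Fin l, pairing (cartanOf D l) a (sr b) = cartanOf D l a b := by
      intro a b
      unfold pairing sr
      simp only [Pi.single_apply, _root_.mul_ite, _root_.mul_one, _root_.MulZeroClass.mul_zero, _root_.Finset.sum_ite_eq', _root_.Finset.mem_univ, ↓ _root_.reduceIte]
    rwa [h2, h2] at h1
  have hdA : ∀ i j, d i * cartanOf D l i j = d j * cartanOf D l j i := by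
    intro i j
    rw [hd1, one_mul, one_mul, hAs]
  have hqr : ∀ s, IsRoot cs hp.isCartan s → qf (cartanOf D l) d s s = 2 := by
    rintro _ ⟨w, i, rfl⟩
    rw [qf_root cs hp.isCartan hdA, hd1, mul_one]
  -- the dominant root
  have hrl : rl ∈ domL l CA P 2 := by rw [hdm]; exact List.mem_singleton_self _
  unfold domL at hrl
  obtain ⟨pr, hpr, hpe⟩ := List.mem_map.1 hrl
  rw [List.mem_filter, Bool.and_eq_true, List.all_eq_true] at hpr
  obtain ⟨hprP, hpr1, -⟩ := hpr
  set r : Fin l → ℤ := toV rl with hr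
  have hrL : r ∈ P.map fun p => (toV p.1 : Fin l → ℤ) := List.mem_map.2 ⟨pr, hprP, by rw [hpe]⟩
  have hrr : IsRoot cs hp.isCartan r := H.isRoot hrL
  have hrlen : rl.length = l := by rw [← hpe]; exact (F.row pr hprP).1
  have hr1 : ∀ i, 0 ≤ pairing (cartanOf D l) i r := by
    intro i
    have h1 := hpr1 i (List.mem_range.2 i.2)
    rw [decide_eq_true_iff, hpe] at h1
    rw [hr, pairing_toV hA i hrlen]
    exact h1
  have hN : qf (cartanOf D l) d r r = 2 := hqr r hrr
  have hdom := dom_of_chk hA F hdm hN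
  have hdr : ∀ i, 0 ≤ cpr cs hp.isCartan (sr i) r := by
    intro i
    rw [hs _ _ (isRoot_sr cs hp.isCartan i) hrr, cpr_sr]; exact hr1 i
  have horb : ∀ s, IsRoot cs hp.isCartan s → ∃ w : W, rep cs hp.isCartan w r = s := by
    intro s hs'
    exact (orbit_iff H hdA hdom hs').2 (by rw [hqr s hs', hN])
  have h1r : cpr cs hp.isCartan r (sr i₀) = 1 := by
    rw [cpr_sr, hr, pairing_toV hA i₀ hrlen, hi₀]
  have hL : ∀ a, IsRoot cs hp.isCartan a → LR R a := by
    refine lr_all R hs fun a ha => ?_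
    obtain ⟨w, rfl⟩ := horb a ha
    exact ⟨rep cs hp.isCartan w (sr i₀), (isRoot_sr cs hp.isCartan i₀).act w, by
      rw [cpr_rep cs hp.isCartan w _ (isRoot_sr cs hp.isCartan i₀)]; exact h1r⟩
  have hcard : ∀ s, IsRoot cs hp.isCartan s → Nat.card (XX D l K s) = Fintype.card K := by
    rintro _ ⟨w, i, rfl⟩
    rw [Nodes.CardSup.card_X_rep R w (isRoot_sr cs hp.isCartan i),
      Nat.card_congr (Subgroup.subgroupOfEquivOfLe (XV_le_group hp _)).toEquiv, XV_sr hp i,
      card_rootSubgroup hp (NPerm.simple_lt hp.inList (lt_rank hp i)), Nat.card_eq_fintype_card]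
  have hcard' : ∀ t ∈ P.map (fun p => (toV p.1 : Fin l → ℤ)), Nat.card (XX D l K t) = Fintype.card K ^ 1 := by
    intro t ht
    rw [hcard t (H.isRoot ht), pow_one]
  have hindex := index_tab (R := R) hG H hdA (hL r hrr) (by rw [hN]; norm_num) hr1 hdom (q := Fintype.card K)
    (fun _ => 1) hcard'
  rw [F.sum_eq, hN, hex] at hindex
  refine ⟨⟨hL r hrr, hcard r hrr, ?_, hindex, ?_⟩, Hs.of_SL R hs hrr (isRoot_sr cs hp.isCartan i₀) h1r⟩
  · rw [card_QQ R H hdA hrr (by rw [hN]; norm_num) hdr (fun _ => 1) hcard', ← hgt]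
    congr 1
    have := F.cnt_eq hprP (fun z => decide (0 < z))
    rw [hpe] at this
    exact this
  · obtain ⟨w, hw⟩ := horb (sr i₀) (isRoot_sr cs hp.isCartan i₀)
    refine ⟨i₀, w⁻¹, ?_, ?_⟩
    · rw [← hw, ← rep_mul_apply, inv_mul_cancel, map_one, Module.End.one_apply]
    · intro s hs' hsr
      have h0 := hs'.2
      have h2 : s ≠ -sr i₀ := by
        rintro rfl
        rw [cpr_neg_left _ (isRoot_sr cs hp.isCartan i₀), cpr_self cs hp.isCartan (isRoot_sr cs hp.isCartan i₀)] at h0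
        omega
      have h3 := hs.abs_le hs'.1 (isRoot_sr cs hp.isCartan i₀) hsr h2
      omega

theorem hd_E6 {W : Type} [Group W] [Finite W] (cs : CoxeterSystem CoxeterMatrix.E₆ W) (p : ℕ) [Fact p.Prime] [CharP K p] :
    HD (D := chevE6) (l := 6) (M := CoxeterMatrix.E₆) (by simp [IsType, typeList]) K cs p (toV [1, 2, 2, 3, 2, 1]) 10 exE6 :=
  hd_SL _ cs p ne_E6.1 ne_E6.2 (CA := CAE6) (by decide +kernel) (dl := dlE6) (by decide +kernel)
    chkE6 domE6 (k := 10) gtE6 1 (by decide +kernel) expE6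

theorem hd_E7 {W : Type} [Group W] [Finite W] (cs : CoxeterSystem CoxeterMatrix.E₇ W) (p : ℕ) [Fact p.Prime] [CharP K p] :
    HD (D := chevE7) (l := 7) (M := CoxeterMatrix.E₇) (by simp [IsType, typeList]) K cs p (toV [2, 2, 3, 4, 3, 2, 1]) 16 exE7 :=
  hd_SL _ cs p ne_E7.1 ne_E7.2 (CA := CAE7) (by decide +kernel) (dl := dlE7) (by decide +kernel)
    chkE7 domE7 (k := 16) gtE7 0 (by decide +kernel) expE7

theorem hd_E8 {W : Type} [Group W] [Finite W] (cs : CoxeterSystem CoxeterMatrix.E₈ W) (p : ℕ) [Fact p.Prime] [CharP K p] :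
    HD (D := chevE8) (l := 8) (M := CoxeterMatrix.E₈) (by simp [IsType, typeList]) K cs p (toV [2, 3, 4, 6, 5, 4, 3, 2]) 28 exE8 :=
  hd_SL _ cs p ne_E8.1 ne_E8.2 (CA := CAE8) (by decide +kernel) (dl := dlE8) (by decide +kernel)
    chkE8 domE8 (k := 28) gtE8 7 (by decide +kernel) expE8

end SL

section GRow

variable {D : ChevalleyDatum} {l : ℕ} {M : CoxeterMatrix (Fin l)} (hp : IsType D l M) {K : Type u} [Field K]
  [Fintype K]

theorem hb_GR {W : Type} [Group W] [Finite W] (cs : CoxeterSystem M W) (p : ℕ) [Fact p.Prime] [CharP K p]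
    {CA : List (List ℤ)} {dl : List ℤ} {P : List (List ℤ × List ℤ × ℕ)}
    (hA : ∀ i : Fin l, CA.getD i [] = List.ofFn (cartanOf D l i))
    (hck : chkT l CA dl (fun _ => 1) P = true) {rl : List ℤ} {N : ℤ}
    (hdm : domL l CA P N = [rl]) {k : ℕ} (hgt : cntF P (fun z => decide (0 < z)) rl = 2 * k + 1)
    (hN : chkN D = true) (GG' : GR cs hp.isCartan (toV dl) (toV rl))
    (hqN : qf (cartanOf D l) (toV dl) (toV rl) (toV rl) = N) (i₀ : Fin l)
    (hi₀ : qf (cartanOf D l) (toV dl) (sr i₀) (sr i₀) = N)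
    {ex : List (ℕ × ℕ)} (hex : expF P N = ex) :
    HB hp K cs p (toV rl) k ex := by
  have R := rgd (K := K) hp cs p
  have hG1 := G1_eq_top (K := K) hp cs
  have hG : GG cs hp.isCartan (TT D K) (XX D l K) = ⊤ := KFacts.RgdRigid.GG_eq_top hG1
  obtain ⟨H, F⟩ := of_chkT hA hck (e := fun _ => 1) (fun _ _ => rfl)
  have hrl : rl ∈ domL l CA P N := by rw [hdm]; exact List.mem_singleton_self _
  unfold domL at hrl
  obtain ⟨pr, hpr, hpe⟩ := List.mem_map.1 hrl
  have hprP := List.mem_of_mem_filter hpr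
  have hpe : pr.1 = rl := hpe
  have hdom := dom_of_chk hA F hdm hqN
  set d : Fin l → ℤ := toV dl with hd
  set r : Fin l → ℤ := toV rl with hr
  have hcard : ∀ s, IsRoot cs hp.isCartan s → Nat.card (XX D l K s) = Fintype.card K := by
    rintro _ ⟨w, i, rfl⟩
    rw [Nodes.CardSup.card_X_rep R w (isRoot_sr cs hp.isCartan i),
      Nat.card_congr (Subgroup.subgroupOfEquivOfLe (XV_le_group hp _)).toEquiv, XV_sr hp i,
      card_rootSubgroup hp (NPerm.simple_lt hp.inList (lt_rank hp i)), Nat.card_eq_fintype_card]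
  have hcard' : ∀ t ∈ P.map (fun p => (toV p.1 : Fin l → ℤ)), Nat.card (XX D l K t) = Fintype.card K ^ 1 := by
    intro t ht
    rw [hcard t (H.isRoot ht), pow_one]
  have horb : ∀ s, IsRoot cs hp.isCartan s → qf (cartanOf D l) d s s = qf (cartanOf D l) d r r →
      ∃ w : W, rep cs hp.isCartan w r = s := fun s hs hs' =>
    (orbit_iff H GG'.hd hdom hs).2 hs'
  have hLR : LR R r := by
    refine ⟨GG'.rr, ?_⟩
    rintro x hx h0 ⟨u, hu'⟩ hu ⟨v, hv'⟩ hv
    refine Subtype.ext (commX hp hN hx GG'.rr ?_ (GG'.add_not_root hx h0) hu hv)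
    rintro rfl
    rw [cpr_neg cs hp.isCartan _ GG'.rr, cpr_self cs hp.isCartan GG'.rr] at h0
    omega
  have hindex := index_tab (R := R) hG H GG'.hd hLR (GG'.qf_pos GG'.rr) GG'.dom hdom (q := Fintype.card K)
    (fun _ => 1) hcard'
  rw [F.sum_eq, hqN, hex] at hindex
  refine ⟨hLR, hcard r GG'.rr, ?_, hindex, ?_⟩
  · rw [card_QQ R H GG'.hd GG'.rr (GG'.qf_pos GG'.rr) GG'.hdr (fun _ => 1) hcard', ← hgt]
    congr 1
    have := F.cnt_eq hprP (fun z => decide (0 < z))
    rw [hpe] at this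
    exact this
  · obtain ⟨w, hw⟩ := horb (sr i₀) (isRoot_sr cs hp.isCartan i₀) (by rw [hi₀, hqN])
    refine ⟨i₀, w⁻¹, ?_, ?_⟩
    · rw [← hw, ← rep_mul_apply, inv_mul_cancel, map_one, Module.End.one_apply]
    · intro s hs' hsr
      have h1 : rep cs hp.isCartan w⁻¹ s ≠ r := by
        intro h2
        apply hsr
        rw [← hw, ← h2, ← rep_mul_apply, mul_inv_cancel, map_one, Module.End.one_apply]
      have h3 := hs'.2
      rw [← hw] at h3 ⊢
      have h4 : cpr cs hp.isCartan s (rep cs hp.isCartan w r) = cpr cs hp.isCartan (rep cs hp.isCartan w⁻¹ s) r := by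
        rw [cpr_rep_left w⁻¹ s GG'.rr, inv_inv]
      rw [h4] at h3 ⊢
      exact GG'.cpr_one (hs'.1.act _) h1 h3

theorem isType_F4 : IsType chevF4 4 CoxeterMatrix.F₄ := by simp [IsType, typeList]

theorem hb_F4 {W : Type} [Group W] [Finite W] (cs : CoxeterSystem CoxeterMatrix.F₄ W) (p : ℕ) [Fact p.Prime] [CharP K p] :
    HB isType_F4 K cs p (toV [2, 4, 3, 2]) 7 exF4c :=
  hb_GR isType_F4 cs p (CA := CAF4c) (by decide +kernel) chkF4c domF4c (k := 7) gtF4c chkNF
    (grF cs isType_F4) (by decide +kernel) 3 (by decide +kernel) expF4c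

theorem hd_F4 {W : Type} [Group W] [Finite W] (cs : CoxeterSystem CoxeterMatrix.F₄ W) (p : ℕ) [Fact p.Prime] [CharP K p]
    (h2 : (2 : K) ≠ 0) : HD isType_F4 K cs p (toV [2, 4, 3, 2]) 7 exF4c := by
  refine ⟨hb_F4 cs p, ?_⟩
  have h1 : vec chevF4 4 47 = toV [2, 4, 3, 2] := by decide +kernel
  have h3 := grF cs isType_F4
  rw [← h1] at h3 ⊢
  exact (giChev isType_F4 chkNF chkSF (by decide +kernel) (by exact_mod_cast h2) h3 p).hs

end GRow

end Cfsg.Agent.H441.FPR.Heis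
end

-- part: H441/FPR/HeisE
section
/-!
# The Heisenberg lemma for the Chevalley groups: orders of the parabolic subgroups
-/

set_option autoImplicit false
set_option linter.unusedSectionVars false
set_option linter.unusedVariables false
set_option maxRecDepth 100000

namespace Cfsg.Agent.H441.FPR.Heis

open CoxeterSystem Cfsg.Agent.ChevalleyStructure.CoxeterGeom Cfsg.Agent.Tits.Roots Cfsg.Agent.Tits.Core
  Cfsg.Agent.Nodes.Reps Cfsg.Agent.Nodes.BNOf Cfsg.Agent.Nodes.Coroot Cfsg.Agent.Nodes.LeviDec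
  Cfsg.Agent.Nodes.PosPair Cfsg.Agent.Nodes.StabComb Cfsg.Agent.Nodes.KindChev Cfsg.Agent.KFacts.RgdCent
  Cfsg.Agent.Nodes.Bruhat Cfsg.Agent.Nodes.OppDec Cfsg.Agent.Tits.Exchange
  Cfsg.Agent.KFacts.RgdPar Cfsg.Agent.KFacts.RgdSL Cfsg.Agent.KFacts.RgdTI Cfsg.Agent.Nodes.RGDChev
  Cfsg.Agent.ChevalleyStructure.CoxeterGeomTypes
open Cfsg.Lie Cfsg.Agent.ChevalleyStructure Cfsg.Agent.ChevalleyStructure.Elts Cfsg.Agent.ChevalleyStructure.NPerm
open Cfsg.Agent.KFacts.RgdChevCoord Cfsg.Agent.Nodes.ChevCls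
open Cfsg.Agent.H400.TwoExc Cfsg.Agent.H400.Fpr
open Cfsg.Agent.H398.FPR (UGood)

universe u

/-! ### Polynomial identities -/

theorem idE8 (q : ℤ) : ((exE8.map fun z => q ^ z.1 + q ^ z.2).sum) * ((q - 1) * (q ^ 6 - 1) * (q ^ 10 - 1)) =
    (q ^ 20 - 1) * (q ^ 24 - 1) * (q ^ 30 - 1) := by
  unfold exE8
  simp only [List.map_cons, List.map_nil, List.sum_cons, List.sum_nil]
  (set_option synthInstance.maxSize 99999 in exact Cfsg.Agent.Lib.RingK.eq (by decide +kernel))

theorem idE7 (q : ℤ) : ((exE7.map fun z => q ^ z.1 + q ^ z.2).sum) * ((q - 1) * (q ^ 4 - 1) * (q ^ 6 - 1)) =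
    (q ^ 12 - 1) * (q ^ 14 - 1) * (q ^ 18 - 1) := by
  unfold exE7
  simp only [List.map_cons, List.map_nil, List.sum_cons, List.sum_nil]
  (set_option synthInstance.maxSize 99999 in exact Cfsg.Agent.Lib.RingK.eq (by decide +kernel))

theorem idE6 (q : ℤ) : ((exE6.map fun z => q ^ z.1 + q ^ z.2).sum) * ((q - 1) * (q ^ 3 - 1) * (q ^ 4 - 1)) =
    (q ^ 8 - 1) * (q ^ 9 - 1) * (q ^ 12 - 1) := by
  unfold exE6
  simp only [List.map_cons, List.map_nil, List.sum_cons, List.sum_nil]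
  (set_option synthInstance.maxSize 99999 in exact Cfsg.Agent.Lib.RingK.eq (by decide +kernel))

theorem idF4 (q : ℤ) : ((exF4c.map fun z => q ^ z.1 + q ^ z.2).sum) * ((q - 1) * (q ^ 4 - 1)) =
    (q ^ 8 - 1) * (q ^ 12 - 1) := by
  unfold exF4c
  simp only [List.map_cons, List.map_nil, List.sum_cons, List.sum_nil]
  ring

theorem cast_sum (ex : List (ℕ × ℕ)) (q : ℕ) :
    (((ex.map fun z => q ^ z.1 + q ^ z.2).sum : ℕ) : ℤ) = (ex.map fun z => (q : ℤ) ^ z.1 + (q : ℤ) ^ z.2).sum := by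
  induction ex with
  | nil => rfl
  | cons a ex ih =>
    rw [List.map_cons, List.sum_cons, List.map_cons, List.sum_cons, Nat.cast_add, ih, Nat.cast_add, Nat.cast_pow,
      Nat.cast_pow]

theorem cast_sub {q m : ℕ} (hq : 0 < q) : ((q ^ m - 1 : ℕ) : ℤ) = (q : ℤ) ^ m - 1 := by
  rw [Nat.cast_sub (Nat.one_le_pow _ _ hq)]
  push_cast
  rfl

theorem pow_sub_ne {q m : ℕ} (hq : 2 ≤ q) (hm : m ≠ 0) : (q : ℤ) ^ m - 1 ≠ 0 := by
  have h1 : 1 < q ^ m := Nat.one_lt_pow hm (by omega)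
  have h2 : (1 : ℤ) < (q : ℤ) ^ m := by exact_mod_cast h1
  omega

section Card

variable {K : Type u} [Field K] [Fintype K]

theorem two_le_q : 2 ≤ Fintype.card K := Fintype.one_lt_card

/-- the order of the parabolic subgroup of `E₈(q)` -/
theorem card_P_E8 {W : Type} [Group W] [Finite W] (cs : CoxeterSystem CoxeterMatrix.E₈ W) (p : ℕ) [Fact p.Prime] [CharP K p]
    (hp : IsType chevE8 8 CoxeterMatrix.E₈) :
    (Nat.card ↥(PS (TT chevE8 K) (XX chevE8 8 K) (Ge cs hp.isCartan (toV [2, 3, 4, 6, 5, 4, 3, 2]))) : ℤ) =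
    (Fintype.card K : ℤ) ^ 120 * ((Fintype.card K : ℤ) - 1) * ((Fintype.card K : ℤ) ^ 2 - 1) *
      ((Fintype.card K : ℤ) ^ 6 - 1) * ((Fintype.card K : ℤ) ^ 8 - 1) * ((Fintype.card K : ℤ) ^ 10 - 1) *
      ((Fintype.card K : ℤ) ^ 12 - 1) * ((Fintype.card K : ℤ) ^ 14 - 1) * ((Fintype.card K : ℤ) ^ 18 - 1) := by
  have hH := hd_E8 (K := K) cs p
  have h1 := hH.index
  have h2 := Subgroup.card_mul_index (PS (TT chevE8 K) (XX chevE8 8 K) (Ge cs hp.isCartan (toV [2, 3, 4, 6, 5, 4, 3, 2])))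
  rw [h1, Cfsg.Agent.S1065.result (F := K) rfl] at h2
  have hq := two_le_q (K := K)
  set q := Fintype.card K with hqd
  have h3 := congrArg (Nat.cast : ℕ → ℤ) h2
  push_cast [cast_sub (q := q) (by omega : 0 < q)] at h3
  have h4 := cast_sum exE8 q
  push_cast at h4
  rw [h4] at h3
  have h5 := idE8 (q : ℤ)
  have h6 : ((q : ℤ) ^ 20 - 1) * ((q : ℤ) ^ 24 - 1) * ((q : ℤ) ^ 30 - 1) ≠ 0 :=
    mul_ne_zero (mul_ne_zero (pow_sub_ne hq (by norm_num)) (pow_sub_ne hq (by norm_num))) (pow_sub_ne hq (by norm_num))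
  refine mul_right_cancel₀ h6 ?_
  set S := (exE8.map fun z => (q : ℤ) ^ z.1 + (q : ℤ) ^ z.2).sum with hS
  set P := (Nat.card ↥(PS (TT chevE8 K) (XX chevE8 8 K) (Ge cs hp.isCartan (toV [2, 3, 4, 6, 5, 4, 3, 2]))) : ℤ) with hP
  rw [← h5]
  calc P * (S * ((↑q - 1) * (↑q ^ 6 - 1) * (↑q ^ 10 - 1))) = (P * S) * ((↑q - 1) * (↑q ^ 6 - 1) * (↑q ^ 10 - 1)) := by ring
    _ = _ := by rw [h3, h5]; (set_option synthInstance.maxSize 99999 in exact Cfsg.Agent.Lib.RingK.eq (by decide +kernel))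

theorem card_P_E7 {W : Type} [Group W] [Finite W] (cs : CoxeterSystem CoxeterMatrix.E₇ W) (p : ℕ) [Fact p.Prime] [CharP K p]
    (hp : IsType chevE7 7 CoxeterMatrix.E₇) :
    ((Nat.gcd 2 (Fintype.card K - 1) : ℕ) : ℤ) *
    (Nat.card ↥(PS (TT chevE7 K) (XX chevE7 7 K) (Ge cs hp.isCartan (toV [2, 2, 3, 4, 3, 2, 1]))) : ℤ) =
    (Fintype.card K : ℤ) ^ 63 * ((Fintype.card K : ℤ) - 1) * ((Fintype.card K : ℤ) ^ 2 - 1) *
      ((Fintype.card K : ℤ) ^ 4 - 1) * ((Fintype.card K : ℤ) ^ 6 - 1) ^ 2 * ((Fintype.card K : ℤ) ^ 8 - 1) *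
      ((Fintype.card K : ℤ) ^ 10 - 1) := by
  have hH := hd_E7 (K := K) cs p
  have h1 := hH.index
  have h2 := Subgroup.card_mul_index (PS (TT chevE7 K) (XX chevE7 7 K) (Ge cs hp.isCartan (toV [2, 2, 3, 4, 3, 2, 1])))
  have h0 := Cfsg.Agent.S1064.result (F := K) rfl
  rw [h1] at h2
  rw [← h2] at h0
  have hq := two_le_q (K := K)
  set q := Fintype.card K with hqd
  have h3 := congrArg (Nat.cast : ℕ → ℤ) h0
  push_cast [cast_sub (q := q) (by omega : 0 < q)] at h3
  have h4 := cast_sum exE7 q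
  push_cast at h4
  rw [h4] at h3
  have h5 := idE7 (q : ℤ)
  have h6 : ((q : ℤ) ^ 12 - 1) * ((q : ℤ) ^ 14 - 1) * ((q : ℤ) ^ 18 - 1) ≠ 0 :=
    mul_ne_zero (mul_ne_zero (pow_sub_ne hq (by norm_num)) (pow_sub_ne hq (by norm_num))) (pow_sub_ne hq (by norm_num))
  refine mul_right_cancel₀ h6 ?_
  set S := (exE7.map fun z => (q : ℤ) ^ z.1 + (q : ℤ) ^ z.2).sum with hS
  set P := (Nat.card ↥(PS (TT chevE7 K) (XX chevE7 7 K) (Ge cs hp.isCartan (toV [2, 2, 3, 4, 3, 2, 1]))) : ℤ) with hP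
  set g := ((Nat.gcd 2 (q - 1) : ℕ) : ℤ) with hg
  rw [← h5]
  calc g * P * (S * ((↑q - 1) * (↑q ^ 4 - 1) * (↑q ^ 6 - 1))) = (g * (P * S)) * ((↑q - 1) * (↑q ^ 4 - 1) * (↑q ^ 6 - 1)) := by ring
    _ = _ := by rw [h3, h5]; (set_option synthInstance.maxSize 99999 in exact Cfsg.Agent.Lib.RingK.eq (by decide +kernel))

theorem card_P_E6 {W : Type} [Group W] [Finite W] (cs : CoxeterSystem CoxeterMatrix.E₆ W) (p : ℕ) [Fact p.Prime] [CharP K p]
    (hp : IsType chevE6 6 CoxeterMatrix.E₆) :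
    ((Nat.gcd 3 (Fintype.card K - 1) : ℕ) : ℤ) *
    (Nat.card ↥(PS (TT chevE6 K) (XX chevE6 6 K) (Ge cs hp.isCartan (toV [1, 2, 2, 3, 2, 1]))) : ℤ) =
    (Fintype.card K : ℤ) ^ 36 * ((Fintype.card K : ℤ) - 1) * ((Fintype.card K : ℤ) ^ 2 - 1) *
      ((Fintype.card K : ℤ) ^ 3 - 1) * ((Fintype.card K : ℤ) ^ 4 - 1) * ((Fintype.card K : ℤ) ^ 5 - 1) *
      ((Fintype.card K : ℤ) ^ 6 - 1) := by
  have hH := hd_E6 (K := K) cs p
  have h1 := hH.index
  have h2 := Subgroup.card_mul_index (PS (TT chevE6 K) (XX chevE6 6 K) (Ge cs hp.isCartan (toV [1, 2, 2, 3, 2, 1])))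
  have h0 := Cfsg.Agent.S1063.result (F := K) rfl
  rw [h1] at h2
  rw [← h2] at h0
  have hq := two_le_q (K := K)
  set q := Fintype.card K with hqd
  have h3 := congrArg (Nat.cast : ℕ → ℤ) h0
  push_cast [cast_sub (q := q) (by omega : 0 < q)] at h3
  have h4 := cast_sum exE6 q
  push_cast at h4
  rw [h4] at h3
  have h5 := idE6 (q : ℤ)
  have h6 : ((q : ℤ) ^ 8 - 1) * ((q : ℤ) ^ 9 - 1) * ((q : ℤ) ^ 12 - 1) ≠ 0 :=
    mul_ne_zero (mul_ne_zero (pow_sub_ne hq (by norm_num)) (pow_sub_ne hq (by norm_num))) (pow_sub_ne hq (by norm_num))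
  refine mul_right_cancel₀ h6 ?_
  set S := (exE6.map fun z => (q : ℤ) ^ z.1 + (q : ℤ) ^ z.2).sum with hS
  set P := (Nat.card ↥(PS (TT chevE6 K) (XX chevE6 6 K) (Ge cs hp.isCartan (toV [1, 2, 2, 3, 2, 1]))) : ℤ) with hP
  set g := ((Nat.gcd 3 (q - 1) : ℕ) : ℤ) with hg
  rw [← h5]
  calc g * P * (S * ((↑q - 1) * (↑q ^ 3 - 1) * (↑q ^ 4 - 1))) = (g * (P * S)) * ((↑q - 1) * (↑q ^ 3 - 1) * (↑q ^ 4 - 1)) := by ring
    _ = _ := by rw [h3, h5]; (set_option synthInstance.maxSize 99999 in exact Cfsg.Agent.Lib.RingK.eq (by decide +kernel))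

theorem card_P_F4 {W : Type} [Group W] [Finite W] (cs : CoxeterSystem CoxeterMatrix.F₄ W) (p : ℕ) [Fact p.Prime] [CharP K p]
    (hp : IsType chevF4 4 CoxeterMatrix.F₄) :
    (Nat.card ↥(PS (TT chevF4 K) (XX chevF4 4 K) (Ge cs hp.isCartan (toV [2, 4, 3, 2]))) : ℤ) =
    (Fintype.card K : ℤ) ^ 24 * ((Fintype.card K : ℤ) - 1) * ((Fintype.card K : ℤ) ^ 2 - 1) *
      ((Fintype.card K : ℤ) ^ 4 - 1) * ((Fintype.card K : ℤ) ^ 6 - 1) := by
  have hH := hb_F4 (K := K) cs p
  have h1 := hH.index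
  have h2 := Subgroup.card_mul_index (PS (TT chevF4 K) (XX chevF4 4 K) (Ge cs hp.isCartan (toV [2, 4, 3, 2])))
  rw [h1, Cfsg.Agent.S1062.result (F := K) rfl] at h2
  have hq := two_le_q (K := K)
  set q := Fintype.card K with hqd
  have h3 := congrArg (Nat.cast : ℕ → ℤ) h2
  push_cast [cast_sub (q := q) (by omega : 0 < q)] at h3
  have h4 := cast_sum exF4c q
  push_cast at h4
  rw [h4] at h3
  have h5 := idF4 (q : ℤ)
  have h6 : ((q : ℤ) ^ 8 - 1) * ((q : ℤ) ^ 12 - 1) ≠ 0 :=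
    mul_ne_zero (pow_sub_ne hq (by norm_num)) (pow_sub_ne hq (by norm_num))
  refine mul_right_cancel₀ h6 ?_
  set S := (exF4c.map fun z => (q : ℤ) ^ z.1 + (q : ℤ) ^ z.2).sum with hS
  set P := (Nat.card ↥(PS (TT chevF4 K) (XX chevF4 4 K) (Ge cs hp.isCartan (toV [2, 4, 3, 2]))) : ℤ) with hP
  rw [← h5]
  calc P * (S * ((↑q - 1) * (↑q ^ 4 - 1))) = (P * S) * ((↑q - 1) * (↑q ^ 4 - 1)) := by ring
    _ = _ := by rw [h3, h5]; ring

end Card

end Cfsg.Agent.H441.FPR.Heis
end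

-- part: H441/FPR/HeisF
section
/-!
# The Heisenberg lemma for the Chevalley groups: the rows
-/

set_option autoImplicit false
set_option linter.unusedSectionVars false
set_option linter.unusedVariables false
set_option maxRecDepth 100000

namespace Cfsg.Agent.H441.FPR.Heis

open CoxeterSystem Cfsg.Agent.ChevalleyStructure.CoxeterGeom Cfsg.Agent.Tits.Roots Cfsg.Agent.Tits.Core
  Cfsg.Agent.Nodes.Reps Cfsg.Agent.Nodes.BNOf Cfsg.Agent.Nodes.Coroot Cfsg.Agent.Nodes.LeviDec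
  Cfsg.Agent.Nodes.PosPair Cfsg.Agent.Nodes.StabComb Cfsg.Agent.Nodes.KindChev Cfsg.Agent.KFacts.RgdCent
  Cfsg.Agent.Nodes.Bruhat Cfsg.Agent.Nodes.OppDec Cfsg.Agent.Tits.Exchange
  Cfsg.Agent.KFacts.RgdPar Cfsg.Agent.KFacts.RgdSL Cfsg.Agent.KFacts.RgdTI Cfsg.Agent.Nodes.RGDChev
  Cfsg.Agent.ChevalleyStructure.CoxeterGeomTypes
open Cfsg.Lie Cfsg.Agent.ChevalleyStructure Cfsg.Agent.ChevalleyStructure.Elts Cfsg.Agent.ChevalleyStructure.NPerm
open Cfsg.Agent.KFacts.RgdChevCoord Cfsg.Agent.Nodes.ChevCls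
open Cfsg.Agent.H400.TwoExc Cfsg.Agent.H400.Fpr
open Cfsg.Agent.H398.FPR (UGood Good)

universe u

section Gen

variable {D : ChevalleyDatum} {l : ℕ} {M : CoxeterMatrix (Fin l)} {hp : IsType D l M} {K : Type u} [Field K]
    [Fintype K] {W : Type} [Group W] [Finite W] {cs : CoxeterSystem M W} {p : ℕ} [Fact p.Prime] [CharP K p]
    {r : Fin l → ℤ} {k : ℕ} {ex : List (ℕ × ℕ)}

theorem isPGroup_QQ (H : HB hp K cs p r k ex) : IsPGroup p (QQ cs hp.isCartan (XX D l K) r) := by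
  obtain ⟨n, -, hn⟩ := FiniteField.card K p
  refine IsPGroup.of_card (n := n * (2 * k + 1)) ?_
  rw [H.cardQ, hn, ← pow_mul]

theorem exists_x (H : HD hp K cs p r k ex) {ℓ : ℕ} (hℓ : ℓ.Prime) (hℓp : ℓ ≠ p) (hℓq : ¬ ℓ ∣ Fintype.card K - 1)
    (hd : ℓ ∣ Nat.card (PS (TT D K) (XX D l K) (Ge cs hp.isCartan r))) :
    ∃ x ∈ L0 cs hp.isCartan (XX D l K) r, orderOf x = ℓ := by
  have hfin : Finite ↥(D.group K) := inferInstance
  exact exists_L0 H.hs hℓ hℓp (((Nat.Prime.coprime_iff_not_dvd hℓ).2 hℓq).symm) (fun t ht => tor_pow hp ht)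
    (isPGroup_QQ H.toHB) hd

theorem uGood_x (H : HD hp K cs p r k ex) (hs : IsSimpleGroup ↥(D.group K)) (hcen : Subgroup.center ↥(D.group K) = ⊥)
    (hK : 2 < Fintype.card K) {ℓ M' : ℕ} (hℓ : ℓ.Prime) (hℓp : ℓ ≠ p) {x : ↥(D.group K)}
    (hx : x ∈ L0 cs hp.isCartan (XX D l K) r) (hxo : orderOf x = ℓ)
    (hM : ∀ t : ℕ, t ≠ 0 → p ^ t ≡ 1 [MOD ℓ] → M' ≤ p ^ t) (hM1 : 1 ≤ M') :
    UGood (2 * k + 2) (M' + 2 * k + 1) x := by
  have hfin : Finite ↥(D.group K) := inferInstance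
  obtain ⟨i, w, hw, hone⟩ := H.long
  obtain ⟨g, S⟩ := scR_chev hp cs p hw hone hK
  refine uGood_scalar (k := 1) H.hs hs hcen (G1_eq_top hp cs) S hℓ hℓp hx (by rw [pow_one, ← hxo]; exact pow_orderOf_eq_one x)
    ?_ (isPGroup_QQ H.toHB) ?_ hM hM1
  · rintro rfl
    rw [orderOf_one] at hxo
    exact hℓ.one_lt.ne hxo
  · refine lt_of_le_of_lt (Subgroup.card_le_of_le inf_le_left) ?_
    rw [H.cardQ, H.cardX, ← pow_succ]
    exact Nat.pow_lt_pow_right (by omega) (by omega)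

end Gen

/-! ### Orders modulo `ℓ` -/

section Ord

variable {ℓ s : ℕ}

theorem half_ord (hℓ : ℓ.Prime) {m : ℕ} (hm : 0 < m) (h : orderOf (s : ZMod ℓ) = 2 * m) : (s : ZMod ℓ) ^ m = -1 := by
  have : Fact ℓ.Prime := ⟨hℓ⟩
  have h1 : (s : ZMod ℓ) ^ (2 * m) = 1 := by rw [← h]; exact pow_orderOf_eq_one _
  have h2 : (s : ZMod ℓ) ^ m ≠ 1 := pow_ne_one_of_lt_orderOf (by omega) (by rw [h]; omega)
  have h3 : ((s : ZMod ℓ) ^ m - 1) * ((s : ZMod ℓ) ^ m + 1) = 0 := by
    have : (s : ZMod ℓ) ^ (2 * m) = ((s : ZMod ℓ) ^ m) ^ 2 := by rw [← pow_mul, mul_comm]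
    rw [this] at h1
    linear_combination h1
  rcases mul_eq_zero.1 h3 with h4 | h4
  · exact absurd (sub_eq_zero.1 h4) h2
  · linear_combination h4

theorem pow_ne_neg_one (hℓ : ℓ.Prime) {m e : ℕ} (h : orderOf (s : ZMod ℓ) = e) (hm : 0 < m) (hme : 2 * m < e) :
    (s : ZMod ℓ) ^ m + 1 ≠ 0 := by
  intro h1
  have h2 : (s : ZMod ℓ) ^ (2 * m) = 1 := by
    rw [mul_comm, pow_mul, eq_neg_of_add_eq_zero_left h1]; ring
  exact pow_ne_one_of_lt_orderOf (by omega) (by rw [h]; exact hme) h2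

theorem le_four (hℓ : ℓ.Prime) (h : orderOf (s : ZMod ℓ) = 4) : ℓ ∣ s ^ 2 + 1 := by
  have h1 := half_ord hℓ (m := 2) (by norm_num) h
  rw [← ZMod.natCast_eq_zero_iff]
  push_cast
  linear_combination h1

theorem le_eight (hℓ : ℓ.Prime) (h : orderOf (s : ZMod ℓ) = 8) : ℓ ∣ s ^ 4 + 1 := by
  have h1 := half_ord hℓ (m := 4) (by norm_num) h
  rw [← ZMod.natCast_eq_zero_iff]
  push_cast
  linear_combination h1

theorem le_six (hℓ : ℓ.Prime) (h : orderOf (s : ZMod ℓ) = 6) : (ℓ : ℤ) ≤ (s : ℤ) ^ 2 - s + 1 := by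
  refine le_of_zmod (by nlinarith only []) ?_
  push_cast
  exact phi_six hℓ h

theorem le_ten (hℓ : ℓ.Prime) (h : orderOf (s : ZMod ℓ) = 10) (hs : 2 ≤ s) :
    (ℓ : ℤ) ≤ (s : ℤ) ^ 4 - s ^ 3 + s ^ 2 - s + 1 := by
  have : Fact ℓ.Prime := ⟨hℓ⟩
  have h1 := half_ord hℓ (m := 5) (by norm_num) h
  have h2 := pow_ne_neg_one hℓ (m := 1) h (by norm_num) (by norm_num)
  have hs' : (2 : ℤ) ≤ s := by exact_mod_cast hs
  refine le_of_zmod (by nlinarith only [pow_pos (by omega : (0 : ℤ) < s) 3]) ?_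
  push_cast
  have h3 : ((s : ZMod ℓ) ^ 1 + 1) * ((s : ZMod ℓ) ^ 4 - s ^ 3 + s ^ 2 - s + 1) = 0 := by linear_combination h1
  exact (mul_eq_zero.1 h3).resolve_left h2

theorem le_twelve (hℓ : ℓ.Prime) (h : orderOf (s : ZMod ℓ) = 12) (hs : 2 ≤ s) :
    (ℓ : ℤ) ≤ (s : ℤ) ^ 4 - s ^ 2 + 1 := by
  have : Fact ℓ.Prime := ⟨hℓ⟩
  have h1 := half_ord hℓ (m := 6) (by norm_num) h
  have h2 := pow_ne_neg_one hℓ (m := 2) h (by norm_num) (by norm_num)
  have hs' : (2 : ℤ) ≤ s := by exact_mod_cast hs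
  refine le_of_zmod (by nlinarith only [pow_pos (by omega : (0 : ℤ) < s) 2]) ?_
  push_cast
  have h3 : ((s : ZMod ℓ) ^ 2 + 1) * ((s : ZMod ℓ) ^ 4 - s ^ 2 + 1) = 0 := by linear_combination h1
  exact (mul_eq_zero.1 h3).resolve_left h2

theorem le_fourteen (hℓ : ℓ.Prime) (h : orderOf (s : ZMod ℓ) = 14) (hs : 2 ≤ s) :
    (ℓ : ℤ) ≤ (s : ℤ) ^ 6 - s ^ 5 + s ^ 4 - s ^ 3 + s ^ 2 - s + 1 := by
  have : Fact ℓ.Prime := ⟨hℓ⟩
  have h1 := half_ord hℓ (m := 7) (by norm_num) h
  have h2 := pow_ne_neg_one hℓ (m := 1) h (by norm_num) (by norm_num)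
  have hs' : (2 : ℤ) ≤ s := by exact_mod_cast hs
  refine le_of_zmod ?_ ?_
  · have h5 : (0 : ℤ) < (s : ℤ) ^ 5 := pow_pos (by omega) 5
    have h3 : (0 : ℤ) < (s : ℤ) ^ 3 := pow_pos (by omega) 3
    have e6 : (s : ℤ) ^ 6 = s * s ^ 5 := by ring
    have e4 : (s : ℤ) ^ 4 = s * s ^ 3 := by ring
    nlinarith only [h5]
  push_cast
  have h3 : ((s : ZMod ℓ) ^ 1 + 1) * ((s : ZMod ℓ) ^ 6 - s ^ 5 + s ^ 4 - s ^ 3 + s ^ 2 - s + 1) = 0 := by
    linear_combination h1
  exact (mul_eq_zero.1 h3).resolve_left h2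

theorem le_eighteen (hℓ : ℓ.Prime) (h : orderOf (s : ZMod ℓ) = 18) (hs : 2 ≤ s) :
    (ℓ : ℤ) ≤ (s : ℤ) ^ 6 - s ^ 3 + 1 := by
  have : Fact ℓ.Prime := ⟨hℓ⟩
  have h1 := half_ord hℓ (m := 9) (by norm_num) h
  have h2 := pow_ne_neg_one hℓ (m := 3) h (by norm_num) (by norm_num)
  have hs' : (2 : ℤ) ≤ s := by exact_mod_cast hs
  refine le_of_zmod ?_ ?_
  · have h3 : (8 : ℤ) ≤ (s : ℤ) ^ 3 := by
      calc (8 : ℤ) = 2 ^ 3 := by norm_num
        _ ≤ (s : ℤ) ^ 3 := by gcongr
    have e6 : (s : ℤ) ^ 6 = (s ^ 3) * s ^ 3 := by ring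
    nlinarith only [h3]
  push_cast
  have h3 : ((s : ZMod ℓ) ^ 3 + 1) * ((s : ZMod ℓ) ^ 6 - s ^ 3 + 1) = 0 := by linear_combination h1
  exact (mul_eq_zero.1 h3).resolve_left h2

theorem le_nine (hℓ : ℓ.Prime) (h : orderOf (s : ZMod ℓ) = 9) : ℓ ∣ s ^ 6 + s ^ 3 + 1 := by
  have : Fact ℓ.Prime := ⟨hℓ⟩
  have h1 : (s : ZMod ℓ) ^ 9 = 1 := by rw [← h]; exact pow_orderOf_eq_one _
  have h2 : (s : ZMod ℓ) ^ 3 ≠ 1 := pow_ne_one_of_lt_orderOf (by norm_num) (by rw [h]; norm_num)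
  rw [← ZMod.natCast_eq_zero_iff]
  push_cast
  have h3 : ((s : ZMod ℓ) ^ 3 - 1) * ((s : ZMod ℓ) ^ 6 + s ^ 3 + 1) = 0 := by linear_combination h1
  exact (mul_eq_zero.1 h3).resolve_left (fun h4 => h2 (sub_eq_zero.1 h4))

end Ord

end Cfsg.Agent.H441.FPR.Heis
end

-- part: H441/FPR/HeisG
section
/-!
# The Heisenberg lemma for the Chevalley groups: the rows
-/

set_option autoImplicit false
set_option linter.unusedSectionVars false
set_option linter.unusedVariables false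
set_option maxRecDepth 100000

namespace Cfsg.Agent.H441.FPR.Heis

open CoxeterSystem Cfsg.Agent.ChevalleyStructure.CoxeterGeom Cfsg.Agent.Tits.Roots Cfsg.Agent.Tits.Core
  Cfsg.Agent.Nodes.Reps Cfsg.Agent.Nodes.BNOf Cfsg.Agent.Nodes.Coroot Cfsg.Agent.Nodes.LeviDec
  Cfsg.Agent.Nodes.PosPair Cfsg.Agent.Nodes.StabComb Cfsg.Agent.Nodes.KindChev Cfsg.Agent.KFacts.RgdCent
  Cfsg.Agent.Nodes.Bruhat Cfsg.Agent.Nodes.OppDec Cfsg.Agent.Tits.Exchange
  Cfsg.Agent.KFacts.RgdPar Cfsg.Agent.KFacts.RgdSL Cfsg.Agent.KFacts.RgdTI Cfsg.Agent.Nodes.RGDChev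
  Cfsg.Agent.ChevalleyStructure.CoxeterGeomTypes
open Cfsg.Lie Cfsg.Agent.ChevalleyStructure Cfsg.Agent.ChevalleyStructure.Elts Cfsg.Agent.ChevalleyStructure.NPerm
open Cfsg.Agent.KFacts.RgdChevCoord Cfsg.Agent.Nodes.ChevCls
open Cfsg.Agent.H400.TwoExc Cfsg.Agent.H400.Fpr
open Cfsg.Agent.H398.FPR (UGood Good)
open Cfsg.Agent.H409 (FprRow)

universe u

variable {K : Type u} [Field K] [Fintype K]

/-- the common set up -/
theorem setup {ℓ e : ℕ} (hℓ : ℓ.Prime) (hℓK : (ℓ : K) ≠ 0) (he : 2 ≤ e) (ho : orderOf (Fintype.card K : ZMod ℓ) = e) :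
    ∃ p : ℕ, p.Prime ∧ CharP K p ∧ ℓ ≠ p ∧ ¬ ℓ ∣ Fintype.card K - 1 ∧ ∃ a b : ℕ, Fintype.card K = p ^ a ∧ b ≠ 0 ∧ b ∣ a ∧
      orderOf ((p ^ b : ℕ) : ZMod ℓ) = e ∧ ∀ t : ℕ, t ≠ 0 → p ^ t ≡ 1 [MOD ℓ] → (p ^ b) ^ e ≤ p ^ t := by
  obtain ⟨p, hpK⟩ := CharP.exists K
  have hp := CharP.char_is_prime K p
  have hℓp : ℓ ≠ p := by
    rintro rfl
    exact hℓK (CharP.cast_eq_zero K ℓ)
  obtain ⟨a, -, ha⟩ := FiniteField.card K p
  obtain ⟨b, hb, hb0, hM⟩ := exists_base (e := e) hp hℓ hℓp (a := a) (by rw [← ha]; exact ho)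
  obtain ⟨hb1, hb2⟩ := hb0 a.pos.ne'
  refine ⟨p, hp, hpK, hℓp, ?_, a, b, ha, hb1, hb2, hb, hM⟩
  intro h1
  have h2 : (Fintype.card K : ZMod ℓ) = 1 := by
    have h3 := (ZMod.natCast_eq_zero_iff _ _).2 h1
    rwa [Nat.cast_sub Fintype.card_pos, Nat.cast_one, sub_eq_zero] at h3
  rw [h2, orderOf_one] at ho
  omega

theorem dvd_pow_sub {ℓ e m : ℕ} (ho : orderOf (Fintype.card K : ZMod ℓ) = e) (hm : e ∣ m) :
    (ℓ : ℤ) ∣ (Fintype.card K : ℤ) ^ m - 1 := by
  rw [← ZMod.intCast_zmod_eq_zero_iff_dvd]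
  push_cast
  rw [sub_eq_zero]
  rw [← ho] at hm
  exact orderOf_dvd_iff_pow_eq_one.1 hm

theorem two_le_pow {p b : ℕ} (hp : p.Prime) (hb : b ≠ 0) : 2 ≤ p ^ b :=
  hp.two_le.trans (Nat.le_self_pow hb p)

/-- `E₈(q)`, an element of order `ℓ` in `L₀` -/
theorem e8_x {W : Type} [Group W] [Finite W] (cs : CoxeterSystem CoxeterMatrix.E₈ W) {p ℓ e m : ℕ} [Fact p.Prime] [CharP K p]
    (hℓ : ℓ.Prime) (hℓp : ℓ ≠ p) (hℓq : ¬ ℓ ∣ Fintype.card K - 1) (ho : orderOf (Fintype.card K : ZMod ℓ) = e)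
    (hm : m ∈ [2, 6, 8, 10, 12, 14, 18]) (hem : e ∣ m) (hp : IsType chevE8 8 CoxeterMatrix.E₈) :
    ∃ x ∈ L0 cs hp.isCartan (XX chevE8 8 K) (toV [2, 3, 4, 6, 5, 4, 3, 2]), orderOf x = ℓ := by
  refine exists_x (hd_E8 cs p) hℓ hℓp hℓq ?_
  have h1 := dvd_pow_sub ho hem
  have h2 := card_P_E8 (K := K) cs p hp
  have h3 : (ℓ : ℤ) ∣ (Nat.card ↥(PS (TT chevE8 K) (XX chevE8 8 K)
      (Ge cs hp.isCartan (toV [2, 3, 4, 6, 5, 4, 3, 2]))) : ℤ) := by
    rw [h2]
    simp only [List.mem_cons, List.not_mem_nil, or_false] at hm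
    rcases hm with rfl | rfl | rfl | rfl | rfl | rfl | rfl
    · exact Dvd.dvd.mul_right (Dvd.dvd.mul_right (Dvd.dvd.mul_right (Dvd.dvd.mul_right (Dvd.dvd.mul_right
        (Dvd.dvd.mul_right (Dvd.dvd.mul_left h1 _) _) _) _) _) _) _
    · exact Dvd.dvd.mul_right (Dvd.dvd.mul_right (Dvd.dvd.mul_right (Dvd.dvd.mul_right (Dvd.dvd.mul_right
        (Dvd.dvd.mul_left h1 _) _) _) _) _) _
    · exact Dvd.dvd.mul_right (Dvd.dvd.mul_right (Dvd.dvd.mul_right (Dvd.dvd.mul_right
        (Dvd.dvd.mul_left h1 _) _) _) _) _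
    · exact Dvd.dvd.mul_right (Dvd.dvd.mul_right (Dvd.dvd.mul_right (Dvd.dvd.mul_left h1 _) _) _) _
    · exact Dvd.dvd.mul_right (Dvd.dvd.mul_right (Dvd.dvd.mul_left h1 _) _) _
    · exact Dvd.dvd.mul_right (Dvd.dvd.mul_left h1 _) _
    · exact Dvd.dvd.mul_left h1 _
  exact_mod_cast h3

/-- `E₇(q)`, an element of order `ℓ` in `L₀` -/
theorem e7_x {W : Type} [Group W] [Finite W] (cs : CoxeterSystem CoxeterMatrix.E₇ W) {p ℓ e m : ℕ} [Fact p.Prime] [CharP K p]
    (hℓ : ℓ.Prime) (hℓp : ℓ ≠ p) (hℓq : ¬ ℓ ∣ Fintype.card K - 1) (ho : orderOf (Fintype.card K : ZMod ℓ) = e)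
    (hm : m ∈ [2, 4, 6, 8, 10]) (hem : e ∣ m) (hp : IsType chevE7 7 CoxeterMatrix.E₇) :
    ∃ x ∈ L0 cs hp.isCartan (XX chevE7 7 K) (toV [2, 2, 3, 4, 3, 2, 1]), orderOf x = ℓ := by
  refine exists_x (hd_E7 cs p) hℓ hℓp hℓq ?_
  have h1 := dvd_pow_sub ho hem
  have h2 := card_P_E7 (K := K) cs p hp
  have h3 : (ℓ : ℤ) ∣ ((Nat.gcd 2 (Fintype.card K - 1) : ℕ) : ℤ) * (Nat.card ↥(PS (TT chevE7 K) (XX chevE7 7 K)
      (Ge cs hp.isCartan (toV [2, 2, 3, 4, 3, 2, 1]))) : ℤ) := by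
    rw [h2]
    simp only [List.mem_cons, List.not_mem_nil, or_false] at hm
    rcases hm with rfl | rfl | rfl | rfl | rfl
    · exact Dvd.dvd.mul_right (Dvd.dvd.mul_right (Dvd.dvd.mul_right (Dvd.dvd.mul_right
        (Dvd.dvd.mul_left h1 _) _) _) _) _
    · exact Dvd.dvd.mul_right (Dvd.dvd.mul_right (Dvd.dvd.mul_right (Dvd.dvd.mul_left h1 _) _) _) _
    · exact Dvd.dvd.mul_right (Dvd.dvd.mul_right (Dvd.dvd.mul_left (dvd_pow h1 two_ne_zero) _) _) _
    · exact Dvd.dvd.mul_right (Dvd.dvd.mul_left h1 _) _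
    · exact Dvd.dvd.mul_left h1 _
  have h4 : ℓ ∣ Nat.gcd 2 (Fintype.card K - 1) * Nat.card ↥(PS (TT chevE7 K) (XX chevE7 7 K)
      (Ge cs hp.isCartan (toV [2, 2, 3, 4, 3, 2, 1]))) := by exact_mod_cast h3
  exact ((hℓ.dvd_mul).1 h4).resolve_left fun h5 => hℓq (h5.trans (Nat.gcd_dvd_right _ _))

/-- `E₆(q)`, an element of order `ℓ` in `L₀` -/
theorem e6_x {W : Type} [Group W] [Finite W] (cs : CoxeterSystem CoxeterMatrix.E₆ W) {p ℓ e m : ℕ} [Fact p.Prime] [CharP K p]
    (hℓ : ℓ.Prime) (hℓp : ℓ ≠ p) (hℓq : ¬ ℓ ∣ Fintype.card K - 1) (ho : orderOf (Fintype.card K : ZMod ℓ) = e)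
    (hm : m ∈ [2, 3, 4, 5, 6]) (hem : e ∣ m) (hp : IsType chevE6 6 CoxeterMatrix.E₆) :
    ∃ x ∈ L0 cs hp.isCartan (XX chevE6 6 K) (toV [1, 2, 2, 3, 2, 1]), orderOf x = ℓ := by
  refine exists_x (hd_E6 cs p) hℓ hℓp hℓq ?_
  have h1 := dvd_pow_sub ho hem
  have h2 := card_P_E6 (K := K) cs p hp
  have h3 : (ℓ : ℤ) ∣ ((Nat.gcd 3 (Fintype.card K - 1) : ℕ) : ℤ) * (Nat.card ↥(PS (TT chevE6 K) (XX chevE6 6 K)
      (Ge cs hp.isCartan (toV [1, 2, 2, 3, 2, 1]))) : ℤ) := by
    rw [h2]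
    simp only [List.mem_cons, List.not_mem_nil, or_false] at hm
    rcases hm with rfl | rfl | rfl | rfl | rfl
    · exact Dvd.dvd.mul_right (Dvd.dvd.mul_right (Dvd.dvd.mul_right (Dvd.dvd.mul_right
        (Dvd.dvd.mul_left h1 _) _) _) _) _
    · exact Dvd.dvd.mul_right (Dvd.dvd.mul_right (Dvd.dvd.mul_right (Dvd.dvd.mul_left h1 _) _) _) _
    · exact Dvd.dvd.mul_right (Dvd.dvd.mul_right (Dvd.dvd.mul_left h1 _) _) _
    · exact Dvd.dvd.mul_right (Dvd.dvd.mul_left h1 _) _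
    · exact Dvd.dvd.mul_left h1 _
  have h4 : ℓ ∣ Nat.gcd 3 (Fintype.card K - 1) * Nat.card ↥(PS (TT chevE6 K) (XX chevE6 6 K)
      (Ge cs hp.isCartan (toV [1, 2, 2, 3, 2, 1]))) := by exact_mod_cast h3
  exact ((hℓ.dvd_mul).1 h4).resolve_left fun h5 => hℓq (h5.trans (Nat.gcd_dvd_right _ _))

/-- `F₄(q)`, `q` odd, an element of order `ℓ` in `L₀` -/
theorem f4_x {W : Type} [Group W] [Finite W] (cs : CoxeterSystem CoxeterMatrix.F₄ W) {p ℓ e m : ℕ} [Fact p.Prime] [CharP K p]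
    (h2 : (2 : K) ≠ 0)
    (hℓ : ℓ.Prime) (hℓp : ℓ ≠ p) (hℓq : ¬ ℓ ∣ Fintype.card K - 1) (ho : orderOf (Fintype.card K : ZMod ℓ) = e)
    (hm : m ∈ [2, 4, 6]) (hem : e ∣ m) (hp : IsType chevF4 4 CoxeterMatrix.F₄) :
    ∃ x ∈ L0 cs hp.isCartan (XX chevF4 4 K) (toV [2, 4, 3, 2]), orderOf x = ℓ := by
  refine exists_x (hd_F4 cs p h2) hℓ hℓp hℓq ?_
  have h1 := dvd_pow_sub ho hem
  have h2 := card_P_F4 (K := K) cs p hp
  have h3 : (ℓ : ℤ) ∣ (Nat.card ↥(PS (TT chevF4 K) (XX chevF4 4 K)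
      (Ge cs hp.isCartan (toV [2, 4, 3, 2]))) : ℤ) := by
    rw [h2]
    simp only [List.mem_cons, List.not_mem_nil, or_false] at hm
    rcases hm with rfl | rfl | rfl
    · exact Dvd.dvd.mul_right (Dvd.dvd.mul_right (Dvd.dvd.mul_left h1 _) _) _
    · exact Dvd.dvd.mul_right (Dvd.dvd.mul_left h1 _) _
    · exact Dvd.dvd.mul_left h1 _
  exact_mod_cast h3

/-! ### Arithmetic -/

theorem ar_pow {s : ℤ} (hs : 2 ≤ s) (m n : ℕ) (h : m ≤ n) : (2 : ℤ) ^ (n - m) * s ^ m ≤ s ^ n := by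
  have h1 : s ^ n = s ^ (n - m) * s ^ m := by rw [← pow_add, Nat.sub_add_cancel h]
  rw [h1]
  exact mul_le_mul_of_nonneg_right (pow_le_pow_left₀ (by norm_num) hs _) (pow_nonneg (by omega) _)

/-- **`E₈(q)`** -/
theorem ar58 {s ℓ : ℤ} {e : ℕ} (hs : 2 ≤ s) (h : (e = 10 ∧ ℓ ≤ s ^ 4 - s ^ 3 + s ^ 2 - s + 1) ∨ (e = 12 ∧ ℓ ≤ s ^ 4 - s ^ 2 + 1) ∨
    (e = 14 ∧ ℓ ≤ s ^ 6 - s ^ 5 + s ^ 4 - s ^ 3 + s ^ 2 - s + 1) ∨ (e = 18 ∧ ℓ ≤ s ^ 6 - s ^ 3 + 1)) :
    58 * (ℓ + 1) ≤ s ^ e + 57 := by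
  have h32 := ar_pow hs 2 3 (by norm_num)
  have h20 := ar_pow hs 0 2 (by norm_num)
  have h54 := ar_pow hs 4 5 (by norm_num)
  norm_num only [_root_.pow_zero, _root_.mul_one] at h32 h20 h54
  rcases h with ⟨rfl, h⟩ | ⟨rfl, h⟩ | ⟨rfl, h⟩ | ⟨rfl, h⟩
  · have h1 := ar_pow hs 4 10 (by norm_num)
    norm_num at h1
    nlinarith
  · have h1 := ar_pow hs 4 12 (by norm_num)
    norm_num at h1
    linarith only [h20, h, h1, pow_nonneg (by omega : 0 ≤ s) 4]
  · have h1 := ar_pow hs 6 14 (by norm_num)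
    norm_num at h1
    linarith only [hs, h32, h20, h54, h, h1, pow_nonneg (by omega : 0 ≤ s) 6, pow_nonneg (by omega : 0 ≤ s) 4]
  · have h1 := ar_pow hs 6 18 (by norm_num)
    norm_num at h1
    linarith only [h32, h20, h, h1, pow_nonneg (by omega : 0 ≤ s) 6]

/-! ### The rows -/

/-- **`E₈(q)`, `q > 2`, order `10, 12, 14, 18`**. -/
theorem e8_heis {ℓ : ℕ} (hℓ : ℓ.Prime) (hℓK : (ℓ : K) ≠ 0) (hK : 2 < Fintype.card K)
    (ho : orderOf (Fintype.card K : ZMod ℓ) ∈ [10, 12, 14, 18]) : FprRow (ℓ + 1) 1 ℓ ↥(chevE8.group K) := by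
  obtain ⟨e, he⟩ : ∃ e, orderOf (Fintype.card K : ZMod ℓ) = e := ⟨_, rfl⟩
  rw [he] at ho
  simp only [List.mem_cons, List.not_mem_nil, or_false] at ho
  obtain ⟨p, hp, hpK, hℓp, hℓq, a, b, ha, hb, hba, hs, hM⟩ := setup hℓ hℓK (by omega) he
  have : Fact p.Prime := ⟨hp⟩
  have hsimp := Cfsg.Agent.S1054.result (F := K) chevE8 (by simp)
  have : IsSimpleGroup ↥(chevE8.group K) := hsimp.1
  have hcen : Subgroup.center ↥(chevE8.group K) = ⊥ := center_eq_bot hsimp.2
  let cs : CoxeterSystem CoxeterMatrix.E₈ _ := CoxeterMatrix.E₈.toCoxeterSystem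
  have hT : IsType chevE8 8 CoxeterMatrix.E₈ := by simp [IsType, typeList]
  have hW : Finite CoxeterMatrix.E₈.Group := finite_W hT cs
  obtain ⟨x, hx, hxo⟩ := e8_x (m := e) cs hℓ hℓp hℓq he (by
    rcases ho with rfl | rfl | rfl | rfl <;> decide) dvd_rfl hT
  obtain ⟨s, hsd⟩ : ∃ s, s = p ^ b := ⟨_, rfl⟩
  rw [← hsd] at hs hM
  have hs2 : 2 ≤ s := by rw [hsd]; exact two_le_pow hp hb
  have key := uGood_x (M' := s ^ e) (hd_E8 cs p) this hcen hK hℓ hℓp hx hxo hM (Nat.one_le_pow _ _ (by omega))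
  refine good_of_uGood (k := 1) hℓ (by rw [pow_one, ← hxo]; exact pow_orderOf_eq_one x) key ?_
  have hs' : (2 : ℤ) ≤ s := by exact_mod_cast hs2
  have h1 : (58 : ℤ) * (ℓ + 1) ≤ (s : ℤ) ^ e + 57 := ar58 hs' (by
    rcases ho with rfl | rfl | rfl | rfl
    · exact Or.inl ⟨rfl, le_ten hℓ hs hs2⟩
    · exact Or.inr (Or.inl ⟨rfl, le_twelve hℓ hs hs2⟩)
    · exact Or.inr (Or.inr (Or.inl ⟨rfl, le_fourteen hℓ hs hs2⟩))
    · exact Or.inr (Or.inr (Or.inr ⟨rfl, le_eighteen hℓ hs hs2⟩)))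
  have h2 : 58 * (ℓ + 1) ≤ s ^ e + 57 := by exact_mod_cast h1
  omega

/-- **`E₇(q)`, `q > 2`, order `10`**, and order `8` for `ℓ ≠ 17`. -/
theorem e7_heis {ℓ : ℕ} (hℓ : ℓ.Prime) (hℓK : (ℓ : K) ≠ 0) (hK : 2 < Fintype.card K)
    (ho : orderOf (Fintype.card K : ZMod ℓ) = 10 ∨ (orderOf (Fintype.card K : ZMod ℓ) = 8 ∧ ℓ ≠ 17)) :
    FprRow (ℓ + 1) 1 ℓ ↥(chevE7.group K) := by
  obtain ⟨e, he⟩ : ∃ e, orderOf (Fintype.card K : ZMod ℓ) = e := ⟨_, rfl⟩
  rw [he] at ho
  obtain ⟨p, hp, hpK, hℓp, hℓq, a, b, ha, hb, hba, hs, hM⟩ := setup hℓ hℓK (by omega) he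
  have : Fact p.Prime := ⟨hp⟩
  have hsimp := Cfsg.Agent.S1054.result (F := K) chevE7 (by simp)
  have : IsSimpleGroup ↥(chevE7.group K) := hsimp.1
  have hcen : Subgroup.center ↥(chevE7.group K) = ⊥ := center_eq_bot hsimp.2
  let cs : CoxeterSystem CoxeterMatrix.E₇ _ := CoxeterMatrix.E₇.toCoxeterSystem
  have hT : IsType chevE7 7 CoxeterMatrix.E₇ := by simp [IsType, typeList]
  have hW : Finite CoxeterMatrix.E₇.Group := finite_W hT cs
  obtain ⟨x, hx, hxo⟩ := e7_x (m := e) cs hℓ hℓp hℓq he (by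
    rcases ho with rfl | ⟨rfl, -⟩ <;> decide) dvd_rfl hT
  obtain ⟨s, hsd⟩ : ∃ s, s = p ^ b := ⟨_, rfl⟩
  rw [← hsd] at hs hM
  have hs2 : 2 ≤ s := by rw [hsd]; exact two_le_pow hp hb
  have key := uGood_x (M' := s ^ e) (hd_E7 cs p) this hcen hK hℓ hℓp hx hxo hM (Nat.one_le_pow _ _ (by omega))
  refine good_of_uGood (k := 1) hℓ (by rw [pow_one, ← hxo]; exact pow_orderOf_eq_one x) key ?_
  rcases ho with rfl | ⟨rfl, h17⟩
  · have hs' : (2 : ℤ) ≤ s := by exact_mod_cast hs2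
    have h1 := ar58 (e := 10) (ℓ := (ℓ : ℤ)) hs' (Or.inl ⟨rfl, le_ten hℓ hs hs2⟩)
    have h2 : 58 * (ℓ + 1) ≤ s ^ 10 + 57 := by exact_mod_cast h1
    have := hℓ.two_le
    omega
  · have h1 := le_eight hℓ hs
    have hs3 : 3 ≤ s := by
      by_contra hcon
      have h2 : s = 2 := by omega
      rw [h2] at h1
      norm_num at h1
      exact h17 ((Nat.prime_dvd_prime_iff_eq hℓ (by norm_num)).1 h1)
    have h2 := Nat.le_of_dvd (by positivity) h1
    have h5 : 81 ≤ s ^ 4 := by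
      calc 81 = 3 ^ 4 := by norm_num
        _ ≤ s ^ 4 := Nat.pow_le_pow_left hs3 4
    have h3 : 81 * s ^ 4 ≤ s ^ 8 := by
      have : s ^ 8 = s ^ 4 * s ^ 4 := by ring
      rw [this]
      exact Nat.mul_le_mul_right _ h5
    omega

theorem aux_three : ((2 : ℕ) : ZMod 3) ^ 2 = 1 := by decide

theorem base_six {ℓ s : ℕ} (hℓ : ℓ.Prime) (h : orderOf (s : ZMod ℓ) = 6) (hs : 2 ≤ s) : 3 ≤ s := by
  by_contra hcon
  have h2 : s = 2 := by omega
  have : Fact ℓ.Prime := ⟨hℓ⟩
  have h0 := phi_six hℓ h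
  rw [h2] at h0
  have h3 : ((3 : ℕ) : ZMod ℓ) = 0 := by push_cast; push_cast at h0; linear_combination h0
  rw [ZMod.natCast_eq_zero_iff] at h3
  have h4 := (Nat.prime_dvd_prime_iff_eq hℓ Nat.prime_three).1 h3
  subst h4
  rw [h2] at h
  have h6 := Nat.le_of_dvd (by norm_num) (orderOf_dvd_of_pow_eq_one aux_three)
  omega

theorem ar_six {s ℓ : ℤ} (hs : 3 ≤ s) (h : ℓ ≤ s ^ 2 - s + 1) : 22 * (ℓ + 1) ≤ s ^ 6 + 15 := by
  have h1 : (81 : ℤ) * s ^ 2 ≤ s ^ 6 := by
    have : s ^ 6 = s ^ 4 * s ^ 2 := by ring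
    rw [this]
    refine mul_le_mul_of_nonneg_right ?_ (sq_nonneg s)
    calc (81 : ℤ) = 3 ^ 4 := by norm_num
      _ ≤ s ^ 4 := pow_le_pow_left₀ (by norm_num) hs 4
  linarith only [hs, h, h1, _root_.sq_nonneg (s : ℤ)]

/-- **`E₆(q)`, order `6`.** -/
theorem e6_six {ℓ : ℕ} (hℓ : ℓ.Prime) (hℓK : (ℓ : K) ≠ 0)
    (ho : orderOf (Fintype.card K : ZMod ℓ) = 6) : FprRow (ℓ + 1) 1 ℓ ↥(chevE6.group K) := by
  have hK : 2 < Fintype.card K := base_six hℓ ho two_le_q
  obtain ⟨p, hp, hpK, hℓp, hℓq, a, b, ha, hb, hba, hs, hM⟩ := setup hℓ hℓK (by omega) ho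
  have : Fact p.Prime := ⟨hp⟩
  have hsimp := Cfsg.Agent.S1054.result (F := K) chevE6 (by simp)
  have : IsSimpleGroup ↥(chevE6.group K) := hsimp.1
  have hcen : Subgroup.center ↥(chevE6.group K) = ⊥ := center_eq_bot hsimp.2
  let cs : CoxeterSystem CoxeterMatrix.E₆ _ := CoxeterMatrix.E₆.toCoxeterSystem
  have hT : IsType chevE6 6 CoxeterMatrix.E₆ := by simp [IsType, typeList]
  have hW : Finite CoxeterMatrix.E₆.Group := finite_W hT cs
  obtain ⟨x, hx, hxo⟩ := e6_x (m := 6) cs hℓ hℓp hℓq ho (by decide) dvd_rfl hT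
  obtain ⟨s, hsd⟩ : ∃ s, s = p ^ b := ⟨_, rfl⟩
  rw [← hsd] at hs hM
  have hs2 : 2 ≤ s := by rw [hsd]; exact two_le_pow hp hb
  have hs3 := base_six hℓ hs hs2
  have key := uGood_x (M' := s ^ 6) (hd_E6 cs p) this hcen hK hℓ hℓp hx hxo hM (Nat.one_le_pow _ _ (by omega))
  refine good_of_uGood (k := 1) hℓ (by rw [pow_one, ← hxo]; exact pow_orderOf_eq_one x) key ?_
  have h1 := ar_six (by exact_mod_cast hs3) (le_six hℓ hs)
  have h2 : 22 * (ℓ + 1) ≤ s ^ 6 + 15 := by exact_mod_cast h1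
  omega

/-- **`F₄(q)`, `q` odd, order `4` and `6`.** -/
theorem f4_heis {ℓ : ℕ} (hℓ : ℓ.Prime) (hℓK : (ℓ : K) ≠ 0) (h2K : (2 : K) ≠ 0)
    (ho : orderOf (Fintype.card K : ZMod ℓ) = 4 ∨ orderOf (Fintype.card K : ZMod ℓ) = 6) :
    FprRow (ℓ + 1) 1 ℓ ↥(chevF4.group K) := by
  obtain ⟨e, he⟩ : ∃ e, orderOf (Fintype.card K : ZMod ℓ) = e := ⟨_, rfl⟩
  rw [he] at ho
  obtain ⟨p, hp, hpK, hℓp, hℓq, a, b, ha, hb, hba, hs, hM⟩ := setup hℓ hℓK (by omega) he
  have : Fact p.Prime := ⟨hp⟩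
  have hp2 : p ≠ 2 := by
    rintro rfl
    apply h2K
    exact_mod_cast CharP.cast_eq_zero K 2
  have hsimp := Cfsg.Agent.S1054.result (F := K) chevF4 (by simp)
  have : IsSimpleGroup ↥(chevF4.group K) := hsimp.1
  have hcen : Subgroup.center ↥(chevF4.group K) = ⊥ := center_eq_bot hsimp.2
  let cs : CoxeterSystem CoxeterMatrix.F₄ _ := CoxeterMatrix.F₄.toCoxeterSystem
  have hT : IsType chevF4 4 CoxeterMatrix.F₄ := by simp [IsType, typeList]
  have hW : Finite CoxeterMatrix.F₄.Group := finite_W hT cs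
  obtain ⟨x, hx, hxo⟩ := f4_x (m := e) cs h2K hℓ hℓp hℓq he (by
    rcases ho with rfl | rfl <;> decide) dvd_rfl hT
  have hodd : ∀ c, c ≠ 0 → Odd (p ^ c) := fun c _ => (hp.odd_of_ne_two hp2).pow
  have hp3 : 3 ≤ p := by have := hp.two_le; omega
  obtain ⟨s, hsd⟩ : ∃ s, s = p ^ b := ⟨_, rfl⟩
  have hK : 2 < Fintype.card K := by
    rw [ha]
    have : a ≠ 0 := by
      rintro rfl
      have := two_le_q (K := K)
      rw [ha, pow_zero] at this
      omega
    exact lt_of_lt_of_le hp3 (Nat.le_self_pow this p)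
  have hsodd : Odd s := by rw [hsd]; exact hodd b hb
  have hs3 : 3 ≤ s := by
    rw [hsd]
    exact hp3.trans (Nat.le_self_pow hb p)
  rw [← hsd] at hs hM
  have key := uGood_x (M' := s ^ e) (hd_F4 cs p h2K) this hcen hK hℓ hℓp hx hxo hM (Nat.one_le_pow _ _ (by omega))
  refine good_of_uGood (k := 1) hℓ (by rw [pow_one, ← hxo]; exact pow_orderOf_eq_one x) key ?_
  rcases ho with rfl | rfl
  · have h1 := le_four hℓ hs
    have h2 : 2 ∣ s ^ 2 + 1 := by
      have h3 : Odd (s ^ 2) := hsodd.pow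
      exact (h3.add_odd odd_one).two_dvd
    have hℓ2 : ℓ ≠ 2 := by
      rintro rfl
      have h3 := half_ord hℓ (m := 2) (by norm_num) hs
      have h4 : ((s : ZMod 2)) ^ 2 = 1 := by
        have h5 : (s : ZMod 2) = 1 := by
          obtain ⟨c, hc⟩ := hsodd
          rw [hc]
          push_cast
          have : (2 : ZMod 2) = 0 := by decide
          rw [this]; ring
        rw [h5]; ring
      have h6 := Nat.le_of_dvd (by norm_num) (orderOf_dvd_of_pow_eq_one h4)
      omega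
    have h3 : 2 * ℓ ∣ s ^ 2 + 1 := Nat.Coprime.mul_dvd_of_dvd_of_dvd
      ((Nat.coprime_primes Nat.prime_two hℓ).2 hℓ2.symm) h2 h1
    have h4 := Nat.le_of_dvd (by positivity) h3
    have h5 : 9 ≤ s ^ 2 := by
      calc 9 = 3 ^ 2 := by norm_num
        _ ≤ s ^ 2 := Nat.pow_le_pow_left hs3 2
    have h6 : 9 * s ^ 2 ≤ s ^ 4 := by
      have : s ^ 4 = s ^ 2 * s ^ 2 := by ring
      rw [this]
      exact Nat.mul_le_mul_right _ h5
    (clear * - h4 h5 h6; omega)
  · have h1 := ar_six (by exact_mod_cast hs3) (le_six hℓ hs)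
    have h2 : 22 * (ℓ + 1) ≤ s ^ 6 + 15 := by exact_mod_cast h1
    have := hℓ.two_le
    omega

end Cfsg.Agent.H441.FPR.Heis
end

private theorem dce_e2ea0e39ce3b : _root_.True := by
  try have : _root_.True := by simp only [_root_.Cfsg.Agent.KFacts.RgdTI.Ge.congr_simp]
  exact _root_.True.intro
end

-- part: H441/FPR/HeisW
section
set_option linter.all false
open scoped Cfsg.Agent.FastGrp

/-!
# The Heisenberg lemma for groups `Q` with `[Q, Q] ≤ Z ≤ Z(Q)`, possibly `Z ≠ Z(Q)`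
(after `Cfsg.Agent.H400.FprCop`, `FprHeis`)
-/

set_option autoImplicit false
set_option linter.unusedSectionVars false
open Subgroup MulAction
open scoped Pointwise commutatorElement

namespace Cfsg.Agent.H441.FPR.Heis

open Cfsg.Agent.H398.FPR (CommFull UGood Pair)
open Cfsg.Agent.H435.Fpr (PairM T3M_uGood)
open Cfsg.Agent.H400.Fpr (C2 norm_iff mem_of_coprime_pow Sc cc cc_cc cc_one cc_le cc_mono mem_cc conj_mem_cc pairM_cc)

variable {Y : Type*} [Group Y]

/-- The group `Q` with `[Q, Q] ≤ Z`, `[Z, Q] = 1`, and the `p`-element `x` centralising `Z`; the commutator `[a, ·]` is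
onto for some `a = [x, w]`. -/
structure HY (r m : ℕ) (Z Q : Subgroup Y) (x : Y) : Prop where
  c2 : C2 Z Q
  sur : ∃ w ∈ Q, ∀ z ∈ Z, ∃ b ∈ Q, ⁅⁅x, w⁆, b⁆ = z
  rg : IsPGroup r Q
  xm : x ^ m = 1
  cop : ∀ s : ℕ, m.Coprime (r ^ s)
  xZ : ∀ z ∈ Z, x * z = z * x
  xQ : ∀ y ∈ Q, x * y * x⁻¹ ∈ Q

namespace HY

variable {r m : ℕ} {Z Q : Subgroup Y} {x : Y} (H : HY r m Z Q x)

include H

theorem comm_mem {w : Y} (hw : w ∈ Q) : ⁅x, w⁆ ∈ Q := by
  rw [commutatorElement_def]
  exact mul_mem (H.xQ w hw) (inv_mem hw)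

theorem exists_pow {v : Y} (hv : v ∈ Q) : ∃ s : ℕ, v ^ r ^ s = 1 := by
  obtain ⟨s, hs⟩ := H.rg ⟨v, hv⟩
  exact ⟨s, congrArg Subtype.val hs⟩

theorem conjZ {z : Y} (hz : z ∈ Z) : x * z * x⁻¹ = z := by
  rw [H.xZ z hz, mul_inv_cancel_right]

/-- linearity of the commutator -/
theorem lin {a b c : Y} (ha : a ∈ Q) (hb : b ∈ Q) (hc : c ∈ Q) : ⁅c, a * b⁆ = ⁅c, a⁆ * ⁅c, b⁆ := by
  have h1 : ⁅c, a * b⁆ = ⁅c, a⁆ * (a * ⁅c, b⁆ * a⁻¹) := by
    simp only [commutatorElement_def]; group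
  have h2 := H.c2.cen _ (H.c2.com c hc b hb) a ha
  rw [h1, ← h2, mul_inv_cancel_right]

theorem lin_inv {b c : Y} (hb : b ∈ Q) (hc : c ∈ Q) : ⁅c, b⁻¹⁆ = ⁅c, b⁆⁻¹ := by
  have h1 := H.lin hb (inv_mem hb) hc
  rw [mul_inv_cancel, commutatorElement_one_right] at h1
  exact (inv_eq_of_mul_eq_one_right h1.symm).symm

theorem lin_z {a z c : Y} (ha : a ∈ Q) (hz : z ∈ Z) (hc : c ∈ Q) : ⁅c, z * a⁆ = ⁅c, a⁆ := by
  rw [H.lin (H.c2.le hz) ha hc, commutatorElement_eq_one_iff_mul_comm.2 (H.c2.cen z hz c hc).symm, one_mul]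

theorem lin_z' {a z c : Y} (ha : a ∈ Q) (hz : z ∈ Z) (hc : c ∈ Q) : ⁅z * a, c⁆ = ⁅a, c⁆ := by
  rw [← commutatorElement_inv, H.lin_z ha hz hc, commutatorElement_inv]

/-- powers -/
theorem pow_conj {w v z0 : Y} (hw : w ∈ Q) (hz0 : z0 ∈ Z) (hv : v ∈ Q) (hvw : ⁅x, w⁆ = z0 * v) (hxv : ⁅x, v⁆ ∈ Z)
    (i : ℕ) : ∃ z ∈ Z, x ^ i * w * (x ^ i)⁻¹ = z * (v ^ i * w) := by
  induction i with
  | zero => exact ⟨1, one_mem _, by simp⟩
  | succ i ih =>
    obtain ⟨z, hz, h1⟩ := ih
    have h2 : x ^ (i + 1) * w * (x ^ (i + 1))⁻¹ = x * (x ^ i * w * (x ^ i)⁻¹) * x⁻¹ := by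
      rw [pow_succ']; group
    have h3 : x * v * x⁻¹ = ⁅x, v⁆ * v := by rw [commutatorElement_def]; group
    have h4 : x * w * x⁻¹ = z0 * v * w := by
      have : x * w * x⁻¹ = ⁅x, w⁆ * w := by rw [commutatorElement_def]; group
      rw [this, hvw]
    have h5 : x * v ^ i * x⁻¹ = ⁅x, v⁆ ^ i * v ^ i := by
      have h6 : x * v ^ i * x⁻¹ = (x * v * x⁻¹) ^ i := (conj_pow (i := i) (a := x) (b := v)).symm
      rw [h6, h3]
      exact (show Commute (⁅x, v⁆) v from H.c2.cen _ hxv v hv).mul_pow i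
    have h6 := H.c2.cen z0 hz0 (v ^ i) (pow_mem hv i)
    refine ⟨z * ⁅x, v⁆ ^ i * z0, mul_mem (mul_mem hz (pow_mem hxv i)) hz0, ?_⟩
    calc x ^ (i + 1) * w * (x ^ (i + 1))⁻¹ = x * (z * (v ^ i * w)) * x⁻¹ := by rw [h2, h1]
      _ = (x * z * x⁻¹) * (x * v ^ i * x⁻¹) * (x * w * x⁻¹) := by group
      _ = z * (⁅x, v⁆ ^ i * v ^ i) * (z0 * v * w) := by rw [H.conjZ hz, h5, h4]
      _ = z * ⁅x, v⁆ ^ i * (v ^ i * z0) * v * w := by group
      _ = z * ⁅x, v⁆ ^ i * (z0 * v ^ i) * v * w := by rw [h6]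
      _ = z * ⁅x, v⁆ ^ i * z0 * (v ^ (i + 1) * w) := by rw [pow_succ]; group

/-- `C_V(x) ∩ [V, x] = 0`. -/
theorem mem_Z {w v z0 : Y} (hw : w ∈ Q) (hz0 : z0 ∈ Z) (hv : v ∈ Q) (hvw : ⁅x, w⁆ = z0 * v) (hxv : ⁅x, v⁆ ∈ Z) :
    v ∈ Z := by
  obtain ⟨z, hz, h1⟩ := H.pow_conj hw hz0 hv hvw hxv m
  rw [H.xm, inv_one, one_mul, mul_one, ← mul_assoc] at h1
  have h2 : z * v ^ m = 1 := right_eq_mul.1 h1
  have h3 : v ^ m ∈ Z := by
    rw [← inv_eq_of_mul_eq_one_right h2]
    exact inv_mem hz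
  obtain ⟨s, hs⟩ := H.exists_pow hv
  exact mem_of_coprime_pow (H.cop s) h3 (by rw [hs]; exact one_mem _)

/-- `C_V(x)` is the image of `C_Q(x)`. -/
theorem comm_of_mem {c : Y} (hc : c ∈ Q) (h : ⁅x, c⁆ ∈ Z) : x * c = c * x := by
  have h1 : ∀ i : ℕ, x ^ i * c * (x ^ i)⁻¹ = ⁅x, c⁆ ^ i * c := by
    intro i
    induction i with
    | zero => simp
    | succ i ih =>
      have h2 : x ^ (i + 1) * c * (x ^ (i + 1))⁻¹ = x * (x ^ i * c * (x ^ i)⁻¹) * x⁻¹ := by
        rw [pow_succ']; group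
      have h3 : x * c * x⁻¹ = ⁅x, c⁆ * c := by rw [commutatorElement_def]; group
      calc x ^ (i + 1) * c * (x ^ (i + 1))⁻¹ = x * (⁅x, c⁆ ^ i * c) * x⁻¹ := by rw [h2, ih]
        _ = (x * ⁅x, c⁆ ^ i * x⁻¹) * (x * c * x⁻¹) := by group
        _ = ⁅x, c⁆ ^ i * (⁅x, c⁆ * c) := by rw [H.conjZ (pow_mem h i), h3]
        _ = _ := by rw [pow_succ]; group
  have h2 := h1 m
  rw [H.xm, inv_one, one_mul, mul_one] at h2
  have h3 : ⁅x, c⁆ ^ m = 1 := right_eq_mul.1 h2
  obtain ⟨s, hs⟩ := H.exists_pow (H.c2.le h)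
  have h4 : ⁅x, c⁆ ∈ (⊥ : Subgroup Y) :=
    mem_of_coprime_pow (H.cop s) (by rw [h3]; exact one_mem _) (by rw [hs]; exact one_mem _)
  exact commutatorElement_eq_one_iff_mul_comm.1 (mem_bot.1 h4)

end HY

/-- The preimage of `[Q/Z, x]`. -/
def RY {r m : ℕ} {Z Q : Subgroup Y} {x : Y} (H : HY r m Z Q x) : Subgroup Y where
  carrier := {v | ∃ w ∈ Q, ∃ z ∈ Z, v = z * ⁅x, w⁆}
  one_mem' := ⟨1, one_mem _, 1, one_mem _, by simp⟩
  mul_mem' := by
    rintro _ _ ⟨w, hw, z, hz, rfl⟩ ⟨w', hw', z', hz', rfl⟩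
    have h1 := H.c2.cen z' hz' _ (H.comm_mem hw)
    obtain ⟨y, hy, hy'⟩ := H.c2.mul_comm_mod hw (H.comm_mem hw')
    -- `⁅x, w w'⁆ = ⁅x, w⁆ w ⁅x, w'⁆ w⁻¹`
    refine ⟨w * w', mul_mem hw hw', z * z' * y⁻¹, mul_mem (mul_mem hz hz') (inv_mem hy), ?_⟩
    have h2 : ⁅x, w * w'⁆ = ⁅x, w⁆ * (w * ⁅x, w'⁆) * w⁻¹ := by
      simp only [commutatorElement_def]; group
    have h3 := H.c2.cen y hy _ (H.comm_mem hw)
    have h4 : z * ⁅x, w⁆ * (z' * ⁅x, w'⁆) = z * z' * (⁅x, w⁆ * ⁅x, w'⁆) := by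
      calc z * ⁅x, w⁆ * (z' * ⁅x, w'⁆) = z * (⁅x, w⁆ * z') * ⁅x, w'⁆ := by group
        _ = z * (z' * ⁅x, w⁆) * ⁅x, w'⁆ := by rw [h1]
        _ = _ := by group
    rw [h4, h2, hy']
    calc z * z' * (⁅x, w⁆ * ⁅x, w'⁆) = z * z' * y⁻¹ * ((y * ⁅x, w⁆) * (⁅x, w'⁆ * w) * w⁻¹) := by group
      _ = _ := by rw [h3]; group
  inv_mem' := by
    rintro _ ⟨w, hw, z, hz, rfl⟩
    -- `⁅x, w⁻¹⁆ = w⁻¹ ⁅x, w⁆⁻¹ w`
    obtain ⟨y, hy, hy'⟩ := H.c2.mul_comm_mod (inv_mem hw) (inv_mem (H.comm_mem hw))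
    refine ⟨w⁻¹, inv_mem hw, z⁻¹ * y⁻¹, mul_mem (inv_mem hz) (inv_mem hy), ?_⟩
    have h2 : ⁅x, w⁻¹⁆ = w⁻¹ * ⁅x, w⁆⁻¹ * w := by
      simp only [commutatorElement_def]; group
    rw [h2, hy']
    have h1 := H.c2.cen z hz _ (H.comm_mem hw)
    rw [h1]
    have h3 := H.c2.cen z⁻¹ (inv_mem hz) _ (inv_mem (H.comm_mem hw))
    rw [mul_inv_rev, h3]
    have h4 := H.c2.cen z⁻¹ (inv_mem hz) _ (inv_mem (H.comm_mem hw))
    rw [← h4]
    group

namespace HY

variable {r m : ℕ} {Z Q : Subgroup Y} {x : Y} (H : HY r m Z Q x)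

theorem RY_le : RY H ≤ Q := by
  rintro _ ⟨w, hw, z, hz, rfl⟩
  exact mul_mem (H.c2.le hz) (H.comm_mem hw)

theorem Z_le_RY : Z ≤ RY H := fun z hz => ⟨1, one_mem _, z, hz, by simp⟩

theorem comm_mem_RY {w : Y} (hw : w ∈ Q) : ⁅x, w⁆ ∈ RY H := ⟨w, hw, 1, one_mem _, by simp⟩

theorem xRY : ∀ y ∈ RY H, x * y * x⁻¹ ∈ RY H := by
  rintro _ ⟨w, hw, z, hz, rfl⟩
  refine ⟨x * w * x⁻¹, H.xQ w hw, z, hz, ?_⟩
  have h1 : x * (z * ⁅x, w⁆) * x⁻¹ = (x * z * x⁻¹) * (x * ⁅x, w⁆ * x⁻¹) := by group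
  rw [h1, H.conjZ hz]
  simp only [commutatorElement_def]
  group

theorem free {v : Y} (hv : v ∈ RY H) (h : ⁅x, v⁆ ∈ Z) : v ∈ Z := by
  obtain ⟨w, hw, z, hz, hvz⟩ := hv
  refine H.mem_Z hw (inv_mem hz) (H.RY_le ⟨w, hw, z, hz, hvz⟩) ?_ h
  rw [hvz]; group

/-- `V = C_V(x) + [V, x]` -/
theorem decomp [Finite Y] {w : Y} (hw : w ∈ Q) : ∃ c ∈ Q, ∃ v ∈ RY H, x * c = c * x ∧ w = c * v := by
  obtain ⟨v, hv, z, hz, h1⟩ := (H.c2.mono H.Z_le_RY H.RY_le).surj (g := x) H.xRY
    (fun y hy => by rw [H.conjZ hy]; exact hy) (fun y hy h => H.free hy h) (H.comm_mem_RY hw)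
  have hvQ := H.RY_le hv
  have hcQ : w * v⁻¹ ∈ Q := mul_mem hw (inv_mem hvQ)
  refine ⟨w * v⁻¹, hcQ, v, hv, ?_, by group⟩
  apply H.comm_of_mem hcQ
  have h2 : ⁅x, w * v⁻¹⁆ = ⁅x, w⁆ * ((w * v⁻¹) * (⁅x, v⁆)⁻¹ * (w * v⁻¹)⁻¹) := by
    simp only [commutatorElement_def]; group
  rw [h2, h1]
  set c := ⁅x, w⁆
  set d := w * v⁻¹ with hd
  have h3 : c * (d * (z * c)⁻¹ * d⁻¹) = ⁅c, d⁆ * (d * z⁻¹ * d⁻¹) := by
    have h4 : (z * c)⁻¹ = c⁻¹ * z⁻¹ := mul_inv_rev _ _
    rw [h4, commutatorElement_def]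
    group
  rw [h3]
  refine mul_mem (H.c2.com c (H.comm_mem hw) d hcQ) ?_
  have h4 := H.c2.cen z⁻¹ (inv_mem hz) d hcQ
  rw [← h4, mul_inv_cancel_right]
  exact inv_mem hz

/-- `C_V(x)` is orthogonal to `[V, x]`. -/
theorem orth {c v : Y} (hc : c ∈ Q) (hxc : x * c = c * x) (hv : v ∈ RY H) : ⁅c, v⁆ = 1 := by
  obtain ⟨w, hw, z, hz, rfl⟩ := hv
  rw [H.lin_z (H.comm_mem hw) hz hc]
  have h1 : ⁅x, w⁆ = (x * w * x⁻¹) * w⁻¹ := by rw [commutatorElement_def]
  rw [h1, H.lin (H.xQ w hw) (inv_mem hw) hc, H.lin_inv hw hc]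
  have h2 : ⁅c, x * w * x⁻¹⁆ = x * ⁅c, w⁆ * x⁻¹ := by
    have h3 : x * ⁅c, w⁆ * x⁻¹ = ⁅x * c * x⁻¹, x * w * x⁻¹⁆ := by
      simp only [commutatorElement_def]; group
    rw [h3, hxc, mul_inv_cancel_right]
  rw [h2, H.conjZ (H.c2.com c hc w hw), mul_inv_cancel]

/-- `[R, x] = R` -/
theorem commFull [Finite Y] : CommFull (RY H) x := by
  refine (H.c2.mono H.Z_le_RY H.RY_le).commFull H.xRY (fun y hy => by rw [H.conjZ hy]; exact hy)
    (fun y hy h => H.free hy h) ?_
  intro V hV hVZ z hz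
  obtain ⟨w, hw, hsur⟩ := H.sur
  have hv := H.comm_mem_RY hw
  set v := ⁅x, w⁆ with hvd
  obtain ⟨b, hb, hbz⟩ := hsur z hz
  obtain ⟨c, hc, v', hv', hxc, rfl⟩ := H.decomp hb
  have h1 : ⁅v, c * v'⁆ = ⁅v, v'⁆ := by
    rw [H.lin hc (H.RY_le hv') (H.RY_le hv), ← commutatorElement_inv, H.orth hc hxc hv, inv_one, one_mul]
  obtain ⟨v1, hv1, z1, hz1, e1⟩ := hVZ v hv
  obtain ⟨v2, hv2, z2, hz2, e2⟩ := hVZ v' hv'
  have h2 : ⁅v1, v2⁆ = ⁅v, v'⁆ := by
    rw [e1, e2, H.lin_z' (H.RY_le hv) hz1 (mul_mem (H.c2.le hz2) (H.RY_le hv')),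
      H.lin_z (H.RY_le hv') hz2 (H.RY_le hv)]
  rw [← hbz, h1, ← h2, commutatorElement_def]
  exact mul_mem (mul_mem (mul_mem hv1 hv2) (inv_mem hv1)) (inv_mem hv2)

theorem pairM [Finite Y] (hr : r.Prime) {p k M : ℕ} (hp : p.Prime) (hm : m = p ^ k)
    (hM : ∀ t : ℕ, t ≠ 0 → r ^ t ≡ 1 [MOD p] → M ≤ r ^ t) : PairM M x (RY H) := by
  have h1 : IsPGroup r (RY H) := H.rg.to_le H.RY_le
  have hxm : x ^ p ^ k = 1 := hm ▸ H.xm
  exact PairM.of_pGroup hp hr hxm h1 (norm_iff.2 H.xRY) H.commFull hM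

end HY


/-- **The Heisenberg lemma**, with the order of `C_Q(x)`. -/
theorem heis_uGoodY [Finite Y] {r m p k q D M : ℕ} (hr : r.Prime) (hp : p.Prime) (hm : m = p ^ k) {Z Q : Subgroup Y}
    {x n h : Y} (H : HY r m Z Q x) (S : Sc q Z Q h) (hn : n ∈ Z ⊔ cc n Z) (hh : h ∈ Z ⊔ cc n Z)
    (hgen : Q ⊔ cc n Q = ⊤) (hxn : n * x = x * n) (hxh : h * x = x * h)
    (hcard : Nat.card ↥(Q ⊓ centralizer {x}) < q ^ (D + 1) * Nat.card Z)
    (hM : ∀ t : ℕ, t ≠ 0 → r ^ t ≡ 1 [MOD p] → M ≤ r ^ t) (hM1 : 1 ≤ M) :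
    UGood (D + 2) (M + D + 1) x := by
  have hP := H.pairM hr hp hm hM
  -- the centraliser
  let C : Subgroup Y := Q ⊓ centralizer {x}
  have hCmem : ∀ y, y ∈ C ↔ y ∈ Q ∧ y * x = x * y := fun y => by
    rw [mem_inf, mem_centralizer_singleton_iff]
  have hCC : ∀ y ∈ C, h * y * h⁻¹ ∈ C := by
    intro y hy
    rw [hCmem] at hy ⊢
    refine ⟨S.hQ y hy.1, ?_⟩
    have hxh' : Commute h x := hxh
    have hxy : Commute y x := hy.2
    exact ((hxh'.mul_left hxy).mul_left hxh'.inv_left)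
  have hZC : Z ≤ C := fun z hz => (hCmem z).2 ⟨H.c2.le hz, (H.xZ z hz).symm⟩
  obtain ⟨e, he, hgenC⟩ := S.gens H.c2 (inf_le_left : C ≤ Q) hCC D Z le_rfl hZC S.hZ hcard
  -- the family
  let R : Option (Option (Fin D)) → Subgroup Y := fun a => match a with
    | none => RY H
    | some none => cc n (RY H)
    | some (some i) => cc (e i) (cc n (RY H))
  have hR : ∀ a, PairM M x (R a) := by
    rintro (_ | _ | i)
    · exact hP
    · exact pairM_cc hP hxn
    · exact pairM_cc (pairM_cc hP hxn) ((hCmem _).1 (he i)).2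
  have hcl : Subgroup.closure ({x} ∪ ⋃ a, (R a : Set Y)) = ⊤ := by
    set K := Subgroup.closure ({x} ∪ ⋃ a, (R a : Set Y)) with hK
    have hRK : ∀ a, R a ≤ K := by
      intro a y hy
      apply Subgroup.subset_closure
      exact Or.inr (Set.mem_iUnion.2 ⟨a, hy⟩)
    have h1 : RY H ≤ K := hRK none
    have h2 : cc n (RY H) ≤ K := hRK (some none)
    have h3 : ∀ i, cc (e i) (cc n (RY H)) ≤ K := fun i => hRK (some (some i))
    have hZK : Z ≤ K := H.Z_le_RY.trans h1
    have hZK' : cc n Z ≤ K := (cc_mono H.Z_le_RY).trans h2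
    have hLK : Z ⊔ cc n Z ≤ K := sup_le hZK hZK'
    have hnK : n ∈ K := hLK hn
    have hhK : h ∈ K := hLK hh
    -- the conjugates of `h`
    have hhe : ∀ i, e i * h * (e i)⁻¹ ∈ K := by
      intro i
      have h4 : cc (e i) (Z ⊔ cc n Z) ≤ K := by
        unfold cc
        rw [Subgroup.map_sup]
        refine sup_le ?_ ((map_mono (map_mono H.Z_le_RY)).trans (h3 i))
        rintro _ ⟨z, hz, rfl⟩
        have h5 := H.c2.cen z hz _ ((hCmem _).1 (he i)).1
        show e i * z * (e i)⁻¹ ∈ K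
        rw [← h5, mul_inv_cancel_right]
        exact hZK hz
      exact h4 (conj_mem_cc hh)
    -- `e i ∈ K`
    have heK : ∀ i, e i ∈ K := by
      intro i
      let V : Subgroup Y := K ⊓ Q
      have hV : ∀ y ∈ V, h * y * h⁻¹ ∈ V := fun y hy =>
        mem_inf.2 ⟨mul_mem (mul_mem hhK (mem_inf.1 hy).1) (inv_mem hhK), S.hQ y (mem_inf.1 hy).2⟩
      have hZV : Z ≤ V := le_inf hZK H.c2.le
      have heQ := ((hCmem _).1 (he i)).1
      have h4 : ⁅h, e i⁆ ∈ V := by
        refine mem_inf.2 ⟨?_, ?_⟩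
        · have h5 : ⁅h, e i⁆ = h * (e i * h * (e i)⁻¹)⁻¹ := by rw [commutatorElement_def]; group
          rw [h5]
          exact mul_mem hhK (inv_mem (hhe i))
        · rw [commutatorElement_def]
          exact mul_mem (S.hQ _ heQ) (inv_mem heQ)
      have hf : ∀ v ∈ Q, ⁅h, v⁆ ∈ Z → v ∈ Z := by
        intro v hv h5
        apply S.free 1 one_pos (by have := S.two; omega) v hv
        rwa [pow_one]
      exact (mem_inf.1 (H.c2.free_sub S.hZ hf hZV inf_le_right hV heQ h4)).1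
    have hCK : C ≤ K := hgenC K hZK (fun y hy => mul_mem (mul_mem hhK hy) (inv_mem hhK)) heK
    have hQK : Q ≤ K := by
      intro w hw
      obtain ⟨c, hc, v, hv, hxc, rfl⟩ := H.decomp hw
      exact mul_mem (hCK ((hCmem c).2 ⟨hc, hxc.symm⟩)) (h1 hv)
    rw [eq_top_iff, ← hgen]
    exact sup_le hQK (cc_le hnK hQK)
  have h4 := T3M_uGood hM1 R hR hcl
  have h5 : Fintype.card (Option (Option (Fin D))) = D + 2 := by
    rw [Fintype.card_option, Fintype.card_option, Fintype.card_fin]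
  rw [h5] at h4
  have h6 : M + (D + 2) - 1 = M + D + 1 := by omega
  rwa [h6] at h4


end Cfsg.Agent.H441.FPR.Heis
end

-- part: H441/FPR/HeisX
section
set_option linter.all false
open scoped Cfsg.Agent.FastGrp

/-!
# The Heisenberg lemma for a long root of `F₄(q)`, `q` even (after `Cfsg.Agent.H400.TwoExcHeis`, `FprRgd`)
-/

set_option autoImplicit false
set_option linter.unusedSectionVars false
set_option linter.unusedVariables false

namespace Cfsg.Agent.H441.FPR.Heis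

open CoxeterSystem Cfsg.Agent.ChevalleyStructure.CoxeterGeom Cfsg.Agent.Tits.Roots Cfsg.Agent.Tits.Core
  Cfsg.Agent.Tits.Exchange Cfsg.Agent.Nodes.Reps Cfsg.Agent.Nodes.BNOf Cfsg.Agent.Nodes.StabComb
  Cfsg.Agent.Nodes.Bruhat Cfsg.Agent.Nodes.OppDec Cfsg.Agent.Nodes.PosPair Cfsg.Agent.Nodes.Coroot
  Cfsg.Agent.KFacts.RgdPar Cfsg.Agent.KFacts.RgdSL Cfsg.Agent.KFacts.RgdTI Cfsg.Agent.Nodes.LeviDec
open Cfsg.Agent.H400.TwoExc Cfsg.Agent.H400.Fpr
open Cfsg.Agent.H398.FPR (CommFull UGood Pair)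
open Cfsg.Agent.H435.Fpr (PairM T3M_uGood)
open scoped commutatorElement

variable {I W Y : Type*} [Fintype I] [DecidableEq I] [Group W] [Group Y] {M : CoxeterMatrix I}
  {cs : CoxeterSystem M W} {A : I → I → ℤ} {h : IsCartan M A} {p : ℕ} {T : Subgroup Y} {n : I → Y}
  {X : (I → ℤ) → Subgroup Y}

/-- the hypotheses on the long root `r`; the root groups of `Gt r \\ S` are central in `Q` -/
structure Hv (R : RGD cs h p T n X) (r : I → ℤ) (S : Set (I → ℤ)) : Prop where
  L : LR R r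
  sub : ∀ s ∈ Gt cs h r, s ≠ r → r - s ∈ Gt cs h r
  com : ∀ s ∈ Gt cs h r, ∀ t ∈ Gt cs h r, s ≠ r → t ≠ r → s + t ≠ r → ∀ u ∈ X s, ∀ v ∈ X t, u * v = v * u
  cen : ∀ s ∈ Gt cs h r, s ≠ r → ∀ u ∈ X s, ∀ v ∈ X (r - s), ⁅u, v⁆ ∈ X r
  SG : ∀ s ∈ S, s ∈ Gt cs h r ∧ s ≠ r
  cenS : ∀ s ∈ Gt cs h r, s ∉ S → ∀ t ∈ Gt cs h r, ∀ u ∈ X s, ∀ v ∈ X t, u * v = v * u
  sur : ∀ s ∈ S, ∀ u ∈ X s, u ≠ 1 → ∀ w ∈ X r, ∃ v ∈ X (r - s), ⁅u, v⁆ = w

namespace Hv

variable {R : RGD cs h p T n X} {r : I → ℤ} {Sg : Set (I → ℤ)} (H : Hv R r Sg) [Finite W]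

include H

theorem mem_Gt : r ∈ Gt cs h r := ⟨H.L.root, by rw [cpr_self cs h H.L.root]; norm_num⟩

theorem X_le {s : I → ℤ} (hs : s ∈ Gt cs h r) : X s ≤ QQ cs h X r := RGD.le_Sup hs

theorem X_le_QQ : X r ≤ QQ cs h X r := H.X_le H.mem_Gt

theorem comm_r {z v : Y} (hz : z ∈ X r) {s : I → ℤ} (hs : s ∈ Gt cs h r) (hv : v ∈ X s) : z * v = v * z :=
  (H.L.comm s hs.1 hs.2.le v hv z hz).symm

theorem central {z g : Y} (hz : z ∈ X r) (hg : g ∈ QQ cs h X r) : z * g = g * z := by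
  refine (H.L.comm' (RGD.Sup_mono (S' := Ge cs h r) (fun s hs => ⟨hs.1, hs.2.le⟩) hg) hz).symm

theorem comm_mem {a b : Y} (ha : a ∈ QQ cs h X r) (hb : b ∈ QQ cs h X r) : ⁅a, b⁆ ∈ X r := by
  refine comm_mem_of_gen (fun s : Gt cs h r => X s.1) (fun z hz s v hv => H.comm_r hz s.2 hv) ?_ a ha b hb
  rintro ⟨s, hs⟩ ⟨t, ht⟩ u hu v hv
  have h1 : u * v = v * u → ⁅u, v⁆ ∈ X r := by
    intro h1
    rw [commutatorElement_eq_one_iff_mul_comm.2 h1]; exact one_mem _
  by_cases hsr : s = r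
  · subst hsr
    exact h1 (H.comm_r hu ht hv)
  by_cases htr : t = r
  · subst htr
    exact h1 (H.comm_r hv hs hu).symm
  by_cases hst : s + t = r
  · have h2 : t = r - s := by rw [← hst]; abel
    subst h2
    exact H.cen s hs hsr u hu v hv
  · exact h1 (H.com s hs t ht hsr htr hst u hu v hv)

/-- an element outside `X r` has a non-trivial component -/
theorem exists_comp {E : Subgroup Y} (hrE : X r ≤ E) (hE : E ≤ QQ cs h X r) {S : Set (I → ℤ)}
    (hS : ∀ s ∈ Gt cs h r, s ≠ r → s ∉ S → X s ≤ E) (hSG : S ⊆ Gt cs h r) {y : Y}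
    (hy : y ∈ QQ cs h X r) (hyE : y ∉ E) :
    ∃ s ∈ S, ∃ x ∈ X s, x ≠ 1 ∧ ∃ y' ∈ RGD.Sup X (S \ {s}) ⊔ E, y = x * y' := by
  classical
  have hfin : S.Finite := (RGD.finite_roots (cs := cs) (h := h)).subset fun a ha => (hSG ha).1
  have h1 : (⨆ i ∈ hfin.toFinset, (fun i => if i ∈ S then X i else ⊥) i) ⊔ E = QQ cs h X r := by
    apply le_antisymm
    · refine sup_le (iSup₂_le fun i hi => ?_) hE
      rw [Set.Finite.mem_toFinset] at hi
      show (if i ∈ S then X i else ⊥) ≤ _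
      rw [if_pos hi]
      exact H.X_le (hSG hi)
    · refine RGD.Sup_le fun s hs => ?_
      by_cases hsr : s = r
      · subst hsr; exact le_trans hrE le_sup_right
      by_cases hsS : s ∈ S
      · refine le_trans (le_trans ?_ (le_iSup₂ (f := fun i (_ : i ∈ hfin.toFinset) =>
          (fun i => if i ∈ S then X i else ⊥) i) s ((Set.Finite.mem_toFinset _).2 hsS))) le_sup_left
        show _ ≤ (if s ∈ S then X s else ⊥)
        rw [if_pos hsS]
      · exact le_trans (hS s hs hsr hsS) le_sup_right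
  obtain ⟨s, hs, x, hx, hx1, y', hy', e⟩ := exists_component (Q := QQ cs h X r) (Z := E)
    (fun a ha b hb => hrE (H.comm_mem ha hb)) hE (fun i => if i ∈ S then X i else ⊥) (fun i => by
      show (if i ∈ S then X i else ⊥) ≤ _
      split_ifs with hi
      · exact H.X_le (hSG hi)
      · exact bot_le) hfin.toFinset (by rw [h1]; exact hy) hyE
  have hsS : s ∈ S := (Set.Finite.mem_toFinset _).1 hs
  refine ⟨s, hsS, x, ?_, hx1, y', ?_, e⟩
  · have h2 : x ∈ (if s ∈ S then X s else ⊥) := hx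
    rwa [if_pos hsS] at h2
  · refine sup_le_sup_right (iSup₂_le fun i hi => ?_) E hy'
    rw [Finset.mem_erase, Set.Finite.mem_toFinset] at hi
    show (if i ∈ S then X i else ⊥) ≤ _
    rw [if_pos hi.2]
    exact RGD.le_Sup (S := S \ {s}) ⟨hi.2, hi.1⟩

/-- the commutator with an element having a component in `S` is onto -/
theorem surj {y : Y} (hy : y ∈ QQ cs h X r) (hyr : y ∉ RGD.Sup X (Gt cs h r \ Sg)) {w : Y} (hw : w ∈ X r) :
    ∃ g ∈ QQ cs h X r, ⁅y, g⁆ = w := by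
  have hrS : r ∉ Sg := fun h0 => (H.SG r h0).2 rfl
  have hE : RGD.Sup X (Gt cs h r \ Sg) ≤ QQ cs h X r := RGD.Sup_mono Set.sdiff_subset
  have hrE : X r ≤ RGD.Sup X (Gt cs h r \ Sg) := RGD.le_Sup ⟨H.mem_Gt, hrS⟩
  obtain ⟨s, hs, x, hx, hx1, y', hy', rfl⟩ := H.exists_comp (E := RGD.Sup X (Gt cs h r \ Sg)) hrE hE
    (S := Sg) (fun s hs hsr hsS => RGD.le_Sup (S := Gt cs h r \ Sg) ⟨hs, hsS⟩) (fun s hs => (H.SG s hs).1) hy hyr
  obtain ⟨hsG, hsr⟩ := H.SG s hs
  obtain ⟨v, hv, hvw⟩ := H.sur s hs x hx hx1 w hw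
  have hr' := H.sub s hsG hsr
  have hne : r - s ≠ r := by
    intro h1
    exact hsG.1.ne_zero (by simpa using h1)
  refine ⟨v, H.X_le hr' hv, ?_⟩
  have h1 : RGD.Sup X (Sg \ {s}) ⊔ RGD.Sup X (Gt cs h r \ Sg) ≤ Subgroup.centralizer ({v} : Set Y) := by
    refine sup_le (RGD.Sup_le ?_) (RGD.Sup_le ?_)
    · rintro t ⟨ht, hts⟩ u hu
      have hts : t ≠ s := hts
      obtain ⟨htG, htr⟩ := H.SG t ht
      rw [Subgroup.mem_centralizer_iff]
      rintro _ rfl
      refine (H.com t htG (r - s) hr' htr hne ?_ u hu _ hv).symm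
      intro h2
      apply hts
      have : t = t + (r - s) - (r - s) := by abel
      rw [this, h2]; abel
    · rintro t ⟨ht, htS⟩ u hu
      rw [Subgroup.mem_centralizer_iff]
      rintro _ rfl
      exact (H.cenS t ht htS (r - s) hr' u hu _ hv).symm
  have h2 : v * y' = y' * v := Subgroup.mem_centralizer_iff.1 (h1 hy') v rfl
  rw [← hvw]
  simp only [commutatorElement_def]
  have h3 : x * y' * v * (x * y')⁻¹ * v⁻¹ = x * (y' * v) * y'⁻¹ * x⁻¹ * v⁻¹ := by group
  rw [h3, ← h2]; group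

end Hv

/-- The root groups with `⟨s, r^∨⟩ ≥ 0` normalise `Q`. -/
theorem X_norm_QQ' {R : RGD cs h p T n X} {r : I → ℤ} {Sg : Set (I → ℤ)} (H : Hv R r Sg) [Finite W] {s : I → ℤ}
    (hs : IsRoot cs h s) (h0 : 0 ≤ cpr cs h s r) {a b : Y} (ha : a ∈ X s) (hb : b ∈ QQ cs h X r) :
    a * b * a⁻¹ ∈ QQ cs h X r := by
  have h1 : QQ cs h X r ≤ (QQ cs h X r).comap (MulAut.conj a).toMonoidHom := by
    refine RGD.Sup_le fun t ht v hv => ?_
    show a * v * a⁻¹ ∈ QQ cs h X r
    by_cases hst : s = t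
    · subst hst
      exact mul_mem (mul_mem (H.X_le ht ha) (H.X_le ht hv)) (inv_mem (H.X_le ht ha))
    by_cases hst' : s = -t
    · exfalso
      rw [hst', ← neg_one_smul ℤ t, cpr_smul cs h _ _ H.L.root] at h0
      have := ht.2
      omega
    have h2 : a * v * a⁻¹ = ⁅a, v⁆ * v := by rw [commutatorElement_def]; group
    rw [h2]
    refine mul_mem ?_ (H.X_le ht hv)
    refine (iSup_le ?_ : btw cs h X s t ≤ QQ cs h X r) (R.comm s t hs ht.1 hst hst' a ha v hv)
    rintro ⟨z, hz⟩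
    obtain ⟨hz1, m, u, v, hm, hu, hv, he⟩ := hz
    refine H.X_le ⟨hz1, ?_⟩
    have h3 := congrArg (fun y => cpr cs h y r) he
    simp only [cpr_smul cs h _ _ H.L.root, cpr_add cs h _ _ H.L.root] at h3
    have h4 : 0 < v * cpr cs h t r := mul_pos hv ht.2
    have h5 : 0 ≤ u * cpr cs h s r := mul_nonneg hu.le h0
    by_contra h6
    push Not at h6
    have h7 : m * cpr cs h z r ≤ 0 := mul_nonpos_of_nonneg_of_nonpos hm.le h6
    omega
  exact h1 hb

variable {Sg : Set (I → ℤ)}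

theorem c2_of_hv {R : RGD cs h p T n X} {r : I → ℤ} {Sg : Set (I → ℤ)} [Finite W] (H : Hv R r Sg) : C2 (X r) (QQ cs h X r) :=
  ⟨H.X_le_QQ, fun _ hz _ hg => H.central hz hg, fun _ ha _ hb => H.comm_mem ha hb⟩

theorem ScR.sc' {R : RGD cs h p T n X} {r : I → ℤ} {Sg : Set (I → ℤ)} [Finite W] [Finite Y] (H : Hv R r Sg) {q : ℕ} {g : Y}
    (S : ScR R r q g) : Sc q (X r) (QQ cs h X r) g := by
  have hQ : ∀ y ∈ QQ cs h X r, g * y * g⁻¹ ∈ QQ cs h X r := by
    have h1 : QQ cs h X r ≤ (QQ cs h X r).comap (MulAut.conj g).toMonoidHom :=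
      RGD.Sup_le fun t ht v hv => H.X_le ht (S.nor t ht v hv)
    exact fun y hy => h1 hy
  have hZ : ∀ y ∈ X r, g * y * g⁻¹ ∈ X r := S.nor r H.mem_Gt
  refine ⟨S.two, hQ, hZ, ?_⟩
  intro i hi hiq
  refine free_of_surj (c2_of_hv H) (pow_inv hQ i) (pow_inv hZ i) (fun s : {s // s ∈ Gt cs h r ∧ s ≠ r} => X s.1)
    (fun s => H.X_le s.2.1) (RGD.Sup_le fun s hs => ?_) ?_
  · by_cases hsr : s = r
    · subst hsr
      exact le_sup_left
    · exact (le_iSup (fun s : {s // s ∈ Gt cs h r ∧ s ≠ r} => X s.1) ⟨s, hs, hsr⟩).trans le_sup_right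
  · rintro ⟨s, hs, hsr⟩ u hu
    obtain ⟨u', hu', h1⟩ := S.sur i hi hiq s hs hsr u hu
    exact ⟨u', H.X_le hs hu', h1⟩

theorem L0_comm' {R : RGD cs h p T n X} {r : I → ℤ} {Sg : Set (I → ℤ)} [Finite W] (H : Hv R r Sg) {x : Y} (hx : x ∈ L0 cs h X r) {z : Y}
    (hz : z ∈ X r ⊔ X (-r)) : x * z = z * x := by
  have hr := H.L.root
  obtain ⟨w, hw⟩ : ∃ w : W, rep cs h w r = -r := by
    obtain ⟨v, i, rfl⟩ := hr
    refine ⟨Cfsg.Agent.Nodes.SubComb.rfl' cs v i, ?_⟩
    rw [rep_rfl'_eq, cpr_self cs h ((isRoot_sr cs h i).act v)]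
    rw [two_smul]; abel
  have H' : LR R (-r) := by rw [← hw]; exact H.L.act w
  have h1 : X r ⊔ X (-r) ≤ Subgroup.centralizer (L0 cs h X r : Set Y) := by
    refine sup_le ?_ ?_
    · intro z hz
      rw [Subgroup.mem_centralizer_iff]
      intro y hy
      exact H.L.comm' (RGD.Sup_mono (S' := Ge cs h r) (fun s hs => ⟨hs.1, hs.2.ge⟩) hy) hz
    · intro z hz
      rw [Subgroup.mem_centralizer_iff]
      intro y hy
      refine H'.comm' (RGD.Sup_mono (S' := Ge cs h (-r)) (fun s hs => ⟨hs.1, ?_⟩) hy) hz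
      rw [cpr_neg_right cs h _ hr, hs.2, neg_zero]
  exact Subgroup.mem_centralizer_iff.1 (h1 hz) x hx

theorem L0_norm' {R : RGD cs h p T n X} {r : I → ℤ} {Sg : Set (I → ℤ)} [Finite W] [Finite Y] (H : Hv R r Sg) {x : Y} (hx : x ∈ L0 cs h X r) :
    ∀ y ∈ QQ cs h X r, x * y * x⁻¹ ∈ QQ cs h X r := by
  have h1 : L0 cs h X r ≤ Subgroup.normalizer (QQ cs h X r : Set Y) := by
    refine RGD.Sup_le fun s hs a ha => norm_iff.2 fun b hb => X_norm_QQ' H hs.1 hs.2.ge ha hb
  exact fun y hy => norm_iff.1 (h1 hx) y hy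

/-- `Q_r` and `Q_{-r}` generate. -/
theorem sup_QQ_eq_top' {R : RGD cs h p T n X} {r : I → ℤ} {Sg : Set (I → ℤ)} [Finite W] [Finite Y] (H : Hv R r Sg)
    (hs : IsSimpleGroup Y) (hG1 : Cfsg.Agent.Nodes.RGDLib.G1 cs h X = ⊤) :
    QQ cs h X r ⊔ QQ cs h X (-r) = ⊤ := by
  have hr := H.L.root
  obtain ⟨m, hm, hmX⟩ := exists_refl R hr
  have hcjQ := cj_QQ (R := R) hr hmX
  have hX2 : ∀ s, IsRoot cs h s → s ∈ Gt cs h r ∨ cpr cs h s r = 0 ∨ s ∈ Gt cs h (-r) := by
    intro s hs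
    rcases lt_trichotomy (cpr cs h s r) 0 with h0 | h0 | h0
    · exact Or.inr (Or.inr ⟨hs, by rw [cpr_neg_right cs h _ hr]; omega⟩)
    · exact Or.inr (Or.inl h0)
    · exact Or.inl ⟨hs, h0⟩
  rw [← hcjQ]
  set K := QQ cs h X r ⊔ cj m (QQ cs h X r) with hK
  have hnorm : K.Normal := by
    have h1 : Cfsg.Agent.Nodes.RGDLib.G1 cs h X ≤ Subgroup.normalizer (K : Set Y) := by
      refine RGD.Sup_le fun s hs => ?_
      rcases hX2 s hs with h0 | h0 | h0
      · exact ((H.X_le h0).trans le_sup_left).trans Subgroup.le_normalizer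
      · intro a ha
        have haL : a ∈ L0 cs h X r := RGD.le_Sup (S := {s | IsRoot cs h s ∧ cpr cs h s r = 0}) ⟨hs, h0⟩ ha
        have ham : a * m = m * a := L0_comm' H haL hm
        have h2 := L0_norm' H haL
        refine norm_iff.2 ?_
        have h3 : K ≤ K.comap (MulAut.conj a).toMonoidHom := by
          refine sup_le (fun y hy => Subgroup.mem_sup_left (h2 y hy)) ?_
          rintro _ ⟨y, hy, rfl⟩
          show a * (m * y * m⁻¹) * a⁻¹ ∈ K
          have h4 : a * (m * y * m⁻¹) * a⁻¹ = m * (a * y * a⁻¹) * m⁻¹ := by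
            calc a * (m * y * m⁻¹) * a⁻¹ = (a * m) * y * (a * m)⁻¹ := by group
              _ = (m * a) * y * (m * a)⁻¹ := by rw [ham]
              _ = _ := by group
          rw [h4]
          exact Subgroup.mem_sup_right (conj_mem_cj.2 (h2 y hy))
        exact fun y hy => h3 hy
      · have h1 : X s ≤ cj m (QQ cs h X r) := by
          rw [hcjQ]
          exact RGD.le_Sup h0
        exact (h1.trans le_sup_right).trans Subgroup.le_normalizer
    rw [hG1, top_le_iff] at h1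
    exact Subgroup.normalizer_eq_top_iff.1 h1
  rcases hs.eq_bot_or_eq_top_of_normal K hnorm with h1 | h1
  · exfalso
    have h2 : X r ≤ K := H.X_le_QQ.trans le_sup_left
    rw [h1, le_bot_iff] at h2
    exact X_ne_bot R hr h2
  · exact h1

/-- **Elements of prime order in `L₀`.** -/
theorem exists_L0' {R : RGD cs h p T n X} {r : I → ℤ} {Sg : Set (I → ℤ)} [Finite W] [Finite Y] [Fact p.Prime] (H : Hv R r Sg)
    {ℓ N : ℕ} (hℓ : ℓ.Prime) (hℓp : ℓ ≠ p) (hN : N.Coprime ℓ) (hT : ∀ t ∈ T, t ^ N = 1)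
    (hQp : IsPGroup p (QQ cs h X r)) (hd : ℓ ∣ Nat.card (PS T X (Ge cs h r))) :
    ∃ x ∈ L0 cs h X r, orderOf x = ℓ := by
  have : Fact ℓ.Prime := ⟨hℓ⟩
  have hp : p.Prime := Fact.out
  obtain ⟨y, hy⟩ := exists_prime_orderOf_dvd_card' ℓ hd
  have hyo : orderOf (y : Y) = ℓ := by rw [Subgroup.orderOf_coe]; exact hy
  have hSup : PS T X (Ge cs h r) ≤ T ⊔ (L0 cs h X r ⊔ QQ cs h X r) := by
    refine sup_le_sup_left ?_ _
    refine RGD.Sup_le fun s hs => ?_
    rcases lt_or_eq_of_le hs.2 with h0 | h0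
    · exact (RGD.le_Sup (S := Gt cs h r) ⟨hs.1, h0⟩).trans le_sup_right
    · exact (RGD.le_Sup (S := {s | IsRoot cs h s ∧ cpr cs h s r = 0}) ⟨hs.1, h0.symm⟩).trans le_sup_left
  have hT1 : ∀ t ∈ T, ∀ y ∈ L0 cs h X r ⊔ QQ cs h X r, t * y * t⁻¹ ∈ L0 cs h X r ⊔ QQ cs h X r := by
    intro t ht
    have h1 : L0 cs h X r ⊔ QQ cs h X r ≤ (L0 cs h X r ⊔ QQ cs h X r).comap (MulAut.conj t).toMonoidHom := by
      refine sup_le ?_ ?_
      · intro y hy
        exact Subgroup.mem_sup_left (tor_Sup R (S := {s | IsRoot cs h s ∧ cpr cs h s r = 0}) (fun s hs => hs.1) ht y hy)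
      · intro y hy
        exact Subgroup.mem_sup_right (tor_Sup R (S := Gt cs h r) (fun s hs => hs.1) ht y hy)
    exact fun y hy => h1 hy
  have h2 := mem_right_of_coprime hT1 hN hT (hSup y.2) hyo
  refine exists_mem_left (N := p) (fun a ha b hb => L0_norm' H ha b hb) hℓ ((Nat.coprime_primes hp hℓ).2 hℓp.symm) ?_ h2 hyo
  intro b hb
  obtain ⟨s, hs⟩ := hQp ⟨b, hb⟩
  exact ⟨s, congrArg Subtype.val hs⟩

/-- **The Heisenberg lemma** for `Hv`. -/
theorem uGood_hv {R : RGD cs h p T n X} {r : I → ℤ} {Sg : Set (I → ℤ)} [Finite W] [Finite Y] [Fact p.Prime] (H : Hv R r Sg)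
    (hs : IsSimpleGroup Y) (hG1 : Cfsg.Agent.Nodes.RGDLib.G1 cs h X = ⊤)
    {q D ℓ k M' : ℕ} {g : Y} (S : ScR R r q g)
    (hℓ : ℓ.Prime) (hℓp : ℓ ≠ p) {x : Y} (hx : x ∈ L0 cs h X r) (hxk : x ^ ℓ ^ k = 1)
    (hne : ∃ w ∈ QQ cs h X r, ⁅x, w⁆ ∉ RGD.Sup X (Gt cs h r \ Sg))
    (hQp : IsPGroup p (QQ cs h X r))
    (hcard : Nat.card ↥(QQ cs h X r ⊓ Subgroup.centralizer {x}) < q ^ (D + 1) * Nat.card (X r))
    (hM : ∀ t : ℕ, t ≠ 0 → p ^ t ≡ 1 [MOD ℓ] → M' ≤ p ^ t) (hM1 : 1 ≤ M') :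
    UGood (D + 2) (M' + D + 1) x := by
  have hp : p.Prime := Fact.out
  have hr := H.L.root
  obtain ⟨m, hm, hmX⟩ := exists_refl R hr
  have hcj : cj m (X r) = X (-r) := by
    rw [hmX r hr, cpr_self cs h hr]
    congr 1
    rw [two_smul]; abel
  have hcjQ := cj_QQ (R := R) hr hmX
  have HYx : HY p (ℓ ^ k) (X r) (QQ cs h X r) x := by
    refine ⟨c2_of_hv H, ?_, hQp, hxk, ?_, ?_, L0_norm' H hx⟩
    · obtain ⟨w, hw, hwE⟩ := hne
      have h1 : ⁅x, w⁆ ∈ QQ cs h X r := by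
        rw [commutatorElement_def]
        exact mul_mem (L0_norm' H hx w hw) (inv_mem hw)
      exact ⟨w, hw, fun z hz => H.surj h1 hwE hz⟩
    · intro s
      exact Nat.Coprime.pow _ _ ((Nat.coprime_primes hℓ hp).2 hℓp)
    · intro z hz
      exact L0_comm' H hx (Subgroup.mem_sup_left hz)
  have hgen : QQ cs h X r ⊔ cc m (QQ cs h X r) = ⊤ := by
    rw [cc_eq_cj, hcjQ]
    exact sup_QQ_eq_top' H hs hG1
  refine heis_uGoodY hp hℓ rfl HYx (ScR.sc' H S) ?_ ?_ hgen (L0_comm' H hx hm).symm (L0_comm' H hx S.mem).symm hcard hM hM1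
  · rw [cc_eq_cj, hcj]; exact hm
  · rw [cc_eq_cj, hcj]
    exact S.mem

end Cfsg.Agent.H441.FPR.Heis
end

-- part: H409/FprCycL3b
section
prune_inst 0x24000000000000000000001000000000000000000000000000000d0000010000000000000a0004001000000000000000004c00000000000000000000000000000000400082080000020000000000400000000000000000000000000000000000000000000
set_option linter.all false
open scoped Cfsg.Agent.FastGrp

-- part: H409/FprCycSL
section
/-!
# Cyclic Sylow subgroups: linear groups, irreducible elements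
-/

set_option autoImplicit false
set_option linter.unusedSectionVars false

namespace Cfsg.Agent.H409.Cyc

open Module Subgroup Matrix
open Cfsg.Agent.H27.Psl (Irr)

section gen

variable {G : Type*} [Group G] [Finite G] {F V : Type*} [Field F] [Fintype F] [AddCommGroup V] [Module F V]
  [Finite V] {ρ : G →* Module.End F V} {p e : ℕ} {x : G}

/-- an element of order `p` is irreducible when `dim V = e` -/
theorem Sit.irr_top (h : Sit ρ p e x) (hd : finrank F V = e) : Irr (ρ x) := by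
  have hfd : Module.Finite F V := Module.Finite.of_finite
  have htop : UU ρ x = ⊤ := by
    apply Submodule.eq_top_of_finrank_eq
    rw [h.finrank_UU, hd]
  intro U hU
  have h1 := h.dvd (U.comap (UU ρ x).subtype) (by
    intro u hu
    change ((res ρ x x u : UU ρ x) : V) ∈ U
    rw [res_apply x_mem]
    exact hU _ hu)
  have h2 : finrank F (U.comap (UU ρ x).subtype) = finrank F U :=
    (Submodule.comapSubtypeEquivOfLe (by rw [htop]; exact le_top)).finrank_eq
  rw [h2] at h1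
  have h3 : finrank F U ≤ finrank F V := Submodule.finrank_le _
  obtain ⟨c, hc⟩ := h1
  rcases Nat.eq_zero_or_pos c with h0 | h0
  · left
    rw [h0, mul_zero] at hc
    exact Submodule.finrank_eq_zero.1 hc
  · right
    apply Submodule.eq_top_of_finrank_eq
    have h4 : e * 1 ≤ e * c := Nat.mul_le_mul_left _ h0
    omega

end gen

section irr

variable {F V : Type*} [Field F] [AddCommGroup V] [Module F V] {A : V →ₗ[F] V}

theorem eq_of_comm (hA : Irr A) {B C : V →ₗ[F] V} (hB : ∀ w, B (A w) = A (B w)) (hC : ∀ w, C (A w) = A (C w))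
    {v : V} (hv : v ≠ 0) (h : B v = C v) : B = C := by
  rcases hA (LinearMap.ker (B - C)) (fun u hu => by
    rw [LinearMap.mem_ker, LinearMap.sub_apply, sub_eq_zero] at hu ⊢
    rw [hB, hC, hu]) with h1 | h1
  · exfalso
    apply hv
    have h2 : v ∈ LinearMap.ker (B - C) := by
      rw [LinearMap.mem_ker, LinearMap.sub_apply, h, sub_self]
    rw [h1] at h2
    exact h2
  · exact sub_eq_zero.1 (LinearMap.ker_eq_top.1 h1)

end irr

section sl

variable {F : Type*} [Field F] [Fintype F] {n : ℕ}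

/-- the natural representation -/
noncomputable def rhoSL (n : ℕ) (F : Type*) [Field F] : _root_.Matrix.SpecialLinearGroup (Fin n) F →* Module.End F (Fin n → F) where
  toFun g := Matrix.toLin' (g : Matrix (Fin n) (Fin n) F)
  map_one' := by
    rw [Matrix.SpecialLinearGroup.coe_one, Matrix.toLin'_one]; rfl
  map_mul' a b := by
    rw [Matrix.SpecialLinearGroup.coe_mul, Matrix.toLin'_mul]; rfl

theorem rhoSL_apply (g : _root_.Matrix.SpecialLinearGroup (Fin n) F) (v : Fin n → F) :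
    rhoSL n F g v = (g : Matrix (Fin n) (Fin n) F) *ᵥ v := Matrix.toLin'_apply _ _

theorem rhoSL_inj : Function.Injective (rhoSL n F) := by
  intro a b hab
  apply Subtype.ext
  exact (Matrix.toLin').injective hab

theorem rhoSL_det (g : _root_.Matrix.SpecialLinearGroup (Fin n) F) : LinearMap.det (rhoSL n F g) = 1 := by
  change LinearMap.det (Matrix.toLin' (g : Matrix (Fin n) (Fin n) F)) = 1
  rw [LinearMap.det_toLin', g.2]

theorem cent_iff {x c : _root_.Matrix.SpecialLinearGroup (Fin n) F} :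
    c ∈ centralizer ({x} : Set (_root_.Matrix.SpecialLinearGroup (Fin n) F)) ↔ ∀ w, rhoSL n F c (rhoSL n F x w) = rhoSL n F x (rhoSL n F c w) := by
  rw [mem_centralizer_singleton_iff]
  constructor
  · intro h w
    rw [← rho_mul_apply, ← rho_mul_apply, h]
  · intro h
    apply rhoSL_inj
    apply LinearMap.ext
    intro w
    rw [rho_mul_apply, rho_mul_apply]
    exact h w

/-- the centraliser of an irreducible element -/
theorem card_cent_SL (hn : 1 ≤ n) {x : _root_.Matrix.SpecialLinearGroup (Fin n) F} (hA : Irr (rhoSL n F x)) :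
    Nat.card (centralizer ({x} : Set (_root_.Matrix.SpecialLinearGroup (Fin n) F))) * (Fintype.card F - 1) ≤
      Fintype.card F ^ n - 1 := by
  classical
  have hne : Nonempty (Fin n) := ⟨⟨0, by omega⟩⟩
  obtain ⟨v, hv⟩ := exists_ne (0 : Fin n → F)
  have hdet : ∀ u : Fˣ, ∃ h : (Fin n → F) ≃ₗ[F] (Fin n → F),
      LinearMap.det (h : (Fin n → F) →ₗ[F] (Fin n → F)) = u ∧ ∀ w, h (rhoSL n F x w) = rhoSL n F x (h w) :=
    fun u => hA.exists_det u.ne_zero
  choose h hd hc using hdet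
  let f : centralizer ({x} : Set (_root_.Matrix.SpecialLinearGroup (Fin n) F)) × Fˣ → {w : Fin n → F // w ≠ 0} := fun a =>
    ⟨h a.2 (rhoSL n F a.1 v), by
      intro h0
      have h1 : rhoSL n F a.1 v = 0 := by
        apply (h a.2).injective
        rw [h0, map_zero]
      apply hv
      have h2 := rho_inv_apply (ρ := rhoSL n F) (a.1 : _root_.Matrix.SpecialLinearGroup (Fin n) F) v
      rw [h1, map_zero] at h2
      exact h2.symm⟩
  have hf : Function.Injective f := by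
    rintro ⟨c, u⟩ ⟨c', u'⟩ hcc
    have h1 : h u (rhoSL n F c v) = h u' (rhoSL n F c' v) := congrArg Subtype.val hcc
    have hcomm : ∀ (c : centralizer ({x} : Set (_root_.Matrix.SpecialLinearGroup (Fin n) F))) (u : Fˣ) (w : Fin n → F),
        ((h u : (Fin n → F) →ₗ[F] (Fin n → F)) ∘ₗ rhoSL n F c) (rhoSL n F x w) =
          rhoSL n F x (((h u : (Fin n → F) →ₗ[F] (Fin n → F)) ∘ₗ rhoSL n F c) w) := by
      intro c u w
      change h u (rhoSL n F c (rhoSL n F x w)) = rhoSL n F x (h u (rhoSL n F c w))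
      rw [cent_iff.1 c.2, hc]
    have h2 := eq_of_comm hA (hcomm c u) (hcomm c' u') hv h1
    have h3 := congrArg LinearMap.det h2
    rw [LinearMap.det_comp, LinearMap.det_comp, rhoSL_det, rhoSL_det, mul_one, mul_one, hd, hd] at h3
    have h4 : u = u' := Units.ext h3
    subst h4
    refine Prod.ext ?_ rfl
    apply Subtype.ext
    apply rhoSL_inj
    apply LinearMap.ext
    intro w
    exact (h u).injective (LinearMap.congr_fun h2 w)
  have h1 := Nat.card_le_card_of_injective f hf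
  rw [Nat.card_prod, Nat.card_eq_fintype_card (α := Fˣ), Fintype.card_units] at h1
  refine h1.trans (le_of_eq ?_)
  rw [Nat.card_eq_fintype_card, Fintype.card_subtype_compl, Fintype.card_subtype_eq, Fintype.card_fun, Fintype.card_fin]

end sl

section chk

variable {G : Type*} [Group G] [Finite G] {F V : Type*} [Field F] [Fintype F] [AddCommGroup V] [Module F V]
  [Finite V] {ρ : G →* Module.End F V} {p e : ℕ}

/-- **Arithmetic check**, with a bound for the indices prime to `p` only. -/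
theorem row_of_chk' {S : Type*} [Group S] [Finite S] [hp : Fact p.Prime] (hodd : p ≠ 2)
    (hinj : Function.Injective ρ) (hch : (p : F) ≠ 0) (he : ∀ k, p ∣ Fintype.card F ^ k - 1 → e ∣ k)
    (hdim : finrank F V < 2 * e) (hpG : p ∣ Nat.card G) (f : G →* S) (hf : Function.Surjective f)
    (hker : f.ker ≤ center G) (hkp : ¬ p ∣ Nat.card f.ker) {c : ℕ}
    (hC : ∀ x : G, orderOf x = p → Nat.card (centralizer ({x} : Set G)) ≤ c)
    {L N M : ℕ} (hL : ∀ H : Subgroup S, H ≠ ⊤ → ¬ p ∣ H.index → L ≤ H.index) (hN : Nat.card S ∣ N)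
    (hM : e * c < Nat.card f.ker * (p * (M + 1))) (hML : M ≤ L)
    (hchk : ∀ g ≤ M, ∀ j < g, ¬ p ∣ g → L ≤ g + p * j → ¬ (g + p * j ∣ N)) : FprRow (p + 1) 1 p S := by
  obtain ⟨P, y, hy, hNP⟩ := exists_sylow hodd hinj hch he hdim hpG f hf hker hkp hC
  have hk0 : 0 < Nat.card f.ker := Nat.card_pos
  have hpS : p ∣ Nat.card S := by
    have h3 := (f.ker).card_mul_index
    rw [index_ker, MonoidHom.range_eq_top.2 hf, card_top] at h3
    rw [← h3] at hpG
    exact (hp.out.dvd_mul.1 hpG).resolve_left hkp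
  have hPp : p ≤ Nat.card P := Nat.le_of_dvd Nat.card_pos (P.dvd_card_of_dvd_card hpS)
  refine FprRow.of_cyc P hy ?_
  intro H hH g hg hdvd hmod
  have hpg : ¬ p ∣ g := by
    intro h
    have h1 : Nat.card P * p ∣ Nat.card P * (P : Subgroup S).index := by
      rw [(P : Subgroup S).card_mul_index]
      exact (Nat.mul_dvd_mul_left _ h).trans (hdvd.trans (Subgroup.card_subgroup_dvd_card _))
    exact P.not_dvd_index (Nat.dvd_of_mul_dvd_mul_left Nat.card_pos h1)
  have hpH : ¬ p ∣ H.index := fun h => hpg ((hmod.dvd_iff dvd_rfl).1 h)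
  have hgM : g ≤ M := by
    by_contra hcon
    push Not at hcon
    have h1 := Nat.le_of_dvd Nat.card_pos hdvd
    have h2 : Nat.card f.ker * (p * (M + 1)) ≤ e * c := by
      calc Nat.card f.ker * (p * (M + 1)) ≤ Nat.card f.ker * (Nat.card P * g) :=
            Nat.mul_le_mul_left _ (Nat.mul_le_mul hPp hcon)
        _ ≤ Nat.card f.ker * Nat.card (normalizer (P : Set S)) := Nat.mul_le_mul_left _ h1
        _ ≤ e * c := hNP
    omega
  have hLH := hL H hH hpH
  have hgH : g ≤ H.index := by omega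
  obtain ⟨j, hj⟩ : ∃ j, H.index = g + p * j := by
    have h1 : p ∣ H.index - g := (Nat.modEq_iff_dvd' hgH).1 hmod.symm
    obtain ⟨j, hj⟩ := h1
    exact ⟨j, by omega⟩
  rcases Nat.lt_or_ge j g with h | h
  · exfalso
    apply hchk g hgM j h hpg (by rw [← hj]; exact hLH)
    rw [← hj]
    exact H.index_dvd_card.trans hN
  · rw [hj]
    have : p * g ≤ p * j := Nat.mul_le_mul_left _ h
    have h2 : (p + 1) * g = g + p * g := by ring
    omega

end chk

section row

variable {F : Type*} [Field F] [Fintype F] {n : ℕ}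

theorem sl_ker {p : ℕ} [hp : Fact p.Prime] (he : ∀ k, p ∣ Fintype.card F ^ k - 1 → n ∣ k) (h2 : 2 ≤ n) :
    ¬ p ∣ Nat.card (center (_root_.Matrix.SpecialLinearGroup (Fin n) F)) := by
  have hnt : Nontrivial (Fin n → F) := by
    have : Nonempty (Fin n) := ⟨⟨0, by omega⟩⟩
    infer_instance
  apply not_dvd_of_scalar he h2 rhoSL_inj
  intro z hz
  obtain ⟨c, hc, hc'⟩ := (Matrix.SpecialLinearGroup.mem_center_iff.1 hz)
  refine ⟨c, ?_⟩
  apply LinearMap.ext
  intro v
  rw [rhoSL_apply, ← hc']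
  simp

/-- the subgroups `H` of `SL_n(F)` containing an element of order `p` are irreducible -/
theorem irr_of_not_dvd {p : ℕ} [hp : Fact p.Prime] (hodd : p ≠ 2) (hch : (p : F) ≠ 0)
    (he : ∀ k, p ∣ Fintype.card F ^ k - 1 → n ∣ k) (h2 : 2 ≤ n)
    (hpS : p ∣ Nat.card (_root_.Matrix.SpecialLinearGroup (Fin n) F)) (H : Subgroup (_root_.Matrix.SpecialLinearGroup (Fin n) F))
    (hH : ¬ p ∣ H.index) :
    (∃ x ∈ H, orderOf x = p) ∧ ∀ U : Submodule F (Fin n → F), (∀ h ∈ H, ∀ u ∈ U, rhoSL n F h u ∈ U) →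
      U = ⊥ ∨ U = ⊤ := by
  have hpH : p ∣ Nat.card H := by
    rw [← H.card_mul_index] at hpS
    exact (hp.out.dvd_mul.1 hpS).resolve_right hH
  obtain ⟨x, hx⟩ := exists_prime_orderOf_dvd_card' p hpH
  have hx' : orderOf (x : _root_.Matrix.SpecialLinearGroup (Fin n) F) = p := by rw [orderOf_coe, hx]
  refine ⟨⟨x, x.2, hx'⟩, ?_⟩
  intro U hU
  have h : Sit (rhoSL n F) p n (x : _root_.Matrix.SpecialLinearGroup (Fin n) F) :=
    ⟨rhoSL_inj, hx', hp.out, hodd, hch, he, by rw [Module.finrank_fin_fun]; omega⟩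
  exact h.irr_top (Module.finrank_fin_fun F) U (hU x x.2)

theorem row_sl_chk {p : ℕ} [hp : Fact p.Prime] (hodd : p ≠ 2) (h2 : 2 ≤ n) (hch : (p : F) ≠ 0)
    (he : ∀ k, p ∣ Fintype.card F ^ k - 1 → n ∣ k)
    (hpS : p ∣ Nat.card (ProjectiveSpecialLinearGroup (Fin n) F)) {c L N M : ℕ}
    (hc : (Fintype.card F ^ n - 1) ≤ c * (Fintype.card F - 1))
    (hL : ∀ H : Subgroup (ProjectiveSpecialLinearGroup (Fin n) F), H ≠ ⊤ → ¬ p ∣ H.index → L ≤ H.index)
    (hN : Nat.card (ProjectiveSpecialLinearGroup (Fin n) F) ∣ N)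
    (hM : n * c < Nat.card (center (_root_.Matrix.SpecialLinearGroup (Fin n) F)) * (p * (M + 1))) (hML : M ≤ L)
    (hchk : ∀ g ≤ M, ∀ j < g, ¬ p ∣ g → L ≤ g + p * j → ¬ (g + p * j ∣ N)) :
    FprRow (p + 1) 1 p (ProjectiveSpecialLinearGroup (Fin n) F) := by
  have hker : (QuotientGroup.mk' (center (_root_.Matrix.SpecialLinearGroup (Fin n) F))).ker =
      center (_root_.Matrix.SpecialLinearGroup (Fin n) F) := QuotientGroup.ker_mk' _
  have hfin : Finite (ProjectiveSpecialLinearGroup (Fin n) F) := by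
    unfold ProjectiveSpecialLinearGroup
    infer_instance
  have hpG : p ∣ Nat.card (_root_.Matrix.SpecialLinearGroup (Fin n) F) := hpS.trans (Subgroup.card_quotient_dvd_card _)
  refine row_of_chk' (S := ProjectiveSpecialLinearGroup (Fin n) F) (F := F) (ρ := rhoSL n F) (p := p) (e := n)
    (c := c) (L := L) (N := N) (M := M) hodd rhoSL_inj hch he (by rw [Module.finrank_fin_fun]; omega) hpG
    (QuotientGroup.mk' (center (_root_.Matrix.SpecialLinearGroup (Fin n) F))) (QuotientGroup.mk'_surjective _)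
    (by rw [hker]) (by rw [hker]; exact sl_ker he h2) (fun x hx => ?_) hL hN (by rw [hker]; exact hM) hML hchk
  have h : Sit (rhoSL n F) p n x :=
    ⟨rhoSL_inj, hx, hp.out, hodd, hch, he, by rw [Module.finrank_fin_fun]; omega⟩
  have h1 := card_cent_SL (by omega : 1 ≤ n) (h.irr_top (Module.finrank_fin_fun F))
  have hq : 2 ≤ Fintype.card F := two_le_q
  exact Nat.le_of_mul_le_mul_right (h1.trans hc) (by omega)

theorem row_sl {p : ℕ} [hp : Fact p.Prime] (hodd : p ≠ 2) (h2 : 2 ≤ n) (hch : (p : F) ≠ 0)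
    (he : ∀ k, p ∣ Fintype.card F ^ k - 1 → n ∣ k)
    (hpS : p ∣ Nat.card (ProjectiveSpecialLinearGroup (Fin n) F)) {c L : ℕ}
    (hc : (Fintype.card F ^ n - 1) ≤ c * (Fintype.card F - 1))
    (hL : ∀ H : Subgroup (ProjectiveSpecialLinearGroup (Fin n) F), H ≠ ⊤ → ¬ p ∣ H.index → L ≤ H.index)
    (hnum : (n + 1) * c ≤ Nat.card (center (_root_.Matrix.SpecialLinearGroup (Fin n) F)) * L) :
    FprRow (p + 1) 1 p (ProjectiveSpecialLinearGroup (Fin n) F) := by
  have hpe := succ_le_of_he hch he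
  have hZ : 1 ≤ Nat.card (center (_root_.Matrix.SpecialLinearGroup (Fin n) F)) := Nat.card_pos
  have hp1 : 1 ≤ p := hp.out.pos
  have hn0 : 0 < n := by omega
  set z := Nat.card (center (_root_.Matrix.SpecialLinearGroup (Fin n) F)) with hz
  -- `M = n c / (z p)`
  have hzp : 0 < z * p := Nat.mul_pos hZ hp1
  have hMle : (n * c / (z * p)) * (z * p) ≤ n * c := Nat.div_mul_le_self _ _
  have hkey : (p + 1) * (n * c / (z * p)) ≤ L := by
    apply Nat.le_of_mul_le_mul_left _ hzp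
    calc z * p * ((p + 1) * (n * c / (z * p))) = (p + 1) * ((n * c / (z * p)) * (z * p)) := by ring
      _ ≤ (p + 1) * (n * c) := Nat.mul_le_mul_left _ hMle
      _ = ((p + 1) * n) * c := by ring
      _ ≤ (p * (n + 1)) * c := Nat.mul_le_mul_right _ (by linarith only [hpe])
      _ = p * ((n + 1) * c) := by ring
      _ ≤ p * (z * L) := Nat.mul_le_mul_left _ hnum
      _ = z * p * L := by ring
  refine row_sl_chk hodd h2 hch he hpS hc hL dvd_rfl (M := n * c / (z * p)) ?_ ?_ ?_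
  · have := Nat.lt_div_mul_add (a := n * c) hzp
    calc n * c < n * c / (z * p) * (z * p) + z * p := this
      _ = z * (p * (n * c / (z * p) + 1)) := by ring
  · refine le_trans ?_ hkey
    exact Nat.le_mul_of_pos_left _ (by omega)
  · intro g hg j hj _ hLg _
    have h1 : (p + 1) * g ≤ L := (Nat.mul_le_mul_left _ hg).trans hkey
    have h3 : p * j < p * g := Nat.mul_lt_mul_of_pos_left hj hp1
    have h4 : (p + 1) * g = g + p * g := by ring
    omega

end row

end Cfsg.Agent.H409.Cyc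
end

-- part: H409/FprCycTI
section
/-!
# Cyclic Sylow subgroups: TI tori, regular orbits, Burnside
-/

set_option autoImplicit false
set_option linter.unusedSectionVars false

namespace Cfsg.Agent.H409.Cyc

open Module Subgroup MulAction

section count

variable {G : Type*} [Group G] [Finite G]

/-- **A regular orbit of a TI torus**, by counting. -/
theorem exists_regular (Z T H : Subgroup G) (hZc : Z ≤ center G) (hZT : Z ≤ T) (hZH : Z ≤ H)
    (hC : ∀ t ∈ T, t ∉ Z → centralizer ({t} : Set G) ≤ T) (hcomm : ∀ a ∈ T, ∀ b ∈ T, a * b = b * a) {n : ℕ}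
    (hN : Nat.card (normalizer (T : Set G)) ≤ n * Nat.card T)
    (hm : ∀ U : Subgroup G, Z ≤ U → U ≤ T → U ≠ Z → n + Nat.card Z ≤ Nat.card U)
    (hidx : Nat.card T ≤ H.index) : ∃ g : G, ∀ t ∈ T, g⁻¹ * t * g ∈ H → t ∈ Z := by
  classical
  by_contra hcon
  push Not at hcon
  have : Fintype G := Fintype.ofFinite G
  let A : Finset (G × G) := Finset.univ.filter (fun a => a.1 ∈ T ∧ a.1 ∉ Z ∧ a.2⁻¹ * a.1 * a.2 ∈ H)
  have hA : ∀ a : G × G, a ∈ A ↔ a.1 ∈ T ∧ a.1 ∉ Z ∧ a.2⁻¹ * a.1 * a.2 ∈ H := by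
    intro a; simp only [A, _root_.Finset.mem_filter, _root_.Finset.mem_univ, _root_.true_and]
  have hT0 : 0 < Nat.card T := Nat.card_pos
  have hn0 : 0 < n := by
    rcases Nat.eq_zero_or_pos n with h | h
    · rw [h, zero_mul] at hN
      have : 0 < Nat.card (normalizer (T : Set G)) := Nat.card_pos
      omega
    · exact h
  -- lower bound
  have hlow : Nat.card G * n ≤ A.card := by
    rw [Finset.card_eq_sum_card_fiberwise (f := Prod.snd) (t := (Finset.univ : Finset G)) (fun _ _ => Finset.mem_coe.2 (Finset.mem_univ _))]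
    have h1 : ∀ g ∈ (Finset.univ : Finset G), n ≤ (A.filter (fun a => a.2 = g)).card := by
      intro g _
      let U : Subgroup G := T ⊓ H.map (MulAut.conj g).toMonoidHom
      have hU : ∀ t, t ∈ U ↔ t ∈ T ∧ g⁻¹ * t * g ∈ H := by
        intro t
        rw [mem_inf]
        refine and_congr_right (fun _ => ?_)
        constructor
        · rintro ⟨h, hh, rfl⟩
          change g⁻¹ * (g * h * g⁻¹) * g ∈ H
          have : g⁻¹ * (g * h * g⁻¹) * g = h := by group
          rw [this]; exact hh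
        · intro h
          refine ⟨_, h, ?_⟩
          change g * (g⁻¹ * t * g) * g⁻¹ = t
          group
      have hZU : Z ≤ U := by
        intro z hz
        rw [hU]
        refine ⟨hZT hz, ?_⟩
        have h2 := mem_center_iff.1 (hZc hz) g
        rw [mul_assoc, ← h2, inv_mul_cancel_left]
        exact hZH hz
      have hne : U ≠ Z := by
        intro h
        obtain ⟨t, ht, htH, htZ⟩ := hcon g
        exact htZ (h ▸ (hU t).2 ⟨ht, htH⟩)
      have h3 := hm U hZU inf_le_left hne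
      let S : Finset G := Finset.univ.filter (fun t => t ∈ U ∧ t ∉ Z)
      have hS : Nat.card U = S.card + Nat.card Z := by
        have e1 : Nat.card U = (Finset.univ.filter (fun t => t ∈ U)).card := by
          rw [Nat.card_eq_fintype_card, Fintype.card_subtype]
        have e2 : Nat.card Z = (Finset.univ.filter (fun t => t ∈ Z)).card := by
          rw [Nat.card_eq_fintype_card, Fintype.card_subtype]
        rw [e1, e2, ← Finset.card_union_of_disjoint]
        · congr 1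
          ext t
          simp only [S, Finset.mem_filter, Finset.mem_univ, true_and, Finset.mem_union]
          constructor
          · intro h
            by_cases hz : t ∈ Z
            · exact Or.inr hz
            · exact Or.inl ⟨h, hz⟩
          · rintro (h | h)
            · exact h.1
            · exact hZU h
        · rw [Finset.disjoint_left]
          intro t h1 h2
          simp only [S, Finset.mem_filter, Finset.mem_univ, true_and] at h1 h2
          exact h1.2 h2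
      have h4 : S.card ≤ (A.filter (fun a => a.2 = g)).card := by
        apply Finset.card_le_card_of_injOn (fun t => (t, g))
        · intro t ht
          have ht' : t ∈ U ∧ t ∉ Z := by simpa [S] using ht
          rw [Finset.mem_coe, Finset.mem_filter, hA]
          exact ⟨⟨((hU t).1 ht'.1).1, ht'.2, ((hU t).1 ht'.1).2⟩, rfl⟩
        · intro a _ b _ hab
          exact congrArg Prod.fst hab
      omega
    have h2 := Finset.sum_le_sum h1
    rw [Finset.sum_const, smul_eq_mul, Finset.card_univ, ← Nat.card_eq_fintype_card] at h2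
    exact h2
  -- upper bound
  let φ : G × G → G := fun a => a.2⁻¹ * a.1 * a.2
  have hup : A.card ≤ Nat.card (normalizer (T : Set G)) * (A.image φ).card := by
    apply Finset.card_le_mul_card_image
    intro h hh
    obtain ⟨⟨t0, g0⟩, ha0, rfl⟩ := Finset.mem_image.1 hh
    have h0 := (hA _).1 ha0
    have e1 : Nat.card (normalizer (T : Set G)) =
        (Finset.univ.filter (fun t => t ∈ normalizer (T : Set G))).card := by
      rw [Nat.card_eq_fintype_card, Fintype.card_subtype]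
    rw [e1]
    apply Finset.card_le_card_of_injOn (fun a => a.2 * g0⁻¹)
    · rintro ⟨t, g⟩ ha
      rw [Finset.mem_coe, Finset.mem_filter, hA] at ha
      obtain ⟨⟨h1, h2, h3⟩, h4⟩ := ha
      rw [Finset.mem_coe, Finset.mem_filter]
      refine ⟨Finset.mem_univ _, ?_⟩
      have h5 : g⁻¹ * t * g = g0⁻¹ * t0 * g0 := h4
      have h6 : t = (g * g0⁻¹) * t0 * (g * g0⁻¹)⁻¹ := by
        calc t = g * (g⁻¹ * t * g) * g⁻¹ := by group
          _ = g * (g0⁻¹ * t0 * g0) * g⁻¹ := by rw [h5]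
          _ = _ := by group
      change g * g0⁻¹ ∈ normalizer (T : Set G)
      rw [mem_normalizer_iff_map_conj_eq]
      apply eq_of_le_of_card_ge
      · rintro _ ⟨s, hs, rfl⟩
        change (g * g0⁻¹) * s * (g * g0⁻¹)⁻¹ ∈ T
        apply hC t h1 h2
        rw [mem_centralizer_singleton_iff, h6]
        have h7 := hcomm s hs t0 h0.1
        calc (g * g0⁻¹) * s * (g * g0⁻¹)⁻¹ * ((g * g0⁻¹) * t0 * (g * g0⁻¹)⁻¹) =
            (g * g0⁻¹) * (s * t0) * (g * g0⁻¹)⁻¹ := by group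
          _ = (g * g0⁻¹) * (t0 * s) * (g * g0⁻¹)⁻¹ := by rw [h7]
          _ = _ := by group
      · rw [card_map_of_injective (MulAut.conj (g * g0⁻¹)).injective]
    · rintro ⟨t, g⟩ ha ⟨t', g'⟩ ha' hgg
      rw [Finset.mem_coe, Finset.mem_filter] at ha ha'
      have h1 : g = g' := mul_right_cancel hgg
      have h2 : g⁻¹ * t * g = g'⁻¹ * t' * g' := ha.2.trans ha'.2.symm
      subst h1
      have h3 : t = t' := mul_left_cancel (mul_right_cancel h2)
      rw [h3]
  have himg : (A.image φ).card < Nat.card H := by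
    have e1 : Nat.card H = (Finset.univ.filter (fun t => t ∈ H)).card := by
      rw [Nat.card_eq_fintype_card, Fintype.card_subtype]
    rw [e1]
    apply Finset.card_lt_card
    refine ⟨?_, ?_⟩
    · intro h hh
      obtain ⟨a, ha, rfl⟩ := Finset.mem_image.1 hh
      rw [Finset.mem_filter]
      exact ⟨Finset.mem_univ _, ((hA a).1 ha).2.2⟩
    · intro hsub
      have h1 : (1 : G) ∈ A.image φ := hsub (by
        rw [Finset.mem_filter]
        exact ⟨Finset.mem_univ _, H.one_mem⟩)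
      obtain ⟨⟨t, g⟩, ha, h2⟩ := Finset.mem_image.1 h1
      have h3 : g⁻¹ * t * g = 1 := h2
      have h4 : t = 1 := by
        calc t = g * (g⁻¹ * t * g) * g⁻¹ := by group
          _ = 1 := by rw [h3]; group
      exact ((hA _).1 ha).2.1 (h4 ▸ Z.one_mem)
  have h1 : Nat.card G * n ≤ n * Nat.card T * (A.image φ).card :=
    hlow.trans (hup.trans (Nat.mul_le_mul_right _ hN))
  rw [← H.card_mul_index] at h1
  have h2 : Nat.card H * Nat.card T * n ≤ Nat.card H * H.index * n :=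
    Nat.mul_le_mul_right _ (Nat.mul_le_mul_left _ hidx)
  have h3 : n * Nat.card T * (A.image φ).card < n * Nat.card T * Nat.card H :=
    Nat.mul_lt_mul_of_pos_left himg (Nat.mul_pos hn0 hT0)
  have h4 : n * Nat.card T * Nat.card H = Nat.card H * Nat.card T * n := by ring
  omega

end count

section burnside

/-- a prime-order element normalising a nontrivial `r`-subgroup -/
theorem exists_normalises {H : Type*} [Group H] [Finite H] {p r : ℕ} [hp : Fact p.Prime] [hr : Fact r.Prime]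
    (hpr : r ≠ p) (P : Sylow p H) (hP : normalizer ((P : Subgroup H) : Set H) ≤ centralizer ((P : Subgroup H) : Set H))
    (hpH : p ∣ Nat.card H) (hrH : r ∣ Nat.card H) :
    ∃ (R : Subgroup H) (y : H), R ≠ ⊥ ∧ IsPGroup r R ∧ orderOf y = p ∧ y ∈ normalizer (R : Set H) := by
  classical
  let K : Subgroup H := (MonoidHom.transferSylow P hP).ker
  have hK : IsComplement' K (P : Subgroup H) := MonoidHom.ker_transferSylow_isComplement' P hP
  have hcard : Nat.card K * Nat.card P = Nat.card H := hK.card_mul_card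
  have hidx : K.index = Nat.card P := hK.symm.index_eq_card
  have hrK : r ∣ Nat.card K := by
    rw [← hcard] at hrH
    rcases hr.out.dvd_mul.1 hrH with h | h
    · exact h
    · exfalso
      obtain ⟨k, hk⟩ := P.isPGroup'.exists_card_eq
      rw [hk] at h
      exact hpr ((Nat.prime_dvd_prime_iff_eq hr.out hp.out).1 (hr.out.dvd_of_dvd_pow h))
  obtain ⟨R0⟩ : Nonempty (Sylow r K) := inferInstance
  have hsup := Sylow.normalizer_sup_eq_top R0
  let R : Subgroup H := (R0 : Subgroup K).map K.subtype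
  have hR0 : R ≠ ⊥ := by
    intro h
    have h1 : (R0 : Subgroup K) = ⊥ := (Subgroup.map_eq_bot_iff_of_injective _ K.subtype_injective).1 h
    have h2 := R0.dvd_card_of_dvd_card hrK
    rw [h1, card_bot] at h2
    exact hr.out.one_lt.ne' (Nat.dvd_one.1 h2)
  have hRp : IsPGroup r R := R0.isPGroup'.map _
  let N := normalizer (R : Set H)
  have hNtop : N.map (QuotientGroup.mk' K) = ⊤ := by
    have h1 := congrArg (Subgroup.map (QuotientGroup.mk' K)) hsup
    rw [Subgroup.map_sup, Subgroup.map_top_of_surjective _ (QuotientGroup.mk'_surjective K)] at h1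
    have h2 : K.map (QuotientGroup.mk' K) = ⊥ := by
      rw [Subgroup.map_eq_bot_iff, QuotientGroup.ker_mk']
    rw [h2, sup_bot_eq] at h1
    exact h1
  have hpN : p ∣ Nat.card N := by
    have h1 : Nat.card (N.map (QuotientGroup.mk' K)) ∣ Nat.card N := Subgroup.card_map_dvd N _
    rw [hNtop, card_top] at h1
    refine dvd_trans ?_ h1
    rw [← Subgroup.index, hidx]
    exact P.dvd_card_of_dvd_card hpH
  obtain ⟨y, hy⟩ := exists_prime_orderOf_dvd_card' p hpN
  exact ⟨R, y, hR0, hRp, by rw [orderOf_coe, hy], y.2⟩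

end burnside

section dich

variable {G Ω : Type*} [Group G] [Finite G] [MulAction G Ω] [Finite Ω] [IsPretransitive G Ω] {p : ℕ} [hp : Fact p.Prime]

/-- the fixed points of a cyclic Sylow subgroup form an orbit of its normaliser -/
theorem fixed_eq_orbit (P : Sylow p G) {y : G} (hy : zpowers y = (P : Subgroup G)) {ω : Ω} (hω : y • ω = ω) :
    fixedBy Ω y = orbit (normalizer ((P : Subgroup G) : Set G)) ω := by
  let N := normalizer ((P : Subgroup G) : Set G)
  have hpow : ∀ {a : Ω}, y • a = a → (P : Subgroup G) ≤ stabilizer G a := by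
    intro a ha
    rw [← hy, zpowers_le]; exact ha
  ext a
  constructor
  · intro ha
    have ha' : y • a = a := ha
    obtain ⟨g, hg⟩ := _root_.MulAction.exists_smul_eq G ω a
    have h1 : (P : Subgroup G) ≤ stabilizer G a := hpow ha'
    have h2 : ((g • P : Sylow p G) : Subgroup G) ≤ stabilizer G a := by
      rw [Sylow.smul_def]
      rintro _ ⟨z, hz, rfl⟩
      change (g * z * g⁻¹) • a = a
      rw [mul_smul, mul_smul, ← hg, inv_smul_smul]
      have h3 : z • ω = ω := hpow hω hz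
      rw [h3]
    obtain ⟨s, hs⟩ := _root_.MulAction.exists_smul_eq (stabilizer G a) ((g • P).subtype h2) (P.subtype h1)
    have hmem : ((s : G) * g) ∈ N := by
      have h3 : ∀ z ∈ (P : Subgroup G), (s : G) * g * z * ((s : G) * g)⁻¹ ∈ (P : Subgroup G) := by
        intro z hz
        have hz2 : g * z * g⁻¹ ∈ ((g • P : Sylow p G) : Subgroup G) := by
          rw [Sylow.smul_def]; exact ⟨z, hz, rfl⟩
        have h4 : s * ⟨g * z * g⁻¹, h2 hz2⟩ * s⁻¹ ∈ ((P.subtype h1 : Sylow p (stabilizer G a)) :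
            Subgroup (stabilizer G a)) := by
          rw [← hs, Sylow.smul_def]
          exact ⟨⟨g * z * g⁻¹, h2 hz2⟩, hz2, rfl⟩
        have h5 : (s : G) * (g * z * g⁻¹) * (s : G)⁻¹ ∈ (P : Subgroup G) := h4
        have h6 : (s : G) * g * z * ((s : G) * g)⁻¹ = (s : G) * (g * z * g⁻¹) * (s : G)⁻¹ := by group
        rw [h6]; exact h5
      change (s : G) * g ∈ normalizer ((P : Subgroup G) : Set G)
      rw [mem_normalizer_iff_map_conj_eq]
      apply eq_of_le_of_card_ge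
      · rintro _ ⟨z, hz, rfl⟩
        exact h3 z hz
      · rw [card_map_of_injective (MulAut.conj _).injective]
    refine ⟨⟨(s : G) * g, hmem⟩, ?_⟩
    change ((s : G) * g) • ω = a
    rw [mul_smul, hg]
    exact s.2
  · rintro ⟨⟨n, hn⟩, rfl⟩
    change y • n • ω = n • ω
    rw [← inv_smul_eq_iff, ← mul_smul, ← mul_smul]
    have hyP : y ∈ (P : Subgroup G) := by rw [← hy]; exact mem_zpowers y
    have h1 := (mem_normalizer_iff.1 (inv_mem hn) y).1 hyP
    rw [inv_inv] at h1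
    exact hpow hω h1

/-- **The torus is transitive on the fixed points and has a regular orbit.** -/
theorem ti_bound (P : Sylow p G) {y : G} (hy : zpowers y = (P : Subgroup G)) (hpG : p ∣ Nat.card G)
    (Z T : Subgroup G) (hZT : Z ≤ T) (hZp : ¬ p ∣ Nat.card Z)
    (hTy : centralizer ({y} : Set G) = T) (hcomm : ∀ a ∈ T, ∀ b ∈ T, a * b = b * a)
    (hN : Nat.card (normalizer ((P : Subgroup G) : Set G)) ≤ 3 * Nat.card T) {ω : Ω} (hω : y • ω = ω)
    (hZ : ∀ z ∈ Z, z • ω = ω) (ω1 : Ω) (hω1 : ∀ t ∈ T, t • ω1 = ω1 → t ∈ Z)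
    (hnot : ∃ n ∈ normalizer ((P : Subgroup G) : Set G), n • ω = ω ∧ n ∉ T) :
    (p + 1) * Nat.card (fixedBy Ω y) ≤ Nat.card Ω := by
  classical
  let N := normalizer ((P : Subgroup G) : Set G)
  have hyT : y ∈ T := by rw [← hTy]; exact mem_centralizer_singleton_iff.2 rfl
  have hPT : (P : Subgroup G) ≤ T := by rw [← hy, zpowers_le]; exact hyT
  have hTN : T ≤ N := by
    intro t ht
    change t ∈ normalizer ((P : Subgroup G) : Set G)
    rw [mem_normalizer_iff_map_conj_eq]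
    apply eq_of_le_of_card_ge
    · rintro _ ⟨z, hz, rfl⟩
      change t * z * t⁻¹ ∈ (P : Subgroup G)
      rw [hcomm t ht z (hPT hz), mul_inv_cancel_right]
      exact hz
    · rw [card_map_of_injective (MulAut.conj _).injective]
  -- `T` is normalised by `N`
  have hTnorm : ∀ n ∈ N, ∀ t ∈ T, n * t * n⁻¹ ∈ T := by
    intro n hn t ht
    rw [← hTy, mem_centralizer_singleton_iff]
    have hn' : n⁻¹ * y * n ∈ (P : Subgroup G) := by
      have h1 := (mem_normalizer_iff.1 (inv_mem hn) y).1 (by rw [← hy]; exact mem_zpowers y)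
      rwa [inv_inv] at h1
    have h2 := hcomm t ht _ (hPT hn')
    calc n * t * n⁻¹ * y = n * (t * (n⁻¹ * y * n)) * n⁻¹ := by group
      _ = n * ((n⁻¹ * y * n) * t) * n⁻¹ := by rw [h2]
      _ = _ := by group
  -- the subgroup `M = T (N ∩ G_ω)`
  let S : Subgroup G := N ⊓ stabilizer G ω
  let M : Subgroup G :=
    { carrier := {m | ∃ t ∈ T, ∃ s ∈ S, m = t * s}
      mul_mem' := by
        rintro _ _ ⟨t, ht, s, hs, rfl⟩ ⟨t', ht', s', hs', rfl⟩
        refine ⟨t * (s * t' * s⁻¹), T.mul_mem ht (hTnorm s hs.1 t' ht'), s * s', S.mul_mem hs hs', by group⟩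
      one_mem' := ⟨1, T.one_mem, 1, S.one_mem, by rw [one_mul]⟩
      inv_mem' := by
        rintro _ ⟨t, ht, s, hs, rfl⟩
        refine ⟨s⁻¹ * t⁻¹ * (s⁻¹)⁻¹, hTnorm _ (N.inv_mem hs.1) _ (T.inv_mem ht), s⁻¹, S.inv_mem hs, by group⟩ }
  have hTM : T ≤ M := fun t ht => ⟨t, ht, 1, S.one_mem, by rw [mul_one]⟩
  have hMN : M ≤ N := by
    rintro _ ⟨t, ht, s, hs, rfl⟩
    exact N.mul_mem (hTN ht) hs.1
  have hMN' : M = N := by
    obtain ⟨n, hn, hnω, hnT⟩ := hnot
    have hnM : n ∈ M := ⟨1, T.one_mem, n, ⟨hn, hnω⟩, by rw [one_mul]⟩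
    have h1 : Nat.card T ∣ Nat.card M := card_dvd_of_le hTM
    have h2 : Nat.card M ∣ Nat.card N := card_dvd_of_le hMN
    obtain ⟨a, ha⟩ := h1
    obtain ⟨b, hb⟩ := h2
    have hT0 : 0 < Nat.card T := Nat.card_pos
    have hM0 : 0 < Nat.card M := Nat.card_pos
    have hN0 : 0 < Nat.card N := Nat.card_pos
    have ha2 : 2 ≤ a := by
      by_contra hcon
      have h3 : a = 0 ∨ a = 1 := by omega
      rcases h3 with h3 | h3
      · rw [h3, mul_zero] at ha; omega
      · rw [h3, mul_one] at ha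
        have h4 : T = M := eq_of_le_of_card_ge hTM ha.le
        exact hnT (h4 ▸ hnM)
    have hb1 : b = 1 := by
      by_contra hcon
      have hb2 : 2 ≤ b := by
        rcases Nat.eq_zero_or_pos b with h | h
        · rw [h, mul_zero] at hb; omega
        · omega
      have h5 : Nat.card T * 4 ≤ Nat.card N := by
        rw [hb, ha, mul_assoc]
        exact Nat.mul_le_mul_left _ (Nat.mul_le_mul ha2 hb2)
      have h6 : Nat.card N ≤ 3 * Nat.card T := hN
      omega
    rw [hb1, mul_one] at hb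
    exact eq_of_le_of_card_ge hMN hb.le
  -- the fixed points form an orbit of `T`
  have horb : fixedBy Ω y = orbit T ω := by
    rw [fixed_eq_orbit P hy hω]
    ext a
    constructor
    · rintro ⟨⟨n, hn⟩, rfl⟩
      have hn' : n ∈ M := by rw [hMN']; exact hn
      obtain ⟨t, ht, s, hs, rfl⟩ := hn'
      refine ⟨⟨t, ht⟩, ?_⟩
      change t • ω = (t * s) • ω
      rw [mul_smul, show s • ω = ω from hs.2]
    · rintro ⟨⟨t, ht⟩, rfl⟩
      exact ⟨⟨t, hTN ht⟩, rfl⟩
  have hf : Nat.card (fixedBy Ω y) = (stabilizer T ω).index := by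
    rw [index_stabilizer, horb, Nat.card_coe_set_eq]
  have hf1 : (stabilizer T ω1).index = (orbit T ω1).ncard := index_stabilizer _ _
  -- the orders of the stabilisers
  have hst : p * Nat.card Z ≤ Nat.card (stabilizer T ω) := by
    have h1 : Nat.card ((P : Subgroup G).subgroupOf T) ∣ Nat.card (stabilizer T ω) := by
      apply card_dvd_of_le
      rintro ⟨t, ht⟩ htP
      have h2 : zpowers y ≤ stabilizer G ω := by rw [zpowers_le]; exact hω
      exact h2 (by rw [hy]; exact htP)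
    have h2 : Nat.card (Z.subgroupOf T) ∣ Nat.card (stabilizer T ω) := by
      apply card_dvd_of_le
      rintro ⟨t, ht⟩ htZ
      exact hZ t htZ
    rw [Nat.card_congr (subgroupOfEquivOfLe hPT).toEquiv] at h1
    rw [Nat.card_congr (subgroupOfEquivOfLe hZT).toEquiv] at h2
    have h3 : p ∣ Nat.card (stabilizer T ω) := (P.dvd_card_of_dvd_card hpG).trans h1
    have h4 : Nat.Coprime p (Nat.card Z) := (Nat.Prime.coprime_iff_not_dvd hp.out).2 hZp
    exact Nat.le_of_dvd Nat.card_pos (h4.mul_dvd_of_dvd_of_dvd h3 h2)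
  have hst1 : Nat.card (stabilizer T ω1) ≤ Nat.card Z := by
    apply Nat.card_le_card_of_injective (fun t : stabilizer T ω1 => (⟨((t : T) : G), hω1 _ (t : T).2 t.2⟩ : Z))
    intro a b hab
    exact Subtype.ext (Subtype.ext (congrArg (fun z : Z => (z : G)) hab))
  have hyZ : y ∉ Z := by
    intro h
    apply hZp
    have h1 : Nat.card P ∣ Nat.card Z := card_dvd_of_le (by

      rw [← hy, zpowers_le]; exact h)
    exact (P.dvd_card_of_dvd_card hpG).trans h1
  have hdisj : Disjoint (fixedBy Ω y) (orbit T ω1) := by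
    rw [Set.disjoint_left]
    rintro _ ha ⟨⟨t, ht⟩, rfl⟩
    apply hyZ
    apply hω1 y hyT
    have h1 : y • t • ω1 = t • ω1 := ha
    rw [← mul_smul, hcomm y hyT t ht, mul_smul] at h1
    exact smul_left_cancel _ h1
  have hsum : (fixedBy Ω y).ncard + (orbit T ω1).ncard ≤ Nat.card Ω := by
    rw [← Set.ncard_union_eq hdisj (Set.toFinite _) (Set.toFinite _)]
    exact Set.ncard_le_card _
  rw [Nat.card_coe_set_eq] at hf ⊢
  have h1 := (stabilizer T ω).card_mul_index
  have h2 := (stabilizer T ω1).card_mul_index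
  rw [← hf] at h1
  rw [hf1] at h2
  have hZ0 : 0 < Nat.card Z := Nat.card_pos
  apply Nat.le_of_mul_le_mul_left _ hZ0
  set f := (fixedBy Ω y).ncard
  have h3 : p * Nat.card Z * f ≤ Nat.card T := by
    rw [← h1]; exact Nat.mul_le_mul_right _ hst
  have h4 : Nat.card T ≤ Nat.card Z * (orbit T ω1).ncard := by
    rw [← h2]; exact Nat.mul_le_mul_right _ hst1
  calc Nat.card Z * ((p + 1) * f) = p * Nat.card Z * f + Nat.card Z * f := by ring
    _ ≤ Nat.card Z * (orbit T ω1).ncard + Nat.card Z * f := Nat.add_le_add_right (h3.trans h4) _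
    _ = Nat.card Z * (f + (orbit T ω1).ncard) := by ring
    _ ≤ _ := Nat.mul_le_mul_left _ hsum

end dich

end Cfsg.Agent.H409.Cyc
end

-- part: H409/FprCycL3
section
/-!
# `PSL_3(q)`, `p ∣ q ^ 2 + q + 1`
-/

set_option autoImplicit false
set_option linter.unusedSectionVars false

namespace Cfsg.Agent.H409.Cyc

open Module Subgroup MulAction Matrix
open Cfsg.Agent.H27.Psl (Irr)

section field

open Polynomial

variable {F V : Type*} [Field F] [AddCommGroup V] [Module F V] [FiniteDimensional F V] [Nontrivial V]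
  {A : V →ₗ[F] V}

/-- operators commuting with an irreducible one are polynomials in it -/
theorem exists_rho (hA : Irr A) {B : V →ₗ[F] V} (hB : ∀ w, B (A w) = A (B w)) :
    ∃ e : AdjoinRoot (minpoly F A), Cfsg.Agent.H27.Psl.rho A (minpoly.aeval F A) e = B := by
  obtain ⟨v, hv⟩ := exists_ne (0 : V)
  obtain ⟨e, he⟩ := (hA.phi_bijective hv).2 (B v)
  refine ⟨e, ?_⟩
  obtain ⟨g, rfl⟩ := AdjoinRoot.mk_surjective e
  refine eq_of_comm hA ?_ hB hv he
  intro w
  rw [Cfsg.Agent.H27.Psl.rho_mk]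
  exact Cfsg.Agent.H27.Psl.aeval_comm A g w

theorem comm_of_comm (hA : Irr A) {B C : V →ₗ[F] V} (hB : ∀ w, B (A w) = A (B w))
    (hC : ∀ w, C (A w) = A (C w)) : B * C = C * B := by
  obtain ⟨e, rfl⟩ := exists_rho hA hB
  obtain ⟨e', rfl⟩ := exists_rho hA hC
  rw [← map_mul, ← map_mul, mul_comm]

theorem rho_injective (hA : Irr A) : Function.Injective (Cfsg.Agent.H27.Psl.rho A (minpoly.aeval F A)) := by
  have : Fact (Irreducible (minpoly F A)) := ⟨hA.irreducible⟩
  obtain ⟨v, hv⟩ := exists_ne (0 : V)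
  intro a b hab
  exact (hA.phi_bijective hv).1 (congrArg (fun T : V →ₗ[F] V => T v) hab)

theorem finrank_adjoin (hA : Irr A) : finrank F (AdjoinRoot (minpoly F A)) = finrank F V := by
  obtain ⟨v, hv⟩ := exists_ne (0 : V)
  exact (LinearEquiv.ofBijective _ (hA.phi_bijective hv)).finrank_eq

/-- in prime dimension, a non-scalar operator commuting with `A` generates the field `F[A]` -/
theorem nonscalar (hA : Irr A) (h3 : (finrank F V).Prime) {B : V →ₗ[F] V} (hB : ∀ w, B (A w) = A (B w))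
    (hns : ¬ ∃ c : F, B = c • 1) :
    (minpoly F B).natDegree = finrank F V ∧ ∃ g : F[X], aeval B g = A := by
  have hirr : Fact (Irreducible (minpoly F A)) := ⟨hA.irreducible⟩
  have hfr := finrank_adjoin hA
  have hfd : FiniteDimensional F (AdjoinRoot (minpoly F A)) := by
    apply FiniteDimensional.of_finrank_pos
    rw [hfr]; exact h3.pos
  obtain ⟨τ, hτ⟩ := exists_rho hA hB
  have hroot : Cfsg.Agent.H27.Psl.rho A (minpoly.aeval F A) (AdjoinRoot.root _) = A := by
    have := Cfsg.Agent.H27.Psl.rho_mk A (minpoly.aeval F A) X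
    rwa [aeval_X, AdjoinRoot.mk_X] at this
  have hint : IsIntegral F τ := IsIntegral.of_finite F τ
  have hmp : minpoly F τ = minpoly F B := by
    rw [← hτ]
    exact (minpoly.algHom_eq (Cfsg.Agent.H27.Psl.rho A (minpoly.aeval F A)) (rho_injective hA) τ).symm
  have hdvd : (minpoly F τ).natDegree ∣ finrank F (AdjoinRoot (minpoly F A)) := minpoly.degree_dvd hint
  rw [hfr] at hdvd
  rcases (Nat.dvd_prime h3).1 hdvd with h1 | h1
  · exfalso
    have h2 : τ ∈ (algebraMap F (AdjoinRoot (minpoly F A))).range := by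
      apply minpoly.mem_range_of_degree_eq_one
      rw [Polynomial.degree_eq_natDegree (minpoly.ne_zero hint), h1]; rfl
    obtain ⟨c, hc⟩ := h2
    apply hns
    refine ⟨c, ?_⟩
    rw [← hτ, ← hc, AlgHom.commutes, Algebra.algebraMap_eq_smul_one]
  · refine ⟨by rw [← hmp, h1], ?_⟩
    have h2 : IntermediateField.adjoin F {τ} = ⊤ :=
      (Field.primitive_element_iff_minpoly_natDegree_eq F τ).2 (by rw [h1, hfr])
    have h4 : (IntermediateField.adjoin F {τ}).toSubalgebra = Algebra.adjoin F {τ} :=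
      IntermediateField.adjoin_simple_toSubalgebra_of_isAlgebraic hint.isAlgebraic
    have h5 : AdjoinRoot.root (minpoly F A) ∈ Algebra.adjoin F {τ} := by
      rw [← h4, h2]; trivial
    rw [Algebra.adjoin_singleton_eq_range_aeval] at h5
    obtain ⟨g, hg⟩ := h5
    refine ⟨g, ?_⟩
    have hg' : aeval τ g = AdjoinRoot.root (minpoly F A) := hg
    rw [← hroot, ← hg', ← hτ, Polynomial.aeval_algHom_apply]

end field

section cyc

/-- elements of order dividing `p` in a cyclic group -/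
theorem mem_zpowers_of_cyclic {C : Type*} [Group C] [Finite C] [IsCyclic C] {p : ℕ} (hp : 0 < p) {x w : C}
    (hx : orderOf x = p) (hw : w ^ p = 1) : w ∈ zpowers x := by
  classical
  have : Fintype C := Fintype.ofFinite _
  have h6 := IsCyclic.card_pow_eq_one_le (α := C) hp
  have h7 : (Finset.univ.filter (fun a : C => a ∈ zpowers x)) =
      Finset.univ.filter (fun a : C => a ^ p = 1) := by
    apply Finset.eq_of_subset_of_card_le
    · intro a ha
      simp only [Finset.mem_filter, Finset.mem_univ, true_and] at ha ⊢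
      obtain ⟨j, hj⟩ := ha
      have hj' : x ^ j = a := hj
      have hxp : x ^ p = 1 := by rw [← hx, pow_orderOf_eq_one]
      rw [← hj', ← zpow_natCast, ← _root_.zpow_mul, mul_comm, _root_.zpow_mul, zpow_natCast, hxp, _root_.one_zpow]
    · refine h6.trans ?_
      rw [← Fintype.card_subtype, ← Nat.card_eq_fintype_card]
      change p ≤ Nat.card (zpowers x)
      rw [Nat.card_zpowers, hx]
  have h8 : w ∈ Finset.univ.filter (fun a : C => a ^ p = 1) := by
    simp only [Finset.mem_filter, Finset.mem_univ, true_and]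
    exact hw
  rw [← h7] at h8
  simpa using h8

end cyc

section gen

variable {F : Type*} [Field F] [Fintype F] {V : Type*} [AddCommGroup V] [Module F V] [Finite V]
  {G : Type*} [Group G] [Finite G] {ρ : G →* Module.End F V} {p e : ℕ}

/-- a cyclic Sylow subgroup and its element of order `p` -/
theorem exists_gen [hp : Fact p.Prime] (hodd : p ≠ 2)
    (hinj : Function.Injective ρ) (hch : (p : F) ≠ 0) (he : ∀ k, p ∣ Fintype.card F ^ k - 1 → e ∣ k)
    (hdim : finrank F V < 2 * e) (hpG : p ∣ Nat.card G) :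
    ∃ (P : Sylow p G) (y x : G), zpowers y = (P : Subgroup G) ∧ x ∈ (P : Subgroup G) ∧ Sit ρ p e x := by
  classical
  obtain ⟨P⟩ : Nonempty (Sylow p G) := inferInstance
  have hPnt : Nontrivial P := by
    rw [← Finite.one_lt_card_iff_nontrivial]
    exact lt_of_lt_of_le hp.out.one_lt (Nat.le_of_dvd Nat.card_pos (P.dvd_card_of_dvd_card hpG))
  have hZnt : Nontrivial (center P) := P.isPGroup'.center_nontrivial
  obtain ⟨⟨⟨x, hxP⟩, hxZ⟩, hx⟩ : ∃ z : center P, orderOf z = p := by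
    apply exists_prime_orderOf_dvd_card'
    obtain ⟨k, hk⟩ := (IsPGroup.iff_card).1 (P.isPGroup'.to_subgroup (center P))
    have hk0 : k ≠ 0 := by
      rintro rfl
      rw [pow_zero] at hk
      have := Finite.one_lt_card_iff_nontrivial.2 hZnt
      omega
    rw [hk]; exact dvd_pow_self p hk0
  have hxo : orderOf x = p := by
    rw [← hx, ← orderOf_coe, ← orderOf_coe]
  have hsit : Sit ρ p e x := ⟨hinj, hxo, hp.out, hodd, hch, he, hdim⟩
  have hcomm : ∀ y ∈ (P : Subgroup G), y * x = x * y := by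
    intro y hy
    have h1 := mem_center_iff.1 hxZ ⟨y, hy⟩
    exact congrArg Subtype.val h1
  have hcyc := hsit.cyclic P hcomm
  obtain ⟨⟨y, hyP⟩, hy⟩ := hcyc.exists_generator
  have hyz : zpowers y = (P : Subgroup G) := by
    apply le_antisymm
    · rw [zpowers_le]; exact hyP
    · intro z hz
      obtain ⟨k, hk⟩ := hy ⟨z, hz⟩
      exact ⟨k, by simpa using congrArg Subtype.val hk⟩
  exact ⟨P, y, x, hyz, hxP, hsit⟩

end gen

section sl

variable {F : Type*} [Field F] [Fintype F] {n : ℕ}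

theorem mem_center_of_scalar {g : _root_.Matrix.SpecialLinearGroup (Fin n) F} {c : F} (h : rhoSL n F g = c • 1) :
    g ∈ center (_root_.Matrix.SpecialLinearGroup (Fin n) F) := by
  rw [mem_center_iff]
  intro k
  apply rhoSL_inj
  rw [map_mul, map_mul, h, smul_mul_assoc, one_mul, mul_smul_comm, mul_one]

/-- an `r`-subgroup normalised by an irreducible element is trivial, `r` the characteristic -/
theorem eq_bot_of_irr {r : ℕ} [hr : Fact r.Prime] [CharP F r] (R : Subgroup (_root_.Matrix.SpecialLinearGroup (Fin n) F))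
    (hn : 1 ≤ n) (hR : IsPGroup r R) {y : _root_.Matrix.SpecialLinearGroup (Fin n) F}
    (hy : ∀ g ∈ R, y⁻¹ * g * y ∈ R) (hA : Irr (rhoSL n F y)) : R = ⊥ := by
  classical
  have hne : Nonempty (Fin n) := ⟨⟨0, by omega⟩⟩
  let _ : MulAction R (Fin n → F) :=
    { smul := fun g v => rhoSL n F (g : _root_.Matrix.SpecialLinearGroup (Fin n) F) v
      one_smul := fun v => by
        change rhoSL n F ((1 : R) : _root_.Matrix.SpecialLinearGroup (Fin n) F) v = v
        rw [coe_one, map_one]; rfl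
      mul_smul := fun a b v => by
        change rhoSL n F ((a * b : R) : _root_.Matrix.SpecialLinearGroup (Fin n) F) v = _
        rw [coe_mul, rho_mul_apply]; rfl }
  have h1 := hR.card_modEq_card_fixedPoints (Fin n → F)
  -- the fixed space
  let W : Submodule F (Fin n → F) :=
    { carrier := {v | ∀ g ∈ R, rhoSL n F g v = v}
      add_mem' := fun {a b} ha hb g hg => by rw [map_add, ha g hg, hb g hg]
      zero_mem' := fun g _ => map_zero _
      smul_mem' := fun c v hv g hg => by rw [map_smul, hv g hg] }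
  have hW : W ≠ ⊥ := by
    intro h0
    have h2 : fixedPoints R (Fin n → F) = {0} := by
      ext v
      constructor
      · intro hv
        have h3 : v ∈ W := fun g hg => hv ⟨g, hg⟩
        rw [h0] at h3
        exact h3
      · rintro rfl g
        exact map_zero (rhoSL n F (g : _root_.Matrix.SpecialLinearGroup (Fin n) F))
    rw [h2, Nat.card_coe_set_eq ({0} : Set (Fin n → F)), Set.ncard_singleton] at h1
    obtain ⟨a, -, ha⟩ := FiniteField.card F r
    have h3 : r ∣ Nat.card (Fin n → F) := by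
      rw [Nat.card_eq_fintype_card, Fintype.card_fun, Fintype.card_fin, ha, ← pow_mul]
      exact dvd_pow_self r (Nat.mul_ne_zero a.pos.ne' (by omega))
    have h4 := (h1.dvd_iff dvd_rfl).1 h3
    exact hr.out.one_lt.ne' (Nat.dvd_one.1 h4)
  have hWy : ∀ v ∈ W, rhoSL n F y v ∈ W := by
    intro v hv g hg
    have h2 := hv _ (hy g hg)
    have h3 : rhoSL n F g (rhoSL n F y v) = rhoSL n F y (rhoSL n F (y⁻¹ * g * y) v) := by
      rw [← rho_mul_apply, ← rho_mul_apply]
      congr 2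
      group
    rw [h3, h2]
  have hWt := (hA W hWy).resolve_left hW
  rw [eq_bot_iff]
  intro g hg
  rw [mem_bot]
  apply rhoSL_inj
  rw [map_one]
  apply LinearMap.ext
  intro v
  have : v ∈ W := by rw [hWt]; trivial
  exact this g hg

end sl

end Cfsg.Agent.H409.Cyc
end

-- part: H409/FprCycL3b
section
/-!
# `PSL_3(q)`, `p ∣ q ^ 2 + q + 1`: the row
-/

set_option autoImplicit false
set_option linter.unusedSectionVars false

namespace Cfsg.Agent.H409.Cyc

open Module Subgroup MulAction Matrix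
open Cfsg.Agent.H27.Psl (Irr)

section torus

variable {F : Type*} [Field F] [Fintype F] {n : ℕ}

theorem torus_comm {x : _root_.Matrix.SpecialLinearGroup (Fin n) F} (hn : 1 ≤ n) (hA : Irr (rhoSL n F x)) :
    ∀ a ∈ centralizer ({x} : Set (_root_.Matrix.SpecialLinearGroup (Fin n) F)),
      ∀ b ∈ centralizer ({x} : Set (_root_.Matrix.SpecialLinearGroup (Fin n) F)), a * b = b * a := by
  have hne : Nonempty (Fin n) := ⟨⟨0, by omega⟩⟩
  intro a ha b hb
  apply rhoSL_inj
  rw [map_mul, map_mul]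
  exact comm_of_comm hA (cent_iff.1 ha) (cent_iff.1 hb)

theorem torus_cyclic {x : _root_.Matrix.SpecialLinearGroup (Fin n) F} (hn : 1 ≤ n) (hA : Irr (rhoSL n F x)) :
    IsCyclic (centralizer ({x} : Set (_root_.Matrix.SpecialLinearGroup (Fin n) F))) := by
  have hne : Nonempty (Fin n) := ⟨⟨0, by omega⟩⟩
  have hirr : Fact (Irreducible (minpoly F (rhoSL n F x))) := ⟨hA.irreducible⟩
  choose e he using fun t : centralizer ({x} : Set (_root_.Matrix.SpecialLinearGroup (Fin n) F)) =>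
    exists_rho hA (cent_iff.1 t.2)
  let f : centralizer ({x} : Set (_root_.Matrix.SpecialLinearGroup (Fin n) F)) →* AdjoinRoot (minpoly F (rhoSL n F x)) :=
    { toFun := e
      map_one' := rho_injective hA (by rw [he, map_one, coe_one, map_one])
      map_mul' := fun a b => rho_injective hA (by rw [map_mul, he, he, he, coe_mul, map_mul]) }
  have hf : Function.Injective f := by
    intro a b hab
    have h1 : e a = e b := hab
    apply Subtype.ext
    apply rhoSL_inj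
    rw [← he a, ← he b, h1]
  exact isCyclic_of_subgroup_isDomain f hf

theorem cent_le_of_nonscalar (hn : n.Prime) {x t : _root_.Matrix.SpecialLinearGroup (Fin n) F} (hA : Irr (rhoSL n F x))
    (ht : t ∈ centralizer ({x} : Set (_root_.Matrix.SpecialLinearGroup (Fin n) F)))
    (hns : t ∉ center (_root_.Matrix.SpecialLinearGroup (Fin n) F)) :
    centralizer ({t} : Set (_root_.Matrix.SpecialLinearGroup (Fin n) F)) ≤ centralizer ({x} : Set (_root_.Matrix.SpecialLinearGroup (Fin n) F)) := by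
  have hne : Nonempty (Fin n) := ⟨⟨0, hn.pos⟩⟩
  intro c hc
  rw [cent_iff] at hc ⊢
  obtain ⟨-, g, hg⟩ := nonscalar hA (by rw [Module.finrank_fin_fun]; exact hn) (cent_iff.1 ht)
    (fun ⟨c, h⟩ => hns (mem_center_of_scalar h))
  have h1 : rhoSL n F x ∈ Subalgebra.centralizer F ({rhoSL n F c} : Set (Module.End F (Fin n → F))) := by
    have h2 : Algebra.adjoin F {rhoSL n F t} ≤
        Subalgebra.centralizer F ({rhoSL n F c} : Set (Module.End F (Fin n → F))) := by
      rw [Algebra.adjoin_le_iff, Set.singleton_subset_iff]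
      apply Subalgebra.mem_centralizer_iff _ |>.2
      rintro _ rfl
      apply LinearMap.ext
      intro w
      exact hc w
    rw [← hg]
    exact h2 (Polynomial.aeval_mem_adjoin_singleton F _)
  have h3 := (Subalgebra.mem_centralizer_iff _).1 h1 _ rfl
  intro w
  exact congrArg (fun T : Module.End F (Fin n → F) => T w) h3

/-- the normaliser of a cyclic subgroup normalises its subgroup of order `p` -/
theorem normalizer_le_of_cyclic {G : Type*} [Group G] [Finite G] {A : Subgroup G} (hA : IsCyclic A) {p : ℕ}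
    (hp : 0 < p) {x : G} (hxA : x ∈ A) (hx : orderOf x = p) :
    normalizer (A : Set G) ≤ normalizer (zpowers x : Set G) := by
  intro g hg
  rw [mem_normalizer_iff_map_conj_eq]
  apply eq_of_le_of_card_ge
  · rw [map_le_iff_le_comap, zpowers_le]
    change g * x * g⁻¹ ∈ zpowers x
    have h1 : g * x * g⁻¹ ∈ A := (mem_normalizer_iff.1 hg x).1 hxA
    have h2 : (⟨g * x * g⁻¹, h1⟩ : A) ∈ zpowers (⟨x, hxA⟩ : A) := by
      apply mem_zpowers_of_cyclic hp (by rw [Subgroup.orderOf_mk]; exact hx)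
      apply Subtype.ext
      rw [coe_pow, coe_one]
      change (g * x * g⁻¹) ^ p = 1
      rw [conj_pow, ← hx, pow_orderOf_eq_one, mul_one, mul_inv_cancel]
    obtain ⟨j, hj⟩ := h2
    exact ⟨j, congrArg Subtype.val hj⟩
  · rw [card_map_of_injective (MulAut.conj _).injective]

/-- subgroups of the torus between the centre and the torus are large -/
theorem hm3 {x : _root_.Matrix.SpecialLinearGroup (Fin 3) F} (hA : Irr (rhoSL 3 F x)) (U : Subgroup (_root_.Matrix.SpecialLinearGroup (Fin 3) F))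
    (hZU : center (_root_.Matrix.SpecialLinearGroup (Fin 3) F) ≤ U)
    (hUT : U ≤ centralizer ({x} : Set (_root_.Matrix.SpecialLinearGroup (Fin 3) F)))
    (hne : U ≠ center (_root_.Matrix.SpecialLinearGroup (Fin 3) F)) :
    3 + Nat.card (center (_root_.Matrix.SpecialLinearGroup (Fin 3) F)) ≤ Nat.card U := by
  classical
  obtain ⟨k, hk⟩ := card_dvd_of_le hZU
  have hZ0 : 0 < Nat.card (center (_root_.Matrix.SpecialLinearGroup (Fin 3) F)) := Nat.card_pos
  have hU0 : 0 < Nat.card U := Nat.card_pos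
  have hk2 : 2 ≤ k := by
    rcases Nat.lt_or_ge k 2 with h | h
    · exfalso
      have h3 : k = 0 ∨ k = 1 := by omega
      rcases h3 with h3 | h3
      · rw [h3, mul_zero] at hk; omega
      · rw [h3, mul_one] at hk
        exact hne (eq_of_le_of_card_ge hZU hk.le).symm
    · exact h
  have h2Z : Nat.card (center (_root_.Matrix.SpecialLinearGroup (Fin 3) F)) * 2 ≤ Nat.card U := by
    rw [hk]; exact Nat.mul_le_mul_left _ hk2
  by_contra hcon
  push Not at hcon
  have hZ3 : Nat.card (center (_root_.Matrix.SpecialLinearGroup (Fin 3) F)) < 3 := by omega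
  have hscal : ∀ z ∈ center (_root_.Matrix.SpecialLinearGroup (Fin 3) F), z ^ 2 = 1 → z = 1 := by
    intro z hz hz2
    obtain ⟨c, hc, hc'⟩ := (Matrix.SpecialLinearGroup.mem_center_iff.1 hz)
    have hc3 : c ^ 3 = 1 := by simpa only [_root_.Fintype.card_fin] using hc
    have h1 : (z : Matrix (Fin 3) (Fin 3) F) * z = 1 := by
      rw [← Matrix.SpecialLinearGroup.coe_mul, ← sq, hz2, Matrix.SpecialLinearGroup.coe_one]
    rw [← hc'] at h1
    have h2 := congrFun (congrFun h1 0) 0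
    simp only [Matrix.scalar_apply, Matrix.diagonal_mul_diagonal, Matrix.diagonal_apply_eq, Matrix.one_apply_eq] at h2
    have h3 : c = 1 := by
      have h4 : c * c * c = 1 := by rw [← hc3]; ring
      rwa [h2, one_mul] at h4
    apply Subtype.ext
    rw [← hc', h3]
    simp
  have hZne : Nat.card (center (_root_.Matrix.SpecialLinearGroup (Fin 3) F)) ≠ 2 := by
    intro h2
    have : Fact (Nat.Prime 2) := ⟨Nat.prime_two⟩
    obtain ⟨z, hz⟩ := exists_prime_orderOf_dvd_card' (G := center (_root_.Matrix.SpecialLinearGroup (Fin 3) F)) 2 (by rw [h2])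
    have h3 : (z : _root_.Matrix.SpecialLinearGroup (Fin 3) F) = 1 := by
      apply hscal z z.2
      rw [← coe_pow, ← hz, pow_orderOf_eq_one, coe_one]
    have h4 : z = 1 := Subtype.ext h3
    rw [h4, orderOf_one] at hz
    omega
  have hZ1 : Nat.card (center (_root_.Matrix.SpecialLinearGroup (Fin 3) F)) = 1 := by omega
  have hZb : center (_root_.Matrix.SpecialLinearGroup (Fin 3) F) = ⊥ := eq_bot_of_card_eq _ hZ1
  -- an element with `t² = 1` or `t³ = 1`
  have hinj : ∀ t ∈ U, t ≠ 1 → ∀ B : Module.End F (Fin 3 → F), (rhoSL 3 F t - 1) * B = 0 → B = 0 := by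
    intro t ht ht1 B hB
    have hcx := cent_iff.1 (hUT ht)
    rcases hA (LinearMap.ker (rhoSL 3 F t - 1)) (fun u hu => by
      rw [LinearMap.mem_ker, LinearMap.sub_apply, sub_eq_zero, Module.End.one_apply] at hu ⊢
      rw [hcx, hu]) with h | h
    · apply LinearMap.ext
      intro w
      have h1 : B w ∈ LinearMap.ker (rhoSL 3 F t - 1) := by
        rw [LinearMap.mem_ker]
        exact congrArg (fun T : Module.End F (Fin 3 → F) => T w) hB
      rw [h] at h1
      exact h1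
    · exfalso
      apply ht1
      apply rhoSL_inj
      rw [map_one]
      exact sub_eq_zero.1 (LinearMap.ker_eq_top.1 h)
  have hU23 : Nat.card U = 2 ∨ Nat.card U = 3 := by omega
  have hns : ∀ t ∈ U, t ≠ 1 → ¬ ∃ c : F, rhoSL 3 F t = c • 1 := by
    rintro t ht ht1 ⟨c, hc⟩
    have h1 := mem_center_of_scalar hc
    rw [hZb, mem_bot] at h1
    exact ht1 h1
  rcases hU23 with h | h
  · have : Fact (Nat.Prime 2) := ⟨Nat.prime_two⟩
    obtain ⟨t, ht⟩ := exists_prime_orderOf_dvd_card' (G := U) 2 (by rw [h])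
    have ht1 : (t : _root_.Matrix.SpecialLinearGroup (Fin 3) F) ≠ 1 := by
      intro h1
      have : t = 1 := Subtype.ext h1
      rw [this, orderOf_one] at ht
      omega
    have ht2 : (t : _root_.Matrix.SpecialLinearGroup (Fin 3) F) ^ 2 = 1 := by
      rw [← coe_pow, ← ht, pow_orderOf_eq_one, coe_one]
    have h2 : (rhoSL 3 F t) ^ 2 = 1 := by rw [← map_pow, ht2, map_one]
    have h3 := hinj t t.2 ht1 (rhoSL 3 F t + 1) (by
      have : (rhoSL 3 F t - 1) * (rhoSL 3 F t + 1) = (rhoSL 3 F t) ^ 2 - 1 := by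
        rw [sub_mul, mul_add, one_mul, mul_one, ← sq]; abel
      rw [this, h2, sub_self])
    apply hns t t.2 ht1
    refine ⟨-1, ?_⟩
    apply LinearMap.ext
    intro w
    have h4 : rhoSL 3 F t w + w = 0 := congrArg (fun T : Module.End F (Fin 3 → F) => T w) h3
    change rhoSL 3 F t w = (-1 : F) • w
    rw [neg_smul, one_smul]
    exact eq_neg_of_add_eq_zero_left h4
  · have : Fact (Nat.Prime 3) := ⟨Nat.prime_three⟩
    obtain ⟨t, ht⟩ := exists_prime_orderOf_dvd_card' (G := U) 3 (by rw [h])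
    have ht1 : (t : _root_.Matrix.SpecialLinearGroup (Fin 3) F) ≠ 1 := by
      intro h1
      have : t = 1 := Subtype.ext h1
      rw [this, orderOf_one] at ht
      omega
    have ht2 : (t : _root_.Matrix.SpecialLinearGroup (Fin 3) F) ^ 3 = 1 := by
      have h1 := pow_orderOf_eq_one t
      rw [ht] at h1
      rw [← coe_pow, h1, coe_one]
    have h2 : (rhoSL 3 F t) ^ 3 = 1 := by rw [← map_pow, ht2, map_one]
    have h3 := hinj t t.2 ht1 ((rhoSL 3 F t) ^ 2 + rhoSL 3 F t + 1) (by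
      have : (rhoSL 3 F t - 1) * ((rhoSL 3 F t) ^ 2 + rhoSL 3 F t + 1) = (rhoSL 3 F t) ^ 3 - 1 := by
        rw [sub_mul, mul_add, mul_add, one_mul, mul_one, ← pow_succ', ← sq]; abel
      rw [this, h2, sub_self])
    obtain ⟨h4, -⟩ := nonscalar hA (by rw [Module.finrank_fin_fun]; exact Nat.prime_three)
      (cent_iff.1 (hUT t.2)) (hns t t.2 ht1)
    rw [Module.finrank_fin_fun] at h4
    have h5 : (Polynomial.X ^ 2 + Polynomial.X + 1 : Polynomial F).natDegree = 2 := by compute_degree!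
    have h6 : (Polynomial.X ^ 2 + Polynomial.X + 1 : Polynomial F) ≠ 0 := by
      intro h0
      rw [h0, Polynomial.natDegree_zero] at h5
      omega
    have h7 : minpoly F (rhoSL 3 F t) ∣ Polynomial.X ^ 2 + Polynomial.X + 1 := by
      apply minpoly.dvd
      rw [map_add, map_add, map_pow, Polynomial.aeval_X, map_one]
      exact h3
    have h8 := Polynomial.natDegree_le_of_dvd h7 h6
    rw [h4, h5] at h8
    omega

end torus

theorem arith3 {q p f W : ℕ} (hq : 2 ≤ q) (hp7 : 7 ≤ p) (hpB : p ∣ q ^ 2 + q + 1) (hW0 : 0 < W)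
    (hW : q ^ 3 ∣ W) (hWf : W ≡ f [MOD p]) (hf : p * f ≤ 3 * (q ^ 2 + q + 1)) : (p + 1) * f ≤ W := by
  obtain ⟨k, rfl⟩ := hW
  have hq3 : q ^ 3 ≡ 1 [MOD p] := by
    have h1 : p ∣ q ^ 3 - 1 := by
      refine hpB.trans ⟨q - 1, ?_⟩
      obtain ⟨m, rfl⟩ := Nat.exists_eq_add_of_le (show 1 ≤ q by omega)
      have h2 : 1 ≤ (1 + m) ^ 3 := Nat.one_le_pow _ _ (by omega)
      zify [h2, show 1 ≤ 1 + m by omega]
      ring
    exact ((Nat.modEq_iff_dvd' (Nat.one_le_pow _ _ (by omega))).2 h1).symm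
  have hkf : k ≡ f [MOD p] := by
    have h1 : q ^ 3 * k ≡ 1 * k [MOD p] := hq3.mul_right k
    rw [one_mul] at h1
    exact h1.symm.trans hWf
  have hk0 : 0 < k := Nat.pos_of_ne_zero (by rintro rfl; simp at hW0)
  have hpq : p ≤ q ^ 2 + q + 1 := Nat.le_of_dvd (by positivity) hpB
  have hp1 : p + 1 ≤ q ^ 3 := by nlinarith only [hp7, hpq]
  rcases Nat.lt_or_ge f p with h | h
  · have h1 : f ≤ k := by
      have h2 : k % p = f % p := hkf
      rw [Nat.mod_eq_of_lt h] at h2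
      rw [← h2]; exact Nat.mod_le _ _
    exact Nat.mul_le_mul hp1 h1
  · have hpp : p * p ≤ 3 * (q ^ 2 + q + 1) := (Nat.mul_le_mul_left _ h).trans hf
    rcases Nat.lt_or_ge q 5 with hq5 | hq5
    · have hq4 : q = 2 ∨ q = 3 ∨ q = 4 := by omega
      rcases hq4 with rfl | rfl | rfl
      · exfalso
        norm_num at hpp
        nlinarith only [hp7, hpp]
      · exfalso
        norm_num at hpp hpB
        have : p ≤ 6 := by nlinarith only [hpp]
        omega
      · norm_num only [_root_.ge_iff_le] at hpp hpB hf ⊢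
        have hp9 : p ≤ 7 := by nlinarith only [hpp]
        have hp7' : p = 7 := by omega
        subst hp7'
        have h2 : k % 7 = f % 7 := hkf
        omega
    · have h1 : 1 * (7 * ((p + 1) * f)) ≤ 8 * (p * f) := by nlinarith only [hp7]
      have h2 : 8 * (p * f) ≤ 24 * (q ^ 2 + q + 1) := by omega
      have h3 : 24 * (q ^ 2 + q + 1) ≤ 7 * q ^ 3 := by nlinarith only [hq5]
      have h4 : q ^ 3 * 1 ≤ q ^ 3 * k := Nat.mul_le_mul_left _ hk0
      omega

theorem pow3_sub {q : ℕ} (hq : 2 ≤ q) : q ^ 3 - 1 = (q - 1) * (q ^ 2 + q + 1) := by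
  obtain ⟨m, rfl⟩ := Nat.exists_eq_add_of_le (show 1 ≤ q by omega)
  have h2 : 1 ≤ (1 + m) ^ 3 := Nat.one_le_pow _ _ (by omega)
  zify [h2, show 1 ≤ 1 + m by omega]
  ring

section main

variable {F : Type*} [Field F] [Fintype F]

theorem card_SL3 : (Fintype.card F - 1) * Nat.card (_root_.Matrix.SpecialLinearGroup (Fin 3) F) =
    (Fintype.card F ^ 3 - 1) * ((Fintype.card F ^ 2 - 1) * Fintype.card F * ((Fintype.card F - 1) * Fintype.card F ^ 2)) := by
  have h1 := Cfsg.Agent.S0242.result (F := F) rfl 3 (by norm_num)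
  rw [h1, Fin.prod_univ_three]
  have hq : 2 ≤ Fintype.card F := two_le_q
  set q := Fintype.card F
  have e0 : ((0 : Fin 3) : ℕ) = 0 := rfl
  have e1 : ((1 : Fin 3) : ℕ) = 1 := rfl
  have e2 : ((2 : Fin 3) : ℕ) = 2 := rfl
  rw [e0, e1, e2, pow_zero, pow_one]
  have h2 : q ^ 3 - q = (q ^ 2 - 1) * q := by rw [Nat.sub_mul, one_mul, ← pow_succ]
  have h3 : q ^ 3 - q ^ 2 = (q - 1) * q ^ 2 := by rw [Nat.sub_mul, one_mul, ← pow_succ']
  rw [h2, h3]
  ring

theorem dvd_B {p : ℕ} [hp : Fact p.Prime] (hch : (p : F) ≠ 0)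
    (he : ∀ k, p ∣ Fintype.card F ^ k - 1 → 3 ∣ k) (hpG : p ∣ Nat.card (_root_.Matrix.SpecialLinearGroup (Fin 3) F)) :
    p ∣ Fintype.card F ^ 2 + Fintype.card F + 1 := by
  have hq : 2 ≤ Fintype.card F := two_le_q
  have hpq : ¬ p ∣ Fintype.card F := by
    intro h
    apply hch
    obtain ⟨r, hr⟩ := CharP.exists F
    have hrp : r.Prime := CharP.char_is_prime F r
    obtain ⟨n, -, hn⟩ := FiniteField.card F r
    rw [hn] at h
    have h1 := (Nat.prime_dvd_prime_iff_eq hp.out hrp).1 (hp.out.dvd_of_dvd_pow h)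
    rw [h1]
    exact CharP.cast_eq_zero F r
  have h1 : p ∣ (Fintype.card F - 1) * Nat.card (_root_.Matrix.SpecialLinearGroup (Fin 3) F) := hpG.mul_left _
  rw [card_SL3] at h1
  set q := Fintype.card F
  have hp1 : ¬ p ∣ q - 1 := fun h => by
    have := he 1 (by rwa [pow_one])
    omega
  have hp2 : ¬ p ∣ q ^ 2 - 1 := fun h => by
    have := he 2 h
    omega
  have h2 : p ∣ q ^ 3 - 1 := by
    rcases hp.out.dvd_mul.1 h1 with h | h
    · exact h
    · exfalso
      rcases hp.out.dvd_mul.1 h with h | h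
      · rcases hp.out.dvd_mul.1 h with h | h
        · exact hp2 h
        · exact hpq h
      · rcases hp.out.dvd_mul.1 h with h | h
        · exact hp1 h
        · exact hpq (hp.out.dvd_of_dvd_pow h)
  have h3 : q ^ 3 - 1 = (q - 1) * (q ^ 2 + q + 1) := pow3_sub hq
  rw [h3] at h2
  exact (hp.out.dvd_mul.1 h2).resolve_left hp1

theorem seven_le {p : ℕ} [hp : Fact p.Prime] (hch : (p : F) ≠ 0)
    (he : ∀ k, p ∣ Fintype.card F ^ k - 1 → 3 ∣ k) (hB : p ∣ Fintype.card F ^ 2 + Fintype.card F + 1) : 7 ≤ p := by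
  have h4 := succ_le_of_he hch he
  by_contra hcon
  push Not at hcon
  have h5 : p = 5 := by
    have : p = 4 ∨ p = 5 ∨ p = 6 := by omega
    rcases this with h | h | h
    · exact absurd hp.out (by rw [h]; norm_num)
    · exact h
    · exact absurd hp.out (by rw [h]; norm_num)
  subst h5
  have h1 : (Fintype.card F ^ 2 + Fintype.card F + 1) % 5 = 0 := Nat.mod_eq_zero_of_dvd hB
  have h2 : Fintype.card F % 5 < 5 := Nat.mod_lt _ (by norm_num)
  rw [Nat.add_mod, Nat.add_mod (Fintype.card F ^ 2), Nat.pow_mod] at h1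
  generalize Fintype.card F % 5 = a at h1 h2
  interval_cases a <;> (clear * - h1; omega)

/-- the bound for a transitive action of `SL_3(F)` -/
theorem ratio_sl3 {p r : ℕ} [hp : Fact p.Prime] [hr : Fact r.Prime] [CharP F r] (hodd : p ≠ 2)
    (hch : (p : F) ≠ 0) (he : ∀ k, p ∣ Fintype.card F ^ k - 1 → 3 ∣ k)
    (hpG : p ∣ Nat.card (_root_.Matrix.SpecialLinearGroup (Fin 3) F))
    {P : Sylow p (_root_.Matrix.SpecialLinearGroup (Fin 3) F)} {x y : _root_.Matrix.SpecialLinearGroup (Fin 3) F}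
    (hy : zpowers y = (P : Subgroup (_root_.Matrix.SpecialLinearGroup (Fin 3) F)))
    (hxP : x ∈ (P : Subgroup (_root_.Matrix.SpecialLinearGroup (Fin 3) F))) (hS : Sit (rhoSL 3 F) p 3 x)
    {Ω : Type*} [MulAction (_root_.Matrix.SpecialLinearGroup (Fin 3) F) Ω] [Finite Ω]
    [IsPretransitive (_root_.Matrix.SpecialLinearGroup (Fin 3) F) Ω]
    (hZ : ∀ z ∈ center (_root_.Matrix.SpecialLinearGroup (Fin 3) F), ∀ ω : Ω, z • ω = ω)
    (hidx : Fintype.card F ^ 3 - 1 ≤ Nat.card Ω * (Fintype.card F - 1)) :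
    (p + 1) * Nat.card (fixedBy Ω y) ≤ Nat.card Ω := by
  classical
  by_cases h0 : Nat.card (fixedBy Ω y) = 0
  · rw [h0, mul_zero]; exact Nat.zero_le _
  obtain ⟨ω, hω⟩ : Nonempty (fixedBy Ω y) := (Nat.card_ne_zero.1 h0).1
  have hω' : y • ω = ω := hω
  have hq : 2 ≤ Fintype.card F := two_le_q
  have hA : Irr (rhoSL 3 F x) := hS.irr_top (Module.finrank_fin_fun F)
  let T := centralizer ({x} : Set (_root_.Matrix.SpecialLinearGroup (Fin 3) F))
  let Z := center (_root_.Matrix.SpecialLinearGroup (Fin 3) F)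
  have hcomm : ∀ a ∈ T, ∀ b ∈ T, a * b = b * a := torus_comm (by norm_num) hA
  have hxy : x ∈ zpowers y := by rw [hy]; exact hxP
  have hxT : x ∈ T := mem_centralizer_singleton_iff.2 rfl
  have hyT : y ∈ T := by
    rw [mem_centralizer_singleton_iff]
    obtain ⟨k, rfl⟩ := hxy
    exact ((Commute.refl y).zpow_right k).eq
  have hTy : centralizer ({y} : Set (_root_.Matrix.SpecialLinearGroup (Fin 3) F)) = T := by
    apply le_antisymm
    · intro c hc
      rw [mem_centralizer_singleton_iff] at hc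
      change c ∈ centralizer _
      rw [mem_centralizer_singleton_iff]
      obtain ⟨k, rfl⟩ := hxy
      exact (Commute.zpow_right (show Commute c y from hc) k).eq
    · intro c hc
      rw [mem_centralizer_singleton_iff]
      exact hcomm c hc y hyT
  have hPT : (P : Subgroup (_root_.Matrix.SpecialLinearGroup (Fin 3) F)) ≤ T := by rw [← hy, zpowers_le]; exact hyT
  have hZT : Z ≤ T := by
    intro z hz
    exact mem_centralizer_singleton_iff.2 (mem_center_iff.1 hz x).symm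
  have hZp : ¬ p ∣ Nat.card Z := sl_ker he (by norm_num)
  have hTcard : Nat.card T * (Fintype.card F - 1) ≤ Fintype.card F ^ 3 - 1 := card_cent_SL (by norm_num) hA
  have hNx : Nat.card (normalizer (zpowers x : Set (_root_.Matrix.SpecialLinearGroup (Fin 3) F))) ≤ 3 * Nat.card T :=
    hS.card_normalizer_le
  have hNT : Nat.card (normalizer (T : Set (_root_.Matrix.SpecialLinearGroup (Fin 3) F))) ≤ 3 * Nat.card T := by
    refine le_trans ?_ hNx
    exact Subgroup.card_le_of_le (normalizer_le_of_cyclic (torus_cyclic (by norm_num) hA) hp.out.pos hxT hS.ord)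
  have hPc : IsCyclic (P : Subgroup (_root_.Matrix.SpecialLinearGroup (Fin 3) F)) := by
    rw [← hy]
    infer_instance
  have hNP : Nat.card (normalizer ((P : Subgroup (_root_.Matrix.SpecialLinearGroup (Fin 3) F)) : Set (_root_.Matrix.SpecialLinearGroup (Fin 3) F))) ≤
      3 * Nat.card T := by
    refine le_trans ?_ hNx
    exact Subgroup.card_le_of_le (normalizer_le_of_cyclic hPc hp.out.pos hxP hS.ord)
  have hTΩ : Nat.card T ≤ Nat.card Ω := by
    have h1 := hTcard.trans hidx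
    exact Nat.le_of_mul_le_mul_right h1 (by omega)
  have hHidx : (stabilizer (_root_.Matrix.SpecialLinearGroup (Fin 3) F) ω).index = Nat.card Ω :=
    index_stabilizer_of_transitive _ _
  by_cases hnot : ∃ n ∈ normalizer ((P : Subgroup (_root_.Matrix.SpecialLinearGroup (Fin 3) F)) : Set (_root_.Matrix.SpecialLinearGroup (Fin 3) F)),
      n • ω = ω ∧ n ∉ T
  · obtain ⟨g, hg⟩ := exists_regular Z T (stabilizer (_root_.Matrix.SpecialLinearGroup (Fin 3) F) ω) le_rfl hZT
      (fun z hz => hZ z hz ω) (fun t ht hns => cent_le_of_nonscalar Nat.prime_three hA ht hns) hcomm hNT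
      (fun U hZU hUT hne => hm3 hA U hZU hUT hne) (by rw [hHidx]; exact hTΩ)
    refine ti_bound P hy hpG Z T hZT hZp hTy hcomm hNP hω' (fun z hz => hZ z hz ω) (g • ω) ?_ hnot
    intro t ht hfix
    apply hg t ht
    change (g⁻¹ * t * g) • ω = ω
    rw [mul_smul, mul_smul, hfix, inv_smul_smul]
  · push Not at hnot
    -- the stabiliser has order prime to the characteristic
    let H := stabilizer (_root_.Matrix.SpecialLinearGroup (Fin 3) F) ω
    have hPH : (P : Subgroup (_root_.Matrix.SpecialLinearGroup (Fin 3) F)) ≤ H := by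
      rw [← hy, zpowers_le]; exact hω'
    have hpP : p ∣ Nat.card P := P.dvd_card_of_dvd_card hpG
    have hpH : p ∣ Nat.card H := hpP.trans (card_dvd_of_le hPH)
    have hrp : r ≠ p := by
      rintro rfl
      exact hch (CharP.cast_eq_zero F r)
    have hrH : ¬ r ∣ Nat.card H := by
      intro hrH
      have hNC : normalizer (((P.subtype hPH : Sylow p H) : Subgroup H) : Set H) ≤
          centralizer (((P.subtype hPH : Sylow p H) : Subgroup H) : Set H) := by
        intro h hh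
        have h1 : (h : _root_.Matrix.SpecialLinearGroup (Fin 3) F) ∈
            normalizer ((P : Subgroup (_root_.Matrix.SpecialLinearGroup (Fin 3) F)) : Set (_root_.Matrix.SpecialLinearGroup (Fin 3) F)) := by
          rw [mem_normalizer_iff_map_conj_eq]
          apply eq_of_le_of_card_ge
          · rintro _ ⟨z, hz, rfl⟩
            have h2 := (mem_normalizer_iff.1 hh ⟨z, hPH hz⟩).1 hz
            exact h2
          · rw [card_map_of_injective (MulAut.conj _).injective]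
        have h2 : (h : _root_.Matrix.SpecialLinearGroup (Fin 3) F) ∈ T := hnot _ h1 h.2
        rw [mem_centralizer_iff]
        intro z hz
        apply Subtype.ext
        exact hcomm _ (hPT hz) _ h2
      obtain ⟨R, y', hR, hRr, hyo, hyN⟩ := exists_normalises hrp (P.subtype hPH) hNC hpH hrH
      have hS' : Sit (rhoSL 3 F) p 3 (y' : _root_.Matrix.SpecialLinearGroup (Fin 3) F) :=
        { hS with ord := by rw [orderOf_coe, hyo] }
      have hRr' : IsPGroup r (R.map H.subtype) := hRr.map _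
      have h3 := eq_bot_of_irr (R.map H.subtype) (by norm_num) hRr' (y := (y' : _root_.Matrix.SpecialLinearGroup (Fin 3) F))
        (by
          rintro _ ⟨z, hz, rfl⟩
          have h4 := (mem_normalizer_iff.1 (inv_mem hyN) z).1 hz
          rw [inv_inv] at h4
          exact ⟨_, h4, rfl⟩) (hS'.irr_top (Module.finrank_fin_fun F))
      rw [map_eq_bot_iff_of_injective _ H.subtype_injective] at h3
      exact hR h3
    -- `q³` divides the degree
    have hcop : ∀ m : ℕ, ¬ r ∣ m → Nat.Coprime (Fintype.card F ^ 3) m := by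
      intro m hm
      obtain ⟨n, -, hn⟩ := FiniteField.card F r
      rw [hn]
      exact Nat.Coprime.pow_left _ (Nat.Coprime.pow_left _ ((Nat.Prime.coprime_iff_not_dvd hr.out).2 hm))
    have hq3 : Fintype.card F ^ 3 ∣ Nat.card Ω := by
      have h1 : Fintype.card F ^ 3 ∣ (Fintype.card F - 1) * (Nat.card H * Nat.card Ω) := by
        rw [← hHidx, H.card_mul_index, card_SL3]
        refine ⟨(Fintype.card F ^ 3 - 1) * ((Fintype.card F ^ 2 - 1) * (Fintype.card F - 1)), by ring⟩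
      have h2 : ¬ r ∣ Fintype.card F - 1 := by
        intro h
        obtain ⟨n, -, hn⟩ := FiniteField.card F r
        have h3 : r ∣ Fintype.card F := by rw [hn]; exact dvd_pow_self r n.pos.ne'
        have h4 : r ∣ Fintype.card F - (Fintype.card F - 1) := Nat.dvd_sub h3 h
        have h5 : Fintype.card F - (Fintype.card F - 1) = 1 := by (clear * - hq; omega)
        rw [h5] at h4
        exact hr.out.one_lt.ne' (Nat.dvd_one.1 h4)
      exact (hcop _ hrH).dvd_of_dvd_mul_left ((hcop _ h2).dvd_of_dvd_mul_left h1)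
    have hmod : Nat.card Ω ≡ Nat.card (fixedBy Ω y) [MOD p] := by
      have h2 := P.isPGroup'.card_modEq_card_fixedPoints Ω
      have hyP : y ∈ (P : Subgroup (_root_.Matrix.SpecialLinearGroup (Fin 3) F)) := by rw [← hy]; exact mem_zpowers y
      have h3 : fixedPoints P Ω = fixedBy Ω y := by
        ext a
        constructor
        · intro h
          exact h ⟨y, hyP⟩
        · rintro h ⟨z, hz⟩
          have h4 : zpowers y ≤ stabilizer (_root_.Matrix.SpecialLinearGroup (Fin 3) F) a := by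
            rw [zpowers_le]; exact h
          exact h4 (by rw [hy]; exact hz)
      rwa [h3] at h2
    have hpf : p * Nat.card (fixedBy Ω y) ≤ 3 * (Fintype.card F ^ 2 + Fintype.card F + 1) := by
      have h1 := Nat.le_of_dvd Nat.card_pos (fix_dvd_cyc P hy h0)
      have h2 : p ≤ Nat.card P := Nat.le_of_dvd Nat.card_pos hpP
      have h3 : Nat.card T ≤ Fintype.card F ^ 2 + Fintype.card F + 1 := by
        apply Nat.le_of_mul_le_mul_right (c := Fintype.card F - 1) _ (by omega)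
        refine hTcard.trans (le_of_eq ?_)
        obtain ⟨m, hm⟩ := Nat.exists_eq_add_of_le (show 1 ≤ Fintype.card F by omega)
        rw [hm]
        have h2 : 1 ≤ (1 + m) ^ 3 := Nat.one_le_pow _ _ (by omega)
        zify [h2, show 1 ≤ 1 + m by omega]
        ring
      calc p * Nat.card (fixedBy Ω y) ≤ Nat.card P * Nat.card (fixedBy Ω y) := Nat.mul_le_mul_right _ h2
        _ ≤ _ := h1
        _ ≤ 3 * Nat.card T := hNP
        _ ≤ _ := Nat.mul_le_mul_left _ h3
    have hB := dvd_B hch he hpG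
    have hne : Nonempty Ω := ⟨ω⟩
    exact arith3 hq (seven_le hch he hB) hB Nat.card_pos hq3 hmod hpf

/-- **`PSL_3(F)`, `p` of order `3` modulo `|F|`** -/
theorem row_psl3 {p : ℕ} [hp : Fact p.Prime] (hodd : p ≠ 2) (hch : (p : F) ≠ 0)
    (he : ∀ k, p ∣ Fintype.card F ^ k - 1 → 3 ∣ k)
    (hpS : p ∣ Nat.card (ProjectiveSpecialLinearGroup (Fin 3) F)) :
    FprRow (p + 1) 1 p (ProjectiveSpecialLinearGroup (Fin 3) F) := by
  classical
  have hfin : Finite (ProjectiveSpecialLinearGroup (Fin 3) F) := by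
    unfold ProjectiveSpecialLinearGroup
    infer_instance
  obtain ⟨r, hr⟩ := CharP.exists F
  have hrp : Fact r.Prime := ⟨CharP.char_is_prime F r⟩
  have hpG : p ∣ Nat.card (_root_.Matrix.SpecialLinearGroup (Fin 3) F) := hpS.trans (Subgroup.card_quotient_dvd_card _)
  have hq : 2 ≤ Fintype.card F := two_le_q
  obtain ⟨P, y, x, hy, hxP, hS⟩ := exists_gen (ρ := rhoSL 3 F) hodd rhoSL_inj hch he
    (by rw [Module.finrank_fin_fun]; norm_num) hpG
  intro H hH
  refine ⟨QuotientGroup.mk' (center (_root_.Matrix.SpecialLinearGroup (Fin 3) F)) y, ?_, ?_⟩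
  · have hyP : y ∈ (P : Subgroup (_root_.Matrix.SpecialLinearGroup (Fin 3) F)) := by rw [← hy]; exact mem_zpowers y
    obtain ⟨k, hk⟩ := (IsPGroup.iff_orderOf).1 P.isPGroup' ⟨y, hyP⟩
    rw [Subgroup.orderOf_mk] at hk
    have h1 : orderOf (QuotientGroup.mk' (center (_root_.Matrix.SpecialLinearGroup (Fin 3) F)) y) ∣ p ^ k := by
      rw [← hk]; exact orderOf_map_dvd _ _
    obtain ⟨j, -, hj⟩ := (Nat.dvd_prime_pow hp.out).1 h1
    exact ⟨j, hj⟩
  · rw [one_mul]
    let π : _root_.Matrix.SpecialLinearGroup (Fin 3) F →* ProjectiveSpecialLinearGroup (Fin 3) F :=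
      QuotientGroup.mk' (center (_root_.Matrix.SpecialLinearGroup (Fin 3) F))
    let _ : MulAction (_root_.Matrix.SpecialLinearGroup (Fin 3) F) (ProjectiveSpecialLinearGroup (Fin 3) F ⧸ H) :=
      MulAction.compHom _ π
    have htr : IsPretransitive (_root_.Matrix.SpecialLinearGroup (Fin 3) F) (ProjectiveSpecialLinearGroup (Fin 3) F ⧸ H) := by
      constructor
      intro a b
      obtain ⟨s, hs⟩ := _root_.MulAction.exists_smul_eq (ProjectiveSpecialLinearGroup (Fin 3) F) a b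
      obtain ⟨g, rfl⟩ := QuotientGroup.mk'_surjective _ s
      exact ⟨g, hs⟩
    have hmin := (Cfsg.Agent.S2140.result (F := F) rfl 3 le_rfl (by rintro ⟨h, -⟩; omega)).1 H hH
    have hle : Fintype.card F ^ 3 - 1 ≤ Nat.card (ProjectiveSpecialLinearGroup (Fin 3) F ⧸ H) * (Fintype.card F - 1) := by
      rw [← Subgroup.index]
      have h1 : Fintype.card F - 1 ∣ Fintype.card F ^ 3 - 1 := by
        simpa only [_root_.one_pow] using Nat.sub_dvd_pow_sub_pow (Fintype.card F) 1 3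
      calc Fintype.card F ^ 3 - 1 = (Fintype.card F ^ 3 - 1) / (Fintype.card F - 1) * (Fintype.card F - 1) :=
            (Nat.div_mul_cancel h1).symm
        _ ≤ _ := Nat.mul_le_mul_right _ hmin
    have h1 := ratio_sl3 hodd hch he hpG hy hxP hS (Ω := ProjectiveSpecialLinearGroup (Fin 3) F ⧸ H)
      (fun z hz ω => by
        change π z • ω = ω
        have : π z = 1 := (QuotientGroup.eq_one_iff z).2 hz
        rw [this, one_smul]) hle
    exact h1

end main

end Cfsg.Agent.H409.Cyc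
end
end
end

-- part: H409/FprCycL4
section
set_option linter.all false
open scoped Cfsg.Agent.FastGrp

-- part: H110/Fpr/GapA
section
/-!
# Irreducible subgroups of `SL(V)` have large index, 1: the numerical part (helper110)
-/

set_option autoImplicit false

namespace Cfsg.Agent.H110.Gap

open Module hiding ext'
open MulAction Cfsg.Agent.H221.PP

section Gen

/-- the index of a subgroup, its image and its intersection with the kernel -/
theorem index_image {A B : Type*} [Group A] [Group B] [Finite A] {f : A →* B} (hf : Function.Surjective f)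
    (T : Subgroup A) : (T.map f).index * T.relIndex f.ker ≤ T.index := by
  have h1 := Subgroup.relIndex_mul_index (H := T) (K := T ⊔ f.ker) le_sup_left
  have h2 : (T.map f).index = (T ⊔ f.ker).index := by
    rw [Subgroup.index_map, MonoidHom.range_eq_top.2 hf, Subgroup.index_top, mul_one]
  rw [h2, ← h1, mul_comm]
  exact Nat.mul_le_mul_right _ (Subgroup.relIndex_le_of_le_right le_sup_right Subgroup.index_ne_zero_of_finite)

/-- the orbit of a subgroup inside a finite set -/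
theorem index_orbit {B X : Type*} [Group B] [Finite B] [MulAction B X] (S : Subgroup B) (x : X) {D : Set X}
    (hD : ∀ s ∈ S, s • x ∈ D) (hfin : D.Finite) :
    Nat.card (orbit B x) * S.relIndex (stabilizer B x) ≤ S.index * D.ncard := by
  have h1 : (S ⊓ stabilizer B x).relIndex (stabilizer B x) * (stabilizer B x).index =
      (S ⊓ stabilizer B x).index := Subgroup.relIndex_mul_index inf_le_right
  have h2 : (S ⊓ stabilizer B x).relIndex S * S.index = (S ⊓ stabilizer B x).index :=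
    Subgroup.relIndex_mul_index inf_le_left
  rw [Subgroup.inf_relIndex_right, index_stabilizer] at h1
  rw [Subgroup.inf_relIndex_left] at h2
  have h3 : (stabilizer B x).relIndex S ≤ D.ncard := by
    have h4 : (stabilizer B x).subgroupOf S = stabilizer S x := by
      ext s
      rfl
    rw [Subgroup.relIndex, h4, index_stabilizer]
    refine Set.ncard_le_ncard ?_ hfin
    rintro _ ⟨s, rfl⟩
    exact hD s s.2
  change Nat.card (orbit B x) * _ ≤ _
  rw [Nat.card_coe_set_eq, mul_comm, h1, ← h2, mul_comm]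
  exact Nat.mul_le_mul_left _ h3

theorem relIndex_stab_le {B : Type*} [Group B] [Finite B] (H K : Subgroup B) : H.relIndex K ≤ H.index := by
  rw [← Subgroup.relIndex_top_right]
  exact Subgroup.relIndex_le_of_le_right le_top Subgroup.index_ne_zero_of_finite

end Gen

section Quo

variable {F : Type*} [Field F] {V : Type*} [AddCommGroup V] [Module F V]

theorem tq_aux {u : V} (ψ : Dual F (V ⧸ ln F u)) : (ψ ∘ₗ (ln F u).mkQ) u = 0 := by
  rw [LinearMap.comp_apply, mkQ_self, map_zero]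

/-- the transvection with centre `u` and functional `ψ` on `V / u` -/
def tq (u : V) (ψ : Dual F (V ⧸ ln F u)) : SpecialLinearGroup F V := tv (ψ ∘ₗ (ln F u).mkQ) u (tq_aux ψ)

theorem tq_app (u : V) (ψ : Dual F (V ⧸ ln F u)) (x : V) : tq u ψ x = x + ψ ((ln F u).mkQ x) • u := by
  rw [tq, tv_apply]
  rfl

theorem tq_self (u : V) (ψ : Dual F (V ⧸ ln F u)) : tq u ψ u = u := by
  rw [tq_app, mkQ_self, map_zero, zero_smul, add_zero]

theorem tq_add (u : V) (ψ ψ' : Dual F (V ⧸ ln F u)) : tq u (ψ + ψ') = tq u ψ * tq u ψ' := by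
  apply ext'
  intro x
  rw [mul_app, tq_app, tq_app, tq_app, LinearMap.add_apply, map_add, map_smul, mkQ_self, smul_zero, add_zero,
    add_smul, add_assoc, add_comm (ψ' _ • u)]

theorem tq_zero (u : V) : tq u (0 : Dual F (V ⧸ ln F u)) = 1 := by
  apply ext'
  intro x
  rw [tq_app, LinearMap.zero_apply, zero_smul, add_zero, one_app]

theorem tq_neg (u : V) (ψ : Dual F (V ⧸ ln F u)) : tq u (-ψ) = (tq u ψ)⁻¹ := by
  rw [eq_inv_iff_mul_eq_one, ← tq_add, neg_add_cancel, tq_zero]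

/-- every transvection with centre `u` is a `tq` -/
theorem tv_eq_tq {u : V} {φ : Dual F V} (h : φ u = 0) :
    ∃ ψ : Dual F (V ⧸ ln F u), tv φ u h = tq u ψ ∧ ∀ x, ψ ((ln F u).mkQ x) = φ x := by
  have hle : ln F u ≤ LinearMap.ker φ := by
    rw [Submodule.span_singleton_le_iff_mem]
    exact h
  refine ⟨(ln F u).liftQ φ hle, ?_, fun x => ?_⟩
  · apply ext'
    intro x
    rw [tv_apply, tq_app, Submodule.mkQ_apply, Submodule.liftQ_apply]
  · rw [Submodule.mkQ_apply, Submodule.liftQ_apply]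

/-- conjugation -/
theorem conj_tq {u u' : V} {ψ : Dual F (V ⧸ ln F u)} {ψ' : Dual F (V ⧸ ln F u')} {g : SpecialLinearGroup F V}
    (hu : g u = u') (h : ∀ x, ψ' ((ln F u').mkQ (g x)) = ψ ((ln F u).mkQ x)) :
    g * tq u ψ * g⁻¹ = tq u' ψ' := conj_tv g (fun x => h x) hu

/-- the functionals on `V / u` whose transvection with centre `u` lies in `H` -/
def Pb (H : Subgroup (SpecialLinearGroup F V)) (u : V) : AddSubgroup (Dual F (V ⧸ ln F u)) where
  carrier := {ψ | tq u ψ ∈ H}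
  zero_mem' := by
    rw [Set.mem_ofPred_eq, tq_zero]
    exact one_mem _
  add_mem' := by
    intro a b ha hb
    rw [Set.mem_ofPred_eq] at *
    rw [tq_add]
    exact mul_mem ha hb
  neg_mem' := by
    intro a ha
    rw [Set.mem_ofPred_eq] at *
    rw [tq_neg]
    exact inv_mem ha

theorem mem_Pb {H : Subgroup (SpecialLinearGroup F V)} {u : V} {ψ : Dual F (V ⧸ ln F u)} :
    ψ ∈ Pb H u ↔ tq u ψ ∈ H := Iff.rfl

variable {p : ℕ} (τ : F →+ ZMod p)

/-- the annihilator of `Pb H u` in `V / u` -/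
def Db (H : Subgroup (SpecialLinearGroup F V)) (u : V) : Set (V ⧸ ln F u) := {w | ∀ ψ ∈ Pb H u, τ (ψ w) = 0}

variable {τ}

variable [FiniteDimensional F V]

/-- `Db` is invariant -/
theorem img_Db {H : Subgroup (SpecialLinearGroup F V)} {u : V} {w : V ⧸ ln F u} (hw : w ∈ Db τ H u)
    {g : SpecialLinearGroup F (V ⧸ ln F u)} (hg : g ∈ img H u) : g w ∈ Db τ H u := by
  rw [mem_img] at hg
  obtain ⟨h, hh, hu, e⟩ := hg
  obtain ⟨w, rfl⟩ := (ln F u).mkQ_surjective w
  intro ψ hψ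
  -- the functional ψ ∘ g
  have h1 : tq u (ψ ∘ₗ ((g : (V ⧸ ln F u) ≃ₗ[F] (V ⧸ ln F u)) : (V ⧸ ln F u) →ₗ[F] (V ⧸ ln F u))) ∈ H := by
    have h2 : h⁻¹ * tq u ψ * (h⁻¹)⁻¹ =
        tq u (ψ ∘ₗ ((g : (V ⧸ ln F u) ≃ₗ[F] (V ⧸ ln F u)) : (V ⧸ ln F u) →ₗ[F] (V ⧸ ln F u))) := by
      apply conj_tq
      · apply app_inj h
        rw [app_inv_app, hu]
      · intro x
        change ψ (g ((ln F u).mkQ (h⁻¹ x))) = ψ ((ln F u).mkQ x)
        rw [← e, app_inv_app]
    rw [← h2]
    exact mul_mem (mul_mem (inv_mem hh) hψ) (inv_mem (inv_mem hh))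
  exact hw _ h1

variable [Finite F] [Fact p.Prime] [CharP F p]

theorem dual_fin : Finite (Dual F V) := by
  have := finite_vec (F := F) V
  exact DFunLike.finite _

/-- duality -/
theorem ann (hτ : ∀ c : F, (∀ x, τ (c * x) = 0) → c = 0) (U : AddSubgroup (Dual F V)) :
    {x : V | ∀ s ∈ U, τ (s x) = 0}.ncard * Nat.card U = Nat.card V ∧
      ∀ w : Dual F V, (∀ x, (∀ s ∈ U, τ (s x) = 0) → τ (w x) = 0) → w ∈ U := by
  have : Finite (Dual F V) := dual_fin
  have := finite_vec (F := F) V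
  have hp : ∀ c : F, p • c = 0 := fun c => by rw [nsmul_eq_mul, CharP.cast_eq_zero, zero_mul]
  let β : Dual F V →+ V →+ ZMod p :=
    AddMonoidHom.mk' (fun f => τ.comp f.toAddMonoidHom) (by
      intro a b
      ext x
      simp)
  have hβ : ∀ w x, β w x = τ (w x) := fun _ _ => rfl
  have key := Cfsg.Agent.H74.dual_card (V := V) (W := Dual F V) (p := p)
    (fun x => by
      have : ((p : F)) • x = 0 := by rw [CharP.cast_eq_zero, zero_smul]
      rwa [Nat.cast_smul_eq_nsmul] at this) (fun f => by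
      apply LinearMap.ext
      intro x
      rw [LinearMap.smul_apply]
      simp [hp]) β (by
        intro w hw
        apply LinearMap.ext
        intro x
        refine hτ _ fun y => ?_
        have := hw (y • x)
        rw [hβ, map_smul, smul_eq_mul, mul_comm] at this
        exact this) U
  simp only [hβ] at key
  exact key

theorem card_Db (hτ : ∀ c : F, (∀ x, τ (c * x) = 0) → c = 0) (H : Subgroup (SpecialLinearGroup F V)) (u : V) :
    (Db τ H u).ncard * Nat.card (Pb H u) = Nat.card (V ⧸ ln F u) := (ann hτ (Pb H u)).1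

theorem mem_Pb_of (hτ : ∀ c : F, (∀ x, τ (c * x) = 0) → c = 0) {H : Subgroup (SpecialLinearGroup F V)} {u : V}
    {ψ : Dual F (V ⧸ ln F u)} (h : ∀ w ∈ Db τ H u, τ (ψ w) = 0) : ψ ∈ Pb H u := (ann hτ (Pb H u)).2 _ h

/-- the intersection of `H` with the group of transvections with centre `u` -/
theorem relIndex_ker (hτ : ∀ c : F, (∀ x, τ (c * x) = 0) → c = 0) (H : Subgroup (SpecialLinearGroup F V)) {u : V}
    (hu : u ≠ 0) :
    (H.subgroupOf (stabilizer (SpecialLinearGroup F V) u)).relIndex (down u).ker = (Db τ H u).ncard := by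
  have : Finite (SpecialLinearGroup F V) := finite_SL (F := F) V
  have : Finite (Dual F (V ⧸ ln F u)) := dual_fin
  have hD := card_Db hτ H u
  have hk := card_ker_down (F := F) hu
  have hq := finrank_quo (F := F) hu
  have hV : Nat.card (V ⧸ ln F u) * Nat.card F = Nat.card V := by
    rw [Module.natCard_eq_pow_finrank (K := F), Module.natCard_eq_pow_finrank (K := F) (V := V), ← pow_succ, hq]
  have hF : 0 < Nat.card F := Nat.card_pos
  have hk' : Nat.card (down (F := F) u).ker = Nat.card (V ⧸ ln F u) := by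
    rw [← hV] at hk
    exact Nat.eq_of_mul_eq_mul_right hF hk
  have h1 : Nat.card ((H.subgroupOf (stabilizer (SpecialLinearGroup F V) u)).subgroupOf (down (F := F) u).ker) =
      Nat.card (Pb H u) := by
    refine (Nat.card_congr (Equiv.ofBijective (fun ψ : Pb H u =>
      (⟨⟨⟨tq u (ψ : Dual F (V ⧸ ln F u)), tq_self u (ψ : Dual F (V ⧸ ln F u))⟩, by
        rw [MonoidHom.mem_ker]
        apply ext'
        intro x
        obtain ⟨x, rfl⟩ := (ln F u).mkQ_surjective x
        rw [down_apply, one_app]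
        change (ln F u).mkQ (tq u (ψ : Dual F (V ⧸ ln F u)) x) = _
        rw [tq_app, map_add, map_smul, mkQ_self, smul_zero, add_zero]⟩, ψ.2⟩ :
        (H.subgroupOf (stabilizer (SpecialLinearGroup F V) u)).subgroupOf (down (F := F) u).ker)) ⟨?_, ?_⟩)).symm
    · rintro ⟨ψ, h⟩ ⟨ψ', h'⟩ e
      have e2 : tq u ψ = tq u ψ' := congrArg (fun g => (g.1.1.1 : SpecialLinearGroup F V)) e
      apply Subtype.ext
      apply LinearMap.ext
      intro x
      obtain ⟨x, rfl⟩ := (ln F u).mkQ_surjective x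
      have e3 : tq u ψ x = tq u ψ' x := by rw [e2]
      rw [tq_app, tq_app] at e3
      have e4 := add_left_cancel e3
      have e5 : (ψ ((ln F u).mkQ x) - ψ' ((ln F u).mkQ x)) • u = 0 := by rw [sub_smul, e4, sub_self]
      rcases smul_eq_zero.1 e5 with h | h
      · exact sub_eq_zero.1 h
      · exact absurd h hu
    · rintro ⟨⟨⟨g, hg⟩, hg2⟩, hg3⟩
      obtain ⟨f, hf, e⟩ := eq_tv (v := u) (g := g) hg (by
        intro x
        rw [MonoidHom.mem_ker] at hg2
        rw [← down_apply u ⟨g, hg⟩, hg2, one_app])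
      obtain ⟨ψ, e2, -⟩ := tv_eq_tq hf
      refine ⟨⟨ψ, ?_⟩, ?_⟩
      · rw [mem_Pb, ← e2, ← e]
        exact hg3
      · apply Subtype.ext
        apply Subtype.ext
        apply Subtype.ext
        change tq u ψ = g
        rw [e, e2]
  have h2 := Subgroup.index_mul_card ((H.subgroupOf (stabilizer (SpecialLinearGroup F V) u)).subgroupOf
    (down (F := F) u).ker)
  rw [h1, hk', ← hD] at h2
  exact Nat.eq_of_mul_eq_mul_right Nat.card_pos h2

/-- **the numerical bound** -/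
theorem num (hτ : ∀ c : F, (∀ x, τ (c * x) = 0) → c = 0) (hd : 3 ≤ finrank F V)
    (H : Subgroup (SpecialLinearGroup F V)) {u : V} (hu : u ≠ 0) {w : V ⧸ ln F u} (hw : w ≠ 0)
    (hwD : w ∈ Db τ H u) :
    (Nat.card F ^ (finrank F V - 1) - 1) *
      (img H u).relIndex (stabilizer (SpecialLinearGroup F (V ⧸ ln F u)) w) ≤ H.index := by
  have : Finite (SpecialLinearGroup F V) := finite_SL (F := F) V
  have : Finite (SpecialLinearGroup F (V ⧸ ln F u)) := finite_SL (F := F) _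
  have := finite_vec (F := F) (V ⧸ ln F u)
  have hq := finrank_quo (F := F) hu
  have h1 := index_orbit (img H u) w (D := Db τ H u) (fun s hs => img_Db hwD hs) (Set.toFinite _)
  have h2 : Nat.card (orbit (SpecialLinearGroup F (V ⧸ ln F u)) w) = Nat.card F ^ (finrank F V - 1) - 1 := by
    rw [orbit_eq (by omega) hw]
    have h3 := card_ne_zero_add (F := F) (V ⧸ ln F u)
    rw [Module.natCard_eq_pow_finrank (K := F) (V := V ⧸ ln F u)] at h3
    have h4 : finrank F (V ⧸ ln F u) = finrank F V - 1 := by omega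
    rw [h4] at h3
    change Nat.card {x : V ⧸ ln F u // x ≠ 0} = _
    omega
  rw [h2] at h1
  refine h1.trans ?_
  rw [← relIndex_ker hτ H hu]
  have h5 := index_image (down_surjective (F := F) u) (H.subgroupOf (stabilizer (SpecialLinearGroup F V) u))
  exact h5.trans (relIndex_stab_le H _)

end Quo

end Cfsg.Agent.H110.Gap
end

-- part: H110/Fpr/GapB
section
/-!
# Irreducible subgroups of `SL(V)` have large index, 2: the structural part (helper110)
-/

set_option autoImplicit false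

namespace Cfsg.Agent.H110.Gap

open Module hiding ext'
open MulAction Cfsg.Agent.H221.PP

section Lin

variable {F : Type*} [Field F] {V : Type*} [AddCommGroup V] [Module F V]

/-- two proper subspaces do not cover -/
theorem exists_notMem_two {A B : Submodule F V} (hA : A ≠ ⊤) (hB : B ≠ ⊤) : ∃ z, z ∉ A ∧ z ∉ B := by
  obtain ⟨a, ha⟩ : ∃ a, a ∉ A := by
    by_contra h
    push Not at h
    exact hA (eq_top_iff.2 fun x _ => h x)
  obtain ⟨b, hb⟩ : ∃ b, b ∉ B := by
    by_contra h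
    push Not at h
    exact hB (eq_top_iff.2 fun x _ => h x)
  by_cases h1 : a ∈ B
  · by_cases h2 : b ∈ A
    · refine ⟨a + b, fun h => ha ?_, fun h => hb ?_⟩
      · have := A.sub_mem h h2
        rwa [add_sub_cancel_right] at this
      · have := B.sub_mem h h1
        rwa [add_sub_cancel_left] at this
    · exact ⟨b, h2, hb⟩
  · exact ⟨a, ha, h1⟩

theorem mem_sup_ln {U : Submodule F V} {x y : V} : y ∈ U ⊔ ln F x ↔ ∃ a ∈ U, ∃ c : F, y = a + c • x := by
  rw [Submodule.mem_sup]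
  constructor
  · rintro ⟨a, ha, b, hb, rfl⟩
    obtain ⟨c, rfl⟩ := Submodule.mem_span_singleton.1 hb
    exact ⟨a, ha, c, rfl⟩
  · rintro ⟨a, ha, c, rfl⟩
    exact ⟨a, ha, _, Submodule.smul_mem _ c (Submodule.mem_span_singleton_self x), rfl⟩

theorem fix_aux {U : Submodule F V} {x y : V} (hx : x ∉ U) (hy : y ∉ U ⊔ ln F x) :
    ∃ g : SpecialLinearGroup F V, (∀ z ∈ U, g z = z) ∧ g x = y := by
  have hx' : x ∉ U ⊔ ln F y := by
    intro h
    obtain ⟨a, ha, c, e⟩ := mem_sup_ln.1 h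
    have hc : c ≠ 0 := by
      rintro rfl
      rw [zero_smul, add_zero] at e
      exact hx (e ▸ ha)
    apply hy
    rw [mem_sup_ln]
    refine ⟨-(c⁻¹ • a), U.neg_mem (U.smul_mem _ ha), c⁻¹, ?_⟩
    rw [e, smul_add, smul_smul, inv_mul_cancel₀ hc, one_smul]
    abel
  obtain ⟨φ₁, h1, h2⟩ := exists_fun hx'
  obtain ⟨φ₂, h3, h4⟩ := exists_fun hy
  have e1 : φ₁ y = 0 := h2 y (Submodule.mem_sup_right (Submodule.mem_span_singleton_self y))
  have e2 : φ₂ x = 0 := h4 x (Submodule.mem_sup_right (Submodule.mem_span_singleton_self x))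
  refine ⟨tv (φ₁ + φ₂) (y - x) ?_, fun z hz => ?_, ?_⟩
  · rw [LinearMap.add_apply, map_sub, map_sub, h1, h3, e1, e2]
    ring
  · rw [tv_apply, LinearMap.add_apply, h2 z (Submodule.mem_sup_left hz), h4 z (Submodule.mem_sup_left hz),
      add_zero, zero_smul, add_zero]
  · rw [tv_apply, LinearMap.add_apply, h1, e2, add_zero, one_smul, add_sub_cancel]

/-- the pointwise stabiliser of a subspace is transitive outside of it -/
theorem exists_map_fix [FiniteDimensional F V] {U : Submodule F V} (hU : finrank F U + 2 ≤ finrank F V) {x y : V}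
    (hx : x ∉ U) (hy : y ∉ U) : ∃ g : SpecialLinearGroup F V, (∀ z ∈ U, g z = z) ∧ g x = y := by
  by_cases h : y ∈ U ⊔ ln F x
  · obtain ⟨z, hz⟩ := exists_notMem (W := U ⊔ ln F x) (by
      have h1 := Submodule.finrank_add_le_finrank_add_finrank U (ln F x)
      have h2 : finrank F (ln F x) ≤ 1 := finrank_span_singleton_le' (F := F) x
      omega)
    have hzU : z ∉ U := fun h => hz (Submodule.mem_sup_left h)
    obtain ⟨a, ha, c, e⟩ := mem_sup_ln.1 h
    have hc : c ≠ 0 := by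
      rintro rfl
      rw [zero_smul, add_zero] at e
      exact hy (e ▸ ha)
    have hyz : y ∉ U ⊔ ln F z := by
      intro h'
      obtain ⟨a', ha', d, e'⟩ := mem_sup_ln.1 h'
      have hd : d ≠ 0 := by
        rintro rfl
        rw [zero_smul, add_zero] at e'
        exact hy (e' ▸ ha')
      apply hz
      rw [mem_sup_ln]
      refine ⟨d⁻¹ • (a - a'), U.smul_mem _ (U.sub_mem ha ha'), d⁻¹ * c, ?_⟩
      have e3 : d • z = (a - a') + c • x := by
        have : a' + d • z = a + c • x := by rw [← e', e]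
        rw [← sub_eq_zero] at this ⊢
        rw [← this]
        abel
      rw [← smul_smul, ← smul_add, ← e3, smul_smul, inv_mul_cancel₀ hd, one_smul]
    obtain ⟨g₁, h1, h2⟩ := fix_aux hx hz
    obtain ⟨g₂, h3, h4⟩ := fix_aux hzU hyz
    refine ⟨g₂ * g₁, fun w hw => ?_, ?_⟩
    · rw [mul_app, h1 w hw, h3 w hw]
    · rw [mul_app, h2, h4]
  · exact fix_aux hx h

/-- two vector stabilisers generate -/
theorem two_stab [FiniteDimensional F V] {M : Subgroup (SpecialLinearGroup F V)} {w₁ w₂ : V} (h0 : w₁ ≠ 0)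
    (h12 : w₂ ∉ ln F w₁) (h1 : stabilizer (SpecialLinearGroup F V) w₁ ≤ M)
    (h2 : stabilizer (SpecialLinearGroup F V) w₂ ≤ M) : M = ⊤ := by
  apply eq_top_of_tv
  intro φ x hx
  by_cases e1 : φ w₁ = 0
  · apply h1
    rw [mem_stab, tv_apply, e1, zero_smul, add_zero]
  by_cases e2 : φ w₂ = 0
  · apply h2
    rw [mem_stab, tv_apply, e2, zero_smul, add_zero]
  obtain ⟨θ, t1, t2⟩ := exists_fun_two h0 h12
  have hθ : θ ((φ w₁ / φ w₂) • w₂) = 0 := by rw [map_smul, t2, smul_zero]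
  have hg : tv θ ((φ w₁ / φ w₂) • w₂) hθ ∈ M := by
    apply h2
    rw [mem_stab, tv_apply, t2, zero_smul, add_zero]
  have hφ : ∀ v, (φ - φ w₁ • θ) (tv θ ((φ w₁ / φ w₂) • w₂) hθ v) = φ v := by
    intro v
    simp only [tv_apply, LinearMap.sub_apply, LinearMap.smul_apply, map_add, map_smul, t2, smul_eq_mul, mul_zero,
      sub_zero]
    rw [div_mul_cancel₀ _ e2]
    ring
  have hm : tv (φ - φ w₁ • θ) (tv θ ((φ w₁ / φ w₂) • w₂) hθ x) (by rw [hφ, hx]) ∈ M := by
    apply h1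
    have : (φ - φ w₁ • θ) w₁ = 0 := by
      rw [LinearMap.sub_apply, LinearMap.smul_apply, t1, smul_eq_mul, mul_one, sub_self]
    rw [mem_stab, tv_apply, this, zero_smul, add_zero]
  rw [← conj_tv (tv θ ((φ w₁ / φ w₂) • w₂) hθ) (h := hx) hφ rfl] at hm
  have h3 := M.mul_mem (M.mul_mem (M.inv_mem hg) hm) hg
  have h4 : (tv θ ((φ w₁ / φ w₂) • w₂) hθ)⁻¹ * (tv θ ((φ w₁ / φ w₂) • w₂) hθ * tv φ x hx *
      (tv θ ((φ w₁ / φ w₂) • w₂) hθ)⁻¹) * tv θ ((φ w₁ / φ w₂) • w₂) hθ = tv φ x hx := by group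
  rwa [h4] at h3

end Lin

section Bd

variable {F : Type*} [Field F] [Finite F] {V : Type*} [AddCommGroup V] [Module F V] [FiniteDimensional F V]
variable {p : ℕ} {τ : F →+ ZMod p} [Fact p.Prime] [CharP F p]

/-- the index of a proper subgroup of a vector stabiliser -/
theorem stab_bound (hτ : ∀ c : F, (∀ x, τ (c * x) = 0) → c = 0) (hd : 3 ≤ finrank F V)
    {M : Subgroup (SpecialLinearGroup F V)} {w : V} (hw : w ≠ 0)
    (hM : ¬ stabilizer (SpecialLinearGroup F V) w ≤ M) {i : ℕ} (h1 : i ≤ Nat.card (V ⧸ ln F w))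
    (h2 : ∀ S : Subgroup (SpecialLinearGroup F (V ⧸ ln F w)), S ≠ ⊤ → i ≤ S.index) :
    i ≤ M.relIndex (stabilizer (SpecialLinearGroup F V) w) := by
  have : Finite (SpecialLinearGroup F V) := finite_SL (F := F) V
  have hq := finrank_quo (F := F) hw
  have h3 : (img M w).index * (M.subgroupOf (stabilizer (SpecialLinearGroup F V) w)).relIndex (down w).ker ≤
      M.relIndex (stabilizer (SpecialLinearGroup F V) w) :=
    index_image (down_surjective (F := F) w) (M.subgroupOf (stabilizer (SpecialLinearGroup F V) w))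
  by_cases hS : img M w = ⊤
  · by_cases hP : ∃ ψ ∈ Pb M w, ψ ≠ 0
    · exfalso
      obtain ⟨ψ, hψ, hψ0⟩ := hP
      have hall : ∀ ψ' : Dual F (V ⧸ ln F w), tq w ψ' ∈ M := by
        intro ψ'
        by_cases h0 : ψ' = 0
        · rw [h0, tq_zero]
          exact M.one_mem
        · obtain ⟨g, hg⟩ := exists_map_dual (by omega) hψ0 h0
          have hgS : g ∈ img M w := by rw [hS]; trivial
          rw [mem_img] at hgS
          obtain ⟨h, hh, hhw, e⟩ := hgS
          have h4 : h * tq w ψ * h⁻¹ = tq w ψ' := by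
            apply conj_tq hhw
            intro x
            rw [e, hg]
          rw [← h4]
          exact M.mul_mem (M.mul_mem hh hψ) (M.inv_mem hh)
      apply hM
      intro g hg
      have hgS : down w ⟨g, hg⟩ ∈ img M w := by rw [hS]; trivial
      rw [mem_img] at hgS
      obtain ⟨h, hh, hhw, e⟩ := hgS
      obtain ⟨f, hf, e2⟩ := eq_tv (v := w) (g := g * h⁻¹) (by
        rw [mul_app]
        have : h⁻¹ w = w := by
          apply app_inj h
          rw [app_inv_app, hhw]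
        rw [this]
        exact hg) (by
        intro x
        rw [mul_app]
        have h5 := e (h⁻¹ x)
        rw [app_inv_app, down_apply] at h5
        exact h5.symm)
      obtain ⟨ψ', e3, -⟩ := tv_eq_tq hf
      have h6 : g = tq w ψ' * h := by
        rw [← e3, ← e2]
        group
      rw [h6]
      exact M.mul_mem (hall ψ') hh
    · push Not at hP
      have h4 : Nat.card (Pb M w) = 1 := by
        rw [Nat.card_eq_one_iff_unique]
        constructor
        · constructor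
          rintro ⟨a, ha⟩ ⟨b, hb⟩
          apply Subtype.ext
          change a = b
          rw [hP a ha, hP b hb]
        · exact ⟨0⟩
      have h5 := card_Db hτ M w
      rw [h4, mul_one, ← relIndex_ker hτ M hw] at h5
      rw [h5, hS, Subgroup.index_top, one_mul] at h3
      exact h1.trans h3
  · refine (h2 _ hS).trans (le_trans ?_ h3)
    refine Nat.le_mul_of_pos_right _ ?_
    exact Nat.pos_of_ne_zero Subgroup.index_ne_zero_of_finite

end Bd

section Str

variable {F : Type*} [Field F] {V : Type*} [AddCommGroup V] [Module F V] [FiniteDimensional F V]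
variable {H : Subgroup (SpecialLinearGroup F V)}

/-- `H` acts irreducibly -/
def Irr (H : Subgroup (SpecialLinearGroup F V)) : Prop :=
  ∀ W : Submodule F V, (∀ h ∈ H, ∀ x ∈ W, h x ∈ W) → W = ⊥ ∨ W = ⊤

/-- if all transvections with one centre lie in `H` then `H = SL(V)` -/
theorem top_of_full (hI : Irr H) {u : V} (hu : u ≠ 0) (h : ∀ (φ : Dual F V) (hφ : φ u = 0), tv φ u hφ ∈ H) :
    H = ⊤ := by
  let W : Submodule F V :=
    { carrier := {w | ∀ (φ : Dual F V) (hφ : φ w = 0), tv φ w hφ ∈ H}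
      zero_mem' := by
        intro φ hφ
        rw [tv_eq_one (Or.inr rfl)]
        exact H.one_mem
      add_mem' := by
        intro w w' hw hw'
        rw [Set.mem_ofPred_eq] at *
        intro φ hφ
        by_cases hc : w' ∈ ln F w
        · obtain ⟨c, rfl⟩ := Submodule.mem_span_singleton.1 hc
          have h1 : tv φ (w + c • w) hφ = tv ((1 + c) • φ) w (by
              rw [LinearMap.smul_apply, ← map_smul, add_smul, one_smul]
              exact hφ) := by
            apply ext'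
            intro x
            rw [tv_apply, tv_apply, LinearMap.smul_apply, smul_eq_mul, mul_comm, mul_smul, add_smul, one_smul]
          rw [h1]
          exact hw _ _
        · by_cases hw0 : w = 0
          · subst hw0
            have h1 : tv φ (0 + w') hφ = tv φ w' (by rw [zero_add] at hφ; exact hφ) := tv_congr rfl (zero_add _)
            rw [h1]
            exact hw' _ _
          have hc' : w ∉ ln F w' := by
            intro h'
            obtain ⟨c, e⟩ := Submodule.mem_span_singleton.1 h'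
            have hc0 : c ≠ 0 := by
              rintro rfl
              rw [zero_smul] at e
              exact hw0 e.symm
            exact hc (Submodule.mem_span_singleton.2 ⟨c⁻¹, by rw [← e, smul_smul, inv_mul_cancel₀ hc0, one_smul]⟩)
          have hw'0 : w' ≠ 0 := by
            rintro rfl
            exact hc (Submodule.zero_mem _)
          obtain ⟨θ, t1, t2⟩ := exists_fun_two hw'0 hc'
          have hg := hw θ t2
          have e : tv θ w t2 w' = w + w' := by rw [tv_apply, t1, one_smul, add_comm]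
          have hφ1 : ∀ x, φ (tv θ w t2 x) = (φ ∘ₗ (((tv θ w t2 : SpecialLinearGroup F V) : V ≃ₗ[F] V) : V →ₗ[F] V)) x :=
            fun x => rfl
          have hφ2 : (φ ∘ₗ (((tv θ w t2 : SpecialLinearGroup F V) : V ≃ₗ[F] V) : V →ₗ[F] V)) w' = 0 := by
            rw [← hφ1, e, hφ]
          have h3 := conj_tv (tv θ w t2) (h := hφ2) (h' := hφ) hφ1 e
          rw [← h3]
          exact H.mul_mem (H.mul_mem hg (hw' _ hφ2)) (H.inv_mem hg)
      smul_mem' := by
        intro c w hw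
        rw [Set.mem_ofPred_eq] at *
        intro φ hφ
        have h1 : tv φ (c • w) hφ = tv (c • φ) w (by rw [LinearMap.smul_apply, ← map_smul]; exact hφ) := by
          apply ext'
          intro x
          rw [tv_apply, tv_apply, LinearMap.smul_apply, smul_eq_mul, mul_comm, mul_smul]
        rw [h1]
        exact hw _ _ }
  have hmem : ∀ x, x ∈ W ↔ ∀ (φ : Dual F V) (hφ : φ x = 0), tv φ x hφ ∈ H := fun x => Iff.rfl
  have hinv : ∀ h ∈ H, ∀ x ∈ W, h x ∈ W := by
    intro g hg x hx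
    rw [hmem] at *
    intro φ hφ
    have hφ1 : ∀ x, φ (g x) = (φ ∘ₗ (((g : SpecialLinearGroup F V) : V ≃ₗ[F] V) : V →ₗ[F] V)) x := fun x => rfl
    have hφ2 : (φ ∘ₗ (((g : SpecialLinearGroup F V) : V ≃ₗ[F] V) : V →ₗ[F] V)) x = 0 := by rw [← hφ1, hφ]
    rw [← conj_tv g (h := hφ2) (h' := hφ) hφ1 rfl]
    exact H.mul_mem (H.mul_mem hg (hx _ hφ2)) (H.inv_mem hg)
  rcases hI W hinv with h0 | h0
  · exfalso
    apply hu
    have : u ∈ W := (hmem u).2 h
    rwa [h0, Submodule.mem_bot] at this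
  · apply eq_top_of_tv
    intro φ w hw
    have : w ∈ W := by rw [h0]; trivial
    exact (hmem w).1 this φ hw

variable {p : ℕ} {τ : F →+ ZMod p}

/-- the annihilator in `V` -/
def Dp (τ : F →+ ZMod p) (H : Subgroup (SpecialLinearGroup F V)) (u : V) : Set V :=
  {x | ∀ (φ : Dual F V) (hφ : φ u = 0), tv φ u hφ ∈ H → τ (φ x) = 0}

omit [FiniteDimensional F V] in
theorem mem_Dp_iff {u x : V} : x ∈ Dp τ H u ↔ (ln F u).mkQ x ∈ Db τ H u := by
  constructor
  · intro h ψ hψ
    exact h (ψ ∘ₗ (ln F u).mkQ) (tq_aux ψ) hψ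
  · intro h φ hφ hm
    obtain ⟨ψ, e1, e2⟩ := tv_eq_tq hφ
    rw [← e2]
    apply h
    rw [mem_Pb, ← e1]
    exact hm

omit [FiniteDimensional F V] in
theorem self_mem_Dp (u : V) : u ∈ Dp τ H u := by
  intro φ hφ _
  rw [hφ, map_zero]

omit [FiniteDimensional F V] in
theorem app_mem_Dp {h : SpecialLinearGroup F V} (hh : h ∈ H) {u x : V} (hx : x ∈ Dp τ H u) :
    h x ∈ Dp τ H (h u) := by
  intro φ hφ hm
  have hφ1 : ∀ x, φ (h x) = (φ ∘ₗ (((h : SpecialLinearGroup F V) : V ≃ₗ[F] V) : V →ₗ[F] V)) x := fun x => rfl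
  have hφ2 : (φ ∘ₗ (((h : SpecialLinearGroup F V) : V ≃ₗ[F] V) : V →ₗ[F] V)) u = 0 := by rw [← hφ1, hφ]
  have h3 := conj_tv h (h := hφ2) (h' := hφ) hφ1 rfl
  rw [hφ1]
  apply hx _ hφ2
  rw [← h3] at hm
  have h4 := H.mul_mem (H.mul_mem (H.inv_mem hh) hm) hh
  have h5 : h⁻¹ * (h * tv (φ ∘ₗ (((h : SpecialLinearGroup F V) : V ≃ₗ[F] V) : V →ₗ[F] V)) u hφ2 * h⁻¹) * h =
      tv (φ ∘ₗ (((h : SpecialLinearGroup F V) : V ≃ₗ[F] V) : V →ₗ[F] V)) u hφ2 := by group
  rwa [h5] at h4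

/-- the span of `Dp` -/
def Ls (τ : F →+ ZMod p) (H : Subgroup (SpecialLinearGroup F V)) (u : V) : Submodule F V := Submodule.span F (Dp τ H u)

omit [FiniteDimensional F V] in
theorem self_mem_Ls (u : V) : u ∈ Ls τ H u := Submodule.subset_span (self_mem_Dp u)

omit [FiniteDimensional F V] in
theorem Ls_map {h : SpecialLinearGroup F V} (hh : h ∈ H) (u : V) :
    Ls τ H (h u) = (Ls τ H u).map ((h : V ≃ₗ[F] V) : V →ₗ[F] V) := by
  apply le_antisymm
  · rw [Ls, Submodule.span_le]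
    intro y hy
    refine ⟨h⁻¹ y, Submodule.subset_span ?_, app_inv_app h y⟩
    have := app_mem_Dp (H.inv_mem hh) hy
    rwa [inv_app_app] at this
  · rw [Ls, Submodule.map_span, Submodule.span_le]
    rintro _ ⟨x, hx, rfl⟩
    exact Submodule.subset_span (app_mem_Dp hh hx)

omit [FiniteDimensional F V] in
theorem app_mem_Ls {h : SpecialLinearGroup F V} (hh : h ∈ H) {u x : V} (hx : x ∈ Ls τ H u) :
    h x ∈ Ls τ H (h u) := by
  rw [Ls_map hh]
  exact ⟨x, hx, rfl⟩

omit [FiniteDimensional F V] in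
theorem app_mem_Ls_iff {h : SpecialLinearGroup F V} (hh : h ∈ H) {u x : V} :
    h x ∈ Ls τ H (h u) ↔ x ∈ Ls τ H u := by
  refine ⟨fun hx => ?_, app_mem_Ls hh⟩
  have := app_mem_Ls (H.inv_mem hh) hx
  rwa [inv_app_app, inv_app_app] at this

omit [FiniteDimensional F V] in
theorem finrank_Ls {h : SpecialLinearGroup F V} (hh : h ∈ H) (u : V) :
    finrank F (Ls τ H (h u)) = finrank F (Ls τ H u) := by
  rw [Ls_map hh]
  exact LinearEquiv.finrank_map_eq (h : V ≃ₗ[F] V) _

variable [Finite F] [Fact p.Prime] [CharP F p]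

/-- transvections vanishing on `Ls` lie in `H` -/
theorem tv_mem_of (hτ : ∀ c : F, (∀ x, τ (c * x) = 0) → c = 0) {u : V} {φ : Dual F V}
    (h : ∀ x ∈ Dp τ H u, φ x = 0) : tv φ u (h u (self_mem_Dp u)) ∈ H := by
  obtain ⟨ψ, e1, e2⟩ := tv_eq_tq (h u (self_mem_Dp u))
  rw [e1]
  change ψ ∈ Pb H u
  apply mem_Pb_of hτ
  intro w hw
  obtain ⟨x, rfl⟩ := (ln F u).mkQ_surjective w
  rw [e2, h x (mem_Dp_iff.2 hw), map_zero]

/-- `Dp` contains vectors outside the line -/
theorem exists_Dp (hτ : ∀ c : F, (∀ x, τ (c * x) = 0) → c = 0) (hI : Irr H) (hne : H ≠ ⊤) {u : V} (hu : u ≠ 0) :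
    ∃ w ∈ Dp τ H u, w ∉ ln F u := by
  by_contra hc
  push Not at hc
  apply hne
  apply top_of_full hI hu
  intro φ hφ
  apply tv_mem_of hτ
  intro x hx
  obtain ⟨c, rfl⟩ := Submodule.mem_span_singleton.1 (hc x hx)
  rw [map_smul, hφ, smul_zero]

/-- hypothesis: all vector stabilisers are in the image -/
def Hall (τ : F →+ ZMod p) (H : Subgroup (SpecialLinearGroup F V)) : Prop :=
  ∀ u : V, u ≠ 0 → ∀ w ∈ Db τ H u, w ≠ 0 → stabilizer (SpecialLinearGroup F (V ⧸ ln F u)) w ≤ img H u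

omit [Finite F] [CharP F p] in
theorem Hall.lift (hA : Hall τ H) {u w : V} (hu : u ≠ 0) (hw : w ∈ Dp τ H u) (hwu : w ∉ ln F u)
    {g : SpecialLinearGroup F V} (hgu : g u = u) (hgw : g w = w) :
    ∃ h ∈ H, h u = u ∧ ∀ x, ∃ c : F, h x = g x + c • u := by
  have h1 := hA u hu ((ln F u).mkQ w) (mem_Dp_iff.1 hw) (by
    intro h
    rw [Submodule.mkQ_apply, Submodule.Quotient.mk_eq_zero] at h
    exact hwu h) (show down u ⟨g, hgu⟩ ∈ _ by
      rw [mem_stab, down_apply]
      change (ln F u).mkQ (g w) = _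
      rw [hgw])
  rw [mem_img] at h1
  obtain ⟨h, hh, hhu, e⟩ := h1
  refine ⟨h, hh, hhu, fun x => ?_⟩
  have h2 := e x
  rw [down_apply] at h2
  exact exists_of_mkQ h2

/-- type II: transitivity outside of `Ls` -/
theorem transII (hτ : ∀ c : F, (∀ x, τ (c * x) = 0) → c = 0) (hI : Irr H) (hne : H ≠ ⊤) (hA : Hall τ H)
    (hd : 4 ≤ finrank F V) {u : V} (hu : u ≠ 0) (h2 : finrank F (Ls τ H u) ≤ 2) {x y : V} (hx : x ∉ Ls τ H u)
    (hy : y ∉ Ls τ H u) : ∃ h ∈ H, h u = u ∧ h x = y := by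
  obtain ⟨w, hw, hwu⟩ := exists_Dp hτ hI hne hu
  obtain ⟨g, hg, hgx⟩ := exists_map_fix (U := Ls τ H u) (by omega) hx hy
  obtain ⟨h, hh, hhu, e⟩ := hA.lift hu hw hwu (hg u (self_mem_Ls u)) (hg w (Submodule.subset_span hw))
  obtain ⟨c, hc⟩ := e x
  rw [hgx] at hc
  obtain ⟨θ, t1, t2⟩ := exists_fun hy
  have h3 : ∀ z ∈ Dp τ H u, (-c • θ) z = 0 := by
    intro z hz
    rw [LinearMap.smul_apply, t2 z (Submodule.subset_span hz), smul_zero]
  have h4 := tv_mem_of hτ h3
  refine ⟨_, H.mul_mem h4 hh, ?_, ?_⟩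
  · rw [mul_app, hhu, tv_apply, h3 u (self_mem_Dp u), zero_smul, add_zero]
  · rw [mul_app, hc, tv_apply, map_add, map_smul, h3 u (self_mem_Dp u), smul_zero, add_zero,
      LinearMap.smul_apply, t1, smul_eq_mul, mul_one, neg_smul]
    abel

/-- type II: transitivity on nonzero vectors -/
theorem transAll (hτ : ∀ c : F, (∀ x, τ (c * x) = 0) → c = 0) (hI : Irr H) (hne : H ≠ ⊤) (hA : Hall τ H)
    (hd : 4 ≤ finrank F V) {u : V} (hu : u ≠ 0) (h2 : finrank F (Ls τ H u) ≤ 2) {x y : V} (hx : x ≠ 0)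
    (hy : y ≠ 0) : ∃ h ∈ H, h x = y := by
  have key : ∀ z : V, z ≠ 0 → ∃ h ∈ H, h z ∉ Ls τ H u := by
    intro z hz
    by_contra hc
    push Not at hc
    let W : Submodule F V :=
      { carrier := {w | ∀ h ∈ H, h w ∈ Ls τ H u}
        zero_mem' := by
          intro h _
          rw [app_zero]
          exact Submodule.zero_mem _
        add_mem' := by
          intro a b ha hb h hh
          rw [app_add]
          exact Submodule.add_mem _ (ha h hh) (hb h hh)
        smul_mem' := by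
          intro c a ha h hh
          rw [app_smul]
          exact Submodule.smul_mem _ _ (ha h hh) }
    rcases hI W (by
      intro h hh x hx k hk
      rw [← mul_app]
      exact hx _ (H.mul_mem hk hh)) with h0 | h0
    · apply hz
      have : z ∈ W := fun h hh => hc h hh
      rwa [h0, Submodule.mem_bot] at this
    · have h3 : Ls τ H u = ⊤ := by
        rw [eq_top_iff]
        intro v _
        have : v ∈ W := by rw [h0]; trivial
        have := this 1 H.one_mem
        rwa [one_app] at this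
      rw [h3, finrank_top] at h2
      omega
  obtain ⟨h, hh, h3⟩ := key x hx
  obtain ⟨k, hk, h4⟩ := key y hy
  obtain ⟨l, hl, -, h5⟩ := transII hτ hI hne hA hd hu h2 h3 h4
  refine ⟨k⁻¹ * (l * h), H.mul_mem (H.inv_mem hk) (H.mul_mem hl hh), ?_⟩
  rw [mul_app, mul_app, h5, inv_app_app]

omit [Finite F] [Fact p.Prime] [CharP F p] in
theorem Ls_eq_of {L : Submodule F V} {z a b : V} (h2 : finrank F (Ls τ H z) ≤ 2) (ha0 : a ≠ 0) (hab : b ∉ ln F a)
    (ha : a ∈ Ls τ H z) (hb : b ∈ Ls τ H z) (haL : a ∈ L) (hbL : b ∈ L) : Ls τ H z ≤ L := by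
  have h3 : Submodule.span F {a} ⊔ Submodule.span F {b} ≤ Ls τ H z := by
    rw [sup_le_iff, Submodule.span_singleton_le_iff_mem, Submodule.span_singleton_le_iff_mem]
    exact ⟨ha, hb⟩
  have h4 : 2 ≤ finrank F (Submodule.span F {a} ⊔ Submodule.span F {b} : Submodule F V) := by
    have h5 : Submodule.span F {a} < Submodule.span F {a} ⊔ Submodule.span F {b} := by
      refine lt_of_le_of_ne le_sup_left fun h => hab ?_
      rw [ln, h]
      exact Submodule.mem_sup_right (Submodule.mem_span_singleton_self b)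
    have h6 := Submodule.finrank_lt_finrank_of_lt h5
    rw [finrank_span_singleton ha0] at h6
    omega
  have h5 := Submodule.eq_of_le_of_finrank_le h3 (by omega)
  rw [← h5, sup_le_iff, Submodule.span_singleton_le_iff_mem, Submodule.span_singleton_le_iff_mem]
  exact ⟨haL, hbL⟩

/-- **type II does not occur** -/
theorem falseII (hτ : ∀ c : F, (∀ x, τ (c * x) = 0) → c = 0) (hI : Irr H) (hne : H ≠ ⊤) (hA : Hall τ H)
    (hd : 4 ≤ finrank F V) {u₀ : V} (hu₀ : u₀ ≠ 0) (h2 : finrank F (Ls τ H u₀) ≤ 2) : False := by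
  have hT : ∀ x y : V, x ≠ 0 → y ≠ 0 → ∃ h ∈ H, h x = y := fun x y hx hy => transAll hτ hI hne hA hd hu₀ h2 hx hy
  have hL : ∀ u : V, u ≠ 0 → finrank F (Ls τ H u) ≤ 2 := by
    intro u hu
    obtain ⟨h, hh, rfl⟩ := hT u₀ u hu₀ hu
    rw [finrank_Ls hh]
    exact h2
  have hLt : ∀ u : V, u ≠ 0 → Ls τ H u ≠ ⊤ := by
    intro u hu h
    have := hL u hu
    rw [h, finrank_top] at this
    omega
  have hTu : ∀ u : V, u ≠ 0 → ∀ x y, x ∉ Ls τ H u → y ∉ Ls τ H u → ∃ h ∈ H, h u = u ∧ h x = y :=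
    fun u hu x y hx hy => transII hτ hI hne hA hd hu (hL u hu) hx hy
  -- symmetry
  have hsym : ∀ u u' : V, u ≠ 0 → u' ≠ 0 → u' ∈ Ls τ H u → u ∈ Ls τ H u' := by
    intro u u' hu hu' hm
    by_contra hc
    have P : ∀ a b : V, a ≠ 0 → b ∈ Ls τ H a → b ≠ 0 → a ∉ Ls τ H b → ∀ z, z ∉ Ls τ H b → b ∈ Ls τ H z := by
      intro a b ha hb hb0 hab z hz
      obtain ⟨h, hh, h3, h4⟩ := hTu b hb0 a z hab hz
      rw [← h3, ← h4]
      exact app_mem_Ls hh hb
    obtain ⟨h, hh, e⟩ := hT u u' hu hu'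
    have h3 : h u' ∈ Ls τ H u' := by
      rw [← e]
      rw [e]
      have := app_mem_Ls hh hm
      rwa [e] at this
    have h4 : u' ∉ Ls τ H (h u') := by
      intro h5
      apply hc
      rw [← app_mem_Ls_iff hh, e]
      exact h5
    have hv0 : h u' ≠ 0 := by
      intro h5
      rw [← app_zero h] at h5
      exact hu' (app_inj h h5)
    obtain ⟨z, hz1, hz2⟩ := exists_notMem_two (hLt u' hu') (hLt (h u') hv0)
    have hz0 : z ≠ 0 := by
      rintro rfl
      exact hz1 (Submodule.zero_mem _)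
    have h5 := P u u' hu hm hu' hc z hz1
    have h6 := P u' (h u') hu' h3 hv0 h4 z hz2
    have h7 : h u' ∉ ln F u' := by
      intro h8
      obtain ⟨c, hc8⟩ := Submodule.mem_span_singleton.1 h8
      have hc0 : c ≠ 0 := by
        rintro rfl
        rw [zero_smul] at hc8
        exact hv0 hc8.symm
      apply h4
      have h9 := Submodule.smul_mem _ c⁻¹ (self_mem_Ls (τ := τ) (H := H) (h u'))
      rw [← hc8, smul_smul, inv_mul_cancel₀ hc0, one_smul, hc8] at h9
      exact h9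
    have h8 := Ls_eq_of (hL z hz0) hu' h7 h5 h6 (self_mem_Ls u') h3
    exact hz1 (h8 (self_mem_Ls z))
  have heq1 : ∀ x z : V, x ≠ 0 → z ∈ Ls τ H x → z ∉ ln F x → Ls τ H z = Ls τ H x := by
    intro x z hx hz hzx
    have hz0 : z ≠ 0 := by
      rintro rfl
      exact hzx (Submodule.zero_mem _)
    have h3 := hsym x z hx hz0 hz
    exact le_antisymm (Ls_eq_of (hL z hz0) hx hzx h3 (self_mem_Ls z) (self_mem_Ls x) hz)
      (Ls_eq_of (hL x hx) hx hzx (self_mem_Ls x) hz h3 (self_mem_Ls z))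
  have heq : ∀ x z : V, x ≠ 0 → z ≠ 0 → z ∈ Ls τ H x → Ls τ H z = Ls τ H x := by
    intro x z hx hz0 hz
    by_cases hzx : z ∈ ln F x
    · obtain ⟨y, hy, hyx⟩ := exists_Dp hτ hI hne hx
      have h3 := heq1 x y hx (Submodule.subset_span hy) hyx
      obtain ⟨c, rfl⟩ := Submodule.mem_span_singleton.1 hzx
      have hc0 : c ≠ 0 := by
        rintro rfl
        rw [zero_smul] at hz0
        exact hz0 rfl
      have hy0 : y ≠ 0 := by
        rintro rfl
        exact hyx (Submodule.zero_mem _)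
      have h4 : c • x ∉ ln F y := by
        intro h5
        obtain ⟨d, e⟩ := Submodule.mem_span_singleton.1 h5
        have hd0 : d ≠ 0 := by
          rintro rfl
          rw [zero_smul] at e
          exact hz0 e.symm
        apply hyx
        rw [ln, Submodule.mem_span_singleton]
        exact ⟨d⁻¹ * c, by rw [mul_smul, ← e, smul_smul, inv_mul_cancel₀ hd0, one_smul]⟩
      rw [heq1 y (c • x) hy0 (by rw [h3]; exact hz) h4, h3]
    · exact heq1 x z hx hz hzx
  -- the contradiction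
  obtain ⟨x, hx⟩ : ∃ x, x ∉ Ls τ H u₀ := by
    obtain ⟨x, hx, -⟩ := exists_notMem_two (hLt u₀ hu₀) (hLt u₀ hu₀)
    exact ⟨x, hx⟩
  have hx0 : x ≠ 0 := by
    rintro rfl
    exact hx (Submodule.zero_mem _)
  obtain ⟨θ, t1, t2⟩ := exists_fun hx
  have h3 : ∀ z ∈ Dp τ H u₀, θ z = 0 := fun z hz => t2 z (Submodule.subset_span hz)
  have h4 := tv_mem_of hτ h3
  obtain ⟨x', hx', hx'x⟩ := exists_Dp hτ hI hne hx0
  have hzm : x' - θ x' • x ∈ Ls τ H x :=
    Submodule.sub_mem _ (Submodule.subset_span hx') (Submodule.smul_mem _ _ (self_mem_Ls x))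
  have hz0 : x' - θ x' • x ≠ 0 := by
    intro h5
    apply hx'x
    rw [sub_eq_zero.1 h5]
    exact Submodule.smul_mem _ _ (Submodule.mem_span_singleton_self x)
  have hθz : θ (x' - θ x' • x) = 0 := by
    rw [map_sub, map_smul, t1, smul_eq_mul, mul_one, sub_self]
  have h5 := heq x _ hx0 hz0 hzm
  have h6 : tv θ u₀ (h3 u₀ (self_mem_Dp u₀)) (x' - θ x' • x) = x' - θ x' • x := by
    rw [tv_apply, hθz, zero_smul, add_zero]
  have h7 : x ∈ Ls τ H (x' - θ x' • x) := by rw [h5]; exact self_mem_Ls x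
  have h8 := app_mem_Ls h4 h7
  rw [h6, tv_apply, t1, one_smul, h5] at h8
  have h9 : u₀ ∈ Ls τ H x := by
    have := Submodule.sub_mem _ h8 (self_mem_Ls x)
    rwa [add_sub_cancel_left] at this
  rw [← heq x u₀ hx0 hu₀ h9] at hzm h8
  have h10 := Submodule.sub_mem _ h8 (self_mem_Ls u₀)
  rw [add_sub_cancel_right] at h10
  exact hx h10

end Str

end Cfsg.Agent.H110.Gap
end

-- part: H110/Fpr/GapC
section
/-!
# Irreducible subgroups of `SL_n(q)`, `n ≥ 4`, have large index (helper110)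
-/

set_option autoImplicit false

namespace Cfsg.Agent.H110.Gap

open Module hiding ext'
open MulAction Cfsg.Agent.H221.PP

section Main

variable {F : Type*} [Field F] {V : Type*} [AddCommGroup V] [Module F V] [FiniteDimensional F V]
variable {H : Subgroup (SpecialLinearGroup F V)} {p : ℕ} {τ : F →+ ZMod p} [Finite F] [Fact p.Prime] [CharP F p]

/-- **type I everywhere does not occur** -/
theorem falseI (hτ : ∀ c : F, (∀ x, τ (c * x) = 0) → c = 0) (hI : Irr H) (hne : H ≠ ⊤) (hA : Hall τ H)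
    (hd : 4 ≤ finrank F V) (hF : ¬ (finrank F V = 4 ∧ Nat.card F = 2))
    (h3 : ∀ u : V, u ≠ 0 → 3 ≤ finrank F (Ls τ H u)) : False := by
  have himg : ∀ u : V, u ≠ 0 → img H u = ⊤ ∧ ∀ ψ ∈ Pb H u, ψ = 0 := by
    intro u hu
    have hq := finrank_quo (F := F) hu
    obtain ⟨w, hw, hwu⟩ := exists_Dp hτ hI hne hu
    obtain ⟨w₂, hw₂, hw₂u⟩ : ∃ w₂ ∈ Dp τ H u, w₂ ∉ ln F u ⊔ ln F w := by
      by_contra hc
      push Not at hc
      have h4 : Ls τ H u ≤ ln F u ⊔ ln F w := by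
        rw [Ls, Submodule.span_le]
        exact hc
      have h5 := Submodule.finrank_mono h4
      have h6 := Submodule.finrank_add_le_finrank_add_finrank (ln F u) (ln F w)
      have h7 : finrank F (ln F u) ≤ 1 := finrank_span_singleton_le' (F := F) u
      have h8 : finrank F (ln F w) ≤ 1 := finrank_span_singleton_le' (F := F) w
      have h9 := h3 u hu
      omega
    have e1 : (ln F u).mkQ w ≠ 0 := by
      intro h
      rw [Submodule.mkQ_apply, Submodule.Quotient.mk_eq_zero] at h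
      exact hwu h
    have e2 : (ln F u).mkQ w₂ ∉ ln F ((ln F u).mkQ w) := by
      intro h
      obtain ⟨c, hc⟩ := Submodule.mem_span_singleton.1 h
      rw [← map_smul] at hc
      obtain ⟨l, hl⟩ := exists_of_mkQ hc
      apply hw₂u
      have : w₂ = (-l) • u + c • w := by rw [hl, neg_smul]; abel
      rw [this]
      exact Submodule.add_mem _ (Submodule.mem_sup_left (Submodule.smul_mem _ _ (Submodule.mem_span_singleton_self u)))
        (Submodule.mem_sup_right (Submodule.smul_mem _ _ (Submodule.mem_span_singleton_self w)))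
    have e3 : (ln F u).mkQ w₂ ≠ 0 := by
      intro h
      rw [h] at e2
      exact e2 (Submodule.zero_mem _)
    have htop := two_stab e1 e2 (hA u hu _ (mem_Dp_iff.1 hw) e1) (hA u hu _ (mem_Dp_iff.1 hw₂) e3)
    refine ⟨htop, fun ψ hψ => ?_⟩
    apply LinearMap.ext
    intro x
    apply hτ
    intro c
    by_cases hx : c • x = 0
    · rw [mul_comm, ← smul_eq_mul, ← map_smul, hx, map_zero, map_zero]
    · obtain ⟨g, hg⟩ := exists_map (F := F) (by omega) e1 hx
      have h4 : g ((ln F u).mkQ w) ∈ Db τ H u := img_Db (mem_Dp_iff.1 hw) (by rw [htop]; trivial)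
      rw [hg] at h4
      rw [mul_comm, ← smul_eq_mul, ← map_smul]
      exact h4 ψ hψ
  have hN : NoTv H := by
    intro φ w hw hm
    by_cases hw0 : w = 0
    · exact Or.inr hw0
    · left
      obtain ⟨ψ, e1, e2⟩ := tv_eq_tq hw
      rw [e1] at hm
      have := (himg w hw0).2 ψ hm
      ext x
      rw [← e2, this]
      rfl
  have : Nontrivial V := Module.nontrivial_of_finrank_pos (R := F) (by omega)
  obtain ⟨v, hv⟩ := exists_ne (0 : V)
  have hS := fun g => exists_lf (himg v hv).1 g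
  by_cases h5 : 5 ≤ finrank F V
  · exact false_five hN hv h5 hS
  · have h4 : finrank F V = 4 := by omega
    by_cases h2 : (2 : F) = 0
    · obtain ⟨a, ha, ha2⟩ : ∃ a : F, a ≠ 0 ∧ a ^ 2 ≠ 1 := by
        by_contra hc
        push Not at hc
        apply hF
        refine ⟨h4, card_two fun a => ?_⟩
        by_cases ha : a = 0
        · exact Or.inl ha
        · right
          have h6 := hc a ha
          have h7 : (a - 1) ^ 2 = 0 := by
            have : (a - 1) ^ 2 = a ^ 2 - 2 * a + 1 := by ring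
            rw [this, h6, h2, zero_mul, sub_zero]
            have : (1 : F) + 1 = 2 := by norm_num
            rw [this, h2]
          exact sub_eq_zero.1 (pow_eq_zero_iff (two_ne_zero)|>.1 h7)
      exact false_four_a hN hv h4 ha ha2 hS
    · exact false_four_b hN hv h4 h2 hS

/-- **irreducible proper subgroups of `SL(V)`** -/
theorem gap_lin (hd : 4 ≤ finrank F V) (hF : ¬ (finrank F V = 4 ∧ Nat.card F = 2)) (hI : Irr H) (hne : H ≠ ⊤)
    {i m : ℕ} (hm : m + 2 = finrank F V) (h1 : i ≤ Nat.card F ^ m)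
    (h2 : ∀ S : Subgroup (Matrix.SpecialLinearGroup (Fin m) F), S ≠ ⊤ → i ≤ S.index) :
    (Nat.card F ^ (finrank F V - 1) - 1) * i ≤ H.index := by
  obtain ⟨p, hp⟩ := CharP.exists F
  have : Fact p.Prime := ⟨CharP.char_is_prime F p⟩
  obtain ⟨τ, hτ⟩ := Cfsg.Agent.H74.exists_tau F p
  by_cases hA : Hall τ H
  · exfalso
    by_cases hII : ∃ u : V, u ≠ 0 ∧ finrank F (Ls τ H u) ≤ 2
    · obtain ⟨u, hu, h3⟩ := hII
      exact falseII hτ hI hne hA hd hu h3
    · push Not at hII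
      exact falseI hτ hI hne hA hd hF fun u hu => hII u hu
  · rw [Hall] at hA
    push Not at hA
    obtain ⟨u, hu, w, hw, hw0, hM⟩ := hA
    refine (Nat.mul_le_mul_left _ ?_).trans (num hτ (by omega) H hu hw0 hw)
    have hq := finrank_quo (F := F) hu
    have hq2 := finrank_quo (F := F) hw0
    have hm' : finrank F ((V ⧸ ln F u) ⧸ ln F w) = m := by omega
    refine stab_bound hτ (by omega) hw0 hM ?_ ?_
    · rw [Module.natCard_eq_pow_finrank (K := F) (V := (V ⧸ ln F u) ⧸ ln F w), hm']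
      exact h1
    · intro S hS
      let b : Basis (Fin m) F ((V ⧸ ln F u) ⧸ ln F w) := finBasisOfFinrankEq F _ hm'
      let e : Matrix.SpecialLinearGroup (Fin m) F ≃* SpecialLinearGroup F ((V ⧸ ln F u) ⧸ ln F w) :=
        Matrix.SpecialLinearGroup.toLin_equiv b
      have h3 : (S.comap e.toMonoidHom).index = S.index := Subgroup.index_comap_of_surjective _ e.surjective
      rw [← h3]
      apply h2
      intro h4
      apply hS
      rw [h4, Subgroup.index_top] at h3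
      exact Subgroup.index_eq_one.1 h3.symm

end Main

section Mat

variable {F : Type*} [Field F] [Fintype F] {n : ℕ}

/-- matrix form -/
theorem gap (hn : 4 ≤ n) (hF : ¬ (n = 4 ∧ Fintype.card F = 2)) {H : Subgroup (Matrix.SpecialLinearGroup (Fin n) F)}
    (hne : H ≠ ⊤)
    (hI : ∀ W : Submodule F (Fin n → F),
      (∀ h ∈ H, ∀ x ∈ W, Matrix.mulVec (h : Matrix (Fin n) (Fin n) F) x ∈ W) → W = ⊥ ∨ W = ⊤)
    {i m : ℕ} (hm : m + 2 = n) (h1 : i ≤ Fintype.card F ^ m)
    (h2 : ∀ S : Subgroup (Matrix.SpecialLinearGroup (Fin m) F), S ≠ ⊤ → i ≤ S.index) :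
    (Fintype.card F ^ (n - 1) - 1) * i ≤ H.index := by
  let e : Matrix.SpecialLinearGroup (Fin n) F ≃* SpecialLinearGroup F (Fin n → F) :=
    Matrix.SpecialLinearGroup.toLin'_equiv
  have h3 : (H.comap e.symm.toMonoidHom).index = H.index :=
    Subgroup.index_comap_of_surjective _ e.symm.surjective
  have h4 : H.comap e.symm.toMonoidHom ≠ ⊤ := by
    intro h
    rw [h, Subgroup.index_top] at h3
    exact hne (Subgroup.index_eq_one.1 h3.symm)
  have hr : finrank F (Fin n → F) = n := finrank_fin_fun F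
  have h5 := gap_lin (F := F) (V := Fin n → F) (H := H.comap e.symm.toMonoidHom) (i := i) (m := m) (by rw [hr]; exact hn)
    (by rw [hr, Nat.card_eq_fintype_card]; exact hF) (by
      intro W hW
      apply hI W
      intro h hh x hx
      have h6 := hW (e h) (by
        rw [Subgroup.mem_comap]
        change e.symm (e h) ∈ H
        rw [MulEquiv.symm_apply_apply]
        exact hh) x hx
      exact h6) h4 (by rw [hr]; exact hm) (by rw [Nat.card_eq_fintype_card]; exact h1) h2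
  rw [hr, h3, Nat.card_eq_fintype_card] at h5
  exact h5

end Mat

end Cfsg.Agent.H110.Gap
end

-- part: H110/Fpr/GapD
section
/-!
# Irreducible subgroups of `SL_n(q)`, `n ≥ 4`: explicit bounds (helper110)
-/

set_option autoImplicit false

namespace Cfsg.Agent.H110.Gap

open Matrix
open scoped commutatorElement

variable {F : Type*} [Field F] [Fintype F] {n : ℕ}

/-- `H` acts irreducibly, matrix form -/
def IrrM (H : Subgroup (Matrix.SpecialLinearGroup (Fin n) F)) : Prop :=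
  ∀ W : Submodule F (Fin n → F),
    (∀ h ∈ H, ∀ x ∈ W, Matrix.mulVec (h : Matrix (Fin n) (Fin n) F) x ∈ W) → W = ⊥ ∨ W = ⊤

/-- quasisimple groups: proper subgroups have proper image -/
theorem index_image_le {G : Type*} [Group G] [Finite G] (hG : IsQuasisimple G) {S : Subgroup G} (hS : S ≠ ⊤) :
    S.map (QuotientGroup.mk' (Subgroup.center G)) ≠ ⊤ ∧
      (S.map (QuotientGroup.mk' (Subgroup.center G))).index ≤ S.index := by
  constructor
  · intro h
    apply hS
    have h1 : ∀ g : G, ∃ s ∈ S, ∃ z ∈ Subgroup.center G, g = s * z := by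
      intro g
      have h2 : QuotientGroup.mk' (Subgroup.center G) g ∈ S.map (QuotientGroup.mk' (Subgroup.center G)) := by
        rw [h]; trivial
      obtain ⟨s, hs, e⟩ := h2
      have h3 : s⁻¹ * g ∈ Subgroup.center G := by
        rw [QuotientGroup.mk'_apply, QuotientGroup.mk'_apply] at e
        exact QuotientGroup.eq.1 e
      exact ⟨s, hs, s⁻¹ * g, h3, by group⟩
    have h3 : commutator G ≤ S := by
      rw [commutator_def, Subgroup.commutator_le]
      intro a _ b _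
      obtain ⟨a, ha, z, hz, rfl⟩ := h1 a
      obtain ⟨b, hb, y, hy, rfl⟩ := h1 b
      have hz' := Subgroup.mem_center_iff.1 hz
      have hy' := Subgroup.mem_center_iff.1 hy
      have e : ⁅a * z, b * y⁆ = ⁅a, b⁆ := by
        rw [commutatorElement_def, commutatorElement_def]
        have e1 : a * z * (b * y) * (a * z)⁻¹ = (a * b * a⁻¹) * y := by
          calc a * z * (b * y) * (a * z)⁻¹ = a * (z * (b * y)) * z⁻¹ * a⁻¹ := by group
            _ = a * ((b * y) * z) * z⁻¹ * a⁻¹ := by rw [hz' (b * y)]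
            _ = a * b * (y * a⁻¹) := by group
            _ = a * b * (a⁻¹ * y) := by rw [hy' a⁻¹]
            _ = (a * b * a⁻¹) * y := by group
        rw [e1]
        group
      rw [e, commutatorElement_def]
      exact S.mul_mem (S.mul_mem (S.mul_mem ha hb) (S.inv_mem ha)) (S.inv_mem hb)
    have h4 : commutator G = ⊤ := hG.1.commutator_eq_top
    rw [h4] at h3
    exact top_le_iff.1 h3
  · exact Nat.le_of_dvd (Nat.pos_of_ne_zero Subgroup.index_ne_zero_of_finite)
      (Subgroup.index_map_dvd _ (QuotientGroup.mk'_surjective _))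

/-- the minimal index of `SL₂(q)` -/
def mi (q : ℕ) : ℕ := if q = 3 then 3 else if q = 5 then 5 else if q = 7 then 7 else if q = 9 then 6 else
  if q = 11 then 11 else q + 1

theorem factorial_aux {N k m : ℕ} (h : N ∣ k.factorial) (hm : ¬ N ∣ m.factorial) : m + 1 ≤ k := by
  by_contra hc
  exact hm (h.trans (Nat.factorial_dvd_factorial (by omega)))

theorem two_lt_aux (hq : Fintype.card F = 3) {S : Subgroup (Matrix.SpecialLinearGroup (Fin 2) F)} (hS : S ≠ ⊤) :
    3 ≤ S.index := by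
  have h1 : S.index ≠ 1 := fun h => hS (Subgroup.index_eq_one.1 h)
  have h0 : S.index ≠ 0 := Subgroup.index_ne_zero_of_finite
  by_contra hc
  have h2 : S.index = 2 := by omega
  apply hS
  have h3 : (3 : F) = 0 := by
    have := FiniteField.cast_card_eq_zero F
    rw [hq] at this
    exact_mod_cast this
  have key : ∀ g : Matrix.SpecialLinearGroup (Fin 2) F, g ^ 3 = 1 → g ∈ S := by
    intro g hg
    have h4 := Subgroup.mul_self_mem_of_index_two h2 g
    have h5 : g = (g * g) * (g * g) := by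
      have h6 : g ^ 3 * g = (g * g) * (g * g) := by
        rw [pow_succ, pow_succ, pow_one]
        simp only [mul_assoc]
      rw [← h6, hg, one_mul]
    rw [h5]
    exact S.mul_mem h4 h4
  let e : Matrix.SpecialLinearGroup (Fin 2) F ≃* _root_.SpecialLinearGroup F (Fin 2 → F) :=
    Matrix.SpecialLinearGroup.toLin'_equiv
  have h4 : S.comap e.symm.toMonoidHom = ⊤ := by
    apply Cfsg.Agent.H221.PP.eq_top_of_tv
    intro φ w hw
    change e.symm _ ∈ S
    apply key
    rw [← map_pow]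
    have : (Cfsg.Agent.H221.PP.tv φ w hw) ^ 3 = 1 := by
      apply Cfsg.Agent.H221.PP.ext'
      intro x
      rw [pow_succ, pow_succ, pow_one, Cfsg.Agent.H221.PP.mul_app, Cfsg.Agent.H221.PP.mul_app,
        Cfsg.Agent.H221.PP.tv_apply, Cfsg.Agent.H221.PP.tv_apply, Cfsg.Agent.H221.PP.tv_apply,
        Cfsg.Agent.H221.PP.one_app]
      simp only [map_add, map_smul, hw, smul_zero, add_zero]
      rw [add_assoc, add_assoc, ← add_smul, ← add_smul]
      have h5 : φ x + (φ x + φ x) = 3 * φ x := by ring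
      rw [h5, h3, zero_mul, zero_smul, add_zero]
    rw [this, map_one]
  rw [eq_top_iff]
  intro g _
  have h5 : e g ∈ S.comap e.symm.toMonoidHom := by rw [h4]; trivial
  change e.symm (e g) ∈ S at h5
  rwa [MulEquiv.symm_apply_apply] at h5

/-- the minimal index of `SL₂(q)` -/
theorem sl_two_min (h2 : 3 ≤ Fintype.card F) {S : Subgroup (Matrix.SpecialLinearGroup (Fin 2) F)} (hS : S ≠ ⊤) :
    mi (Fintype.card F) ≤ S.index := by
  obtain ⟨q, hq⟩ : ∃ q, q = Fintype.card F := ⟨_, rfl⟩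
  rw [← hq] at h2 ⊢
  by_cases h3 : q = 3
  · subst h3
    exact two_lt_aux hq.symm hS
  have h4 : 4 ≤ Nat.card F := by rw [Nat.card_eq_fintype_card]; omega
  obtain ⟨h5, h6⟩ := index_image_le (Cfsg.Agent.SignalizersComponents.SLQuasisimple.isQuasisimple_two h4) hS
  refine le_trans ?_ h6
  have hsim : IsSimpleGroup (Matrix.ProjectiveSpecialLinearGroup (Fin 2) F) :=
    (Cfsg.Agent.SignalizersComponents.SLQuasisimple.isQuasisimple_two h4).2
  have h7 : Nat.card (Matrix.ProjectiveSpecialLinearGroup (Fin 2) F) ∣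
      (S.map (QuotientGroup.mk' (Subgroup.center (Matrix.SpecialLinearGroup (Fin 2) F)))).index.factorial :=
    Cfsg.Agent.H408.Engine.card_dvd_factorial h5
  by_cases hex : q = 5 ∨ q = 7 ∨ q = 9 ∨ q = 11
  · have hcard := Cfsg.Agent.ClassicalGeometry.PSL2Basic.card_PSL2_odd F (by
      rw [← hq]
      rcases hex with h | h | h | h <;> rw [h] <;> decide)
    rw [← hq] at hcard
    rcases hex with rfl | rfl | rfl | rfl
    · have h8 : Nat.card (Matrix.ProjectiveSpecialLinearGroup (Fin 2) F) = 60 := by omega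
      rw [h8] at h7
      exact factorial_aux (m := 4) h7 (by decide)
    · have h8 : Nat.card (Matrix.ProjectiveSpecialLinearGroup (Fin 2) F) = 168 := by omega
      rw [h8] at h7
      exact factorial_aux (m := 6) h7 (by decide)
    · have h8 : Nat.card (Matrix.ProjectiveSpecialLinearGroup (Fin 2) F) = 360 := by omega
      rw [h8] at h7
      exact factorial_aux (m := 5) h7 (by decide)
    · have h8 : Nat.card (Matrix.ProjectiveSpecialLinearGroup (Fin 2) F) = 660 := by omega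
      rw [h8] at h7
      exact factorial_aux (m := 10) h7 (by decide)
  · push Not at hex
    have h8 : mi q = q + 1 := by
      rw [mi, if_neg h3, if_neg hex.1, if_neg hex.2.1, if_neg hex.2.2.1, if_neg hex.2.2.2]
    rw [h8]
    refine (Cfsg.Agent.S0806.result (F := F) hq.symm ?_).1 _ h5
    simp only [Finset.mem_insert, Finset.mem_singleton]
    (clear * - h2 h3 hex; omega)

/-- **dimension four** -/
theorem gap_four (hq : 3 ≤ Fintype.card F) {H : Subgroup (Matrix.SpecialLinearGroup (Fin 4) F)} (hne : H ≠ ⊤)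
    (hI : IrrM H) : (Fintype.card F ^ 3 - 1) * mi (Fintype.card F) ≤ H.index := by
  refine gap (n := 4) (m := 2) le_rfl (fun h => by omega) hne hI rfl ?_ (fun S hS => sl_two_min hq hS)
  rw [mi]
  split_ifs
  · nlinarith
  · nlinarith
  · nlinarith
  · nlinarith
  · nlinarith
  · nlinarith

/-- **dimension at least five** -/
theorem gap_five (hn : 5 ≤ n) (h6 : ¬ (n = 6 ∧ Fintype.card F = 2)) {H : Subgroup (Matrix.SpecialLinearGroup (Fin n) F)}
    (hne : H ≠ ⊤) (hI : IrrM H) :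
    (Fintype.card F ^ (n - 1) - 1) * ((Fintype.card F ^ (n - 2) - 1) / (Fintype.card F - 1)) ≤ H.index := by
  refine gap (m := n - 2) (by omega) (fun h => by omega) hne hI (by omega) ?_
    (fun S hS => Cfsg.Agent.H74.Psl.min_index rfl (by omega) (fun h => h6 ⟨by omega, h.2⟩) S hS)
  exact (Nat.div_le_self _ _).trans (Nat.sub_le _ _)

end Cfsg.Agent.H110.Gap
end

-- part: H409/FprCycL4
section
/-!
# `PSL_n(q)`, `p` of order `n` modulo `q`, `n ≥ 4`
-/

set_option autoImplicit false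
set_option linter.unusedSectionVars false

namespace Cfsg.Agent.H409.Cyc

open Module Subgroup MulAction Matrix
open Cfsg.Agent.H110.Gap (IrrM gap_four gap_five mi)

section lower

variable {F : Type*} [Field F] [Fintype F] {n : ℕ}

/-- the order of the centre -/
theorem card_center_SL (h2 : 2 ≤ n) :
    Nat.card (center (_root_.Matrix.SpecialLinearGroup (Fin n) F)) = Nat.gcd n (Fintype.card F - 1) := by
  have h3 := Cfsg.Agent.S0243.result (F := F) rfl n h2
  have h4 := Cfsg.Agent.S0242.result (F := F) rfl n (by omega)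
  have hfin : Finite (ProjectiveSpecialLinearGroup (Fin n) F) := by
    unfold ProjectiveSpecialLinearGroup
    infer_instance
  have h5 : Nat.card (_root_.Matrix.SpecialLinearGroup (Fin n) F) =
      Nat.card (ProjectiveSpecialLinearGroup (Fin n) F) * Nat.card (center (_root_.Matrix.SpecialLinearGroup (Fin n) F)) :=
    card_eq_card_quotient_mul_card_subgroup _
  have hq : 2 ≤ Fintype.card F := two_le_q
  rw [← h4, h5] at h3
  have h6 : 0 < (Fintype.card F - 1) * Nat.card (ProjectiveSpecialLinearGroup (Fin n) F) :=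
    Nat.mul_pos (by omega) Nat.card_pos
  apply Nat.eq_of_mul_eq_mul_left h6
  rw [mul_comm _ (Nat.gcd n (Fintype.card F - 1)), h3, mul_assoc]

/-- the indices prime to `p` of `PSL_n(F)` are bounded by the irreducible ones of `SL_n(F)` -/
theorem index_lower {p : ℕ} [hp : Fact p.Prime] (hodd : p ≠ 2) (hch : (p : F) ≠ 0)
    (he : ∀ k, p ∣ Fintype.card F ^ k - 1 → n ∣ k) (h2 : 2 ≤ n)
    (hpS : p ∣ Nat.card (ProjectiveSpecialLinearGroup (Fin n) F)) {L : ℕ}
    (hL : ∀ K : Subgroup (_root_.Matrix.SpecialLinearGroup (Fin n) F), K ≠ ⊤ → IrrM K → L ≤ K.index)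
    (H : Subgroup (ProjectiveSpecialLinearGroup (Fin n) F)) (hH : H ≠ ⊤) (hpH : ¬ p ∣ H.index) :
    L ≤ H.index := by
  have hsurj : Function.Surjective (QuotientGroup.mk' (center (_root_.Matrix.SpecialLinearGroup (Fin n) F))) :=
    QuotientGroup.mk'_surjective _
  have hpG : p ∣ Nat.card (_root_.Matrix.SpecialLinearGroup (Fin n) F) := hpS.trans (Subgroup.card_quotient_dvd_card _)
  have h1 : (H.comap (QuotientGroup.mk' (center (_root_.Matrix.SpecialLinearGroup (Fin n) F)))).index = H.index :=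
    index_comap_of_surjective _ hsurj
  rw [← h1]
  apply hL
  · intro h
    apply hH
    rw [← index_eq_one, ← h1, h, index_top]
  · have h3 := (irr_of_not_dvd hodd hch he h2 hpG _ (by rw [h1]; exact hpH)).2
    intro W hW
    apply h3 W
    intro h hh u hu
    rw [rhoSL_apply]
    exact hW h hh u hu

/-- `p` divides `q ^ n - 1` -/
theorem dvd_pow_sub {p : ℕ} [hp : Fact p.Prime] (hch : (p : F) ≠ 0)
    (he : ∀ k, p ∣ Fintype.card F ^ k - 1 → n ∣ k) (h2 : 1 ≤ n)
    (hpG : p ∣ Nat.card (_root_.Matrix.SpecialLinearGroup (Fin n) F)) : p ∣ Fintype.card F ^ n - 1 := by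
  have hq : 2 ≤ Fintype.card F := two_le_q
  have hpq : ¬ p ∣ Fintype.card F := by
    intro h
    apply hch
    obtain ⟨r, hr⟩ := CharP.exists F
    have hrp : r.Prime := CharP.char_is_prime F r
    obtain ⟨n, -, hn⟩ := FiniteField.card F r
    rw [hn] at h
    have h1 := (Nat.prime_dvd_prime_iff_eq hp.out hrp).1 (hp.out.dvd_of_dvd_pow h)
    rw [h1]
    exact CharP.cast_eq_zero F r
  have h1 : p ∣ (Fintype.card F - 1) * Nat.card (_root_.Matrix.SpecialLinearGroup (Fin n) F) := hpG.mul_left _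
  rw [Cfsg.Agent.S0242.result (F := F) rfl n h2] at h1
  obtain ⟨i, -, hi⟩ := (Prime.dvd_finsetProd_iff hp.out.prime _).1 h1
  have hi2 : (i : ℕ) < n := i.2
  have h3 : Fintype.card F ^ n - Fintype.card F ^ (i : ℕ) =
      Fintype.card F ^ (i : ℕ) * (Fintype.card F ^ (n - i) - 1) := by
    rw [Nat.mul_sub, mul_one, ← pow_add, Nat.add_sub_cancel' hi2.le]
  rw [h3] at hi
  have h4 : p ∣ Fintype.card F ^ (n - i) - 1 :=
    (hp.out.dvd_mul.1 hi).resolve_left (fun h => hpq (hp.out.dvd_of_dvd_pow h))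
  have h5 := Nat.le_of_dvd (by omega) (he _ h4)
  have h6 : n - i = n := by omega
  rwa [h6] at h4

theorem cdiv (k : ℕ) : (Fintype.card F ^ k - 1) / (Fintype.card F - 1) * (Fintype.card F - 1) =
    Fintype.card F ^ k - 1 := by
  apply Nat.div_mul_cancel
  simpa only [_root_.one_pow] using Nat.sub_dvd_pow_sub_pow (Fintype.card F) 1 k

theorem pow_arith {q n : ℕ} (h : (3 ≤ q ∧ 5 ≤ n) ∨ (2 ≤ q ∧ 6 ≤ n)) : n + 2 ≤ q ^ (n - 3) := by
  rcases h with ⟨hq, hn⟩ | ⟨hq, hn⟩
  · obtain ⟨m, rfl⟩ := Nat.exists_eq_add_of_le hn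
    have : 5 + m + 2 ≤ 3 ^ (5 + m - 3) := by
      have h5 : 5 + m - 3 = m + 2 := by omega
      rw [h5]
      clear hn h5
      induction m with
      | zero => norm_num
      | succ m ih => rw [show m + 1 + 2 = (m + 2) + 1 from rfl, pow_succ]; omega
    exact this.trans (Nat.pow_le_pow_left hq _)
  · obtain ⟨m, rfl⟩ := Nat.exists_eq_add_of_le hn
    have : 6 + m + 2 ≤ 2 ^ (6 + m - 3) := by
      have h5 : 6 + m - 3 = m + 3 := by omega
      rw [h5]
      clear hn h5
      induction m with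
      | zero => norm_num
      | succ m ih => rw [show m + 1 + 3 = (m + 3) + 1 from rfl, pow_succ]; omega
    exact this.trans (Nat.pow_le_pow_left hq _)

theorem big_arith {q n : ℕ} (h : (3 ≤ q ∧ 5 ≤ n) ∨ (2 ≤ q ∧ 6 ≤ n)) :
    (n + 1) * (q ^ n - 1) ≤ (q ^ (n - 1) - 1) * (q ^ (n - 2) - 1) := by
  have h1 := pow_arith h
  have hq : 2 ≤ q := by omega
  have hn : 5 ≤ n := by omega
  set b := q ^ (n - 3) with hb
  have e2 : q ^ (n - 2) = b * q := by rw [hb, ← pow_succ]; congr 1; omega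
  have e1 : q ^ (n - 1) = b * q * q := by rw [hb, ← pow_succ, ← pow_succ]; congr 1; omega
  have e0 : q ^ n = b * q * q * q := by rw [hb, ← pow_succ, ← pow_succ, ← pow_succ]; congr 1; omega
  rw [e0, e1, e2]
  have hb7 : 7 ≤ b := by omega
  have hbq : 1 ≤ b * q := Nat.mul_pos (by omega) (by omega)
  have hbqq : 1 ≤ b * q * q := Nat.mul_pos hbq (by omega)
  have hbqqq : 1 ≤ b * q * q * q := Nat.mul_pos hbqq (by omega)
  clear_value b
  zify [hbq, hbqq, hbqqq]
  have hq' : (2 : ℤ) ≤ q := by exact_mod_cast hq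
  have hn' : (5 : ℤ) ≤ n := by exact_mod_cast hn
  have hb' : (n : ℤ) + 2 ≤ b := by exact_mod_cast h1
  have hb0 : (0 : ℤ) < b := by linarith only [h1]
  have hq0 : (0 : ℤ) < q := by linarith only [hq]
  have h5 : (0 : ℤ) ≤ b * q * q * q * (b - (n + 2)) := mul_nonneg (by positivity) (by linarith only [h1])
  have h6 : (0 : ℤ) ≤ b * q * (q * q - q - 1) := mul_nonneg (by positivity) (by nlinarith only [hq])
  linarith only [h5, h6]

/-- dimension at least five -/
theorem row_psl5 {p : ℕ} [hp : Fact p.Prime] (hodd : p ≠ 2) (hn : 5 ≤ n)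
    (hch : (p : F) ≠ 0) (he : ∀ k, p ∣ Fintype.card F ^ k - 1 → n ∣ k)
    (hpS : p ∣ Nat.card (ProjectiveSpecialLinearGroup (Fin n) F)) :
    FprRow (p + 1) 1 p (ProjectiveSpecialLinearGroup (Fin n) F) := by
  have hq : 2 ≤ Fintype.card F := two_le_q
  have hpG : p ∣ Nat.card (_root_.Matrix.SpecialLinearGroup (Fin n) F) := hpS.trans (Subgroup.card_quotient_dvd_card _)
  have hpn := dvd_pow_sub hch he (by omega) hpG
  have h62 : ¬ (n = 6 ∧ Fintype.card F = 2) := by
    rintro ⟨rfl, h⟩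
    rw [h] at hpn he
    have h1 : p ∣ 3 * 3 * 7 := by norm_num at hpn ⊢; exact hpn
    rcases hp.out.dvd_mul.1 h1 with h2 | h2
    · have h3 : p = 3 := by
        rcases hp.out.dvd_mul.1 h2 with h3 | h3 <;> exact (Nat.prime_dvd_prime_iff_eq hp.out Nat.prime_three).1 h3
      have := he 2 (by rw [h3]; norm_num)
      omega
    · have h3 : p = 7 := (Nat.prime_dvd_prime_iff_eq hp.out (by norm_num)).1 h2
      have := he 3 (by rw [h3]; norm_num)
      omega
  by_cases h52 : n = 5 ∧ Fintype.card F = 2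
  · obtain ⟨rfl, h⟩ := h52
    have h31 : p = 31 := by
      rw [h] at hpn
      exact (Nat.prime_dvd_prime_iff_eq hp.out (by norm_num)).1 (by norm_num at hpn ⊢; exact hpn)
    have hZ : 0 < Nat.card (center (_root_.Matrix.SpecialLinearGroup (Fin 5) F)) := Nat.card_pos
    refine row_sl_chk (n := 5) hodd (by norm_num) hch he hpS (c := 31) (L := 105) (N := 9999360) (M := 5)
      (by rw [h]; norm_num) ?_ ?_ ?_ (by norm_num) ?_
    · apply index_lower hodd hch he (by norm_num) hpS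
      intro K hK hI
      have := gap_five (by norm_num) h62 hK hI
      rw [h] at this
      exact this
    · refine (Subgroup.card_quotient_dvd_card (center (_root_.Matrix.SpecialLinearGroup (Fin 5) F))).trans ?_
      have h1 := Cfsg.Agent.S0242.result (F := F) h 5 (by norm_num)
      rw [Fin.prod_univ_five] at h1
      norm_num at h1
      rw [h1]
    · rw [h31]; omega
    · rw [h31]; decide
  · have hbig : (3 ≤ Fintype.card F ∧ 5 ≤ n) ∨ (2 ≤ Fintype.card F ∧ 6 ≤ n) := by omega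
    have hZ : 1 ≤ Nat.card (center (_root_.Matrix.SpecialLinearGroup (Fin n) F)) := Nat.card_pos
    refine row_sl (n := n) hodd (by omega) hch he hpS (c := (Fintype.card F ^ n - 1) / (Fintype.card F - 1))
      (L := (Fintype.card F ^ (n - 1) - 1) * ((Fintype.card F ^ (n - 2) - 1) / (Fintype.card F - 1)))
      (cdiv n).ge ?_ ?_
    · intro H hH hpH
      exact index_lower hodd hch he (by omega) hpS (fun K hK hI => gap_five hn h62 hK hI) H hH hpH
    · refine le_trans ?_ (Nat.mul_le_mul_right _ hZ)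
      rw [one_mul]
      apply Nat.le_of_mul_le_mul_right (c := Fintype.card F - 1) _ (by omega)
      rw [mul_assoc, mul_assoc, cdiv, cdiv]
      exact big_arith hbig

end lower

section four

variable {F : Type*} [Field F] [Fintype F]

theorem row_psl44 {p : ℕ} [hp : Fact p.Prime] (hodd : p ≠ 2) (h : Fintype.card F = 4)
    (hch : (p : F) ≠ 0) (he : ∀ k, p ∣ Fintype.card F ^ k - 1 → 4 ∣ k)
    (hpS : p ∣ Nat.card (ProjectiveSpecialLinearGroup (Fin 4) F)) :
    FprRow (p + 1) 1 p (ProjectiveSpecialLinearGroup (Fin 4) F) := by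
  have hpG : p ∣ Nat.card (_root_.Matrix.SpecialLinearGroup (Fin 4) F) := hpS.trans (Subgroup.card_quotient_dvd_card _)
  have hpn := dvd_pow_sub hch he (by omega) hpG
  have h17 : p = 17 := by
    rw [h] at hpn he
    have h1 : p ∣ 3 * 5 * 17 := by norm_num at hpn ⊢; exact hpn
    rcases hp.out.dvd_mul.1 h1 with h2 | h2
    · exfalso
      rcases hp.out.dvd_mul.1 h2 with h3 | h3
      · have h4 := (Nat.prime_dvd_prime_iff_eq hp.out Nat.prime_three).1 h3
        have := he 1 (by rw [h4]; norm_num)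
        omega
      · have h4 := (Nat.prime_dvd_prime_iff_eq hp.out Nat.prime_five).1 h3
        have := he 2 (by rw [h4]; norm_num)
        omega
    · exact (Nat.prime_dvd_prime_iff_eq hp.out (by norm_num)).1 h2
  have hZ : 0 < Nat.card (center (_root_.Matrix.SpecialLinearGroup (Fin 4) F)) := Nat.card_pos
  refine row_sl_chk (n := 4) hodd (by norm_num) hch he hpS (c := 85) (L := 315) (N := 987033600) (M := 20)
    (by rw [h]; norm_num) ?_ ?_ ?_ (by norm_num) ?_
  · apply index_lower hodd hch he (by norm_num) hpS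
    intro K hK hI
    have := gap_four (by omega) hK hI
    rw [h] at this
    exact this
  · refine (Subgroup.card_quotient_dvd_card (center (_root_.Matrix.SpecialLinearGroup (Fin 4) F))).trans ?_
    have h1 := Cfsg.Agent.S0242.result (F := F) h 4 (by norm_num)
    have h3 : (∏ i : Fin 4, (4 ^ 4 - 4 ^ (i : ℕ))) = 3 * 987033600 := by rw [Fin.prod_univ_four]; norm_num
    rw [h3] at h1
    exact (Nat.eq_of_mul_eq_mul_left (by norm_num) h1).dvd
  · rw [h17]; omega
  · rw [h17]; decide +kernel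

theorem mi_arith {q d : ℕ} (hq : 5 ≤ q) (hd : 1 ≤ d) (hd5 : q = 5 → 2 ≤ d) :
    5 * ((q ^ 2 + 1) * (q + 1)) ≤ d * ((q ^ 3 - 1) * mi q) := by
  rw [mi]
  split_ifs with h3 h5 h7 h9 h11
  · omega
  · subst h5
    have := hd5 rfl
    omega
  · subst h7; omega
  · subst h9; omega
  · subst h11; omega
  · have h6 : 6 ≤ q := by omega
    have h1 : 5 * (q ^ 2 + 1) ≤ q ^ 3 - 1 := by
      have : 5 * (q ^ 2 + 1) + 1 ≤ q ^ 3 := by nlinarith
      omega
    calc 5 * ((q ^ 2 + 1) * (q + 1)) = 5 * (q ^ 2 + 1) * (q + 1) := by ring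
      _ ≤ (q ^ 3 - 1) * (q + 1) := Nat.mul_le_mul_right _ h1
      _ = 1 * ((q ^ 3 - 1) * (q + 1)) := by ring
      _ ≤ _ := Nat.mul_le_mul_right _ hd

theorem row_psl4 {p : ℕ} [hp : Fact p.Prime] (hodd : p ≠ 2) (h5 : 5 ≤ Fintype.card F)
    (hch : (p : F) ≠ 0) (he : ∀ k, p ∣ Fintype.card F ^ k - 1 → 4 ∣ k)
    (hpS : p ∣ Nat.card (ProjectiveSpecialLinearGroup (Fin 4) F)) :
    FprRow (p + 1) 1 p (ProjectiveSpecialLinearGroup (Fin 4) F) := by
  refine row_sl (n := 4) hodd (by omega) hch he hpS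
    (c := (Fintype.card F ^ 2 + 1) * (Fintype.card F + 1))
    (L := (Fintype.card F ^ 3 - 1) * mi (Fintype.card F)) ?_ ?_ ?_
  · set q := Fintype.card F
    have h1 : 1 ≤ q ^ 4 := Nat.one_le_pow _ _ (by omega)
    apply le_of_eq
    zify [h1, show 1 ≤ q by omega]
    ring
  · intro H hH hpH
    exact index_lower hodd hch he (by omega) hpS (fun K hK hI => gap_four (by omega) hK hI) H hH hpH
  · apply mi_arith h5 Nat.card_pos
    intro h
    rw [card_center_SL (by norm_num), h]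
    norm_num

/-- `PSL_4(3)`, `p = 5` -/
theorem row_psl43 {p : ℕ} [hp : Fact p.Prime] (hodd : p ≠ 2) (h : Fintype.card F = 3)
    (hch : (p : F) ≠ 0) (he : ∀ k, p ∣ Fintype.card F ^ k - 1 → 4 ∣ k)
    (hpS : p ∣ Nat.card (ProjectiveSpecialLinearGroup (Fin 4) F)) :
    FprRow (p + 1) 1 p (ProjectiveSpecialLinearGroup (Fin 4) F) := by
  classical
  have hpG : p ∣ Nat.card (_root_.Matrix.SpecialLinearGroup (Fin 4) F) := hpS.trans (Subgroup.card_quotient_dvd_card _)
  have hpn := dvd_pow_sub hch he (by omega) hpG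
  have hp5 : p = 5 := by
    rw [h] at hpn he
    have h1 : p ∣ 2 ^ 4 * 5 := by norm_num at hpn ⊢; exact hpn
    rcases hp.out.dvd_mul.1 h1 with h2 | h2
    · exact absurd ((Nat.prime_dvd_prime_iff_eq hp.out Nat.prime_two).1 (hp.out.dvd_of_dvd_pow h2)) hodd
    · exact (Nat.prime_dvd_prime_iff_eq hp.out Nat.prime_five).1 h2
  subst hp5
  let S := ProjectiveSpecialLinearGroup (Fin 4) F
  have hfin : Finite S := by
    change Finite (ProjectiveSpecialLinearGroup (Fin 4) F)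
    unfold ProjectiveSpecialLinearGroup
    infer_instance
  have hZ2 : Nat.card (center (_root_.Matrix.SpecialLinearGroup (Fin 4) F)) = 2 := by
    rw [card_center_SL (by norm_num), h]; norm_num
  have hcS : Nat.card S = 6065280 := by
    have h1 := Cfsg.Agent.S0243.result (F := F) h 4 (by norm_num)
    have h3 : (∏ i : Fin 4, (3 ^ 4 - 3 ^ (i : ℕ))) = 24261120 := by rw [Fin.prod_univ_four]; norm_num
    rw [h3, show Nat.gcd 4 (3 - 1) = 2 by norm_num] at h1
    change 2 * ((3 - 1) * Nat.card S) = _ at h1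
    omega
  have hker : (QuotientGroup.mk' (center (_root_.Matrix.SpecialLinearGroup (Fin 4) F))).ker =
      center (_root_.Matrix.SpecialLinearGroup (Fin 4) F) := QuotientGroup.ker_mk' _
  obtain ⟨P, y, hy, hNP⟩ := exists_sylow (S := S) (F := F) (ρ := rhoSL 4 F) (p := 5) (e := 4) (c := 40)
    hodd rhoSL_inj hch he (by rw [Module.finrank_fin_fun]; omega) hpG
    (QuotientGroup.mk' (center (_root_.Matrix.SpecialLinearGroup (Fin 4) F))) (QuotientGroup.mk'_surjective _)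
    (by rw [hker]) (by rw [hker]; exact sl_ker he (by norm_num)) (fun x hx => by
      have h1 : Sit (rhoSL 4 F) 5 4 x :=
        ⟨rhoSL_inj, hx, hp.out, hodd, hch, he, by rw [Module.finrank_fin_fun]; omega⟩
      have h2 := card_cent_SL (by omega : 1 ≤ 4) (h1.irr_top (Module.finrank_fin_fun F))
      rw [h] at h2
      change _ * (3 - 1) ≤ 3 ^ 4 - 1 at h2
      omega)
  rw [hker, hZ2] at hNP
  have hNP' : Nat.card (normalizer (P : Set S)) ≤ 80 := by omega
  have hyP : y ∈ (P : Subgroup S) := by rw [← hy]; exact mem_zpowers y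
  have hcP : Nat.card P = 5 := by
    rw [P.card_eq_multiplicity, hcS]
    rw [show (6065280 : ℕ) = 5 * 1213056 by norm_num, Nat.factorization_mul (by norm_num) (by norm_num)]
    simp only [Finsupp.coe_add, Pi.add_apply]
    rw [Nat.Prime.factorization_self (by norm_num), Nat.factorization_eq_zero_of_not_dvd (n := 1213056) (by norm_num)]
    norm_num
  intro H hH
  refine ⟨y, ?_, ?_⟩
  · obtain ⟨k, hk⟩ := (IsPGroup.iff_orderOf).1 P.isPGroup' ⟨y, hyP⟩
    exact ⟨k, by rw [← hk, Subgroup.orderOf_mk]⟩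
  rw [one_mul]
  by_cases h0 : Nat.card (fixedBy (S ⧸ H) y) = 0
  · rw [h0, mul_zero]; exact Nat.zero_le _
  obtain ⟨ω, hω⟩ : Nonempty (fixedBy (S ⧸ H) y) := (Nat.card_ne_zero.1 h0).1
  have hω' : y • ω = ω := hω
  have hmod : H.index ≡ Nat.card (fixedBy (S ⧸ H) y) [MOD 5] := by
    have h2 := P.isPGroup'.card_modEq_card_fixedPoints (S ⧸ H)
    have h3 : fixedPoints P (S ⧸ H) = fixedBy (S ⧸ H) y := by
      ext ω
      constructor
      · intro h
        exact h ⟨y, hyP⟩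
      · rintro h ⟨z, hz⟩
        have h4 : zpowers y ≤ stabilizer S ω := by
          rw [zpowers_le]; exact h
        exact h4 (by rw [hy]; exact hz)
    rwa [h3] at h2
  have hfd := fix_dvd_cyc P hy h0
  rw [hcP] at hfd
  have hf16 := Nat.le_of_dvd Nat.card_pos hfd
  set f := Nat.card (fixedBy (S ⧸ H) y) with hf
  by_cases hf5 : 5 ∣ f
  · -- the index is divisible by 5
    have h1 : Nat.card P * 5 ∣ Nat.card P * (P : Subgroup S).index := by
      rw [(P : Subgroup S).card_mul_index, hcP]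
      exact (Nat.mul_dvd_mul_left 5 hf5).trans (hfd.trans (Subgroup.card_subgroup_dvd_card _))
    exact absurd (Nat.dvd_of_mul_dvd_mul_left Nat.card_pos h1) P.not_dvd_index
  have hpH : ¬ 5 ∣ H.index := fun h => hf5 ((hmod.dvd_iff dvd_rfl).1 h)
  have hL : 78 ≤ H.index := by
    refine index_lower hodd hch he (by norm_num) hpS (fun K hK hI => ?_) H hH hpH
    have := gap_four (by omega) hK hI
    rw [h] at this
    exact this
  change (5 + 1) * f ≤ H.index
  by_contra hcon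
  push Not at hcon
  have hfle : f ≤ 16 := by omega
  have hidx : H.index ∣ 6065280 := by rw [← hcS]; exact H.index_dvd_card
  have hm : H.index % 5 = f % 5 := hmod
  have hf16' : f = 16 ∧ H.index = 81 := by
    have h1 : f = 14 ∨ f = 15 ∨ f = 16 := by (clear * - hL hcon hfle; omega)
    rcases h1 with h1 | h1 | h1
    · exfalso
      have h2 : H.index = 79 := by (clear * - hL hcon hm h1; omega)
      rw [h2] at hidx
      norm_num at hidx
    · omega
    · refine ⟨h1, ?_⟩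
      have h2 : H.index = 81 ∨ H.index = 86 ∨ H.index = 91 := by (clear * - hL hcon hm h1; omega)
      rcases h2 with h2 | h2 | h2
      · exact h2
      · rw [h2] at hidx; norm_num at hidx
      · rw [h2] at hidx; norm_num at hidx
  obtain ⟨hf1, hidx1⟩ := hf16'
  -- the normaliser of `P` has order 80
  have hN80 : Nat.card (normalizer (P : Set S)) = 80 := by
    rw [hf1] at hf16
    omega
  -- the stabiliser `K` of `ω`
  let K := stabilizer S ω
  have hKidx : K.index = 81 := by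
    rw [index_stabilizer_of_transitive]
    exact hidx1
  have hPK : (P : Subgroup S) ≤ K := by
    rw [← hy, zpowers_le]; exact hω'
  have hK13 : 13 ∣ Nat.card K := by
    have h1 := K.card_mul_index
    rw [hKidx, hcS] at h1
    exact ⟨5760, by omega⟩
  have hK5 : 5 ∣ Nat.card K := by
    have h1 := K.card_mul_index
    rw [hKidx, hcS] at h1
    exact ⟨14976, by omega⟩
  have hstab : Nat.card (normalizer (P : Set S) ⊓ K : Subgroup S) = 5 := by
    have h1 : fixedBy (S ⧸ H) y = orbit (normalizer (P : Set S)) ω := fixed_eq_orbit P hy hω'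
    have h2 : (stabilizer (normalizer (P : Set S)) ω).index = 16 := by
      rw [index_stabilizer, ← h1, ← Nat.card_coe_set_eq]
      exact hf.symm.trans hf1
    have h3 := (stabilizer (normalizer (P : Set S)) ω).card_mul_index
    rw [h2, hN80] at h3
    have h4 : Nat.card (stabilizer (normalizer (P : Set S)) ω) = 5 := by omega
    refine Eq.trans ?_ h4
    refine Nat.card_congr ⟨fun g => ⟨⟨g, g.2.1⟩, g.2.2⟩, fun g => ⟨g, ⟨(g : normalizer (P : Set S)).2, g.2⟩⟩,
      fun _ => rfl, fun _ => rfl⟩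
  have hNK : normalizer (P : Set S) ⊓ K = (P : Subgroup S) := by
    symm
    apply eq_of_le_of_card_ge (le_inf le_normalizer hPK)
    exact (hstab.trans hcP.symm).le
  have hPc : ∀ a ∈ (P : Subgroup S), ∀ b ∈ (P : Subgroup S), a * b = b * a := by
    intro a ha b hb
    rw [← hy] at ha hb
    obtain ⟨i, rfl⟩ := ha
    obtain ⟨j, rfl⟩ := hb
    exact ((Commute.refl y).zpow_zpow i j).eq
  have : Fact (Nat.Prime 13) := ⟨by norm_num⟩
  have hNC : normalizer (((P.subtype hPK : Sylow 5 K) : Subgroup K) : Set K) ≤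
      centralizer (((P.subtype hPK : Sylow 5 K) : Subgroup K) : Set K) := by
    intro k hk
    have h1 : (k : S) ∈ normalizer ((P : Subgroup S) : Set S) := by
      rw [mem_normalizer_iff_map_conj_eq]
      apply eq_of_le_of_card_ge
      · rintro _ ⟨z, hz, rfl⟩
        have h2 := (mem_normalizer_iff.1 hk ⟨z, hPK hz⟩).1 hz
        exact h2
      · rw [card_map_of_injective (MulAut.conj _).injective]
    have h2 : (k : S) ∈ (P : Subgroup S) := by rw [← hNK]; exact ⟨h1, k.2⟩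
    rw [mem_centralizer_iff]
    intro z hz
    apply Subtype.ext
    exact hPc _ hz _ h2
  obtain ⟨R, y', hR, hRr, hyo, hyN⟩ := exists_normalises (r := 13) (by norm_num) (P.subtype hPK) hNC hK5 hK13
  -- `R` has order 13
  have hRd : Nat.card R ∣ 6065280 := by
    rw [← hcS]
    exact (Subgroup.card_subgroup_dvd_card R).trans (Subgroup.card_subgroup_dvd_card K)
  have hRc : Nat.card R = 13 := by
    obtain ⟨k, hk⟩ := (IsPGroup.iff_card).1 hRr
    rw [hk] at hRd ⊢
    have hk0 : k ≠ 0 := by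
      rintro rfl
      rw [pow_zero] at hk
      exact hR (eq_bot_of_card_eq _ hk)
    have hk1 : k < 2 := by
      by_contra hc
      push Not at hc
      have := (pow_dvd_pow 13 hc).trans hRd
      norm_num at this
    have : k = 1 := by omega
    rw [this, pow_one]
  -- `y'` centralises `R`
  have : Fact (Nat.card R).Prime := ⟨by rw [hRc]; norm_num⟩
  have hRcyc : IsCyclic R := isCyclic_of_prime_card (p := Nat.card R) rfl
  have hφ : R.normalizerMonoidHom ⟨y', hyN⟩ = 1 := by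
    have h1 : (R.normalizerMonoidHom ⟨y', hyN⟩) ^ 5 = 1 := by
      rw [← map_pow]
      have h2 : (⟨y', hyN⟩ : normalizer (R : Set K)) ^ 5 = 1 := by
        apply Subtype.ext
        change y' ^ 5 = 1
        rw [← hyo, pow_orderOf_eq_one]
      rw [h2, map_one]
    have h2 : orderOf (R.normalizerMonoidHom ⟨y', hyN⟩) ∣ 5 := orderOf_dvd_of_pow_eq_one h1
    have h3 : orderOf (R.normalizerMonoidHom ⟨y', hyN⟩) ∣ 12 := by
      have h4 := _root_.orderOf_dvd_natCard (R.normalizerMonoidHom ⟨y', hyN⟩)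
      rw [IsCyclic.card_mulAut, hRc, Nat.totient_prime (by norm_num)] at h4
      exact h4
    rw [← orderOf_eq_one_iff]
    exact Nat.dvd_one.1 (Nat.dvd_gcd h2 h3)
  have hcen : ∀ r ∈ R, y' * r = r * y' := by
    intro r hr
    have h1 : (⟨y', hyN⟩ : normalizer (R : Set K)) ∈ R.normalizerMonoidHom.ker := hφ
    rw [normalizerMonoidHom_ker, mem_subgroupOf] at h1
    exact ((mem_centralizer_iff.1 h1) r hr).symm
  -- the Sylow subgroup generated by `y'`
  have hyo' : orderOf (y' : S) = 5 := by rw [orderOf_coe, hyo]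
  let Q : Sylow 5 S := Sylow.ofCard (zpowers (y' : S)) (by
    rw [Nat.card_zpowers, hyo', ← P.card_eq_multiplicity]
    exact hcP.symm)
  have hNQ : Nat.card (normalizer (Q : Set S)) = 80 := by
    have h1 := (normalizer (Q : Set S)).card_mul_index
    have h2 := (normalizer (P : Set S)).card_mul_index
    have h3 : (normalizer (Q : Set S)).index = (normalizer (P : Set S)).index := by
      rw [← P.card_eq_index_normalizer, ← Q.card_eq_index_normalizer]
    rw [h3, ← h2] at h1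
    have h4 : 0 < (normalizer (P : Set S)).index := Nat.pos_of_ne_zero index_ne_zero_of_finite
    rw [Nat.eq_of_mul_eq_mul_right h4 h1, hN80]
  have hRQ : R.map K.subtype ≤ normalizer (Q : Set S) := by
    rintro _ ⟨r, hr, rfl⟩
    have h1 : (r : S) ∈ centralizer ({(y' : S)} : Set S) := by
      rw [mem_centralizer_singleton_iff]
      exact (congrArg Subtype.val (hcen r hr)).symm
    exact cent_le_norm h1
  have h13 : 13 ∣ Nat.card (normalizer (Q : Set S)) := by
    have h1 := card_dvd_of_le hRQ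
    rw [card_map_of_injective K.subtype_injective, hRc] at h1
    exact h1
  rw [hNQ] at h13
  norm_num at h13

/-- **`PSL_n(F)`, `p` of order `n ≥ 3` modulo `|F|`** -/
theorem cyc_psl {n p : ℕ} [hp : Fact p.Prime] (hodd : p ≠ 2) (hn : 3 ≤ n) (h42 : ¬ (n = 4 ∧ Fintype.card F = 2))
    (hch : (p : F) ≠ 0) (he : ∀ k, p ∣ Fintype.card F ^ k - 1 → n ∣ k)
    (hpS : p ∣ Nat.card (ProjectiveSpecialLinearGroup (Fin n) F)) :
    FprRow (p + 1) 1 p (ProjectiveSpecialLinearGroup (Fin n) F) := by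
  have hq : 2 ≤ Fintype.card F := two_le_q
  have h : n = 3 ∨ n = 4 ∨ 5 ≤ n := by omega
  rcases h with rfl | rfl | h
  · exact row_psl3 hodd hch he hpS
  · have h1 : Fintype.card F = 3 ∨ Fintype.card F = 4 ∨ 5 ≤ Fintype.card F := by omega
    rcases h1 with h1 | h1 | h1
    · exact row_psl43 hodd h1 hch he hpS
    · exact row_psl44 hodd h1 hch he hpS
    · exact row_psl4 hodd h1 hch he hpS
  · exact row_psl5 hodd h hch he hpS

end four

end Cfsg.Agent.H409.Cyc
end

private theorem dce_9d5c39fac581 : _root_.True := by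
  try have : _root_.True := by simp only [_root_.Cfsg.Agent.H110.Gap.tq.eq_1]
  try have : _root_.True := by simp only [_root_.Cfsg.Agent.H221.PP.ln.eq_1]
  try have : _root_.True := by simp only [_root_.Cfsg.Agent.H110.Gap.Ls.eq_1]
  try have : _root_.True := by simp only [_root_.Cfsg.Agent.H221.PP.img.congr_simp]
  try have : _root_.True := by simp only [_root_.Cfsg.Agent.H110.Gap.Hall.eq_1]
  try have : _root_.True := by simp only [_root_.Cfsg.Agent.H110.Gap.mi.eq_1]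
  exact _root_.True.intro
end
end
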